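import Mathlib.GroupTheory.SpecificGroups.Dihedral
import Mathlib.GroupTheory.OrderOfElement
import Mathlib.GroupTheory.Subgroup.Centralizer
import Mathlib.Tactic.Linarith
import Mathlib.Tactic.Ring

/-!
Pairs of involutions and the dihedral subgroups they generate.
-/

set_option autoImplicit false
set_option linter.style.haveILetI false

namespace CfsgLib.Invol

open Subgroup

variable {G : Type*} [Group G]

theorem mul_self_eq_one {x : G} (hx : orderOf x = 2) : x * x = 1 := by
  rw [← sq, ← hx, pow_orderOf_eq_one]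

theorem inv_eq_self {x : G} (hx : orderOf x = 2) : x⁻¹ = x :=
  inv_eq_of_mul_eq_one_right (mul_self_eq_one hx)

theorem ne_one {x : G} (hx : orderOf x = 2) : x ≠ 1 := by
  rintro rfl
  simp at hx

theorem orderOf_eq_two {x : G} (h1 : x * x = 1) (h2 : x ≠ 1) : orderOf x = 2 :=
  orderOf_eq_prime (by rw [sq, h1]) h2

theorem orderOf_conj_eq (g x : G) : orderOf (g * x * g⁻¹) = orderOf x :=
  orderOf_injective (MulAut.conj g).toMonoidHom (MulAut.conj g).injective x

theorem mul_inv_rev_invol {x y : G} (hx : orderOf x = 2) (hy : orderOf y = 2) :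
    (x * y)⁻¹ = y * x := by
  rw [mul_inv_rev, inv_eq_self hx, inv_eq_self hy]

theorem conj_mul_inv {x y : G} (hx : orderOf x = 2) (hy : orderOf y = 2) :
    x * (x * y) * x⁻¹ = (x * y)⁻¹ := by
  rw [mul_inv_rev_invol hx hy, inv_eq_self hx, ← mul_assoc x x y, mul_self_eq_one hx, one_mul]

/-- `x a^k x⁻¹ = a^(-k)` when `x` inverts `a`. -/
theorem conj_zpow_of_inverts {x a : G} (h : x * a * x⁻¹ = a⁻¹) (k : ℤ) :
    x * a ^ k * x⁻¹ = a ^ (-k) := by
  rw [← conj_zpow, h, inv_zpow, zpow_neg]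

theorem pow_two_eq_one_of_inverts_of_commute {x a : G} (h : x * a * x⁻¹ = a⁻¹)
    (hc : Commute x a) : a * a = 1 := by
  rw [hc.eq, mul_inv_cancel_right] at h
  exact eq_inv_iff_mul_eq_one.mp h

/-- An element outside `⟨a⟩` in the coset `x⟨a⟩` of an inverting involution is an involution. -/
theorem mul_zpow_mul_self {x a : G} (hx : x * x = 1) (h : x * a * x⁻¹ = a⁻¹) (k : ℤ) :
    (x * a ^ k) * (x * a ^ k) = 1 := by
  have hxi : x⁻¹ = x := inv_eq_of_mul_eq_one_right hx
  have h2 := conj_zpow_of_inverts h k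
  rw [hxi] at h2
  rw [← mul_assoc, h2, zpow_neg, inv_mul_cancel]

theorem mem_closure_pair_iff {x y : G} (hx : orderOf x = 2) (hy : orderOf y = 2) {d : G} :
    d ∈ closure ({x, y} : Set G) ↔
      (∃ k : ℤ, d = (x * y) ^ k) ∨ ∃ k : ℤ, d = x * (x * y) ^ k := by
  constructor
  · intro hd
    have hc := conj_mul_inv hx hy
    have hle : closure ({x, y} : Set G) ≤ zpowers x ⊔ zpowers (x * y) := by
      rw [closure_le]
      rintro z (rfl | rfl)
      · exact mem_sup_left (mem_zpowers _)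
      · have h := mul_mem_sup (mem_zpowers x) (mem_zpowers (x * z))
        rwa [← mul_assoc, mul_self_eq_one hx, one_mul] at h
    have hnorm : zpowers x ≤ normalizer (zpowers (x * y) : Set G) := by
      rw [zpowers_le, mem_normalizer_iff]
      intro z
      constructor
      · intro hz
        obtain ⟨k, rfl⟩ := mem_zpowers_iff.mp hz
        rw [conj_zpow_of_inverts hc]
        exact zpow_mem (mem_zpowers _) _
      · intro hz
        obtain ⟨k, hk⟩ := mem_zpowers_iff.mp hz
        have : z = x * (x * z * x⁻¹) * x⁻¹ := by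
          rw [inv_eq_self hx, ← mul_assoc, ← mul_assoc, mul_self_eq_one hx, one_mul, mul_assoc,
            mul_self_eq_one hx, mul_one]
        rw [this, ← hk, conj_zpow_of_inverts hc]
        exact zpow_mem (mem_zpowers _) _
    have hd' := hle hd
    rw [← SetLike.mem_coe, coe_mul_of_left_le_normalizer_right _ _ hnorm] at hd'
    obtain ⟨u, hu, v, hv, rfl⟩ := hd'
    obtain ⟨i, rfl⟩ := mem_zpowers_iff.mp hu
    obtain ⟨k, rfl⟩ := mem_zpowers_iff.mp hv
    rcases Int.even_or_odd i with ⟨j, rfl⟩ | ⟨j, rfl⟩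
    · left
      refine ⟨k, ?_⟩
      simp only
      rw [← two_mul, zpow_mul, zpow_two, mul_self_eq_one hx, one_zpow, one_mul]
    · right
      refine ⟨k, ?_⟩
      simp only
      rw [zpow_add, zpow_mul, zpow_two, mul_self_eq_one hx, one_zpow, one_mul, zpow_one]
  · have hxm : x ∈ closure ({x, y} : Set G) := subset_closure (Set.mem_insert x _)
    have hym : y ∈ closure ({x, y} : Set G) :=
      subset_closure (Set.mem_insert_of_mem x (Set.mem_singleton y))
    rintro (⟨k, rfl⟩ | ⟨k, rfl⟩)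
    · exact zpow_mem (mul_mem hxm hym) _
    · exact mul_mem hxm (zpow_mem (mul_mem hxm hym) _)

theorem not_mem_zpowers {x y : G} (hx : orderOf x = 2) (hy : orderOf y = 2) (hxy : x ≠ y) :
    x ∉ zpowers (x * y) := by
  intro hmem
  obtain ⟨k, hk⟩ := mem_zpowers_iff.mp hmem
  have hc : Commute x (x * y) := by
    have := Commute.zpow_self (x * y) k
    rwa [hk] at this
  have h2 := pow_two_eq_one_of_inverts_of_commute (conj_mul_inv hx hy) hc
  rcases Int.even_or_odd k with ⟨j, rfl⟩ | ⟨j, rfl⟩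
  · rw [← two_mul, zpow_mul, zpow_two, h2, one_zpow] at hk
    exact ne_one hx hk.symm
  · rw [zpow_add, zpow_mul, zpow_two, h2, one_zpow, one_mul, zpow_one, mul_eq_left] at hk
    exact ne_one hy hk

theorem orderOf_of_not_mem_zpowers {x y : G} (hx : orderOf x = 2) (hy : orderOf y = 2)
    {d : G} (hd : d ∈ closure ({x, y} : Set G)) (hd' : d ∉ zpowers (x * y)) : orderOf d = 2 := by
  rcases (mem_closure_pair_iff hx hy).mp hd with ⟨k, rfl⟩ | ⟨k, rfl⟩
  · exact absurd (zpow_mem (mem_zpowers _) k) hd'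
  · refine orderOf_eq_two (mul_zpow_mul_self (mul_self_eq_one hx) (conj_mul_inv hx hy) k) ?_
    intro h
    exact hd' (h ▸ one_mem _)

/-- `a^k x a^(-k) = x a^(-2k)`. -/
theorem zpow_conj_invol {x a : G} (hx : x * x = 1) (h : x * a * x⁻¹ = a⁻¹) (k : ℤ) :
    a ^ k * x * (a ^ k)⁻¹ = x * a ^ (-(2 * k)) := by
  have hxi : x⁻¹ = x := inv_eq_of_mul_eq_one_right hx
  have h2 := conj_zpow_of_inverts h (-k)
  rw [hxi, neg_neg] at h2
  have h3 : a ^ k * x = x * a ^ (-k) := by
    rw [← h2, mul_assoc (x * a ^ (-k)) x x, hx, mul_one]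
  rw [h3, ← zpow_neg, mul_assoc, ← zpow_add]
  congr 2
  ring

/-- If `xy` has odd order, `x` and `y` are conjugate in `⟨x, y⟩`. -/
theorem exists_conj_of_odd {x y : G} (hx : orderOf x = 2) (hy : orderOf y = 2)
    (hodd : Odd (orderOf (x * y))) : ∃ d ∈ closure ({x, y} : Set G), d * x * d⁻¹ = y := by
  obtain ⟨m, hm⟩ := hodd
  refine ⟨(x * y) ^ ((m : ℤ)), (mem_closure_pair_iff hx hy).mpr (Or.inl ⟨_, rfl⟩), ?_⟩
  rw [zpow_conj_invol (mul_self_eq_one hx) (conj_mul_inv hx hy)]
  have h1 : (x * y) ^ (-(2 * (m : ℤ))) = (x * y) ^ (1 : ℤ) := by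
    rw [zpow_eq_zpow_iff_modEq, hm, Int.modEq_iff_dvd]
    exact ⟨1, by push_cast; ring⟩
  rw [h1, zpow_one, ← mul_assoc, mul_self_eq_one hx, one_mul]

theorem isConj_of_odd {x y : G} (hx : orderOf x = 2) (hy : orderOf y = 2)
    (hodd : Odd (orderOf (x * y))) : IsConj x y := by
  obtain ⟨d, -, h⟩ := exists_conj_of_odd hx hy hodd
  exact isConj_iff.mpr ⟨d, h⟩

theorem even_orderOf_mul_of_not_isConj {x y : G} (hx : orderOf x = 2) (hy : orderOf y = 2)
    (h : ¬ IsConj x y) : Even (orderOf (x * y)) :=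
  Nat.not_odd_iff_even.mp fun ho => h (isConj_of_odd hx hy ho)

theorem orderOf_pow_half {a : G} (hfin : IsOfFinOrder a) (heven : Even (orderOf a)) :
    orderOf (a ^ (orderOf a / 2)) = 2 := by
  have hpos := hfin.orderOf_pos
  obtain ⟨m, hm⟩ := heven
  rw [hm] at hpos
  have hm2 : orderOf a / 2 = m := by omega
  rw [hm2, orderOf_pow' _ (by omega : m ≠ 0), hm, ← two_mul, Nat.gcd_mul_left_left,
    Nat.mul_div_cancel _ (by omega : 0 < m)]

theorem commute_half {x a : G} (h : x * a * x⁻¹ = a⁻¹) (heven : Even (orderOf a)) :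
    Commute (a ^ (orderOf a / 2)) x := by
  obtain ⟨m, hm⟩ := heven
  have hz : (a ^ (orderOf a / 2))⁻¹ = a ^ (orderOf a / 2) := by
    apply inv_eq_of_mul_eq_one_right
    rw [← pow_add, show orderOf a / 2 + orderOf a / 2 = orderOf a by omega, pow_orderOf_eq_one]
  have h1 : x * a ^ (orderOf a / 2) * x⁻¹ = a ^ (orderOf a / 2) := by
    rw [← conj_pow, h, inv_pow, hz]
  exact ((mul_inv_eq_iff_eq_mul).mp h1).symm

theorem half_props [Finite G] {x y : G} (hx : orderOf x = 2) (hy : orderOf y = 2)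
    (heven : Even (orderOf (x * y))) :
    orderOf ((x * y) ^ (orderOf (x * y) / 2)) = 2 ∧
      Commute ((x * y) ^ (orderOf (x * y) / 2)) x ∧
      Commute ((x * y) ^ (orderOf (x * y) / 2)) y := by
  refine ⟨orderOf_pow_half (isOfFinOrder_of_finite _) heven,
    commute_half (conj_mul_inv hx hy) heven, ?_⟩
  have h := (commute_half (conj_mul_inv hx hy) heven).mul_right
    (Commute.pow_self (x * y) (orderOf (x * y) / 2))
  rwa [← mul_assoc, mul_self_eq_one hx, one_mul] at h

/-- Two non-conjugate involutions centralize a common involution. -/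
theorem exists_commuting_invol [Finite G] {x y : G} (hx : orderOf x = 2) (hy : orderOf y = 2)
    (h : ¬ IsConj x y) : ∃ u : G, orderOf u = 2 ∧ Commute u x ∧ Commute u y :=
  ⟨_, half_props hx hy (even_orderOf_mul_of_not_isConj hx hy h)⟩

/-- The conjugates of `x` under `⟨x, y⟩` are the `x (xy)^(2k)`. -/
theorem conj_mem_pair {x y : G} (hx : orderOf x = 2) (hy : orderOf y = 2) {d : G}
    (hd : d ∈ closure ({x, y} : Set G)) :
    ∃ k : ℤ, d * x * d⁻¹ = x * (x * y) ^ (2 * k) := by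
  rcases (mem_closure_pair_iff hx hy).mp hd with ⟨k, rfl⟩ | ⟨k, rfl⟩
  · exact ⟨-k, by rw [zpow_conj_invol (mul_self_eq_one hx) (conj_mul_inv hx hy), mul_neg]⟩
  · refine ⟨k, ?_⟩
    have h1 : x * (x * y) ^ k * x * (x * (x * y) ^ k)⁻¹ =
        x * ((x * y) ^ k * x * ((x * y) ^ k)⁻¹) * x⁻¹ := by group
    have h2 := conj_zpow_of_inverts (conj_mul_inv hx hy) (-(2 * k))
    rw [neg_neg] at h2
    rw [h1, zpow_conj_invol (mul_self_eq_one hx) (conj_mul_inv hx hy), ← h2]
    group

theorem conj_ne_of_even {x y : G} (hx : orderOf x = 2) (hy : orderOf y = 2)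
    (heven : Even (orderOf (x * y))) {d : G} (hd : d ∈ closure ({x, y} : Set G)) :
    d * x * d⁻¹ ≠ y := by
  intro hcon
  obtain ⟨k, hk⟩ := conj_mem_pair hx hy hd
  rw [hcon] at hk
  have h1 : (x * y) ^ (1 : ℤ) = (x * y) ^ (2 * k) := by
    rw [zpow_one]
    calc x * y = x * (x * (x * y) ^ (2 * k)) := by rw [← hk]
      _ = (x * y) ^ (2 * k) := by rw [← mul_assoc, mul_self_eq_one hx, one_mul]
  rw [zpow_eq_zpow_iff_modEq] at h1
  obtain ⟨m, hm⟩ := heven
  obtain ⟨c, hc⟩ := Int.modEq_iff_dvd.mp h1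
  have : (2 : ℤ) ∣ 1 := ⟨k - m * c, by rw [hm] at hc; push_cast at hc; linarith⟩
  omega

/-- The homomorphism from the dihedral group determined by an involution inverting `a`. -/
noncomputable def dihedralHom [Finite G] (x a : G) (hx : x * x = 1) (h : x * a * x⁻¹ = a⁻¹) :
    DihedralGroup (orderOf a) →* G where
  toFun
    | DihedralGroup.r i => a ^ (i.cast : ℤ)
    | DihedralGroup.sr i => x * a ^ (i.cast : ℤ)
  map_one' := by
    show a ^ ((0 : ZMod (orderOf a)).cast : ℤ) = 1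
    simp
  map_mul' := by
    haveI : NeZero (orderOf a) := ⟨(orderOf_pos a).ne'⟩
    have hxi : x⁻¹ = x := inv_eq_of_mul_eq_one_right hx
    have hadd : ∀ i j : ZMod (orderOf a),
        a ^ ((i + j).cast : ℤ) = a ^ (i.cast : ℤ) * a ^ (j.cast : ℤ) := by
      intro i j
      rw [← zpow_add, zpow_eq_zpow_iff_modEq, ← ZMod.intCast_eq_intCast_iff]
      push_cast
      simp
    have hsub : ∀ i j : ZMod (orderOf a),
        a ^ ((j - i).cast : ℤ) = a ^ (-(i.cast : ℤ)) * a ^ (j.cast : ℤ) := by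
      intro i j
      rw [← zpow_add, zpow_eq_zpow_iff_modEq, ← ZMod.intCast_eq_intCast_iff]
      push_cast
      simp [sub_eq_neg_add]
    rintro (i | i) (j | j)
    · exact hadd i j
    · show x * a ^ ((j - i).cast : ℤ) = a ^ (i.cast : ℤ) * (x * a ^ (j.cast : ℤ))
      have h2 := conj_zpow_of_inverts h (-(i.cast : ℤ))
      rw [neg_neg, hxi] at h2
      rw [hsub, ← h2, ← mul_assoc, ← mul_assoc, mul_assoc (x * a ^ (-(i.cast : ℤ))) x x, hx,
        mul_one]
    · show x * a ^ ((i + j).cast : ℤ) = x * a ^ (i.cast : ℤ) * a ^ (j.cast : ℤ)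
      rw [hadd, mul_assoc]
    · show a ^ ((j - i).cast : ℤ) = x * a ^ (i.cast : ℤ) * (x * a ^ (j.cast : ℤ))
      have h2 := conj_zpow_of_inverts h (i.cast : ℤ)
      rw [hxi] at h2
      rw [hsub, ← h2, ← mul_assoc]

theorem dihedralHom_range [Finite G] {x y : G} (hx : orderOf x = 2) (hy : orderOf y = 2) :
    (dihedralHom x (x * y) (mul_self_eq_one hx) (conj_mul_inv hx hy)).range =
      closure ({x, y} : Set G) := by
  haveI : NeZero (orderOf (x * y)) := ⟨(orderOf_pos _).ne'⟩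
  have hcast : ∀ k : ℤ, (x * y) ^ ((k : ZMod (orderOf (x * y))).cast : ℤ) = (x * y) ^ k := by
    intro k
    rw [zpow_eq_zpow_iff_modEq, ← ZMod.intCast_eq_intCast_iff]
    simp
  ext d
  rw [mem_closure_pair_iff hx hy, MonoidHom.mem_range]
  constructor
  · rintro ⟨i | i, rfl⟩
    · exact Or.inl ⟨_, rfl⟩
    · exact Or.inr ⟨_, rfl⟩
  · rintro (⟨k, rfl⟩ | ⟨k, rfl⟩)
    · exact ⟨DihedralGroup.r (k : ZMod _), hcast k⟩
    · refine ⟨DihedralGroup.sr (k : ZMod _), ?_⟩
      show x * (x * y) ^ ((k : ZMod (orderOf (x * y))).cast : ℤ) = _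
      rw [hcast]

theorem dihedralHom_injective [Finite G] {x y : G} (hx : orderOf x = 2) (hy : orderOf y = 2)
    (hxy : x ≠ y) :
    Function.Injective (dihedralHom x (x * y) (mul_self_eq_one hx) (conj_mul_inv hx hy)) := by
  haveI : NeZero (orderOf (x * y)) := ⟨(orderOf_pos _).ne'⟩
  rw [injective_iff_map_eq_one]
  rintro (i | i) hi
  · change (x * y) ^ (i.cast : ℤ) = 1 at hi
    rw [← orderOf_dvd_iff_zpow_eq_one, ← ZMod.intCast_zmod_eq_zero_iff_dvd] at hi
    rw [ZMod.intCast_cast, ZMod.cast_id', id] at hi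
    rw [hi]
    exact DihedralGroup.r_zero
  · exfalso
    change x * (x * y) ^ (i.cast : ℤ) = 1 at hi
    refine not_mem_zpowers hx hy hxy ?_
    have h9 := inv_mem (zpow_mem (mem_zpowers (x * y)) (i.cast : ℤ))
    rwa [← eq_inv_of_mul_eq_one_left hi] at h9

/-- The subgroup generated by two distinct involutions is dihedral. -/
theorem nonempty_dihedral_equiv [Finite G] {x y : G} (hx : orderOf x = 2) (hy : orderOf y = 2)
    (hxy : x ≠ y) :
    Nonempty (↥(closure ({x, y} : Set G)) ≃* DihedralGroup (orderOf (x * y))) :=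
  ⟨((MonoidHom.ofInjective (dihedralHom_injective hx hy hxy)).trans
    (MulEquiv.subgroupCongr (dihedralHom_range hx hy))).symm⟩

end CfsgLib.Invol
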