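import Mathlib.GroupTheory.Sylow
import Cfsg.Prelude.Def_TwoFusion
import Cfsg.Agent.Invol.Dihedral

/-!
Isolated involutions and involutions commuting in pairs.
-/

set_option autoImplicit false
set_option linter.style.haveILetI false

namespace CfsgLib.Invol

open Subgroup
open scoped Pointwise

variable {G : Type*} [Group G]

theorem half_ne_one [Finite G] {x y : G} (hx : orderOf x = 2) (hy : orderOf y = 2)
    (heven : Even (orderOf (x * y))) : (x * y) ^ (orderOf (x * y) / 2) ≠ 1 :=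
  ne_one (half_props hx hy heven).1

/-- For involutions `x, y` with `xy` of even order and `w` the involution of `⟨xy⟩`, the element
`xw` is conjugate to `x` or to `y`. -/
theorem mul_half_isConj [Finite G] {x y : G} (hx : orderOf x = 2) (hy : orderOf y = 2)
    (heven : Even (orderOf (x * y))) :
    IsConj x (x * (x * y) ^ (orderOf (x * y) / 2)) ∨
      IsConj y (x * (x * y) ^ (orderOf (x * y) / 2)) := by
  obtain ⟨m, hm⟩ := heven
  have hm2 : orderOf (x * y) / 2 = m := by omega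
  rw [hm2, ← zpow_natCast]
  rcases Nat.even_or_odd m with ⟨j, hj⟩ | ⟨j, hj⟩
  · left
    refine isConj_iff.mpr ⟨(x * y) ^ (-(j : ℤ)), ?_⟩
    rw [zpow_conj_invol (mul_self_eq_one hx) (conj_mul_inv hx hy)]
    congr 2
    omega
  · right
    refine isConj_iff.mpr ⟨(x * y) ^ (-(j : ℤ)), ?_⟩
    have hyv : y * (x * y) * y⁻¹ = (x * y)⁻¹ := by
      rw [mul_inv_rev_invol hx hy, inv_eq_self hy, ← mul_assoc, mul_assoc (y * x) y y,
        mul_self_eq_one hy, mul_one]
    have hx_eq : x = y * (x * y) ^ (-1 : ℤ) := by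
      rw [zpow_neg_one, mul_inv_rev_invol hx hy, ← mul_assoc, mul_self_eq_one hy, one_mul]
    rw [zpow_conj_invol (mul_self_eq_one hy) hyv]
    conv_rhs => arg 1; rw [hx_eq]
    rw [mul_assoc, ← zpow_add]
    congr 2
    omega

/-- The conjugating element can be taken in `⟨xy⟩`. -/
theorem exists_pow_conj_of_odd {x y : G} (hx : orderOf x = 2) (hy : orderOf y = 2)
    (hodd : Odd (orderOf (x * y))) :
    ∃ m : ℕ, (x * y) ^ m * x * ((x * y) ^ m)⁻¹ = y := by
  obtain ⟨m, hm⟩ := hodd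
  refine ⟨m, ?_⟩
  rw [← zpow_natCast, zpow_conj_invol (mul_self_eq_one hx) (conj_mul_inv hx hy)]
  have h1 : (x * y) ^ (-(2 * (m : ℤ))) = (x * y) ^ (1 : ℤ) := by
    rw [zpow_eq_zpow_iff_modEq, hm, Int.modEq_iff_dvd]
    exact ⟨1, by push_cast; ring⟩
  rw [h1, zpow_one, ← mul_assoc, mul_self_eq_one hx, one_mul]

theorem eq_one_of_sq_eq_one_of_odd {a : G} (h : a ^ 2 = 1) (hodd : Odd (orderOf a)) : a = 1 := by
  rcases (Nat.dvd_prime Nat.prime_two).mp (orderOf_dvd_of_pow_eq_one h) with h1 | h1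
  · exact orderOf_eq_one_iff.mp h1
  · rw [h1] at hodd
    exact absurd hodd (by decide)

/-! ### Isolated involutions -/

theorem isolated_odd [Finite G] {z : G} (hz : Cfsg.IsIsolatedInvolution z) (g : G) :
    Odd (orderOf (z * (g * z * g⁻¹))) := by
  by_contra hcon
  rw [Nat.not_odd_iff_even] at hcon
  have hzg : orderOf (g * z * g⁻¹) = 2 := (orderOf_conj_eq g z).trans hz.1
  obtain ⟨-, hwz, -⟩ := half_props hz.1 hzg hcon
  apply half_ne_one hz.1 hzg hcon
  obtain ⟨a, ha⟩ : ∃ a, a * z * a⁻¹ = z * (z * (g * z * g⁻¹)) ^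
      (orderOf (z * (g * z * g⁻¹)) / 2) := by
    rcases mul_half_isConj hz.1 hzg hcon with h | h
    · exact isConj_iff.mp h
    · exact isConj_iff.mp ((isConj_iff.mpr ⟨g, rfl⟩).trans h)
  have hc : Commute z (a * z * a⁻¹) := ha ▸ (Commute.refl z).mul_right hwz.symm
  have := hz.2 a hc
  rw [ha] at this
  exact mul_eq_left.mp this

theorem isolated_exists_conj [Finite G] {z : G} (hz : Cfsg.IsIsolatedInvolution z) (g : G) :
    ∃ m : ℕ, (z * (g * z * g⁻¹)) ^ m * z * ((z * (g * z * g⁻¹)) ^ m)⁻¹ = g * z * g⁻¹ :=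
  exists_pow_conj_of_odd hz.1 ((orderOf_conj_eq g z).trans hz.1) (isolated_odd hz g)

theorem isolated_conj [Finite G] {z : G} (hz : Cfsg.IsIsolatedInvolution z) (a : G) :
    Cfsg.IsIsolatedInvolution (a * z * a⁻¹) := by
  refine ⟨(orderOf_conj_eq a z).trans hz.1, fun g hg => ?_⟩
  have e : a * ((a⁻¹ * g * a) * z * (a⁻¹ * g * a)⁻¹) * a⁻¹ = g * (a * z * a⁻¹) * g⁻¹ := by group
  have hc : Commute z ((a⁻¹ * g * a) * z * (a⁻¹ * g * a)⁻¹) := by
    have h2 := hg.map (MulAut.conj a⁻¹).toMonoidHom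
    simp only [MulEquiv.coe_toMonoidHom, MulAut.conj_apply, inv_inv] at h2
    convert h2 using 1 <;> group
  rw [← e, hz.2 _ hc]

/-- An involution all whose conjugates in a Sylow 2-subgroup containing it are trivial is
isolated. -/
theorem isolated_of_sylow [Finite G] (P : Sylow 2 G) {u : G} (hu : orderOf u = 2)
    (h : ∀ g : G, g * u * g⁻¹ ∈ P → g * u * g⁻¹ = u) : Cfsg.IsIsolatedInvolution u := by
  refine ⟨hu, fun a ha => ?_⟩
  haveI : Fact (Nat.Prime 2) := ⟨Nat.prime_two⟩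
  have hau : orderOf (a * u * a⁻¹) = 2 := (orderOf_conj_eq a u).trans hu
  have hp : IsPGroup 2 (closure ({u, a * u * a⁻¹} : Set G)) := by
    rintro ⟨z, hz⟩
    refine ⟨1, Subtype.ext ?_⟩
    show z ^ 2 ^ 1 = 1
    have hsq : (u * (a * u * a⁻¹)) ^ 2 = 1 := by
      rw [ha.mul_pow, sq, sq, mul_self_eq_one hu, mul_self_eq_one hau, one_mul]
    rcases (mem_closure_pair_iff hu hau).mp hz with ⟨k, rfl⟩ | ⟨k, rfl⟩
    · rw [pow_one, ← zpow_natCast, ← zpow_mul, mul_comm k, zpow_mul, zpow_natCast, hsq,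
        one_zpow]
    · rw [pow_one, sq]
      exact mul_zpow_mul_self (mul_self_eq_one hu) (conj_mul_inv hu hau) k
  obtain ⟨R, hR⟩ := hp.exists_le_sylow
  obtain ⟨b, hb⟩ := MulAction.exists_smul_eq G R P
  have h1 : b * u * b⁻¹ ∈ P := by
    rw [← hb]; exact ⟨u, hR (subset_closure (Set.mem_insert u _)), rfl⟩
  have h2 : (b * a) * u * (b * a)⁻¹ ∈ P := by
    rw [← hb]
    refine ⟨a * u * a⁻¹, hR (subset_closure (Set.mem_insert_of_mem _ rfl)), ?_⟩
    show b * (a * u * a⁻¹) * b⁻¹ = _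
    group
  have e1 := h b h1
  have e2 := h (b * a) h2
  have : b * (a * u * a⁻¹) * b⁻¹ = b * u * b⁻¹ := by
    rw [e1]; conv_rhs => rw [← e2]
    group
  exact mul_left_cancel (mul_right_cancel this)

/-- `C_{G/N}(zN) = C_G(z)N/N` and `zN` stays isolated. -/
theorem isolated_quotient [Finite G] {z : G} (hz : Cfsg.IsIsolatedInvolution z) (N : Subgroup G)
    [N.Normal] (hzN : z ∉ N) :
    centralizer ({(QuotientGroup.mk z : G ⧸ N)} : Set (G ⧸ N)) =
        (centralizer ({z} : Set G)).map (QuotientGroup.mk' N) ∧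
      Cfsg.IsIsolatedInvolution (QuotientGroup.mk z : G ⧸ N) := by
  have key : ∀ g : G, (QuotientGroup.mk (g * z * g⁻¹) : G ⧸ N) = QuotientGroup.mk z →
      (QuotientGroup.mk g : G ⧸ N) ∈ (centralizer ({z} : Set G)).map (QuotientGroup.mk' N) := by
    intro g hg
    obtain ⟨m, hm⟩ := isolated_exists_conj hz g
    generalize hh : (z * (g * z * g⁻¹)) ^ m = h at hm
    have h1 : (QuotientGroup.mk h : G ⧸ N) = 1 := by
      rw [← hh, QuotientGroup.mk_pow, QuotientGroup.mk_mul, hg, ← QuotientGroup.mk_mul,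
        mul_self_eq_one hz.1, QuotientGroup.mk_one, one_pow]
    refine ⟨h⁻¹ * g, ?_, ?_⟩
    · rw [SetLike.mem_coe, mem_centralizer_singleton_iff]
      have h2 : g * z = h * z * h⁻¹ * g := by rw [hm, inv_mul_cancel_right]
      calc h⁻¹ * g * z = h⁻¹ * (h * z * h⁻¹ * g) := by rw [← h2, mul_assoc]
        _ = z * (h⁻¹ * g) := by group
    · simp [QuotientGroup.mk_mul, h1]
  constructor
  · refine le_antisymm ?_ ((map_centralizer_le_centralizer_image _ _).trans
      (le_of_eq (by simp)))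
    intro q hq
    obtain ⟨g, rfl⟩ := QuotientGroup.mk_surjective q
    refine key g ?_
    have := mem_centralizer_singleton_iff.mp hq
    rw [QuotientGroup.mk_mul, QuotientGroup.mk_mul, QuotientGroup.mk_inv, this,
      mul_inv_cancel_right]
  · refine ⟨orderOf_eq_two ?_ ?_, fun q hq => ?_⟩
    · rw [← QuotientGroup.mk_mul, mul_self_eq_one hz.1, QuotientGroup.mk_one]
    · rwa [Ne, QuotientGroup.eq_one_iff]
    · obtain ⟨g, rfl⟩ := QuotientGroup.mk_surjective q
      rw [← QuotientGroup.mk_inv, ← QuotientGroup.mk_mul, ← QuotientGroup.mk_mul] at hq ⊢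
      have hsq : (QuotientGroup.mk (z * (g * z * g⁻¹)) : G ⧸ N) ^ 2 = 1 := by
        rw [QuotientGroup.mk_mul, hq.mul_pow, ← QuotientGroup.mk_pow, ← QuotientGroup.mk_pow,
          sq, sq, mul_self_eq_one hz.1, mul_self_eq_one ((orderOf_conj_eq g z).trans hz.1),
          QuotientGroup.mk_one, one_mul]
      have h1 := eq_one_of_sq_eq_one_of_odd hsq
        (Odd.of_dvd_nat (isolated_odd hz g) (orderOf_map_dvd (QuotientGroup.mk' N) _))
      rw [QuotientGroup.mk_mul] at h1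
      rw [eq_inv_of_mul_eq_one_right h1, ← QuotientGroup.mk_inv, inv_eq_self hz.1]

/-- Fusion in `C_H(z)` for a subgroup `H` normalized by an isolated involution `z`. -/
theorem isolated_fusion [Finite G] {z : G} (hz : Cfsg.IsIsolatedInvolution z) (H : Subgroup G)
    (hzH : z ∈ normalizer (H : Set G)) {x y : G} (hxz : Commute x z) (hyz : Commute y z) {h : G}
    (hh : h ∈ H) (hconj : h * x * h⁻¹ = y) :
    ∃ c ∈ H, Commute c z ∧ c * x * c⁻¹ = y := by
  obtain ⟨m, hm⟩ := isolated_exists_conj hz h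
  have hzh : z * (h * z * h⁻¹) ∈ H := by
    have : z * h * z⁻¹ * h⁻¹ ∈ H := mul_mem ((mem_normalizer_iff.mp hzH h).mp hh) (inv_mem hh)
    rwa [inv_eq_self hz.1, mul_assoc (z * h), mul_assoc z, ← mul_assoc h] at this
  have hcy : Commute (z * (h * z * h⁻¹)) y := by
    refine hyz.symm.mul_left ?_
    rw [← hconj]
    exact hxz.symm.map (MulAut.conj h).toMonoidHom
  generalize hk : (z * (h * z * h⁻¹)) ^ m = k at hm
  have hkH : k ∈ H := hk ▸ pow_mem hzh m
  have hky : Commute k y := hk ▸ hcy.pow_left m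
  refine ⟨k⁻¹ * h, mul_mem (inv_mem hkH) hh, ?_, ?_⟩
  · have h2 : h * z = k * z * k⁻¹ * h := by rw [hm, inv_mul_cancel_right]
    show k⁻¹ * h * z = z * (k⁻¹ * h)
    calc k⁻¹ * h * z = k⁻¹ * (k * z * k⁻¹ * h) := by rw [← h2, mul_assoc]
      _ = z * (k⁻¹ * h) := by group
  · calc k⁻¹ * h * x * (k⁻¹ * h)⁻¹ = k⁻¹ * (h * x * h⁻¹) * k := by group
      _ = y := by rw [hconj, hky.inv_left.eq, inv_mul_cancel_right]

/-- A product of two distinct conjugates of an isolated involution does not commute with it. -/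
theorem isolated_not_commute [Finite G] {z : G} (hz : Cfsg.IsIsolatedInvolution z) (g h : G)
    (hne : g * z * g⁻¹ ≠ h * z * h⁻¹) : ¬ Commute (g * z * g⁻¹ * (h * z * h⁻¹)) z := by
  intro hc
  have hs : orderOf (g * z * g⁻¹) = 2 := (orderOf_conj_eq g z).trans hz.1
  have ht : orderOf (h * z * h⁻¹) = 2 := (orderOf_conj_eq h z).trans hz.1
  have hinv := conj_mul_inv hs ht
  have hodd : Odd (orderOf (g * z * g⁻¹ * (h * z * h⁻¹))) := by
    have e : g * z * g⁻¹ * (h * z * h⁻¹) =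
        g * (z * (g⁻¹ * h * z * (g⁻¹ * h)⁻¹)) * g⁻¹ := by group
    rw [e, orderOf_conj_eq]
    exact isolated_odd hz _
  have hne1 : g * z * g⁻¹ * (h * z * h⁻¹) ≠ 1 := by
    intro h1
    exact hne ((eq_inv_of_mul_eq_one_left h1).trans (inv_eq_self ht))
  obtain ⟨m, hm⟩ := isolated_exists_conj hz g
  generalize hA : g * z * g⁻¹ * (h * z * h⁻¹) = a at hc hinv hodd hne1
  generalize hs' : g * z * g⁻¹ = s at hinv hm
  -- `z` and `s` both normalize `⟨a⟩`, hence so does the element carrying `z` to `s`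
  have hzN : z ∈ normalizer (zpowers a : Set G) := by
    apply centralizer_le_normalizer
    intro b hb
    obtain ⟨k, rfl⟩ := mem_zpowers_iff.mp hb
    exact (hc.zpow_left k).eq
  have hsN : s ∈ normalizer (zpowers a : Set G) := by
    rw [mem_normalizer_iff]
    intro b
    have hss : s * s = 1 := by rw [← hs']; exact mul_self_eq_one hs
    have hsi : s⁻¹ = s := inv_eq_of_mul_eq_one_right hss
    constructor
    · intro hb
      obtain ⟨k, rfl⟩ := mem_zpowers_iff.mp hb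
      rw [conj_zpow_of_inverts hinv]
      exact zpow_mem (mem_zpowers _) _
    · intro hb
      obtain ⟨k, hk⟩ := mem_zpowers_iff.mp hb
      have : b = s * (s * b * s⁻¹) * s⁻¹ := by
        rw [hsi, ← mul_assoc, ← mul_assoc, hss, one_mul, mul_assoc, hss, mul_one]
      rw [this, ← hk, conj_zpow_of_inverts hinv]
      exact zpow_mem (mem_zpowers _) _
  generalize hk : (z * s) ^ m = k at hm
  have hkN : k ∈ normalizer (zpowers a : Set G) := hk ▸ pow_mem (mul_mem hzN hsN) m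
  -- hence `s` centralizes `⟨a⟩`
  obtain ⟨j, hj⟩ := mem_zpowers_iff.mp
    ((mem_normalizer_iff.mp (inv_mem hkN) a).mp (mem_zpowers a))
  rw [inv_inv] at hj
  have hcs : Commute s a := by
    have h1 : Commute (k * z * k⁻¹) (k * a ^ j * k⁻¹) :=
      (hc.symm.zpow_right j).map (MulAut.conj k).toMonoidHom
    rw [hm, hj] at h1
    simpa [mul_assoc] using h1
  exact hne1 (eq_one_of_sq_eq_one_of_odd
    (by rw [sq]; exact pow_two_eq_one_of_inverts_of_commute hinv hcs) hodd)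

/-- In each coset of `C(z)` there is exactly one element of odd order inverted by `z`. -/
theorem isolated_coset [Finite G] {z : G} (hz : Cfsg.IsIsolatedInvolution z) (g : G) :
    ∃! k : G, (Odd (orderOf k) ∧ z * k * z⁻¹ = k⁻¹) ∧
      g⁻¹ * k ∈ centralizer ({z} : Set G) := by
  have hzz := mul_self_eq_one hz.1
  have hb : Odd (orderOf (g * z * g⁻¹ * z)) := by
    have e : g * z * g⁻¹ * z = (z * (g * z * g⁻¹))⁻¹ := by
      rw [mul_inv_rev_invol hz.1 ((orderOf_conj_eq g z).trans hz.1)]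
    rw [e, orderOf_inv]
    exact isolated_odd hz g
  have hzi := inv_eq_self hz.1
  have hbinv : z * (g * z * g⁻¹ * z) * z⁻¹ = (g * z * g⁻¹ * z)⁻¹ := by
    rw [mul_inv_rev_invol ((orderOf_conj_eq g z).trans hz.1) hz.1, hzi,
      mul_assoc, mul_assoc (g * z * g⁻¹) z z, hzz, mul_one]
  obtain ⟨m, hm⟩ := hb
  have hpow : ((g * z * g⁻¹ * z) ^ (m + 1)) ^ 2 = g * z * g⁻¹ * z := by
    rw [← pow_mul, show (m + 1) * 2 = orderOf (g * z * g⁻¹ * z) + 1 by omega, pow_succ,
      pow_orderOf_eq_one, one_mul]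
  have hinvpow : z * (g * z * g⁻¹ * z) ^ (m + 1) * z⁻¹ = ((g * z * g⁻¹ * z) ^ (m + 1))⁻¹ := by
    rw [← conj_pow, hbinv, inv_pow]
  -- an odd element inverted by `z` lies in `gC(z)` iff its square is `b`
  have hiff : ∀ k : G, z * k * z⁻¹ = k⁻¹ →
      (g⁻¹ * k ∈ centralizer ({z} : Set G) ↔ k ^ 2 = g * z * g⁻¹ * z) := by
    intro k hk
    have hkz : k * z * k⁻¹ = k ^ 2 * z := by
      rw [← hk, hzi]
      calc k * z * (z * k * z) = k * (z * z) * k * z := by group
        _ = k ^ 2 * z := by rw [hzz, mul_one, sq]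
    rw [mem_centralizer_singleton_iff]
    constructor
    · intro hc
      have h2 : k * z * k⁻¹ = g * z * g⁻¹ := by
        calc k * z * k⁻¹ = g * (g⁻¹ * k * z) * k⁻¹ := by group
          _ = g * z * g⁻¹ := by rw [hc]; group
      rw [hkz] at h2
      calc k ^ 2 = k ^ 2 * z * z := by rw [mul_assoc, hzz, mul_one]
        _ = _ := by rw [h2]
    · intro hk2
      have h2 : k * z * k⁻¹ = g * z * g⁻¹ := by rw [hkz, hk2, mul_assoc, hzz, mul_one]
      calc g⁻¹ * k * z = g⁻¹ * (k * z * k⁻¹) * k := by group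
        _ = z * (g⁻¹ * k) := by rw [h2]; group
  refine ⟨(g * z * g⁻¹ * z) ^ (m + 1), ⟨⟨?_, hinvpow⟩, (hiff _ hinvpow).mpr hpow⟩, ?_⟩
  · exact Odd.of_dvd_nat ⟨m, hm⟩ (orderOf_pow_dvd _)
  · rintro k ⟨⟨hko, hk⟩, hkC⟩
    have hk2 := (hiff k hk).mp hkC
    obtain ⟨j, hj⟩ := hko
    have hkb : k = (g * z * g⁻¹ * z) ^ (j + 1) := by
      rw [← hk2, ← pow_mul, show 2 * (j + 1) = orderOf k + 1 by omega, pow_succ,
        pow_orderOf_eq_one, one_mul]
    rw [hkb, pow_eq_pow_iff_modEq]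
    have h3 : (g * z * g⁻¹ * z) ^ ((j + 1) * 2) = (g * z * g⁻¹ * z) ^ 1 := by
      rw [pow_mul, ← hkb, hk2, pow_one]
    have h4 : (g * z * g⁻¹ * z) ^ ((m + 1) * 2) = (g * z * g⁻¹ * z) ^ 1 := by
      rw [pow_mul, hpow, pow_one]
    rw [pow_eq_pow_iff_modEq] at h3 h4
    exact (h3.trans h4.symm).cancel_right_of_coprime (by rw [hm]; simp)

end CfsgLib.Invol
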