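import Cfsg.Agent.ZStar.Final
import Cfsg.Agent.Solvable.Basics
import Cfsg.Agent.Invol.Isolated
import Cfsg.Agent.LocalB.OddSignalizer
import Cfsg.Agent.ZStar.RankOneApps
import Cfsg.Agent.Comp.Basic
import Cfsg.Agent.InvChar.UniqueInvolution
import Cfsg.Prelude.Def_Balance
import Cfsg.Agent.Transfer.PResidual
import Cfsg.Agent.Transfer.Alperin
import Cfsg.Agent.Signalizer.Wielandt
import Cfsg.Prelude.Def_TwoFusion

/-!
Consequences of the Z* theorem for isolated involutions and strongly closed 2-subgroups.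
-/

set_option autoImplicit false
set_option linter.unusedSectionVars false
set_option linter.deprecated false
set_option linter.style.haveILetI false

namespace CfsgLib.IsoApps

open Subgroup
open scoped Pointwise

variable {G : Type*} [Group G] [Finite G] {z : G}

theorem comm_mem_oddCore (hz : Cfsg.IsIsolatedInvolution z) (g : G) :
    z * g * z⁻¹ * g⁻¹ ∈ Cfsg.oddCore G := by
  obtain ⟨N, hN, hodd, h⟩ := ZStar.zstar hz
  exact Solvable.le_pPrimeCore 2 hN (Nat.coprime_two_right.mpr hodd) (h g)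

theorem odd_oddCore : Odd (Nat.card (Cfsg.oddCore G)) :=
  Nat.coprime_two_right.mp (Solvable.coprime_card_pPrimeCore 2)

/-- `G = O(G) C_G(z)`. -/
theorem exists_mul (hz : Cfsg.IsIsolatedInvolution z) (g : G) :
    ∃ o ∈ Cfsg.oddCore G, ∃ c ∈ centralizer ({z} : Set G), g = o * c := by
  obtain ⟨v, hv, hc⟩ := LocalB.exists_fixed_lift odd_oddCore (Invol.mul_self_eq_one hz.1)
    (comm_mem_oddCore hz g)
  exact ⟨(v * g⁻¹)⁻¹, inv_mem hv, v, mem_centralizer_singleton_iff.2 hc.symm, by group⟩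

/-- Inverted elements of odd order lie in `O(G)`. -/
theorem mem_oddCore_of_inverted (hz : Cfsg.IsIsolatedInvolution z) {k : G} (hk : Odd (orderOf k))
    (hinv : z * k * z⁻¹ = k⁻¹) : k ∈ Cfsg.oddCore G := by
  have h := comm_mem_oddCore hz k
  rw [hinv] at h
  obtain ⟨m, hm⟩ := hk
  have h2 : (k⁻¹ * k⁻¹) ^ m ∈ Cfsg.oddCore G := pow_mem h m
  have : (k⁻¹ * k⁻¹) ^ m = k := by
    rw [← sq, ← pow_mul, inv_pow, inv_eq_iff_mul_eq_one, ← pow_succ, ← hm, pow_orderOf_eq_one]
  rwa [this] at h2

theorem odd_of_mem_oddCore {k : G} (hk : k ∈ Cfsg.oddCore G) : Odd (orderOf k) :=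
  odd_oddCore.of_dvd_nat (Subgroup.orderOf_dvd_natCard _ hk)

/-- For an involution normalizing an odd order subgroup: the inverted elements are a transversal
of the centralizer. -/
theorem relIndex_eq_card_inverted {a : G} (ha : a * a = 1) {H : Subgroup G} (hH : Odd (Nat.card H))
    (hn : ∀ h ∈ H, a * h * a⁻¹ ∈ H) :
    (H ⊓ centralizer ({a} : Set G)).relIndex H =
      Nat.card {x : G // x ∈ H ∧ a * x * a⁻¹ = x⁻¹} := by
  have hai : a⁻¹ = a := inv_eq_of_mul_eq_one_right ha
  set C := (H ⊓ centralizer ({a} : Set G)).subgroupOf H with hC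
  have hmem : ∀ h : H, h ∈ C ↔ a * (h : G) * a⁻¹ = h := fun h => by
    rw [hC, mem_subgroupOf, mem_inf, mem_centralizer_singleton_iff, mul_inv_eq_iff_eq_mul,
      and_iff_right h.2]
    exact eq_comm
  rw [relIndex, ← hC, index_eq_card]
  let f : H → {x : G // x ∈ H ∧ a * x * a⁻¹ = x⁻¹} := fun h =>
    ⟨(h : G) * (a * (h : G) * a⁻¹)⁻¹, mul_mem h.2 (inv_mem (hn h h.2)), by
      simp only [mul_inv_rev, inv_inv, hai]
      rw [show a * ((h : G) * (a * ((h : G)⁻¹ * a))) * a = a * (h : G) * a * (h : G)⁻¹ * (a * a) by group, ha]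
      group⟩
  have hf : ∀ b c : H, b⁻¹ * c ∈ C → f b = f c := by
    intro b c hbc
    obtain ⟨d, hd, rfl⟩ : ∃ d ∈ C, c = b * d := ⟨b⁻¹ * c, hbc, by group⟩
    refine Subtype.ext ?_
    show (b : G) * (a * b * a⁻¹)⁻¹ = (b * d : H) * (a * (b * d : H) * a⁻¹)⁻¹
    rw [Subgroup.coe_mul, ← conj_mul (a := (b : G)) (c := (d : G)), (hmem d).1 hd]
    group
  have hlift : ∀ b c : H, QuotientGroup.leftRel C b c → f b = f c := fun b c h =>
    hf b c (QuotientGroup.leftRel_apply.1 h)
  refine Nat.card_congr (Equiv.ofBijective (Quotient.lift f hlift) ⟨?_, ?_⟩)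
  · intro x y
    induction x using Quotient.inductionOn' with | h b => ?_
    induction y using Quotient.inductionOn' with | h c => ?_
    intro h
    have e : (b : G) * (a * b * a⁻¹)⁻¹ = (c : G) * (a * c * a⁻¹)⁻¹ := congrArg Subtype.val h
    refine Quotient.sound' (QuotientGroup.leftRel_apply.2 ((hmem _).2 ?_))
    rw [Subgroup.coe_mul, Subgroup.coe_inv, ← conj_mul (a := (b : G)⁻¹) (c := (c : G)), ← conj_inv]
    calc (a * b * a⁻¹)⁻¹ * (a * c * a⁻¹)
        = (b : G)⁻¹ * ((b : G) * (a * b * a⁻¹)⁻¹) * (a * c * a⁻¹) := by group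
      _ = (b : G)⁻¹ * ((c : G) * (a * c * a⁻¹)⁻¹) * (a * c * a⁻¹) := by rw [e]
      _ = (b : G)⁻¹ * c := by group
  · rintro ⟨x, hx, hax⟩
    obtain ⟨m, hm⟩ := hH.of_dvd_nat (Subgroup.orderOf_dvd_natCard H hx)
    refine ⟨Quotient.mk'' ⟨x ^ (m + 1), pow_mem hx _⟩, Subtype.ext ?_⟩
    show x ^ (m + 1) * (a * x ^ (m + 1) * a⁻¹)⁻¹ = x
    rw [← conj_pow, hax, inv_pow, inv_inv, ← pow_add, show m + 1 + (m + 1) = 2 * m + 1 + 1 by omega,
      pow_succ, ← hm, pow_orderOf_eq_one, one_mul]

/-- `O²(G) = G` if and only if `O²(C) = C`. -/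
theorem pResidual_eq_top_iff (hz : Cfsg.IsIsolatedInvolution z) :
    Cfsg.pResidual 2 G = ⊤ ↔ Cfsg.pResidual 2 ↥(centralizer ({z} : Set G)) = ⊤ := by
  set C := centralizer ({z} : Set G) with hC
  set O := Cfsg.oddCore G
  have hOG : O ≤ Cfsg.pResidual 2 G := fun o ho =>
    PResidual.mem_pResidual 2 (Nat.coprime_two_right.mpr (odd_of_mem_oddCore ho))
  constructor
  · intro h
    set f := (QuotientGroup.mk' O).comp C.subtype
    set N := Cfsg.pResidual 2 ↥C
    have hker : f.ker ≤ N := fun c hc => PResidual.mem_pResidual 2 <| by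
      rw [← Subgroup.orderOf_coe]
      exact Nat.coprime_two_right.mpr (odd_of_mem_oddCore ((QuotientGroup.eq_one_iff _).1 hc))
    have hsur : Function.Surjective f := by
      intro x
      obtain ⟨g, rfl⟩ := QuotientGroup.mk'_surjective O x
      obtain ⟨o, ho, c, hc, rfl⟩ := exists_mul hz g
      refine ⟨⟨c, hc⟩, ?_⟩
      show QuotientGroup.mk' O c = _
      rw [map_mul, show QuotientGroup.mk' O o = 1 from (QuotientGroup.eq_one_iff o).2 ho, one_mul]
    have himg : (Cfsg.pResidual 2 G).map (QuotientGroup.mk' O) ≤ N.map f := by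
      rw [Cfsg.pResidual, MonoidHom.map_closure, closure_le]
      rintro _ ⟨g, hg, rfl⟩
      obtain ⟨c, hc⟩ := hsur (QuotientGroup.mk' O g)
      have hodd : (orderOf (f c)).Coprime (2 ^ (orderOf c).factorization 2) :=
        (Nat.Coprime.coprime_dvd_left (hc ▸ orderOf_map_dvd _ g) hg).pow_right _
      obtain ⟨m, hm⟩ := exists_pow_eq_self_of_coprime hodd.symm
      rw [SetLike.mem_coe, ← hc, ← hm, ← map_pow, ← map_pow]
      exact mem_map_of_mem f (pow_mem (PResidual.pow_mem_pResidual Nat.prime_two c) m)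
    rw [h, map_top_of_surjective _ (QuotientGroup.mk'_surjective O), top_le_iff] at himg
    have := congrArg (Subgroup.comap f) himg
    rwa [comap_map_eq, comap_top, sup_eq_left.2 hker] at this
  · intro h
    have hCG : C ≤ Cfsg.pResidual 2 G := by
      rw [← range_subtype C, MonoidHom.range_eq_map, ← h]
      exact PResidual.map_pResidual_le C.subtype
    refine eq_top_iff.2 fun g _ => ?_
    obtain ⟨o, ho, c, hc, rfl⟩ := exists_mul hz g
    exact mul_mem (hOG ho) (hCG hc)

/-- The order formula of an isolated involution and a commuting involution. -/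
theorem order_formula (hz : Cfsg.IsIsolatedInvolution z) {s : G} (hs : orderOf s = 2)
    (hsz : Commute s z) :
    Nat.card G = Nat.card (centralizer ({z} : Set G)) *
      Nat.card {k : G // Odd (orderOf k) ∧ z * k * z⁻¹ = k⁻¹ ∧ Commute k (s * z)} *
      Nat.card {k : G // Odd (orderOf k) ∧ z * k * z⁻¹ = k⁻¹ ∧ Commute k s} := by
  classical
  haveI : Fact (Nat.Prime 2) := ⟨Nat.prime_two⟩
  set O := Cfsg.oddCore G with hO
  have hzz := Invol.mul_self_eq_one hz.1
  have hzinv : z⁻¹ = z := inv_eq_of_mul_eq_one_right hzz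
  have hOn : ∀ (a : G), ∀ o ∈ O, a * o * a⁻¹ ∈ O := fun a o ho =>
    (Solvable.pPrimeCore_normal 2).conj_mem o ho a
  -- the index of the centralizer
  set C := centralizer ({z} : Set G) with hC
  have hGC : Nat.card G = Nat.card C * (O ⊓ C).relIndex O := by
    have hset : (O : Set G) * (C : Set G) = Set.univ := Set.eq_univ_of_forall fun g => by
      obtain ⟨o, ho, c, hc, rfl⟩ := exists_mul hz g; exact Set.mul_mem_mul ho hc
    have h := Factor.card_mul_set O C
    rw [hset, Nat.card_univ] at h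
    have h2 := relIndex_mul_relIndex ⊥ (O ⊓ C) O bot_le inf_le_left
    rw [relIndex_bot_left, relIndex_bot_left] at h2
    refine Nat.eq_of_mul_eq_mul_right (Nat.card_pos (α := ↥(O ⊓ C))) (h.trans ?_)
    rw [← h2]; ring
  -- inverted elements fixed by an involution `b` commuting with `z`
  have hcount : ∀ b : G, Commute b z → Nat.card {k : G // Odd (orderOf k) ∧ z * k * z⁻¹ = k⁻¹ ∧ Commute k b} =
      (O ⊓ centralizer ({b} : Set G) ⊓ C).relIndex (O ⊓ centralizer ({b} : Set G)) := by
    intro b hb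
    rw [relIndex_eq_card_inverted hzz (odd_oddCore.of_dvd_nat (card_dvd_of_le inf_le_left)) (fun h hh =>
      ⟨hOn z h hh.1, mem_centralizer_singleton_iff.2 (Commute.mul_left (Commute.mul_left hb.symm
        (mem_centralizer_singleton_iff.1 hh.2)) hb.symm.inv_left).eq⟩)]
    refine Nat.card_congr (Equiv.subtypeEquivRight fun k => ?_)
    rw [mem_inf, mem_centralizer_singleton_iff]
    exact ⟨fun ⟨h1, h2, h3⟩ => ⟨⟨mem_oddCore_of_inverted hz h1 h2, h3.eq⟩, h2⟩,
      fun ⟨⟨h1, h3⟩, h2⟩ => ⟨odd_of_mem_oddCore h1, h2, h3⟩⟩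
  rw [hcount s hsz, hcount (s * z) (Commute.mul_left hsz (Commute.refl z)), hGC, mul_assoc]
  congr 1
  by_cases hsz' : s = z
  · subst hsz'
    rw [hzz, ← hC, show centralizer ({(1 : G)} : Set G) = ⊤ from eq_top_iff.2 fun g _ =>
      mem_centralizer_singleton_iff.2 (by simp), inf_top_eq, inf_assoc, inf_idem, relIndex_self, mul_one]
  -- the four-group
  set w := s * z with hw
  have hss := Invol.mul_self_eq_one hs
  have hw1 : w ≠ 1 := fun h => hsz' (by rw [eq_inv_of_mul_eq_one_left h, hzinv])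
  have hz1 := Invol.ne_one hz.1
  have hs1 := Invol.ne_one hs
  have hsw : s * w = z := by rw [hw, ← mul_assoc, hss, one_mul]
  have hwz : w * z = s := by rw [hw, mul_assoc, hzz, mul_one]
  have hww : w * w = 1 := by rw [hw, mul_assoc, ← mul_assoc z, ← hsz.eq, mul_assoc s z z, hzz, mul_one, hss]
  let E : Subgroup G :=
    { carrier := {1, s, z, w}
      one_mem' := by simp
      mul_mem' := by
        rintro a b (ea | ea | ea | ea) (eb | eb | eb | eb) <;> rw [ea, eb] <;>
          simp [hss, hzz, hww, ← hw, hsw, hwz, ← hsz.eq,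
            show w * s = z by rw [hw, hsz.eq, mul_assoc, hss, mul_one],
            show z * w = s by rw [hw, hsz.eq, ← mul_assoc, hzz, one_mul]]
      inv_mem' := by
        rintro a (ea | ea | ea | ea) <;> rw [ea] <;>
          simp [inv_eq_of_mul_eq_one_right hss, hzinv, inv_eq_of_mul_eq_one_right hww] }
  have hEmem : ∀ a : G, a ∈ E ↔ a = 1 ∨ a = s ∨ a = z ∨ a = w := fun a => Iff.rfl
  have hEA : Cfsg.IsElementaryAbelian 2 E := by
    refine ⟨⟨⟨fun a b => Subtype.ext ?_⟩⟩, fun a ha => ?_⟩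
    · obtain ⟨a, ha⟩ := a
      obtain ⟨b, hb⟩ := b
      show a * b = b * a
      rcases ha with ea | ea | ea | ea <;> rcases hb with eb | eb | eb | eb <;> rw [ea, eb] <;>
        simp [hss, hzz, hww, ← hw, hsw, hwz, ← hsz.eq,
          show w * s = z by rw [hw, hsz.eq, mul_assoc, hss, mul_one],
          show z * w = s by rw [hw, hsz.eq, ← mul_assoc, hzz, one_mul]]
    · rw [sq]; rcases ha with ea | ea | ea | ea <;> rw [ea] <;> simp [hss, hzz, hww]
  have hne : s ≠ w := fun h => hz1 (by rw [hw] at h; exact mul_eq_left.1 h.symm)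
  have hne' : z ≠ w := fun h => hs1 (by rw [hw] at h; exact mul_eq_right.1 h.symm)
  have hE4 : Nat.card E = 2 ^ 2 := by
    show Nat.card ↑({1, s, z, w} : Set G) = 4
    rw [Nat.card_coe_set_eq, Set.ncard_insert_of_notMem (by simp [hs1.symm, hz1.symm, hw1.symm]),
      Set.ncard_insert_of_notMem (by simp [hsz', hne]), Set.ncard_insert_of_notMem (by simp [hne']),
      Set.ncard_singleton]
  have hpO : ¬ 2 ∣ Nat.card O := fun h => Nat.not_even_iff_odd.2 odd_oddCore (even_iff_two_dvd.2 h)
  have hEO : E ≤ normalizer (O : Set G) := fun a _ => by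
    haveI := Solvable.pPrimeCore_normal (G := G) 2
    rw [hO, normalizer_eq_top]; exact mem_top a
  have hW := Signalizer.wielandt hEA hE4 hpO hEO
  have hline : ∀ a : G, a ∈ E → a * a = 1 → a ≠ 1 → zpowers a ∈ Signalizer.lines 2 E := fun a ha h2 h1 =>
    Signalizer.mem_lines.2 ⟨zpowers_le.2 ha, by rw [Nat.card_zpowers]; exact Invol.orderOf_eq_two h2 h1⟩
  have hzp : ∀ a b : G, a * a = 1 → b * b = 1 → b ≠ 1 → zpowers a = zpowers b → a = b := by
    intro a b ha hb hb1 h
    obtain ⟨i, hi⟩ := mem_zpowers_iff.1 (h ▸ mem_zpowers b : b ∈ zpowers a)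
    rcases Int.even_or_odd i with ⟨j, rfl⟩ | ⟨j, rfl⟩
    · exact absurd (by rw [← hi, ← two_mul, zpow_mul, zpow_two, ha, one_zpow]) hb1
    · rw [← hi, zpow_add, zpow_mul, zpow_two, ha, one_zpow, one_mul, zpow_one]
  have hlines : Signalizer.lines 2 E = {zpowers z, zpowers s, zpowers w} := by
    ext B
    simp only [Finset.mem_insert, Finset.mem_singleton]
    constructor
    · intro hB
      obtain ⟨hBE, hBc⟩ := Signalizer.mem_lines.1 hB
      obtain ⟨b, hb, hb1⟩ := (bot_or_exists_ne_one B).resolve_left fun e => by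
        rw [e, card_bot] at hBc; omega
      have hbe : zpowers b = B := Solvable.eq_of_le_of_card_le (zpowers_le.2 hb) (by
        rw [hBc, Nat.card_zpowers]
        have h := Signalizer.card_zpowers_eq hEA (hBE hb) hb1
        rw [Nat.card_zpowers] at h
        omega)
      rcases (hEmem b).1 (hBE hb) with e | e | e | e
      · exact absurd e hb1
      all_goals rw [← hbe, e]; simp
    · rintro (h | h | h) <;> rw [h]
      · exact hline z (by simp [hEmem]) hzz hz1
      · exact hline s (by simp [hEmem]) hss hs1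
      · exact hline w (by simp [hEmem]) hww hw1
  have hcz : ∀ a : G, centralizer ((zpowers a : Subgroup G) : Set G) = centralizer ({a} : Set G) := fun a => by
    refine le_antisymm (centralizer_le (Set.singleton_subset_iff.2 (mem_zpowers a))) fun g hg =>
      mem_centralizer_iff.2 fun b hb => ?_
    obtain ⟨i, rfl⟩ := mem_zpowers_iff.1 hb
    exact (Commute.zpow_left (mem_centralizer_singleton_iff.1 hg).symm i).eq
  rw [hlines, Finset.prod_insert (by
      simp only [Finset.mem_insert, Finset.mem_singleton, not_or]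
      exact ⟨fun h => hsz' (hzp _ _ hzz hss hs1 h).symm, fun h => hne' (hzp _ _ hzz hww hw1 h)⟩),
    Finset.prod_pair (fun h => hne (hzp _ _ hss hww hw1 h)), hcz, hcz, hcz,
    Finset.card_insert_of_notMem (by
      simp only [Finset.mem_insert, Finset.mem_singleton, not_or]
      exact ⟨fun h => hsz' (hzp _ _ hzz hss hs1 h).symm, fun h => hne' (hzp _ _ hzz hww hw1 h)⟩),
    Finset.card_pair (fun h => hne (hzp _ _ hss hww hw1 h))] at hW
  rw [show (2 + 1 - 1 : ℕ) = 2 from rfl] at hW
  -- intersections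
  have hVE : ∀ b : G, (b = s ∨ b = w) →
      O ⊓ centralizer ({b} : Set G) ⊓ C = O ⊓ centralizer (E : Set G) := by
    intro b hb
    rw [inf_assoc]
    congr 1
    refine le_antisymm (fun g hg => mem_centralizer_iff.2 fun a ha => ?_) (fun g hg => ⟨?_, ?_⟩)
    · obtain ⟨hgb, hgz⟩ := mem_inf.1 hg
      rw [mem_centralizer_singleton_iff] at hgb hgz
      have hgs : Commute g s := by
        rcases hb with e | e <;> rw [e] at hgb
        · exact hgb
        · exact hwz ▸ Commute.mul_right hgb hgz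
      rcases ha with e | e | e | e <;> rw [e]
      · simp
      · exact hgs.eq.symm
      · exact hgz.symm
      · exact (Commute.mul_right hgs hgz).eq.symm
    · refine mem_centralizer_singleton_iff.2 (mem_centralizer_iff.1 hg b ?_).symm
      rcases hb with e | e <;> rw [e] <;> exact (hEmem _).2 (by simp)
    · exact mem_centralizer_singleton_iff.2 (mem_centralizer_iff.1 hg z ((hEmem z).2 (by simp))).symm
  rw [hVE s (Or.inl rfl), hVE w (Or.inr rfl)]
  have hr : ∀ {A B : Subgroup G}, A ≤ B → A.relIndex B * Nat.card A = Nat.card B := fun {A B} h => by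
    have h' := relIndex_mul_relIndex ⊥ A B bot_le h
    rw [relIndex_bot_left, relIndex_bot_left] at h'
    rw [← h', mul_comm]
  have hsub : ∀ b : G, b ∈ E → O ⊓ centralizer (E : Set G) ≤ O ⊓ centralizer ({b} : Set G) := fun b hb =>
    inf_le_inf_left _ (centralizer_le (Set.singleton_subset_iff.2 hb))
  have e1 := hr (inf_le_left : O ⊓ C ≤ O)
  have e2 := hr (hsub s ((hEmem s).2 (by simp)))
  have e3 := hr (hsub w ((hEmem w).2 (by simp)))
  rw [← e1, ← e2, ← e3, ← hC] at hW
  refine Nat.eq_of_mul_eq_mul_right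
    (Nat.mul_pos (Nat.card_pos (α := ↥(O ⊓ C))) (pow_pos (Nat.card_pos (α := ↥(O ⊓ centralizer (E : Set G)))) 2)) ?_
  linear_combination -hW

/-- An isolated involution normalizing a subgroup normalizes one of its Sylow subgroups (`p` odd). -/
theorem exists_invariant_sylow (hz : Cfsg.IsIsolatedInvolution z) {p : ℕ} [Fact p.Prime] (hp : p ≠ 2) :
    ∃ P : Sylow p G, z ∈ normalizer ((P : Subgroup G) : Set G) := by
  set O := Cfsg.oddCore G with hO
  set C := centralizer ({z} : Set G) with hC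
  haveI hOn : O.Normal := Solvable.pPrimeCore_normal 2
  let T : Sylow p C := default
  set T' := (T : Subgroup C).map C.subtype with hT'
  have hT'p : IsPGroup p T' := T.isPGroup'.map _
  have hTC : T' ≤ C := map_subtype_le _
  set X := O ⊔ T' with hX
  have hcop : (Nat.card T').Coprime 2 := by
    obtain ⟨k, hk⟩ := IsPGroup.iff_card.1 hT'p
    rw [hk]; exact ((Nat.coprime_primes Fact.out Nat.prime_two).2 hp).pow_left k
  have hoddX : Odd (Nat.card X) := by
    have hn : T' ≤ normalizer (O : Set G) := fun a _ => by rw [normalizer_eq_top]; exact mem_top a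
    have h := Solvable.card_sup_mul_card_inf hn
    rw [sup_comm, ← hX] at h
    exact ((Nat.coprime_two_right.1 hcop).mul odd_oddCore).of_dvd_nat (h ▸ dvd_mul_right _ _)
  have hzX : zpowers z ≤ normalizer (X : Set G) := by
    refine (le_inf ?_ ?_).trans (normalizer_inf_normalizer_le_normalizer_sup _ _)
    · intro a _; rw [normalizer_eq_top]; exact mem_top a
    · refine (zpowers_le.2 (centralizer_le_normalizer _ (mem_centralizer_iff.2 fun t ht => ?_)))
      exact mem_centralizer_singleton_iff.1 (hTC ht)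
  have hcopX : (Nat.card (zpowers z)).Coprime (Nat.card X) := by
    rw [Nat.card_zpowers, hz.1]; exact Nat.coprime_two_left.2 hoddX
  obtain ⟨P, hP⟩ := CoprimeAct.exists_invariant_sylow hzX hcopX (Or.inl inferInstance) p
  -- the index of `X` is prime to `p`
  have hidx : ¬ p ∣ X.index := by
    intro hd
    have hset : (O : Set G) * (C : Set G) = Set.univ := Set.eq_univ_of_forall fun g => by
      obtain ⟨o, ho, c, hc, rfl⟩ := exists_mul hz g; exact Set.mul_mem_mul ho hc
    have hXC : (X : Set G) * (C : Set G) = Set.univ :=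
      Set.eq_univ_of_univ_subset (hset ▸ Set.mul_subset_mul_right (SetLike.coe_subset_coe.2 le_sup_left))
    have h := Factor.card_mul_set X C
    rw [hXC, Nat.card_univ] at h
    have h1 := relIndex_mul_relIndex ⊥ (X ⊓ C) C bot_le inf_le_right
    rw [relIndex_bot_left, relIndex_bot_left] at h1
    have h2 : X.index = (X ⊓ C).relIndex C := by
      refine Nat.eq_of_mul_eq_mul_left (Nat.mul_pos (Nat.card_pos (α := ↥(X ⊓ C))) (Nat.card_pos (α := X))) ?_
      calc Nat.card ↥(X ⊓ C) * Nat.card X * X.index = Nat.card ↥(X ⊓ C) * Nat.card G := by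
            rw [mul_assoc, X.card_mul_index]
        _ = Nat.card X * Nat.card C := by rw [mul_comm, h]
        _ = Nat.card X * (Nat.card ↥(X ⊓ C) * (X ⊓ C).relIndex C) := by rw [h1]
        _ = _ := by ring
    rw [h2] at hd
    have hle : T' ≤ X ⊓ C := le_inf le_sup_right hTC
    refine T.not_dvd_index (hd.trans ((relIndex_dvd_of_le_left C hle).trans ?_))
    rw [relIndex, hT', subgroupOf, comap_map_eq_self_of_injective (subtype_injective _)]
  have hPX : ¬ p ∣ ((P : Subgroup X).map X.subtype).index := by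
    rw [index_map_subtype]
    exact fun hd => ((Fact.out : p.Prime).dvd_mul.1 hd).elim P.not_dvd_index hidx
  obtain ⟨Q, hQ⟩ := (P.isPGroup'.map X.subtype).exists_le_sylow
  refine ⟨Q, ?_⟩
  have : (P : Subgroup X).map X.subtype = Q := by
    obtain ⟨k, hk⟩ := IsPGroup.iff_card.1 (Q.isPGroup' : IsPGroup p (Q : Subgroup G))
    refine le_antisymm hQ (relIndex_eq_one.1 ?_)
    obtain ⟨j, -, hj⟩ := (Nat.dvd_prime_pow (Fact.out : p.Prime)).1
      (hk ▸ relIndex_dvd_card _ _ : ((P : Subgroup X).map X.subtype).relIndex Q ∣ p ^ k)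
    rcases j with _ | j
    · simpa using hj
    · refine absurd (dvd_trans ?_ (Dvd.intro _ (relIndex_mul_index hQ))) hPX
      rw [hj]; exact dvd_pow_self p j.succ_ne_zero
  rw [← this]
  exact hP (mem_zpowers z)

theorem isolated_restrict (hz : Cfsg.IsIsolatedInvolution z) {H : Subgroup G} (hzH : z ∈ H) :
    Cfsg.IsIsolatedInvolution (⟨z, hzH⟩ : H) :=
  ⟨by rw [← Subgroup.orderOf_coe]; exact hz.1, fun g hg => Subtype.ext
    (hz.2 g (congrArg Subtype.val hg.eq :))⟩

/-- A maximal `z`-invariant `p`-subgroup is a Sylow subgroup. -/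
theorem maximal_invariant_isSylow (hz : Cfsg.IsIsolatedInvolution z) {p : ℕ} [Fact p.Prime]
    (Q : Subgroup G) (hQ : IsPGroup p Q) (hzQ : z ∈ normalizer (Q : Set G))
    (hmax : ∀ R : Subgroup G, IsPGroup p R → z ∈ normalizer (R : Set G) → Q ≤ R → R = Q) :
    ∃ P : Sylow p G, (P : Subgroup G) = Q := by
  obtain ⟨P, hQP⟩ := hQ.exists_le_sylow
  refine ⟨P, ?_⟩
  by_contra hne
  by_cases hp : p = 2
  · subst hp
    have hzmem : z ∈ Q := by
      have hn : zpowers z ≤ normalizer (Q : Set G) := zpowers_le.2 hzQ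
      have hzp : IsPGroup 2 (zpowers z) := IsPGroup.of_card (n := 1) (by rw [Nat.card_zpowers, hz.1, pow_one])
      have h := hmax (zpowers z ⊔ Q) (hzp.to_sup_of_normal_right' hQ hn)
        (le_normalizer (mem_sup_left (mem_zpowers z))) le_sup_right
      exact h ▸ mem_sup_left (mem_zpowers z)
    exact hne (hmax P P.isPGroup' (le_normalizer (hQP hzmem)) hQP)
  · have hlt : Q < (P : Subgroup G) ⊓ normalizer (Q : Set G) :=
      Fusion.lt_inf_normalizer P.isPGroup' (lt_of_le_of_ne hQP (Ne.symm hne))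
    set N := normalizer (Q : Set G) with hN
    obtain ⟨T, hT⟩ := exists_invariant_sylow (isolated_restrict hz (H := N) hzQ) hp
    set T' := (T : Subgroup N).map N.subtype with hT'
    have hT'p : IsPGroup p T' := T.isPGroup'.map _
    have hQT : Q ≤ T' := by
      have hQn : (Q.subgroupOf N).Normal := by
        refine (normal_subgroupOf_iff_le_normalizer le_normalizer).2 le_rfl
      have hq : Q.subgroupOf N ≤ (T : Subgroup N) := by
        haveI := hQn
        exact (Solvable.le_pCore p hQn (hQ.comap_of_injective N.subtype N.subtype_injective)).trans (Fitting.pCore_le_sylow T)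
      have h := hq
      rw [← map_subgroupOf_eq_of_le (le_normalizer : Q ≤ N)]
      exact map_mono h
    have hzT : z ∈ normalizer (T' : Set G) := by
      refine mem_normalizer_iff_map_conj_eq.2 ?_
      rw [hT', map_map]
      show map (N.subtype.comp (MulAut.conj (⟨z, hzQ⟩ : N)).toMonoidHom) (T : Subgroup N) = _
      rw [← map_map]
      exact congrArg (Subgroup.map N.subtype) (mem_normalizer_iff_map_conj_eq.1 hT)
    have hTQ := hmax T' hT'p hzT hQT
    obtain ⟨T₂, hT₂⟩ := ((P.isPGroup'.to_le inf_le_left).comap_of_injective N.subtype N.subtype_injective :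
      IsPGroup p (((P : Subgroup G) ⊓ N).subgroupOf N)).exists_le_sylow
    have hc : Nat.card ↥((P : Subgroup G) ⊓ N) ≤ Nat.card T' := by
      rw [hT', card_map_of_injective N.subtype_injective, T.card_eq_multiplicity, ← T₂.card_eq_multiplicity,
        ← Nat.card_congr (subgroupOfEquivOfLe (inf_le_right : (P : Subgroup G) ⊓ N ≤ N)).toEquiv]
      exact Subgroup.card_le_of_le hT₂
    rw [hTQ] at hc
    exact absurd (Solvable.eq_of_le_of_card_le hlt.le hc) hlt.ne

/-- A `z`-invariant Sylow subgroup meets `C(z)` in a Sylow subgroup of it. -/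
theorem inf_centralizer_sylow (hz : Cfsg.IsIsolatedInvolution z) {p : ℕ} [Fact p.Prime]
    (P : Sylow p G) (hzP : z ∈ normalizer ((P : Subgroup G) : Set G)) :
    ¬ p ∣ ((P : Subgroup G) ⊓ centralizer ({z} : Set G)).relIndex (centralizer ({z} : Set G)) := by
  set C := centralizer ({z} : Set G) with hC
  let T : Sylow p C := default
  set T' := (T : Subgroup C).map C.subtype with hT'
  have hTC : T' ≤ C := map_subtype_le _
  have hzT : z ∈ normalizer (T' : Set G) :=
    centralizer_le_normalizer _ (mem_centralizer_iff.2 fun t ht => mem_centralizer_singleton_iff.1 (hTC ht))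
  obtain ⟨Q, hTQ, ⟨hQp, hzQ⟩, hmax⟩ := exists_maximal_ge_of_wellFoundedGT
    (fun R : Subgroup G => IsPGroup p R ∧ z ∈ normalizer (R : Set G)) T' ⟨T.isPGroup'.map _, hzT⟩
  obtain ⟨P', hP'⟩ := maximal_invariant_isSylow hz Q hQp hzQ fun R hR hzR hQR =>
    le_antisymm (hmax ⟨hR, hzR⟩ hQR) hQR
  obtain ⟨g, hg⟩ := MulAction.exists_smul_eq G P P'
  have hg' : (P : Subgroup G).map (MulAut.conj g).toMonoidHom = Q := by
    rw [← hP', ← hg]; rfl
  -- `z` and `g⁻¹ z g` normalize `P`
  have hy : g⁻¹ * z * g⁻¹⁻¹ ∈ normalizer ((P : Subgroup G) : Set G) := by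
    refine mem_normalizer_iff.2 fun x => ?_
    have h1 : ∀ y, y ∈ (P : Subgroup G) ↔ g * y * g⁻¹ ∈ Q := fun y => by
      rw [← hg']
      exact (mem_map_iff_mem (f := (MulAut.conj g).toMonoidHom) (MulAut.conj g).injective).symm
    rw [h1, h1, show g * (g⁻¹ * z * g⁻¹⁻¹ * x * (g⁻¹ * z * g⁻¹⁻¹)⁻¹) * g⁻¹ = z * (g * x * g⁻¹) * z⁻¹ by group]
    exact mem_normalizer_iff.1 hzQ _
  obtain ⟨m, hm⟩ := Invol.isolated_exists_conj hz g⁻¹
  set d := (z * (g⁻¹ * z * g⁻¹⁻¹)) ^ m with hd
  have hdN : d ∈ normalizer ((P : Subgroup G) : Set G) := pow_mem (mul_mem hzP hy) m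
  have hgd : g * d ∈ C := by
    refine mem_centralizer_singleton_iff.2 (mul_inv_eq_iff_eq_mul.1 ?_)
    rw [show g * d * z * (g * d)⁻¹ = g * (d * z * d⁻¹) * g⁻¹ by group, hm]
    group
  intro hdvd
  refine T.not_dvd_index ?_
  have hidx : (T : Subgroup C).index = T'.relIndex C := by
    rw [hT', relIndex, subgroupOf, comap_map_eq_self_of_injective (subtype_injective _)]
  have hmap : ((P : Subgroup G) ⊓ C).map (MulAut.conj (g * d)).toMonoidHom = Q ⊓ C := by
    have hPd : (P : Subgroup G).map (MulAut.conj (g * d)).toMonoidHom = Q := by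
      rw [map_mul]
      show map ((MulAut.conj g).toMonoidHom.comp (MulAut.conj d).toMonoidHom) (P : Subgroup G) = Q
      rw [← map_map, show map (MulAut.conj d).toMonoidHom (P : Subgroup G) = (P : Subgroup G) from
        mem_normalizer_iff_map_conj_eq.1 hdN, hg']
    have hCd : C.map (MulAut.conj (g * d)).toMonoidHom = C := mem_normalizer_iff_map_conj_eq.1 (le_normalizer hgd)
    rw [map_inf _ _ _ (MulAut.conj (g * d)).injective, hPd, hCd]
  have hrel : ((P : Subgroup G) ⊓ C).relIndex C = (Q ⊓ C).relIndex C := by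
    have h0 := relIndex_map_map_of_injective (f := (MulAut.conj (g * d)).toMonoidHom)
      ((P : Subgroup G) ⊓ C) C (MulAut.conj (g * d)).injective
    have hCd : C.map (MulAut.conj (g * d)).toMonoidHom = C :=
      mem_normalizer_iff_map_conj_eq.1 (le_normalizer hgd)
    rw [hmap, hCd] at h0
    exact h0.symm
  rw [hrel] at hdvd
  rw [hidx]
  exact hdvd.trans (relIndex_dvd_of_le_left C (le_inf hTQ hTC))

/-- A strongly closed 2-subgroup centralizes every subgroup without odd core which it normalizes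
and meets trivially. -/
theorem stronglyClosed_centralizes (S : Sylow 2 G) {A : Subgroup G}
    (hA : Cfsg.IsStronglyClosed A (S : Subgroup G)) {H : Subgroup G}
    (hAH : A ≤ normalizer (H : Set G)) (hO : Cfsg.oddCore H = ⊥) (hdisj : A ⊓ H = ⊥) :
    A ≤ centralizer (H : Set G) := by
  classical
  haveI : Fact (Nat.Prime 2) := ⟨Nat.prime_two⟩
  by_contra hcon
  set B := A ⊓ centralizer (H : Set G) with hB
  have hBA : B ≤ A := inf_le_left
  have hAp : IsPGroup 2 A := S.isPGroup'.to_le hA.1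
  have hconj : ∀ a ∈ A, ∀ c ∈ centralizer (H : Set G), a * c * a⁻¹ ∈ centralizer (H : Set G) := by
    intro a ha c hc
    refine mem_centralizer_iff.2 fun h hh => ?_
    have h1 := mem_centralizer_iff.1 hc _ ((mem_normalizer_iff.1 (hAH (inv_mem ha)) h).1 hh)
    calc h * (a * c * a⁻¹) = a * (a⁻¹ * h * a⁻¹⁻¹ * c) * a⁻¹ := by group
      _ = a * (c * (a⁻¹ * h * a⁻¹⁻¹)) * a⁻¹ := by rw [h1]
      _ = _ := by group
  have hAB : A ≤ normalizer (B : Set G) :=
    (le_inf le_normalizer (fun a ha => mem_normalizer_iff.2 fun c => ⟨hconj a ha c, fun hc => by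
      have h1 := hconj _ (inv_mem ha) _ hc
      rwa [show a⁻¹ * (a * c * a⁻¹) * a⁻¹⁻¹ = c by group] at h1⟩)).trans inf_normalizer_le_normalizer_inf
  set L := H ⊔ A with hL
  have hHB : H ≤ normalizer (B : Set G) := fun h hh => centralizer_le_normalizer _ (mem_centralizer_iff.2
    fun b hb => (mem_centralizer_iff.1 (hB ▸ hb : b ∈ A ⊓ centralizer (H : Set G)).2 h hh).symm)
  have hBL : B ≤ L := hBA.trans le_sup_right
  haveI hBn : (B.subgroupOf L).Normal := (normal_subgroupOf_iff_le_normalizer hBL).2 (sup_le hHB hAB)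
  -- an element of `A` of order two and central modulo `B`
  obtain ⟨a, haA, haB, ha2, haZ⟩ : ∃ a ∈ A, a ∉ B ∧ a * a ∈ B ∧ ∀ c ∈ A, c * a * c⁻¹ * a⁻¹ ∈ B := by
    haveI hn : (B.subgroupOf A).Normal := (normal_subgroupOf_iff_le_normalizer hBA).2 hAB
    haveI : Nontrivial (A ⧸ B.subgroupOf A) := QuotientGroup.nontrivial_iff.2 fun h =>
      hcon ((subgroupOf_eq_top.1 h).trans inf_le_right)
    have hQ : IsPGroup 2 (A ⧸ B.subgroupOf A) := hAp.to_quotient _
    haveI := hQ.center_nontrivial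
    obtain ⟨k, hk⟩ := IsPGroup.iff_card.1 (hQ.to_subgroup (center (A ⧸ B.subgroupOf A)))
    obtain ⟨x, hx⟩ := exists_prime_orderOf_dvd_card' (G := center (A ⧸ B.subgroupOf A)) 2 (by
      rw [hk]
      rcases k with _ | k
      · exact absurd (Finite.one_lt_card (α := center (A ⧸ B.subgroupOf A))) (by rw [hk]; simp)
      · exact dvd_pow_self 2 k.succ_ne_zero)
    obtain ⟨a, ha⟩ := QuotientGroup.mk'_surjective (B.subgroupOf A) x.1
    refine ⟨a, a.2, fun h => ?_, ?_, fun c hc => ?_⟩
    · have h1 : x = 1 := Subtype.ext (ha ▸ (QuotientGroup.eq_one_iff a).2 h)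
      rw [h1, orderOf_one] at hx; omega
    · refine (QuotientGroup.eq_one_iff (N := B.subgroupOf A) (a * a)).1 ?_
      show QuotientGroup.mk' (B.subgroupOf A) (a * a) = 1
      rw [map_mul, ha, ← Subgroup.coe_mul, ← sq, ← hx, pow_orderOf_eq_one]; rfl
    · refine (QuotientGroup.eq_one_iff (N := B.subgroupOf A) ((⟨c, hc⟩ : A) * a * ⟨c, hc⟩⁻¹ * a⁻¹)).1 ?_
      show QuotientGroup.mk' (B.subgroupOf A) _ = 1
      simp only [map_mul, map_inv, ha]
      rw [mem_center_iff.1 x.2 _]
      group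
  -- a Sylow subgroup of `L` containing `A`
  obtain ⟨Q, hQ⟩ := (hAp.comap_of_injective L.subtype L.subtype_injective :
    IsPGroup 2 (A.subgroupOf L)).exists_le_sylow
  obtain ⟨R, hR⟩ := (Q.isPGroup'.map L.subtype).exists_le_sylow
  obtain ⟨y, hy⟩ := MulAction.exists_smul_eq G R S
  have hAQ : ∀ c ∈ A, c ∈ (R : Subgroup G) := fun c hc =>
    hR ⟨⟨c, (le_sup_right : A ≤ L) hc⟩, hQ hc, rfl⟩
  have hyS : ∀ r ∈ (R : Subgroup G), y * r * y⁻¹ ∈ (S : Subgroup G) := fun r hr => by
    rw [← hy]; exact ⟨r, hr, rfl⟩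
  have hAy : ∀ r ∈ (R : Subgroup G), y * r * y⁻¹ ∈ A → r ∈ A := by
    intro r hr hr'
    have hmap : A.map (MulAut.conj y).toMonoidHom = A := by
      refine Solvable.eq_of_le_of_card_le ?_ (card_map_of_injective (f := (MulAut.conj y).toMonoidHom) (MulAut.conj y).injective).ge
      rintro _ ⟨c, hc, rfl⟩
      exact hA.2 c hc y (hyS c (hAQ c hc))
    rw [← hmap] at hr'
    obtain ⟨c, hc, e⟩ := hr'
    rw [← (MulAut.conj y).injective e]
    exact hc
  -- `a` is isolated modulo `B`
  set f := QuotientGroup.mk' (B.subgroupOf L)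
  have hf : Function.Surjective f := QuotientGroup.mk'_surjective _
  set a' : L := ⟨a, (le_sup_right : A ≤ L) haA⟩
  have hfa : orderOf (f a') = 2 := by
    refine orderOf_eq_prime ?_ fun h => haB ?_
    · rw [← map_pow]; exact (QuotientGroup.eq_one_iff _).2 (by rw [mem_subgroupOf, Subgroup.coe_pow, sq]; exact ha2)
    · exact (QuotientGroup.eq_one_iff a').1 h
  have hiso : Cfsg.IsIsolatedInvolution (f a') := by
    refine Invol.isolated_of_sylow (Q.mapSurjective hf) hfa fun g hg => ?_
    obtain ⟨g, rfl⟩ := hf g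
    change f g * f a' * (f g)⁻¹ ∈ ((Q.mapSurjective hf : Sylow 2 _) : Subgroup _) at hg
    rw [Sylow.coe_mapSurjective, ← map_inv, ← map_mul, ← map_mul] at hg
    have hmem : g * a' * g⁻¹ ∈ (Q : Subgroup L) := by
      have h : g * a' * g⁻¹ ∈ (Q : Subgroup L) ⊔ f.ker := (comap_map_eq f (Q : Subgroup L)) ▸ hg
      rwa [sup_eq_left.2 ((QuotientGroup.ker_mk' _).le.trans fun b hb => hQ (hBA hb))] at h
    have hgA : (g : G) * a * (g : G)⁻¹ ∈ A := by
      have hr : (g : G) * a * (g : G)⁻¹ ∈ (R : Subgroup G) := hR ⟨_, hmem, rfl⟩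
      refine hAy _ hr ?_
      have h := hA.2 a haA (y * (g : G)) ?_
      · rwa [show y * (g : G) * a * (y * (g : G))⁻¹ = y * ((g : G) * a * (g : G)⁻¹) * y⁻¹ by group] at h
      · rw [show y * (g : G) * a * (y * (g : G))⁻¹ = y * ((g : G) * a * (g : G)⁻¹) * y⁻¹ by group]
        exact hyS _ hr
    rw [← map_inv, ← map_mul, ← map_mul]
    refine QuotientGroup.eq.2 ?_
    show (((g * a' * g⁻¹)⁻¹ * a' : L) : G) ∈ B
    simp only [Subgroup.coe_mul, Subgroup.coe_inv]
    obtain ⟨h, hh, c, hc, hgeq⟩ := (Solvable.mem_sup_of_le_normalizer (A := A) (K := H) hAH).1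
      (show (g : G) ∈ A ⊔ H from sup_comm H A ▸ g.2)
    -- `g = h * c` with `h ∈ A` and `c ∈ H`
    rw [← hgeq] at hgA ⊢
    have hb : h * a * h⁻¹ * a⁻¹ ∈ B := haZ h hh
    have hcc : c * a * c⁻¹ * a⁻¹ = 1 := by
      have h1 : c * a * c⁻¹ * a⁻¹ ∈ A := by
        have h2 := A.mul_mem (A.mul_mem (inv_mem hh) hgA) hh
        rw [show h⁻¹ * (h * c * a * (h * c)⁻¹) * h = c * a * c⁻¹ by group] at h2
        exact mul_mem h2 (inv_mem haA)
      have h2 : c * a * c⁻¹ * a⁻¹ ∈ H := by
        rw [show c * a * c⁻¹ * a⁻¹ = c * (a * c⁻¹ * a⁻¹) by group]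
        exact mul_mem hc ((mem_normalizer_iff.1 (hAH haA) _).1 (inv_mem hc))
      exact mem_bot.1 (hdisj ▸ mem_inf.2 ⟨h1, h2⟩)
    rw [show (h * c * a * (h * c)⁻¹)⁻¹ * a = h * (c * a * c⁻¹ * a⁻¹ * a)⁻¹ * h⁻¹ * a by group, hcc, one_mul,
      show h * a⁻¹ * h⁻¹ * a = a⁻¹ * (h * a * h⁻¹ * a⁻¹)⁻¹ * a by group]
    simpa using (mem_normalizer_iff.1 (hAB (inv_mem haA)) _).1 (inv_mem hb)
  -- conclude
  obtain ⟨N, hN, hNodd, hNc⟩ := ZStar.zstar hiso
  refine haB ⟨haA, mem_centralizer_iff.2 fun h hh => ?_⟩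
  set g : H →* L ⧸ B.subgroupOf L := f.comp (inclusion le_sup_left)
  have hg : Function.Injective g := by
    rw [injective_iff_map_eq_one]
    intro x hx
    have h1 : ((inclusion (le_sup_left : H ≤ L) x : L) : G) ∈ B :=
      (QuotientGroup.eq_one_iff (N := B.subgroupOf L) (inclusion (le_sup_left : H ≤ L) x)).1 hx
    rw [coe_inclusion] at h1
    exact Subtype.ext (mem_bot.1 (hdisj ▸ mem_inf.2 ⟨hBA h1, x.2⟩))
  haveI := hN
  have hcard : Odd (Nat.card (N.comap g)) := by
    refine hNodd.of_dvd_nat ?_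
    rw [← card_map_of_injective hg]
    exact card_dvd_of_le (map_comap_le _ _)
  have hbot : N.comap g = ⊥ := le_bot_iff.1
    (hO ▸ Solvable.le_pPrimeCore 2 (Subgroup.Normal.comap hN g) (Nat.coprime_two_right.mpr hcard))
  have hmem : a * h * a⁻¹ * h⁻¹ ∈ H :=
    mul_mem ((mem_normalizer_iff.1 (hAH haA) h).1 hh) (inv_mem hh)
  have hk : (⟨_, hmem⟩ : H) ∈ N.comap g := by
    rw [mem_comap]
    have := hNc (f ⟨h, (le_sup_left : H ≤ L) hh⟩)
    rw [← map_inv, ← map_inv, ← map_mul, ← map_mul, ← map_mul] at this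
    exact this
  rw [hbot, mem_bot] at hk
  have h3 : a * h * a⁻¹ = h := mul_inv_eq_one.1 (congrArg Subtype.val hk :)
  exact (mul_inv_eq_iff_eq_mul.1 h3).symm

/-- A quasisimple group of even order and 2-rank one has a central involution and generalized
quaternion Sylow 2-subgroups. -/
theorem quasisimple_rank_one {X : Type*} [Group X] [Finite X] (hX : Cfsg.IsQuasisimple X)
    (heven : Even (Nat.card X)) (hrk : Cfsg.PRankLE 2 1 X) :
    ∃ z : X, orderOf z = 2 ∧ z ∈ center X ∧
      ∀ S : Sylow 2 X, ∃ n : ℕ, Nonempty ((S : Subgroup X) ≃* QuaternionGroup (2 ^ (n + 1))) := by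
  haveI : Fact (Nat.Prime 2) := ⟨Nat.prime_two⟩
  have hnk : ∀ E : Subgroup X, ¬ IsKleinFour E := fun E hE => by
    have h := hrk E (IsKleinFour.isMulCommutative (G := E)) fun e he => by
      rw [sq]; exact congrArg Subtype.val (IsKleinFour.mul_self (⟨e, he⟩ : E))
    rw [hE.card_four] at h
    omega
  have hall : ∀ v : X, orderOf v = 2 → v ∈ center X := by
    intro v hv
    obtain ⟨N, hN, hodd, hc⟩ := ZStar.zstar (ZStar.isolated_of_commuting
      (fun _ _ h1 h2 h3 => ZStar.commuting_eq_of_no_klein hnk h1 h2 h3) hv)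
    have hNZ : N ≤ center X := (Comp.quasisimple_normal hX hN).resolve_left fun h => by
      rw [h, card_top] at hodd
      exact Nat.not_even_iff_odd.2 hodd heven
    have hcen : ∀ x, v * x * v⁻¹ * x⁻¹ ∈ center X := fun x => hNZ (hc x)
    let f : X →* center X := MonoidHom.mk' (fun x => ⟨v * x * v⁻¹ * x⁻¹, hcen x⟩) fun a b => Subtype.ext (by
      show v * (a * b) * v⁻¹ * (a * b)⁻¹ = v * a * v⁻¹ * a⁻¹ * (v * b * v⁻¹ * b⁻¹)
      calc v * (a * b) * v⁻¹ * (a * b)⁻¹ = v * a * v⁻¹ * (v * b * v⁻¹ * b⁻¹) * a⁻¹ := by group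
        _ = v * a * v⁻¹ * (a⁻¹ * (v * b * v⁻¹ * b⁻¹)) := by
            rw [mem_center_iff.1 (hcen b) a⁻¹]; group
        _ = _ := by group)
    have hf : commutator X ≤ f.ker := by
      rw [_root_.commutator_def, commutator_le]
      intro a _ b _
      rw [MonoidHom.mem_ker, map_commutatorElement]
      exact commutatorElement_eq_one_iff_mul_comm.2
        (Subtype.ext (mem_center_iff.1 (f b).2 _))
    refine mem_center_iff.2 fun x => ?_
    have hx : x ∈ f.ker := hf (by rw [Group.IsPerfect.commutator_eq_top (self := hX.1)]; exact mem_top x)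
    exact (mul_inv_eq_iff_eq_mul.1 (mul_inv_eq_one.1 (congrArg Subtype.val (MonoidHom.mem_ker.1 hx) :))).symm
  obtain ⟨z, hz⟩ := exists_prime_orderOf_dvd_card' (G := X) 2 (even_iff_two_dvd.1 heven)
  refine ⟨z, hz, hall z hz, fun S => ?_⟩
  have hu : ∀ a b : (S : Subgroup X), orderOf a = 2 → orderOf b = 2 → b ∈ zpowers a := by
    intro a b ha hb
    rw [← Subgroup.orderOf_coe] at ha hb
    rw [show b = a from Subtype.ext (ZStar.commuting_eq_of_no_klein hnk hb ha
      (mem_center_iff.1 (hall _ ha) _))]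
    exact mem_zpowers a
  rcases UniqueInvol.cyclic_or_quaternion S.isPGroup' hu with hcyc | ⟨-, n, hn, e⟩
  · exfalso
    haveI := hcyc
    have hp : (Nat.card X).minFac = 2 :=
      (Nat.minFac_eq_two_iff _).2 (even_iff_two_dvd.1 heven)
    have hle := IsCyclic.normalizer_le_centralizer hp hcyc
    have hmul := (MonoidHom.ker_transferSylow_isComplement' S hle).card_mul_card
    have hker : (MonoidHom.transferSylow S hle).ker = ⊤ := by
      refine eq_top_iff.2 ?_
      haveI : IsMulCommutative (S : Subgroup X) := hcyc.isMulCommutative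
      refine (Group.IsPerfect.commutator_eq_top (self := hX.1)).ge.trans ?_
      rw [_root_.commutator_def, commutator_le]
      intro a _ b _
      rw [MonoidHom.mem_ker, map_commutatorElement]
      exact commutatorElement_eq_one_iff_mul_comm.2 (((inferInstance : IsMulCommutative (S : Subgroup X)).is_comm.comm _ _))
    rw [hker, card_top] at hmul
    have h2 : 2 ∣ Nat.card (S : Subgroup X) := S.dvd_card_of_dvd_card (even_iff_two_dvd.1 heven)
    have hXpos := Nat.card_pos (α := X)
    have : Nat.card (S : Subgroup X) = 1 := by nlinarith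
    omega
  · exact ⟨n - 1, by rwa [show n - 1 + 1 = n by omega]⟩

/-- A terminal component of 2-rank one yields a classical involution. -/
theorem exists_classical {x : G} (L : Subgroup G)
    (hLx : L ≤ centralizer ({x} : Set G))
    (hL : Cfsg.IsComponent (L.subgroupOf (centralizer ({x} : Set G))))
    (heven : Even (Nat.card L)) (hrk : Cfsg.PRankLE 2 1 L)
    (hne : ∀ y : G, orderOf y = 2 → y ∈ centralizer (L : Set G) →
      L ≤ centralizer ({y} : Set G) ∧ Cfsg.IsComponent (L.subgroupOf (centralizer ({y} : Set G)))) :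
    ∃ t ∈ L, Cfsg.IsClassicalInvolution t := by
  obtain ⟨z, hz, hzc, hS⟩ := quasisimple_rank_one
    (Comp.isQuasisimple_of_equiv (subgroupOfEquivOfLe hLx) hL.2) heven hrk
  have hzo : orderOf (z : G) = 2 := by rw [Subgroup.orderOf_coe, hz]
  obtain ⟨hLt, hLc⟩ := hne z hzo (mem_centralizer_iff.2 fun l hl =>
    congrArg Subtype.val (mem_center_iff.1 hzc ⟨l, hl⟩))
  obtain ⟨n, hn⟩ := hS default
  exact ⟨z, z.2, hzo, L, hLt, z.2, hLc.1, default, n, hn⟩

end CfsgLib.IsoApps
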