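import Mathlib

/-!
The Thompson transfer lemma.
-/

set_option autoImplicit false
set_option linter.unusedSectionVars false
set_option linter.deprecated false
set_option linter.style.haveILetI false

namespace CfsgLib.ThompsonTransfer

open Subgroup MulAction

variable {G : Type*} [Group G]

/-- The map onto `ZMod 2` given by a subgroup of index 2. -/
noncomputable def parity (H : Subgroup G) (hH : H.index = 2) : G →* Multiplicative (ZMod 2) := by
  classical
  exact
    { toFun := fun x => if x ∈ H then 1 else Multiplicative.ofAdd 1
      map_one' := by simp [H.one_mem]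
      map_mul' := fun x y => by
        have h := mul_mem_iff_of_index_two hH (a := x) (b := y)
        by_cases hx : x ∈ H <;> by_cases hy : y ∈ H <;> simp [h, hx, hy] <;> rfl }

theorem parity_apply_mem {H : Subgroup G} (hH : H.index = 2) {x : G} (hx : x ∈ H) :
    parity H hH x = 1 := by
  simp [parity, hx]

theorem parity_apply_not_mem {H : Subgroup G} (hH : H.index = 2) {x : G} (hx : x ∉ H) :
    parity H hH x = Multiplicative.ofAdd 1 := by
  simp [parity, hx]

/-- Thompson transfer: an involution outside a subgroup `Q` of index 2 in a subgroup `P` of odd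
index is conjugate into `Q`, or lies outside a normal subgroup of index 2. -/
theorem thompson_transfer [Finite G] (P Q : Subgroup G) (hP : Odd P.index) (hQi : Q.relIndex P = 2)
    {u : G} (hu : u * u = 1) :
    (∃ M : Subgroup G, M.Normal ∧ M.index = 2 ∧ u ∉ M) ∨ ∃ g : G, g * u * g⁻¹ ∈ Q := by
  classical
  refine or_iff_not_imp_right.2 fun hcon => ?_
  push Not at hcon
  set φ := parity (Q.subgroupOf P) hQi with hφ
  haveI : P.FiniteIndex := inferInstance
  set a : Multiplicative (ZMod 2) := Multiplicative.ofAdd 1 with ha
  have ha1 : a ≠ 1 := by decide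
  have ha2 : a * a = 1 := by decide
  have key : MonoidHom.transfer φ u = a := by
    haveI : Fintype (Quotient (orbitRel (zpowers u) (G ⧸ P))) := Fintype.ofFinite _
    rw [MonoidHom.transfer_eq_prod_quotient_orbitRel_zpowers_quot φ u]
    calc ∏ q : Quotient (orbitRel (zpowers u) (G ⧸ P)), _
        = ∏ q : Quotient (orbitRel (zpowers u) (G ⧸ P)), a ^ Function.minimalPeriod (u • ·) q.out := by
          refine Finset.prod_congr rfl fun q _ => ?_
          have hd : Function.minimalPeriod (u • ·) q.out ∣ 2 := by
            refine Function.IsPeriodicPt.minimalPeriod_dvd ?_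
            show (u • ·)^[2] q.out = q.out
            rw [Function.iterate_succ_apply', Function.iterate_one, smul_smul, hu, one_smul]
          rcases (Nat.dvd_prime Nat.prime_two).1 hd with e | e
          · refine (parity_apply_not_mem hQi fun hmem => ?_).trans (by rw [e, pow_one])
            rw [mem_subgroupOf] at hmem
            simp only [e, pow_one] at hmem
            refine hcon (q.out.out)⁻¹ ?_
            rwa [inv_inv]
          · refine (parity_apply_mem hQi ?_).trans (by rw [e, sq a, ha2])
            rw [mem_subgroupOf]
            simp [e, sq, hu]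
      _ = a ^ P.index := by rw [Finset.prod_pow_eq_pow_sum, ← index_eq_sum_minimalPeriod P u]
      _ = a := by
          obtain ⟨k, hk⟩ := hP
          rw [hk, pow_succ, pow_mul, sq, ha2, one_pow, one_mul]
  refine ⟨(MonoidHom.transfer φ).ker, inferInstance, ?_, fun h => ha1 (key ▸ MonoidHom.mem_ker.1 h)⟩
  rw [index_ker]
  have h2 : Nat.card (MonoidHom.transfer φ).range ∣ 2 := by
    have h := (MonoidHom.transfer φ).range.card_subgroup_dvd_card
    rwa [show Nat.card (Multiplicative (ZMod 2)) = 2 by simp] at h
  refine ((Nat.dvd_prime Nat.prime_two).1 h2).resolve_left fun h => ha1 ?_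
  have h3 : a ∈ (MonoidHom.transfer φ).range := ⟨u, key⟩
  rw [card_eq_one.1 h, mem_bot] at h3
  exact h3

end CfsgLib.ThompsonTransfer
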