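import Cfsg.Prelude.Def_Involutions
import Cfsg.Agent.Invol.Dihedral
import Mathlib.GroupTheory.Sylow
import Mathlib.Algebra.Group.Subgroup.Pointwise

/-!
Subgroups with odd core containing the centralizers of their involutions.
-/

set_option autoImplicit false
set_option linter.style.haveILetI false

namespace CfsgLib.CoreOdd

open Subgroup

variable {G : Type*} [Group G] [Finite G] {M : Subgroup G}

theorem isConj_all (hM : Even (Nat.card M)) (hC : ∀ i ∈ M, orderOf i = 2 → centralizer ({i} : Set G) ≤ M)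
    (hcore : Odd (Nat.card M.normalCore)) (x y : G) (hx : orderOf x = 2) (hy : orderOf y = 2) :
    IsConj x y := by
  haveI : Fact (Nat.Prime 2) := ⟨Nat.prime_two⟩
  obtain ⟨x₀, hx₀⟩ := exists_prime_orderOf_dvd_card' (G := M) 2 hM.two_dvd
  rw [← orderOf_coe] at hx₀
  suffices ∀ z : G, orderOf z = 2 → IsConj (x₀ : G) z from (this x hx).symm.trans (this y hy)
  intro z hz
  by_contra hne
  have hall : ∀ g : G, g * z * g⁻¹ ∈ M := by
    intro g
    obtain ⟨u, hu, hux, huz⟩ := Invol.exists_commuting_invol hx₀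
      (show orderOf (g * z * g⁻¹) = 2 by rw [Invol.orderOf_conj_eq, hz])
      (fun h => hne (h.trans (isConj_iff.2 ⟨g⁻¹, by group⟩)))
    have huM : u ∈ M := hC _ x₀.2 hx₀ (mem_centralizer_singleton_iff.2 hux.eq)
    exact hC u huM hu (mem_centralizer_singleton_iff.2 huz.symm.eq)
  have hzc : z ∈ M.normalCore := fun g => hall g
  have h1 : 2 ∣ Nat.card M.normalCore := hz ▸ Subgroup.orderOf_dvd_natCard _ hzc
  rw [Nat.odd_iff] at hcore
  omega

theorem stronglyEmbedded (hM : Even (Nat.card M))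
    (hC : ∀ i ∈ M, orderOf i = 2 → centralizer ({i} : Set G) ≤ M)
    (hcore : Odd (Nat.card M.normalCore)) (X : Sylow 2 M)
    (hN : normalizer (((X : Subgroup M).map M.subtype : Subgroup G) : Set G) ≤ M) :
    Cfsg.IsStronglyEmbedded M := by
  haveI : Fact (Nat.Prime 2) := ⟨Nat.prime_two⟩
  refine ⟨?_, hM, ?_⟩
  · rintro rfl
    have h1 : (⊤ : Subgroup G).normalCore = ⊤ := eq_top_iff.2 fun x _ g => mem_top _
    rw [h1] at hcore
    rw [Nat.even_iff] at hM
    rw [Nat.odd_iff] at hcore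
    omega
  have hNall : ∀ Y : Sylow 2 M, ∀ w : G,
      (∀ a : M, a ∈ (Y : Subgroup M) → w * (a : G) * w⁻¹ ∈ (Y : Subgroup M).map M.subtype) → w ∈ M := by
    intro Y w hw
    obtain ⟨m, rfl⟩ := MulAction.exists_smul_eq M X Y
    have key : (m : G)⁻¹ * w * (m : G) ∈ normalizer (((X : Subgroup M).map M.subtype : Subgroup G) : Set G) := by
      rw [mem_normalizer_iff_map_conj_eq]
      refine eq_of_le_of_card_ge ?_ (Nat.card_congr (equivMapOfInjective _ (MulAut.conj ((m : G)⁻¹ * w * (m : G))).toMonoidHom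
        (MulAut.conj _).injective).toEquiv).le
      rintro _ ⟨b, hb, rfl⟩
      obtain ⟨a, ha, rfl⟩ := mem_map.1 hb
      have hma : m * a * m⁻¹ ∈ ((m • X : Sylow 2 M) : Subgroup M) := by
        rw [Sylow.coe_subgroup_smul]
        exact Subgroup.smul_mem_pointwise_smul a (MulAut.conj m) _ ha
      obtain ⟨c, hc, hce⟩ := mem_map.1 (hw _ hma)
      rw [Sylow.coe_subgroup_smul, Subgroup.mem_pointwise_smul_iff_inv_smul_mem] at hc
      refine mem_map.2 ⟨_, hc, ?_⟩
      have hce' : (c : G) = w * ((m : G) * (a : G) * (m : G)⁻¹) * w⁻¹ := hce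
      simp [hce', mul_assoc]
    have := mul_mem (mul_mem m.2 (hN key)) (inv_mem m.2)
    simpa [mul_assoc] using this
  intro g hg
  by_contra hodd
  rw [Nat.not_odd_iff_even] at hodd
  set D := M ⊓ M.map (MulAut.conj g).toMonoidHom with hD
  obtain ⟨j, hj⟩ := exists_prime_orderOf_dvd_card' (G := D) 2 hodd.two_dvd
  rw [← orderOf_coe] at hj
  have hC' : ∀ i ∈ D, orderOf i = 2 → centralizer ({i} : Set G) ≤ D := by
    intro i hi ho c hc
    refine ⟨hC i hi.1 ho hc, ?_⟩
    obtain ⟨a, ha, he⟩ := mem_map.1 hi.2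
    change g * a * g⁻¹ = i at he
    have hao : orderOf a = 2 := by rw [← ho, ← he, Invol.orderOf_conj_eq]
    refine mem_map.2 ⟨g⁻¹ * c * g, hC a ha hao (mem_centralizer_singleton_iff.2 ?_), ?_⟩
    · have hci := mem_centralizer_singleton_iff.1 hc
      rw [← he] at hci
      calc g⁻¹ * c * g * a = g⁻¹ * (c * (g * a * g⁻¹)) * g := by group
        _ = g⁻¹ * ((g * a * g⁻¹) * c) * g := by rw [hci]
        _ = _ := by group
    · show g * (g⁻¹ * c * g) * g⁻¹ = c
      group
  have hjp : IsPGroup 2 (zpowers (⟨j, j.2.1⟩ : M)) := IsPGroup.of_card (n := 1) (by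
    rw [Nat.card_zpowers, ← orderOf_coe, pow_one]; exact hj)
  obtain ⟨Y, hY⟩ := hjp.exists_le_sylow
  haveI : Nontrivial (Y : Subgroup M) := by
    refine ⟨⟨⟨_, hY (mem_zpowers _)⟩, 1, fun e => ?_⟩⟩
    have h : (j : G) = 1 := congrArg (fun u : (Y : Subgroup M) => ((u : M) : G)) e
    rw [h, orderOf_one] at hj
    omega
  haveI := Y.2.center_nontrivial
  obtain ⟨z, hz⟩ := exists_prime_orderOf_dvd_card' (G := center (Y : Subgroup M)) 2 (by
    obtain ⟨k, hk⟩ := IsPGroup.iff_card.1 (Y.2.to_subgroup (center (Y : Subgroup M)))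
    rcases k with _ | k
    · rw [pow_zero] at hk
      have := Finite.one_lt_card (α := center (Y : Subgroup M))
      omega
    · exact hk ▸ dvd_pow_self 2 (Nat.succ_ne_zero k))
  have hzo : orderOf (((z.1 : M)) : G) = 2 := by rw [orderOf_coe, orderOf_coe, orderOf_coe, hz]
  have hzc : ∀ a : M, a ∈ (Y : Subgroup M) → (a : G) * ((z.1 : M) : G) = ((z.1 : M) : G) * a :=
    fun a ha => congrArg (fun u : (Y : Subgroup M) => ((u : M) : G))
      (mem_center_iff.1 z.2 ⟨a, ha⟩)
  have hzD : ((z.1 : M) : G) ∈ D :=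
    hC' j j.2 hj (mem_centralizer_singleton_iff.2 (hzc _ (hY (mem_zpowers _))).symm)
  have hYD : ∀ a : M, a ∈ (Y : Subgroup M) → (a : G) ∈ D := fun a ha =>
    hC' _ hzD hzo (mem_centralizer_singleton_iff.2 (hzc a ha))
  -- g⁻¹ Y g is also a Sylow subgroup of M
  let f : (Y : Subgroup M) →* M :=
    { toFun := fun a => ⟨g⁻¹ * (a : M) * g, by
        obtain ⟨b, hb, he⟩ := mem_map.1 (hYD a.1 a.2).2
        change g * b * g⁻¹ = _ at he
        rw [← he]
        convert hb using 1
        group⟩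
      map_one' := Subtype.ext (by simp)
      map_mul' := fun a b => Subtype.ext (by simp [mul_assoc]) }
  have hf : Function.Injective f := fun a b h => by
    have h' : g⁻¹ * ((a : M) : G) * g = g⁻¹ * ((b : M) : G) * g := congrArg Subtype.val h
    exact Subtype.ext (Subtype.ext (mul_left_cancel (mul_right_cancel h')))
  let Y' : Sylow 2 M := Sylow.ofCard f.range (by
    rw [← Nat.card_congr (MonoidHom.ofInjective hf).toEquiv]; exact Y.card_eq_multiplicity)
  obtain ⟨m, hm⟩ := MulAction.exists_smul_eq M Y Y'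
  apply hg
  have : g * (m : G) ∈ M := by
    refine hNall Y _ fun a ha => ?_
    have h1 : m * a * m⁻¹ ∈ ((m • Y : Sylow 2 M) : Subgroup M) := by
      rw [Sylow.coe_subgroup_smul]
      exact Subgroup.smul_mem_pointwise_smul a (MulAut.conj m) _ ha
    rw [hm, Sylow.coe_ofCard] at h1
    obtain ⟨b, hb⟩ := h1
    have h2 : g⁻¹ * ((b : M) : G) * g = (m : G) * (a : G) * (m : G)⁻¹ := congrArg Subtype.val hb
    refine mem_map.2 ⟨b, b.2, ?_⟩
    show ((b : M) : G) = g * (m : G) * (a : G) * (g * (m : G))⁻¹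
    calc ((b : M) : G) = g * (g⁻¹ * ((b : M) : G) * g) * g⁻¹ := by group
      _ = g * ((m : G) * (a : G) * (m : G)⁻¹) * g⁻¹ := by rw [h2]
      _ = _ := by group
  simpa using mul_mem this (inv_mem m.2)

end CfsgLib.CoreOdd
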