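import Cfsg.Agent.FGSA.BaerTrick
import Cfsg.Agent.Solvable.CoprimeAct
import Cfsg.Agent.ZJ.Constrained
import Cfsg.Agent.Coprime.Sylow
import Cfsg.Agent.LocalB.CharP
import Cfsg.Agent.Solvable.Fitting

/-!
# `p'`-subgroups normalized by an abelian subgroup carrying all fixed elements of order `p`
-/

set_option autoImplicit false

namespace CfsgLib.AbelianSignalizer

open Subgroup
open scoped commutatorElement

variable {X : Type*} [Group X] [Finite X] {p : ℕ} [Fact p.Prime]

theorem pow_mul_of_central {H : Type*} [Group H] {m : ℕ} (hodd : Odd m) {x y : H}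
    (hc : ∀ z : H, Commute ⁅y, x⁆ z) (hexp : ⁅y, x⁆ ^ m = 1) : (x * y) ^ m = x ^ m * y ^ m := by
  set c := ⁅y, x⁆ with hcdef
  have hyx : ∀ k : ℕ, y ^ k * x = c ^ k * (x * y ^ k) := by
    intro k
    induction k with
    | zero => simp
    | succ k ih =>
      rw [pow_succ, mul_assoc, show y * x = c * (x * y) by simp [hcdef, commutatorElement_def, mul_assoc],
        ← mul_assoc (y ^ k) c, ← (hc (y ^ k)).eq, mul_assoc c, ← mul_assoc (y ^ k) x y, ih, pow_succ']
      simp [mul_assoc]
  have hgen : ∀ k : ℕ, (x * y) ^ k = c ^ (k * (k - 1) / 2) * (x ^ k * y ^ k) := by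
    intro k
    induction k with
    | zero => simp
    | succ k ih =>
      have e : (k + 1) * (k + 1 - 1) / 2 = k * (k - 1) / 2 + k := by
        cases k with
        | zero => rfl
        | succ j =>
          simp only [Nat.add_sub_cancel]
          rw [show (j + 1 + 1) * (j + 1) = (j + 1) * j + (j + 1) * 2 by ring, Nat.add_mul_div_right _ _ two_pos]
      rw [pow_succ, ih, e, pow_add, mul_assoc, mul_assoc (x ^ k), ← mul_assoc (y ^ k) x y, hyx,
        pow_succ x, pow_succ y, mul_assoc (c ^ (k * (k - 1) / 2)) (c ^ k)]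
      congr 1
      rw [← mul_assoc (x ^ k), ← mul_assoc (x ^ k), ((hc (x ^ k)).pow_left k).eq.symm]
      simp [mul_assoc]
  obtain ⟨l, rfl⟩ := hodd
  rw [hgen, show (2 * l + 1) * (2 * l + 1 - 1) / 2 = (2 * l + 1) * l by
    rw [Nat.add_sub_cancel, show (2 * l + 1) * (2 * l) = 2 * ((2 * l + 1) * l) by ring, Nat.mul_div_cancel_left _ two_pos],
    pow_mul, hexp, one_pow, one_mul]

/-- A `p'`-group normalized by a `p`-group `A` centralizes a `p`-group as soon as it centralizes
the elements of order `p` fixed by `A` (`p` odd). -/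
theorem centralizes (hp : p ≠ 2) {A Q : Subgroup X} (hA : IsPGroup p A) (hQ : (Nat.card Q).Coprime p)
    (hAQ : A ≤ normalizer (Q : Set X)) :
    ∀ (n : ℕ) (P : Subgroup X), Nat.card P = n → IsPGroup p P → A ≤ normalizer (P : Set X) →
      Q ≤ normalizer (P : Set X) →
      (∀ x ∈ P, x ^ p = 1 → (∀ a ∈ A, Commute a x) → ∀ q ∈ Q, Commute q x) →
      ∀ x ∈ P, ∀ q ∈ Q, Commute q x := by
  have hodd : Odd p := (Fact.out : p.Prime).odd_of_ne_two hp
  intro n
  induction n using Nat.strong_induction_on with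
  | _ n ih =>
    intro P hn hP hAP hQP hfix
    by_contra hne
    -- proper invariant subgroups are centralized
    have hproper : ∀ R : Subgroup X, R ≤ P → R ≠ P → A ≤ normalizer (R : Set X) → Q ≤ normalizer (R : Set X) →
        ∀ x ∈ R, ∀ q ∈ Q, Commute q x := fun R hRP hR hAR hQR =>
      ih (Nat.card R) (hn ▸ lt_of_le_of_ne (card_le_of_le hRP) fun e => hR (eq_of_le_of_card_ge hRP e.ge)) R rfl
        (hP.to_le hRP) hAR hQR fun x hx => hfix x (hRP hx)
    have hcop : (Nat.card Q).Coprime (Nat.card P) := by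
      obtain ⟨k, hk⟩ := IsPGroup.iff_card.1 hP
      exact hk ▸ hQ.pow_right k
    have hnorm : ∀ {R : Subgroup X} {W : Subgroup X}, (∀ g ∈ W, ∀ x ∈ R, g * x * g⁻¹ ∈ R) →
        W ≤ normalizer (R : Set X) := fun {R W} h g hg => mem_normalizer_iff_map_conj_eq.2
      (Subgroup.eq_of_le_of_card_ge (by rintro _ ⟨x, hx, rfl⟩; exact h g hg x hx)
        (card_map_of_injective (f := (MulAut.conj g).toMonoidHom) (MulAut.conj g).injective).ge)
    have hconj : ∀ {W : Subgroup X}, W ≤ normalizer (P : Set X) → ∀ g ∈ W, ∀ x ∈ P, g * x * g⁻¹ ∈ P :=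
      fun hW g hg x hx => (mem_normalizer_iff.1 (hW hg) x).1 hx
    -- `[P,Q] = P`
    have hPQ : ⁅P, Q⁆ = P := by
      have hle : ⁅P, Q⁆ ≤ P := le_normalizer_iff_commutator_le_left.1 hQP
      by_contra h
      have hAn : A ≤ normalizer ((⁅P, Q⁆ : Subgroup X) : Set X) := hnorm fun g hg x hx => by
        have h1 : (⁅P, Q⁆ : Subgroup X).map (MulAut.conj g).toMonoidHom ≤ ⁅P, Q⁆ := by
          rw [map_commutator]
          refine commutator_mono ?_ ?_
          · rintro _ ⟨y, hy, rfl⟩; exact hconj hAP g hg y hy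
          · rintro _ ⟨y, hy, rfl⟩; exact (mem_normalizer_iff.1 (hAQ hg) y).1 hy
        exact h1 ⟨x, hx, rfl⟩
      have h2 := hproper ⁅P, Q⁆ hle h hAn (normalizer_commutator_ge_right P Q)
      have h3 : ⁅⁅P, Q⁆, Q⁆ = ⊥ :=
        commutator_eq_bot_iff_le_centralizer.2 fun x hx => mem_centralizer_iff.2 fun q hq => (h2 x hx q hq).eq
      rw [CoprimeAct.commutator_commutator (A := Q) (K := P) hQP hcop (Or.inr (by haveI := hP.isNilpotent; infer_instance))] at h3
      refine hne fun x hx q hq => ?_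
      exact (mem_centralizer_iff.1 (commutator_eq_bot_iff_le_centralizer.1 h3 hx) q hq : q * x = x * q)
    have hP1 : P ≠ ⊥ := fun h => hne fun x hx q _ => by
      rw [h, mem_bot] at hx; rw [hx]; exact Commute.one_right q
    -- `R` is the join of the derived subgroup and the `p`-th powers
    let T : Set X := (⁅P, P⁆ : Subgroup X) ∪ (fun x => x ^ p) '' (P : Set X)
    set R := closure T with hR
    have hTR : ∀ {y}, y ∈ T → y ∈ R := fun h => subset_closure h
    have hRP : R ≤ P := (closure_le _).2 (Set.union_subset (commutator_le_self P)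
      (by rintro _ ⟨x, hx, rfl⟩; exact pow_mem hx p))
    have hRinv : ∀ {W : Subgroup X}, W ≤ normalizer (P : Set X) → ∀ g ∈ W, ∀ x ∈ R, g * x * g⁻¹ ∈ R := by
      intro W hW g hg x hx
      have h1 : R.map (MulAut.conj g).toMonoidHom ≤ R := by
        rw [hR, MonoidHom.map_closure, closure_le]
        rintro _ ⟨y, hy | ⟨y, hy, rfl⟩, rfl⟩
        · refine hTR (Or.inl ?_)
          have h2 : (⁅P, P⁆ : Subgroup X).map (MulAut.conj g).toMonoidHom ≤ ⁅P, P⁆ := by
            rw [map_commutator]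
            refine commutator_mono ?_ ?_ <;> rintro _ ⟨z, hz, rfl⟩ <;> exact hconj hW g hg z hz
          exact h2 ⟨y, hy, rfl⟩
        · exact hTR (Or.inr ⟨g * y * g⁻¹, hconj hW g hg y hy, by simp [conj_pow]⟩)
      exact h1 ⟨x, hx, rfl⟩
    have hRne : R ≠ P := by
      intro e
      haveI := (nontrivial_iff_ne_bot P).2 hP1
      haveI := hP.isNilpotent
      have hlt := Group.IsSolvable.commutator_lt_top_of_nontrivial P
      let π := QuotientGroup.mk' (commutator P)
      let f : (P ⧸ commutator P) →* (P ⧸ commutator P) := powMonoidHom p (α := Abelianization P)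
      have hsurj : Function.Surjective f := by
        have hle : R.subgroupOf P ≤ f.range.comap π := by
          rw [hR]
          have h1 : closure T ≤ (f.range.comap π).map P.subtype := by
            refine (closure_le _).2 ?_
            rintro _ (hy | ⟨x, hx, rfl⟩)
            · rw [SetLike.mem_coe, ← map_subtype_commutator] at hy
              obtain ⟨v, hv, rfl⟩ := hy
              exact ⟨v, show π v ∈ f.range by rw [show π v = 1 from (QuotientGroup.eq_one_iff v).2 hv]; exact one_mem _, rfl⟩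
            · exact ⟨⟨x, hx⟩ ^ p, ⟨π ⟨x, hx⟩, (map_pow π _ p).symm⟩, rfl⟩
          intro v hv
          obtain ⟨w, hw, e⟩ := h1 (mem_subgroupOf.1 hv)
          exact (Subtype.ext e : w = v) ▸ hw
        intro y
        obtain ⟨v, rfl⟩ := QuotientGroup.mk'_surjective (commutator P) y
        exact hle (mem_subgroupOf.2 (e.symm ▸ v.2))
      have hinj := Finite.injective_iff_surjective.2 hsurj
      obtain ⟨k, hk⟩ := IsPGroup.iff_card.1 (hP.to_quotient (commutator P))
      have hk0 : k ≠ 0 := fun h0 => hlt.ne (by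
        rw [← index_eq_one, index_eq_card, hk, h0, pow_zero])
      obtain ⟨z, hz⟩ := exists_prime_orderOf_dvd_card' (G := P ⧸ commutator P) p (hk ▸ dvd_pow_self p hk0)
      have h1 : z = 1 := hinj (show z ^ p = 1 ^ p by rw [← hz, pow_orderOf_eq_one, one_pow])
      rw [h1, orderOf_one] at hz
      exact (Fact.out : p.Prime).one_lt.ne hz
    have hRQ := hproper R hRP hRne (hnorm (hRinv hAP)) (hnorm (hRinv hQP))
    have hcent : ∀ c ∈ R, ∀ x ∈ P, Commute c x := by
      intro c hc
      have hle : ⁅P, Q⁆ ≤ centralizer ({c} : Set X) := commutator_le.2 fun x hx q hq => by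
        refine mem_centralizer_singleton_iff.2 ?_
        have hxi : x⁻¹ * c * x ∈ R := by
          have := hRinv (le_normalizer (H := P)) _ (inv_mem hx) c hc
          rwa [inv_inv] at this
        have e1 : q * (x⁻¹ * c * x) * q⁻¹ = x⁻¹ * c * x := by
          rw [(hRQ _ hxi q hq).eq, mul_inv_cancel_right]
        have e2 : q * c * q⁻¹ = c := by rw [(hRQ c hc q hq).eq, mul_inv_cancel_right]
        rw [commutatorElement_def]
        calc x * q * x⁻¹ * q⁻¹ * c = x * q * x⁻¹ * q⁻¹ * (q * c * q⁻¹) := by rw [e2]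
          _ = x * (q * (x⁻¹ * c * x) * q⁻¹) * (q * x⁻¹ * q⁻¹) := by group
          _ = x * (x⁻¹ * c * x) * (q * x⁻¹ * q⁻¹) := by rw [e1]
          _ = c * (x * q * x⁻¹ * q⁻¹) := by group
      intro x hx
      exact (mem_centralizer_singleton_iff.1 (hle (hPQ.symm ▸ hx)) : x * c = c * x).symm
    have hc2 : BaerTrick.ClassTwo P := fun x y z => Subtype.ext
      (hcent _ (hTR (Or.inl (commutator_mem_commutator x.2 y.2))) z z.2).eq
    -- exponent `p`
    have hexp : ∀ x : P, x ^ p = 1 := by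
      have hpowl : ∀ (x y : P) (k : ℕ), ⁅x ^ k, y⁆ = ⁅x, y⁆ ^ k := by
        intro x y k
        induction k with
        | zero => simp
        | succ k ihk => rw [pow_succ, BaerTrick.comm_mul_left hc2, ihk, pow_succ]
      have hcp : ∀ x y : P, ⁅x, y⁆ ^ p = 1 := fun x y => by
        rw [← hpowl, commutatorElement_eq_one_iff_commute]
        exact Subtype.ext (hcent _ (hTR (Or.inr ⟨x, x.2, rfl⟩)) y y.2).eq
      have hmul : ∀ x y : P, (x * y) ^ p = x ^ p * y ^ p := fun x y =>
        pow_mul_of_central hodd (hc2 y x) (hcp y x)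
      let f : P →* P := MonoidHom.mk' (fun x => x ^ p) hmul
      have hle : ⁅P, Q⁆ ≤ f.ker.map P.subtype := commutator_le.2 fun x hx q hq => by
        have hm : x * (q * x⁻¹ * q⁻¹) ∈ P := mul_mem hx (hconj hQP q hq _ (inv_mem hx))
        refine ⟨⟨_, hm⟩, ?_, by simp [commutatorElement_def, mul_assoc]⟩
        show (⟨_, hm⟩ : P) ^ p = 1
        rw [show (⟨_, hm⟩ : P) = ⟨x, hx⟩ * ⟨q * x⁻¹ * q⁻¹, hconj hQP q hq _ (inv_mem hx)⟩ from rfl, hmul]
        have h1 : Commute q (x⁻¹ ^ p) := hRQ _ (hTR (Or.inr ⟨x⁻¹, inv_mem hx, rfl⟩)) q hq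
        refine Subtype.ext ?_
        push_cast
        rw [conj_pow, h1.eq, mul_inv_cancel_right, inv_pow, mul_inv_cancel]
      intro x
      obtain ⟨y, hy, e⟩ := hle (show (x : X) ∈ ⁅P, Q⁆ by rw [hPQ]; exact x.2)
      rwa [← (Subtype.ext e : y = x)]
    -- the Baer trick
    set N := normalizer (P : Set X)
    letI : MulDistribMulAction N P := MulDistribMulAction.compHom P P.normalizerMonoidHom
    have hact : ∀ (g : N) (v : P), ((g • v : P) : X) = (g : X) * v * (g : X)⁻¹ := fun g v => rfl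
    have h := BaerTrick.smul_eq_of_classTwo hodd hc2 hexp (A.subgroupOf N) (Q.subgroupOf N)
      (hA.of_equiv (subgroupOfEquivOfLe hAP).symm)
      (by rw [Nat.card_congr (subgroupOfEquivOfLe hQP).toEquiv]; exact hQ)
      (fun g hg => mem_normalizer_iff.2 fun y => by
        rw [mem_subgroupOf, mem_subgroupOf, coe_mul, coe_mul, coe_inv]
        exact mem_normalizer_iff.1 (hAQ (mem_subgroupOf.1 hg)) y)
      (fun v hv q hq => Subtype.ext (by
        rw [hact]
        refine mul_inv_eq_iff_eq_mul.2 ((hfix v v.2 (congrArg Subtype.val (hexp v)) (fun a ha => ?_) q hq).eq)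
        have := congrArg Subtype.val (hv ⟨a, hAP ha⟩ (mem_subgroupOf.2 ha))
        rw [hact] at this
        exact mul_inv_eq_iff_eq_mul.1 this))
    refine hne fun x hx q hq => ?_
    have := congrArg Subtype.val (h ⟨x, hx⟩ ⟨q, hQP hq⟩ (mem_subgroupOf.2 hq))
    rw [hact] at this
    exact mul_inv_eq_iff_eq_mul.1 this

/-- In a `p`-constrained group such subgroups lie in the `p'`-core. -/
theorem le_core (hp : p ≠ 2) (hX : Cfsg.IsPConstrained p X) {A : Subgroup X} (hAp : IsPGroup p A)
    (hΩ : ∀ x ∈ centralizer (A : Set X), orderOf x = p → x ∈ A) {Q : Subgroup X} (hQ : ¬ p ∣ Nat.card Q)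
    (hAQ : A ≤ normalizer (Q : Set X)) : Q ≤ Cfsg.pPrimeCore p X := by
  set O := Cfsg.pPrimeCore p X
  set f := QuotientGroup.mk' O
  have hfs : Function.Surjective f := QuotientGroup.mk'_surjective O
  set F := Cfsg.pCore p (X ⧸ O)
  haveI : F.Normal := CfsgLib.Solvable.pCore_normal p
  have hF : IsPGroup p F := CfsgLib.Solvable.isPGroup_pCore p
  have hQc : (Nat.card Q).Coprime p := ((Nat.Prime.coprime_iff_not_dvd Fact.out).2 hQ).symm
  have hQf : (Nat.card (Q.map f)).Coprime p := hQc.coprime_dvd_left (card_map_dvd _ _)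
  obtain ⟨kF, hkF⟩ := IsPGroup.iff_card.1 hF
  have hQF : Q.map f ⊓ F = ⊥ := inf_eq_bot_of_coprime (hkF ▸ hQf.pow_right kF)
  have hn : A.map f ≤ normalizer (Q.map f : Set (X ⧸ O)) := (map_mono hAQ).trans (le_normalizer_map f)
  have hkey : ∀ x ∈ F, x ^ p = 1 → (∀ a ∈ A.map f, Commute a x) → ∀ q ∈ Q.map f, Commute q x := by
    intro x hx hxp hxa q hq
    by_cases hx1 : x = 1
    · rw [hx1]; exact Commute.one_right q
    obtain ⟨g, rfl⟩ := hfs x
    haveI := hAp.isNilpotent
    obtain ⟨j, hj⟩ := IsPGroup.iff_card.1 hAp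
    obtain ⟨c, hc1, hc2⟩ := CfsgLib.Coprime.exists_commute_mem_coset A O le_normalizer_of_normal
      (hj ▸ ((CfsgLib.Solvable.coprime_card_pPrimeCore p).pow_right j).symm) g (fun a ha => by
        rw [← QuotientGroup.ker_mk' O, MonoidHom.mem_ker]
        change f (g⁻¹ * (a * g * a⁻¹)) = 1
        rw [map_mul, map_mul, map_mul, map_inv, map_inv, (hxa (f a) (mem_map_of_mem f ha)).eq,
          mul_inv_cancel_right, inv_mul_cancel])
    have hcg : f c = f g := by
      have h1 : f (g⁻¹ * c) = 1 := (QuotientGroup.eq_one_iff _).2 hc2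
      rw [map_mul, map_inv, inv_mul_eq_one] at h1
      exact h1.symm
    obtain ⟨k, m, hm, hkm⟩ := Nat.exists_eq_pow_mul_and_not_dvd (orderOf_pos c).ne' p (Fact.out : p.Prime).ne_one
    have hmp : m.Coprime p := ((Nat.Prime.coprime_iff_not_dvd Fact.out).2 hm).symm
    set d := c ^ m
    have hdk : d ^ p ^ k = 1 := by rw [← pow_mul, mul_comm, ← hkm, pow_orderOf_eq_one]
    have hfd : f d = f g ^ m := by rw [map_pow, hcg]
    have hdp : d ^ p = 1 := by
      have h1 : d ^ p ∈ O := by
        rw [← QuotientGroup.eq_one_iff]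
        show f (d ^ p) = 1
        rw [map_pow, hfd, ← pow_mul, mul_comm, pow_mul, hxp, one_pow]
      refine orderOf_eq_one_iff.1 (Nat.eq_one_of_dvd_coprimes
        ((CfsgLib.Solvable.coprime_card_pPrimeCore (G := X) p).pow_right k).symm
        (orderOf_dvd_of_pow_eq_one (by rw [← pow_mul, mul_comm, pow_mul, hdk, one_pow])) (orderOf_dvd_natCard _ h1))
    have hx2 : orderOf (f g) = p := orderOf_eq_prime hxp hx1
    have hd1 : d ≠ 1 := fun h => by
      have h1 : f g ^ m = 1 := by rw [← hfd, h, map_one]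
      exact hm ((dvd_of_eq hx2.symm).trans (orderOf_dvd_of_pow_eq_one h1))
    have hdA : d ∈ A := hΩ d (mem_centralizer_iff.2 fun a ha => ((show Commute a c from hc1 a ha).pow_right m).eq)
      (orderOf_eq_prime hdp hd1)
    have h2 : q * f d * q⁻¹ * (f d)⁻¹ = 1 := by
      refine mem_bot.1 (hQF ▸ mem_inf.2 ⟨?_, ?_⟩)
      · rw [show q * f d * q⁻¹ * (f d)⁻¹ = q * (f d * q⁻¹ * (f d)⁻¹) by group]
        exact mul_mem hq ((mem_normalizer_iff.1 (hn (mem_map_of_mem f hdA)) _).1 (inv_mem hq))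
      · have hdF : f d ∈ F := hfd ▸ pow_mem hx m
        exact mul_mem (Normal.conj_mem inferInstance _ hdF q) (inv_mem hdF)
    have h3 : Commute q (f g ^ m) := hfd ▸ (mul_inv_eq_iff_eq_mul.1 (mul_inv_eq_one.1 h2) : q * f d = f d * q)
    obtain ⟨j', hj'⟩ := exists_pow_eq_self_of_coprime (x := f g) (hx2.symm ▸ hmp)
    rw [← hj']
    exact h3.pow_right j'
  have h := centralizes hp (hAp.map f) hQf hn _ F rfl hF le_normalizer_of_normal le_normalizer_of_normal hkey
  intro q hq
  rw [← QuotientGroup.eq_one_iff]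
  show f q = 1
  have hqF : f q ∈ F := CfsgLib.ZJ.centralizer_pCore_quotient_le hX
    (mem_centralizer_iff.2 fun z hz => (h z hz _ (mem_map_of_mem f hq)).eq.symm)
  exact mem_bot.1 (hQF ▸ mem_inf.2 ⟨mem_map_of_mem f hq, hqF⟩)

end CfsgLib.AbelianSignalizer
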