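import Mathlib.GroupTheory.Sylow
import Cfsg.Agent.Comp.Fitting
import Cfsg.Agent.Invol.Dihedral

/-!
The Baer–Suzuki theorem.
-/

set_option autoImplicit false
set_option linter.style.haveILetI false

namespace CfsgLib.Invol

open Subgroup
open scoped Pointwise

variable {G : Type*} [Group G]

theorem isPGroup_closure_of_le {p : ℕ} {H : Subgroup G} (hH : IsPGroup p H) {s : Set G}
    (hs : s ⊆ H) : IsPGroup p (closure s) :=
  hH.to_le ((closure_le H).mpr hs)

/-- **Baer–Suzuki**, element form: if all pairs of conjugates of `x` generate `p`-groups then `x`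
lies in the `p`-core. -/
theorem mem_pCore_of_pairs [Finite G] {p : ℕ} [Fact p.Prime] (x : G)
    (h : ∀ g : G, IsPGroup p (closure ({x, g * x * g⁻¹} : Set G))) : x ∈ Cfsg.pCore p G := by
  classical
  obtain ⟨n, hn⟩ : ∃ n, Nat.card G = n := ⟨_, rfl⟩
  induction n using Nat.strong_induction_on generalizing G with
  | _ n ih =>
    subst hn
    set D : Set G := {y | IsConj x y} with hD
    have hDconj : ∀ d ∈ D, ∀ g : G, g * d * g⁻¹ ∈ D := fun d hd g =>
      hd.trans (isConj_iff.mpr ⟨g, rfl⟩)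
    have hpair : ∀ d ∈ D, ∀ e ∈ D, IsPGroup p (closure ({d, e} : Set G)) := by
      intro d hd e he
      obtain ⟨a, rfl⟩ := isConj_iff.mp (hd : IsConj x d)
      obtain ⟨b, rfl⟩ := isConj_iff.mp (he : IsConj x e)
      have := (h (a⁻¹ * b)).map (MulAut.conj a).toMonoidHom
      rw [MonoidHom.map_closure, Set.image_pair] at this
      have e : a * (a⁻¹ * b * x * (a⁻¹ * b)⁻¹) * a⁻¹ = b * x * b⁻¹ := by group
      refine this.to_le (le_of_eq ?_)
      show _ = closure ({a * x * a⁻¹, a * (a⁻¹ * b * x * (a⁻¹ * b)⁻¹) * a⁻¹} : Set G)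
      rw [e]
    have hsyl : ∀ d ∈ D, ∀ e ∈ D, ∃ R : Sylow p G, d ∈ R ∧ e ∈ R := by
      intro d hd e he
      obtain ⟨R, hR⟩ := (hpair d hd e he).exists_le_sylow
      exact ⟨R, hR (subset_closure (Set.mem_insert d _)),
        hR (subset_closure (Set.mem_insert_of_mem d rfl))⟩
    by_contra hx
    have hone : x ∈ D := IsConj.refl x
    have hDcore : ∀ d ∈ D, d ∉ Cfsg.pCore p G := by
      intro d hd hdc
      obtain ⟨a, rfl⟩ := isConj_iff.mp (hd : IsConj x d)
      have := (inferInstance : (Cfsg.pCore p G).Normal).conj_mem _ hdc a⁻¹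
      simp [mul_assoc] at this
      exact hx this
    -- not all Sylow subgroups meet `D` in the same set
    obtain ⟨P₀, Q₀, hPQ₀⟩ : ∃ P Q : Sylow p G, D ∩ (P : Set G) ≠ D ∩ (Q : Set G) := by
      by_contra hcon
      push Not at hcon
      have hall : ∀ R : Sylow p G, x ∈ R := by
        intro R
        obtain ⟨R₀, hR₀, -⟩ := hsyl x hone x hone
        have : x ∈ D ∩ (R₀ : Set G) := ⟨hone, hR₀⟩
        rw [hcon R₀ R] at this
        exact this.2
      apply hx
      let N : Subgroup G := ⨅ R : Sylow p G, (R : Subgroup G)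
      have hN : N.Normal := ⟨fun a ha g => by
        rw [Subgroup.mem_iInf] at ha ⊢
        intro R
        have := ha (g⁻¹ • R)
        rw [Sylow.coe_subgroup_smul, Subgroup.mem_pointwise_smul_iff_inv_smul_mem] at this
        simpa [mul_assoc] using this⟩
      obtain ⟨R₀, -, -⟩ := hsyl x hone x hone
      have hNp : IsPGroup p N := R₀.isPGroup'.to_le (iInf_le _ R₀)
      exact (le_sSup (show N ∈ {N : Subgroup G | N.Normal ∧ IsPGroup p N} from ⟨hN, hNp⟩) :
        N ≤ Cfsg.pCore p G) (Subgroup.mem_iInf.mpr hall)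
    -- choose such a pair with largest common part
    obtain ⟨⟨P, Q⟩, hmem, hmax⟩ :=
      Set.exists_max_image {z : Sylow p G × Sylow p G | D ∩ (z.1 : Set G) ≠ D ∩ (z.2 : Set G)}
        (fun z => (D ∩ (z.1 : Set G) ∩ (z.2 : Set G)).ncard) (Set.toFinite _) ⟨(P₀, Q₀), hPQ₀⟩
    simp only [Set.mem_setOf_eq] at hmem hmax
    set I : Set G := D ∩ (P : Set G) ∩ (Q : Set G) with hI
    have hstep : ∀ R S : Sylow p G, I ⊆ D ∩ (S : Set G) → I ⊆ D ∩ (R : Set G) →
        ∀ d ∈ D, d ∈ R → d ∈ S → d ∉ I → D ∩ (S : Set G) = D ∩ (R : Set G) := by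
      intro R S hS hR d hd hdR hdS hdI
      by_contra hne
      have hlt : I ⊂ D ∩ (S : Set G) ∩ (R : Set G) :=
        ⟨fun a ha => ⟨hS ha, (hR ha).2⟩, fun hsub => hdI (hsub ⟨⟨hd, hdS⟩, hdR⟩)⟩
      exact absurd (hmax (S, R) hne) (not_le.mpr (Set.ncard_lt_ncard hlt (Set.toFinite _)))
    have hIP : I ⊆ D ∩ (P : Set G) := fun a ha => ha.1
    have hIQ : I ⊆ D ∩ (Q : Set G) := fun a ha => ⟨ha.1.1, ha.2⟩
    have hWP : closure I ≤ (P : Subgroup G) := (closure_le _).mpr fun a ha => ha.1.2
    have hWQ : closure I ≤ (Q : Subgroup G) := (closure_le _).mpr fun a ha => ha.2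
    have hsubP : ¬ D ∩ (P : Set G) ⊆ I := by
      intro hsub
      apply hmem
      by_contra hne
      obtain ⟨e, he⟩ : ∃ e, e ∈ (D ∩ (Q : Set G)) \ I := by
        by_contra hcon
        push Not at hcon
        exact hne (Set.Subset.antisymm (hsub.trans hIQ) fun a ha => by
          by_contra haP
          exact hcon a ⟨ha, fun haI => haP (hIP haI)⟩)
      -- `I` is the whole of `D ∩ P`, hence a largest set of the form `D ∩ R`
      obtain ⟨g, hg⟩ := MulAction.exists_smul_eq G Q P
      have hcard : (D ∩ (Q : Set G)).ncard ≤ (D ∩ (P : Set G)).ncard := by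
        refine Set.ncard_le_ncard_of_injOn (fun a => g * a * g⁻¹) ?_ ?_ (Set.toFinite _)
        · intro a ha
          refine ⟨hDconj a ha.1 g, ?_⟩
          rw [← hg]
          show g * a * g⁻¹ ∈ (MulAut.conj g • ((_ : Sylow p G) : Subgroup G))
          exact ⟨a, ha.2, rfl⟩
        · intro a _ b _ hab
          simpa using hab
      have : I ⊂ D ∩ (Q : Set G) := ⟨hIQ, fun hh => he.2 (hh he.1)⟩
      have h1 := Set.ncard_lt_ncard this (Set.toFinite _)
      have h2 := Set.ncard_le_ncard hsub (Set.toFinite _)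
      omega
    have hsubQ : ¬ D ∩ (Q : Set G) ⊆ I := by
      intro hsub
      apply hsubP
      obtain ⟨g, hg⟩ := MulAction.exists_smul_eq G P Q
      have hcard : (D ∩ (P : Set G)).ncard ≤ (D ∩ (Q : Set G)).ncard := by
        refine Set.ncard_le_ncard_of_injOn (fun a => g * a * g⁻¹) ?_ ?_ (Set.toFinite _)
        · intro a ha
          refine ⟨hDconj a ha.1 g, ?_⟩
          rw [← hg]
          show g * a * g⁻¹ ∈ (MulAut.conj g • ((_ : Sylow p G) : Subgroup G))
          exact ⟨a, ha.2, rfl⟩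
        · intro a _ b _ hab
          simpa using hab
      have h2 := Set.ncard_le_ncard hsub (Set.toFinite _)
      have h3 := Set.eq_of_subset_of_ncard_le hIP (hcard.trans h2) (Set.toFinite _)
      exact h3.symm.subset
    -- the normalizer trick
    have hfind : ∀ R : Sylow p G, closure I ≤ (R : Subgroup G) → I ⊆ D ∩ (R : Set G) →
        (∀ a, a ∈ D → a ∈ closure I → a ∈ I) → ¬ D ∩ (R : Set G) ⊆ I →
        ∃ d ∈ D, d ∈ R ∧ d ∉ I ∧ d ∈ normalizer (closure I : Set G) := by
      intro R hWR hIR hcl hsub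
      by_cases hN : (R : Subgroup G) ≤ normalizer (closure I : Set G)
      · obtain ⟨d, hd, hdI⟩ := Set.not_subset.mp hsub
        exact ⟨d, hd.1, hd.2, hdI, hN hd.2⟩
      · set N : Subgroup G := (R : Subgroup G) ⊓ normalizer (closure I : Set G) with hNdef
        haveI : Group.IsNilpotent ↥(R : Subgroup G) := R.isPGroup'.isNilpotent
        have hlt : N.subgroupOf (R : Subgroup G) < ⊤ := lt_top_iff_ne_top.mpr fun hh =>
          hN ((subgroupOf_eq_top.mp hh).trans inf_le_right)
        obtain ⟨g, hgN, hgn⟩ := SetLike.exists_of_lt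
          (Group.normalizerCondition_of_isNilpotent _ hlt)
        have hgnotN : (g : G) ∉ normalizer (closure I : Set G) := fun hh => hgn ⟨g.2, hh⟩
        obtain ⟨a, haI, ha⟩ : ∃ a ∈ I, (g : G) * a * (g : G)⁻¹ ∉ closure I := by
          by_contra hcon
          push Not at hcon
          apply hgnotN
          have hle : (closure I).map (MulAut.conj (g : G)).toMonoidHom ≤ closure I := by
            rw [MonoidHom.map_closure, closure_le]
            rintro _ ⟨a, ha, rfl⟩
            exact hcon a ha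
          have heq : (closure I).map (MulAut.conj (g : G)).toMonoidHom = closure I :=
            eq_of_le_of_card_ge hle
              (card_map_of_injective (MulAut.conj (g : G)).injective).ge
          rw [mem_normalizer_iff]
          intro b
          constructor
          · intro hb
            exact heq.le ⟨b, hb, rfl⟩
          · intro hb
            rw [← heq] at hb
            obtain ⟨c, hc, hcb⟩ := hb
            simpa using (mul_left_cancel (mul_right_cancel hcb)) ▸ hc
        have haN : (g : G) * a * (g : G)⁻¹ ∈ N := by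
          have h1 : (⟨a, (hIR haI).2⟩ : (R : Subgroup G)) ∈ N.subgroupOf (R : Subgroup G) :=
            ⟨(hIR haI).2, le_normalizer (subset_closure haI)⟩
          exact (mem_normalizer_iff.mp hgN _).mp h1
        exact ⟨_, hDconj a (hIR haI).1 _, haN.1, fun hh => ha (subset_closure hh), haN.2⟩
    have hcl : ∀ a, a ∈ D → a ∈ closure I → a ∈ I := fun a ha hac =>
      ⟨⟨ha, hWP hac⟩, hWQ hac⟩
    obtain ⟨d, hdD, hdP, hdI, hdN⟩ := hfind P hWP hIP hcl hsubP
    obtain ⟨e, heD, heQ, heI, heN⟩ := hfind Q hWQ hIQ hcl hsubQ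
    -- find a `p`-subgroup containing `I`, `d` and `e`
    suffices ∃ R : Sylow p G, I ⊆ D ∩ (R : Set G) ∧ d ∈ R ∧ e ∈ R by
      obtain ⟨R, hIR, hdR, heR⟩ := this
      exact hmem ((hstep R P hIP hIR d hdD hdR hdP hdI).trans
        (hstep R Q hIQ hIR e heD heR heQ heI).symm)
    by_cases hI0 : I = ∅
    · obtain ⟨R, hdR, heR⟩ := hsyl d hdD e heD
      exact ⟨R, by rw [hI0]; exact Set.empty_subset _, hdR, heR⟩
    obtain ⟨c, hc⟩ := Set.nonempty_iff_ne_empty.mpr hI0
    by_cases hNtop : normalizer (closure I : Set G) = ⊤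
    · exfalso
      apply hDcore c hc.1.1
      haveI : (closure I).Normal := normalizer_eq_top_iff.mp hNtop
      exact (le_sSup (show closure I ∈ {N : Subgroup G | N.Normal ∧ IsPGroup p N} from
        ⟨inferInstance, P.isPGroup'.to_le hWP⟩) : closure I ≤ Cfsg.pCore p G) (subset_closure hc)
    set H := normalizer (closure I : Set G) with hH
    have hlt : Nat.card H < Nat.card G :=
      lt_of_le_of_ne (card_le_card_group H) fun hh => hNtop (eq_top_of_card_eq H hh)
    have hcore : ∀ a ∈ D, ∀ ha : a ∈ H, (⟨a, ha⟩ : H) ∈ Cfsg.pCore p H := by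
      intro a haD ha
      refine ih _ hlt (⟨a, ha⟩ : H) (fun g => ?_) rfl
      refine ((hpair a haD _ (hDconj a haD (g : G))).comap_subtype (K := H)).to_le ?_
      rw [closure_le]
      rintro b (rfl | rfl)
      · exact subset_closure (Set.mem_insert a _)
      · exact subset_closure (Set.mem_insert_of_mem a rfl)
    obtain ⟨R, hR⟩ := ((CfsgLib.Comp.pCore_isPGroup' (G := H) p).map H.subtype).exists_le_sylow
    have hin : ∀ a ∈ D, a ∈ H → a ∈ R := fun a haD ha => hR ⟨_, hcore a haD ha, rfl⟩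
    exact ⟨R, fun a ha => ⟨ha.1.1, hin a ha.1.1 (le_normalizer (subset_closure ha))⟩,
      hin d hdD hdN, hin e heD heN⟩

/-- **Baer–Suzuki**, subgroup form. -/
theorem le_pCore_of_pairs [Finite G] {p : ℕ} [Fact p.Prime] (X : Subgroup G)
    (h : ∀ g : G, IsPGroup p ↥(X ⊔ X.map (MulAut.conj g).toMonoidHom)) :
    X ≤ Cfsg.pCore p G := by
  intro x hx
  refine mem_pCore_of_pairs x fun g => ?_
  refine isPGroup_closure_of_le (h g) ?_
  rintro a (rfl | rfl)
  · exact mem_sup_left hx
  · exact mem_sup_right ⟨x, hx, rfl⟩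

/-- An involution outside every normal 2-subgroup inverts a nontrivial element of odd order. -/
theorem exists_inverted_odd [Finite G] (t : G) (ht : orderOf t = 2)
    (hO : t ∉ Cfsg.pCore 2 G) : ∃ h : G, h ≠ 1 ∧ Odd (orderOf h) ∧ t * h * t⁻¹ = h⁻¹ := by
  by_contra hcon
  push Not at hcon
  haveI : Fact (Nat.Prime 2) := ⟨Nat.prime_two⟩
  refine hO (mem_pCore_of_pairs t fun g => ?_)
  have hs : orderOf (g * t * g⁻¹) = 2 := (orderOf_conj_eq g t).trans ht
  by_cases htt : t = g * t * g⁻¹
  · rw [← htt, Set.pair_eq_singleton, ← zpowers_eq_closure]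
    exact IsPGroup.of_card (n := 1) (by rw [Nat.card_zpowers, ht, pow_one])
  obtain ⟨e⟩ := nonempty_dihedral_equiv ht hs htt
  obtain ⟨k, m, hm, hkm⟩ :=
    Nat.exists_eq_two_pow_mul_odd (orderOf_pos (t * (g * t * g⁻¹))).ne'
  refine IsPGroup.of_card (n := k + 1) ?_
  rw [Nat.card_congr e.toEquiv, DihedralGroup.nat_card]
  have hinv : t * (t * (g * t * g⁻¹)) ^ 2 ^ k * t⁻¹ = ((t * (g * t * g⁻¹)) ^ 2 ^ k)⁻¹ := by
    rw [← conj_pow, conj_mul_inv ht hs, inv_pow]
  have hord : orderOf ((t * (g * t * g⁻¹)) ^ 2 ^ k) = m := by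
    rw [orderOf_pow, hkm, Nat.gcd_mul_right_left, Nat.mul_div_cancel_left _ (by positivity)]
  by_cases hm1 : m = 1
  · rw [hkm, hm1, mul_one, pow_succ, mul_comm]
  · refine absurd hinv (hcon _ ?_ (hord.symm ▸ hm))
    intro h1
    rw [h1, orderOf_one] at hord
    exact hm1 hord.symm

end CfsgLib.Invol
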