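import Mathlib.GroupTheory.Transfer
import Cfsg.Agent.Transfer.PResidual
import Cfsg.Agent.FGSB.Small

/-!
Transfer into an abelian section of a subgroup controlling fusion.
-/

set_option autoImplicit false
set_option linter.unusedSectionVars false
set_option linter.deprecated false
set_option linter.style.haveILetI false

namespace CfsgLib.FocalTransfer

open Subgroup MonoidHom MulAction

variable {G : Type*} [Group G] [Finite G]

theorem transfer_eq_of_fusion {H : Subgroup G} {A : Type*} [CommGroup A] (φ : H →* A) {g : G} (hg : g ∈ H)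
    (key : ∀ (k : ℕ) (g₀ : G) (h : g₀⁻¹ * g ^ k * g₀ ∈ H), φ ⟨_, h⟩ = φ ⟨g, hg⟩ ^ k) :
    MonoidHom.transfer φ g = φ ⟨g, hg⟩ ^ H.index := by
  classical
  let := H.fintypeQuotientOfFiniteIndex
  rw [transfer_eq_prod_quotient_orbitRel_zpowers_quot, index_eq_sum_minimalPeriod H g,
    ← Finset.prod_pow_eq_pow_sum]
  exact Finset.prod_congr rfl fun q _ => key _ _ _

/-- A `p`-element outside `K` whose powers fuse only within their `K`-cosets is outside the kernel
of the transfer into `H/K`. -/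
theorem transfer_ne_one {p : ℕ} [Fact p.Prime] {H : Subgroup G} {A : Type*} [CommGroup A] (φ : H →* A)
    (hidx : Nat.Coprime p H.index) {g : G} (hg : g ∈ H) (hgp : ∃ k : ℕ, orderOf g = p ^ k)
    (hne : φ ⟨g, hg⟩ ≠ 1)
    (key : ∀ (k : ℕ) (g₀ : G) (h : g₀⁻¹ * g ^ k * g₀ ∈ H), φ ⟨_, h⟩ = φ ⟨g, hg⟩ ^ k) :
    MonoidHom.transfer φ g ≠ 1 := by
  rw [transfer_eq_of_fusion φ hg key]
  intro h
  obtain ⟨k, hk⟩ := hgp
  refine hne (orderOf_eq_one_iff.1 (Nat.eq_one_of_dvd_coprimes (hidx.pow_left k) ?_ (orderOf_dvd_of_pow_eq_one h)))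
  rw [← hk, ← Subgroup.orderOf_mk g hg]
  exact orderOf_map_dvd φ _

theorem not_mem_commutator {p : ℕ} [Fact p.Prime] (H K : Subgroup G) (hKn : (K.subgroupOf H).Normal)
    (hab : ∀ x ∈ H, ∀ y ∈ H, x * y * x⁻¹ * y⁻¹ ∈ K) (hidx : Nat.Coprime p H.index) {g : G} (hgH : g ∈ H)
    (hgK : g ∉ K) (hgp : ∃ k : ℕ, orderOf g = p ^ k)
    (hctrl : ∀ (m : ℤ) (a : G), a * g ^ m * a⁻¹ ∈ H → (a * g ^ m * a⁻¹) * (g ^ m)⁻¹ ∈ K) :
    g ∉ commutator G := by
  haveI := hKn
  let π := QuotientGroup.mk' (K.subgroupOf H)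
  letI : CommGroup (H ⧸ K.subgroupOf H) :=
    { (inferInstance : Group (H ⧸ K.subgroupOf H)) with
      mul_comm := fun a b => by
        obtain ⟨x, rfl⟩ := QuotientGroup.mk'_surjective (K.subgroupOf H) a
        obtain ⟨y, rfl⟩ := QuotientGroup.mk'_surjective (K.subgroupOf H) b
        rw [← mul_inv_eq_one, mul_inv_rev, ← mul_assoc, ← map_inv, ← map_inv, ← map_mul, ← map_mul, ← map_mul]
        exact (QuotientGroup.eq_one_iff _).2 (mem_subgroupOf.2 (hab _ x.2 _ y.2)) }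
  have hne : π ⟨g, hgH⟩ ≠ 1 := fun h => hgK (mem_subgroupOf.1 ((QuotientGroup.eq_one_iff _).1 h))
  intro hg
  refine transfer_ne_one π hidx hgH hgp hne (fun k g₀ h => ?_) (MonoidHom.mem_ker.1
    (Abelianization.commutator_subset_ker (MonoidHom.transfer π) hg))
  have h' := hctrl k g₀⁻¹ (by rwa [zpow_natCast, inv_inv])
  rw [← mul_inv_eq_one, ← map_pow, ← map_inv, ← map_mul]
  refine (QuotientGroup.eq_one_iff _).2 (mem_subgroupOf.2 ?_)
  simpa [zpow_natCast, inv_inv] using h'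

theorem pResidual_sup_commutator_inf {p : ℕ} [hp : Fact p.Prime] (H : Subgroup G) (hidx : Nat.Coprime p H.index)
    (hfus : ∀ g ∈ H, (∃ k : ℕ, orderOf g = p ^ k) → ∀ a : G, a * g * a⁻¹ ∈ H → ∃ h ∈ H, h * g * h⁻¹ = a * g * a⁻¹) :
    (Cfsg.pResidual p G ⊔ commutator G) ⊓ H = (Cfsg.pResidual p ↥H ⊔ commutator ↥H).map H.subtype := by
  refine le_antisymm ?_ ?_
  swap
  · rw [Subgroup.map_sup]
    refine le_inf (sup_le_sup (CfsgLib.PResidual.map_pResidual_le H.subtype) ?_) (sup_le (map_subtype_le _) (map_subtype_le _))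
    rw [_root_.commutator_def, map_commutator]
    exact commutator_mono le_top le_top
  set K := Cfsg.pResidual p ↥H ⊔ commutator ↥H with hK
  haveI : K.Normal := by rw [hK]; infer_instance
  let π := QuotientGroup.mk' K
  letI : CommGroup (H ⧸ K) :=
    { (inferInstance : Group (H ⧸ K)) with
      mul_comm := fun a b => by
        obtain ⟨x, rfl⟩ := QuotientGroup.mk'_surjective K a
        obtain ⟨y, rfl⟩ := QuotientGroup.mk'_surjective K b
        rw [← mul_inv_eq_one, mul_inv_rev, ← mul_assoc, ← map_inv, ← map_inv, ← map_mul, ← map_mul, ← map_mul]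
        refine (QuotientGroup.eq_one_iff _).2 (mem_sup_right ?_)
        rw [_root_.commutator_def, ← commutatorElement_def]
        exact commutator_mem_commutator (mem_top _) (mem_top _) }
  set V := MonoidHom.transfer π with hV
  have hPgrp : IsPGroup p (H ⧸ K) := by
    refine (CfsgLib.PResidual.isPGroup_quotient_pResidual (p := p) (G := H)).of_surjective
      (QuotientGroup.map _ K (MonoidHom.id H) le_sup_left) ?_
    intro y
    obtain ⟨x, rfl⟩ := QuotientGroup.mk'_surjective K y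
    exact ⟨x, rfl⟩
  have hker : Cfsg.pResidual p G ⊔ commutator G ≤ V.ker := by
    refine sup_le ((closure_le _).2 fun x hx => ?_) (Abelianization.commutator_subset_ker V)
    obtain ⟨e, he⟩ := IsPGroup.iff_orderOf.1 hPgrp (V x)
    refine MonoidHom.mem_ker.2 (orderOf_eq_one_iff.1 ?_)
    exact Nat.eq_one_of_dvd_coprimes (Nat.Coprime.pow_right e hx) (orderOf_map_dvd V x) (dvd_of_eq he)
  intro x hx'
  obtain ⟨hx, hxH⟩ := mem_inf.1 hx'
  obtain ⟨a, b, hab, ⟨i, hi⟩, ⟨j, hj⟩, hpa, hpb⟩ := CfsgLib.FGSBSmall.exists_prime_split hp.out x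
  have haH : a ∈ H := hi ▸ zpow_mem hxH i
  have hbH : b ∈ H := hj ▸ zpow_mem hxH j
  have hbK : (⟨b, hbH⟩ : H) ∈ K :=
    mem_sup_left (CfsgLib.PResidual.mem_pResidual p (by rwa [Subgroup.orderOf_mk]))
  have hbV : V b = 1 := hker (mem_sup_left (CfsgLib.PResidual.mem_pResidual p hpb))
  have haV : V a = 1 := by
    have h1 : V x = 1 := hker hx
    rwa [← hab, map_mul, hbV, mul_one] at h1
  have haK : (⟨a, haH⟩ : H) ∈ K := by
    by_contra h
    refine transfer_ne_one π hidx haH hpa (fun h' => h ((QuotientGroup.eq_one_iff _).1 h')) (fun k g₀ hk => ?_) haV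
    obtain ⟨c, hc, hcc⟩ := hfus (a ^ k) (pow_mem haH k) (by
      obtain ⟨e, he⟩ := hpa
      obtain ⟨l, -, hl⟩ := (Nat.dvd_prime_pow hp.out).1 (he ▸ orderOf_pow_dvd k : orderOf (a ^ k) ∣ p ^ e)
      exact ⟨l, hl⟩) g₀⁻¹ (by rwa [inv_inv])
    have e : (⟨g₀⁻¹ * a ^ k * g₀, hk⟩ : H) = ⟨c, hc⟩ * ⟨a, haH⟩ ^ k * (⟨c, hc⟩ : H)⁻¹ := Subtype.ext (by
      simpa [inv_inv] using hcc.symm)
    rw [e, map_mul, map_mul, map_inv, mul_comm (π ⟨c, hc⟩), mul_inv_cancel_right, map_pow]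
  exact ⟨⟨a, haH⟩ * ⟨b, hbH⟩, mul_mem haK hbK, hab⟩

end CfsgLib.FocalTransfer
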