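import Mathlib.GroupTheory.SpecificGroups.KleinFour
import Mathlib.GroupTheory.SpecificGroups.Quaternion
import Cfsg.Agent.S3742

/-!
Automizers of four-groups and quaternion groups of order eight.
-/

set_option autoImplicit false
set_option linter.unusedSectionVars false
set_option linter.deprecated false
set_option linter.style.haveILetI false

namespace CfsgLib.AutomizerSix

open Subgroup

variable {G : Type*} [Group G] [Finite G]

instance centralizer_normal (T : Subgroup G) :
    ((centralizer (T : Set G)).subgroupOf (normalizer (T : Set G))).Normal := by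
  rw [← normalizerMonoidHom_ker]; infer_instance

theorem relIndex_dvd_aut (T : Subgroup G) :
    (centralizer (T : Set G)).relIndex (normalizer (T : Set G)) ∣ Nat.card (MulAut T) := by
  rw [relIndex, ← normalizerMonoidHom_ker, index_ker]
  exact card_subgroup_dvd_card _

theorem klein_six {T : Subgroup G} (hT : IsKleinFour T) :
    (centralizer (T : Set G)).relIndex (normalizer (T : Set G)) ∣ 6 := by
  haveI := hT
  have hne : ∀ (e : MulAut T) (t : T), e t ≠ 1 ↔ t ≠ 1 := fun e t => not_congr (map_eq_one_iff e e.injective)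
  let f : MulAut T →* Equiv.Perm {t : T // t ≠ 1} := MonoidHom.mk'
    (fun e => e.toEquiv.subtypeEquiv fun t => (hne e t).symm) (fun e e' => Equiv.ext fun t => Subtype.ext rfl)
  have hf : Function.Injective f := fun e e' h => MulEquiv.ext fun t => by
    by_cases ht : t = 1
    · simp [ht]
    exact congrArg Subtype.val (DFunLike.congr_fun h ⟨t, ht⟩)
  refine (relIndex_dvd_aut T).trans ((card_dvd_of_injective f hf).trans (dvd_of_eq ?_))
  rw [Nat.card_perm]
  have : Nat.card {t : T // t ≠ 1} = 3 := by
    classical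
    haveI : Fintype T := Fintype.ofFinite _
    rw [Nat.card_eq_fintype_card, Fintype.card_subtype_compl, Fintype.card_subtype_eq, ← Nat.card_eq_fintype_card,
      hT.card_four]
  rw [this]; rfl

theorem card_aut_quaternion {Q : Subgroup G} (e : Q ≃* QuaternionGroup 2) : Nat.card (MulAut Q) = 24 := by
  obtain ⟨f⟩ := Cfsg.Agent.S3742.result
  rw [Nat.card_congr ((MulAut.congr e).trans f).toEquiv, Nat.card_perm, Nat.card_fin]
  rfl

theorem card_center_quaternion {Q : Subgroup G} (e : Q ≃* QuaternionGroup 2) :
    Nat.card (center Q) = 2 := by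
  rw [Nat.card_congr (Subgroup.centerCongr e).toEquiv, Nat.card_eq_fintype_card]
  decide +kernel

theorem quaternion_six {Q : Subgroup G} (e : Q ≃* QuaternionGroup 2) :
    (Q ⊔ centralizer (Q : Set G)).relIndex (normalizer (Q : Set G)) ∣ 6 := by
  set C := centralizer (Q : Set G)
  set N := normalizer (Q : Set G)
  have h1 : C.relIndex (Q ⊔ C) * (Q ⊔ C).relIndex N = C.relIndex N :=
    relIndex_mul_relIndex C (Q ⊔ C) N le_sup_right (sup_le le_normalizer (centralizer_le_normalizer _))
  have h2 : C.relIndex (Q ⊔ C) = 4 := by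
    have hQN : Q ≤ N := le_normalizer
    have hCN : C ≤ N := centralizer_le_normalizer _
    haveI : (C.subgroupOf N).Normal := centralizer_normal Q
    rw [← relIndex_subgroupOf (sup_le hQN hCN), subgroupOf_sup hQN hCN, relIndex_sup_right,
      relIndex_subgroupOf hQN, relIndex]
    have hc : C.subgroupOf Q = center Q := by
      ext q
      rw [mem_subgroupOf, mem_center_iff, mem_centralizer_iff]
      exact ⟨fun h r => Subtype.ext (h r r.2), fun h r hr => congrArg Subtype.val (h ⟨r, hr⟩)⟩
    have := (center Q).index_mul_card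
    rw [card_center_quaternion e, Nat.card_congr e.toEquiv, Nat.card_eq_fintype_card, QuaternionGroup.card] at this
    rw [hc]
    omega
  have h3 := relIndex_dvd_aut Q
  rw [card_aut_quaternion e, ← h1, h2] at h3
  exact Nat.dvd_of_mul_dvd_mul_left (by norm_num : 0 < 4) (h3.trans (dvd_of_eq (by norm_num)))

/-- A 2-element of the normalizer outside a normal subgroup makes the index even. -/
theorem two_dvd_relIndex {H N : Subgroup G} (hH : (H.subgroupOf N).Normal) {n : G} (hn : n ∈ N) (hnH : n ∉ H)
    {k : ℕ} (hk : n ^ 2 ^ k = 1) : 2 ∣ H.relIndex N := by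
  haveI := hH
  haveI : Fact (Nat.Prime 2) := ⟨Nat.prime_two⟩
  set π := QuotientGroup.mk' (H.subgroupOf N)
  have h1 : π ⟨n, hn⟩ ≠ 1 := fun h => hnH (mem_subgroupOf.1 ((QuotientGroup.eq_one_iff _).1 h))
  have h2 : orderOf (π ⟨n, hn⟩) ∣ 2 ^ k := by
    refine orderOf_dvd_of_pow_eq_one ?_
    rw [← map_pow, show (⟨n, hn⟩ : N) ^ 2 ^ k = 1 from Subtype.ext hk, map_one]
  obtain ⟨j, -, hj⟩ := (Nat.dvd_prime_pow Nat.prime_two).1 h2
  have hj0 : j ≠ 0 := fun h => h1 (orderOf_eq_one_iff.1 (by rw [hj, h, pow_zero]))
  exact dvd_trans (dvd_pow_self 2 hj0) (hj ▸ orderOf_dvd_natCard _)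

theorem six_cases {n : ℕ} (h6 : n ∣ 6) (h2 : 2 ∣ n) : n = 2 ∨ n = 6 := by
  have := Nat.le_of_dvd (by norm_num) h6
  interval_cases n <;> omega

end CfsgLib.AutomizerSix
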