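import Cfsg.Prelude.Def_Involutions
import Cfsg.Agent.Invol.Dihedral
import Mathlib.GroupTheory.Sylow
import Mathlib.GroupTheory.GroupAction.Quotient

/-!
# Involutions and cosets of a strongly embedded subgroup
-/

set_option autoImplicit false

namespace CfsgLib.StrongEmbed

open Subgroup

variable {G : Type*} [Group G] [Finite G] {H : Subgroup G} (hH : Cfsg.IsStronglyEmbedded H)

include hH in
theorem mem_of_conj_mem {g s : G} (hs : s ∈ H) (ho : orderOf s = 2) (hg : g⁻¹ * s * g ∈ H) : g ∈ H := by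
  by_contra hgH
  refine Nat.not_even_iff_odd.2 (hH.2.2 g hgH) (even_iff_two_dvd.2 (ho ▸ orderOf_dvd_natCard _ ?_))
  exact ⟨hs, g⁻¹ * s * g, hg, by simp [mul_assoc]⟩

include hH in
theorem mem_of_commute {c s : G} (hs : s ∈ H) (ho : orderOf s = 2) (hc : Commute c s) : c ∈ H :=
  mem_of_conj_mem hH hs ho (by rw [mul_assoc, ← hc.eq, inv_mul_cancel_left]; exact hs)

include hH in
theorem exists_invol : ∃ a ∈ H, orderOf a = 2 := by
  haveI : Fact (Nat.Prime 2) := ⟨Nat.prime_two⟩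
  obtain ⟨a, ha⟩ := exists_prime_orderOf_dvd_card' (G := H) 2 (even_iff_two_dvd.1 hH.2.1)
  exact ⟨a, a.2, by rwa [Subgroup.orderOf_coe]⟩

include hH in
theorem odd_mul {a u : G} (ha : a ∈ H) (ha2 : orderOf a = 2) (hu2 : orderOf u = 2) (huH : u ∉ H) :
    Odd (orderOf (a * u)) := by
  by_contra hev
  obtain ⟨m, hm⟩ := Nat.not_odd_iff_even.1 hev
  have haa : a * a = 1 := CfsgLib.Invol.mul_self_eq_one ha2
  have huu : u * u = 1 := CfsgLib.Invol.mul_self_eq_one hu2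
  set r := a * u with hr
  have hm0 : m ≠ 0 := fun h => by
    have := (isOfFinOrder_of_finite r).orderOf_pos
    omega
  set c := r ^ m
  have hc1 : c * c = 1 := by rw [← pow_add, ← hm, pow_orderOf_eq_one]
  have hc2 : c ≠ 1 := fun h => by
    have := Nat.le_of_dvd (by omega) (orderOf_dvd_of_pow_eq_one h)
    omega
  have hco : orderOf c = 2 := CfsgLib.Invol.orderOf_eq_two hc1 hc2
  have hai : a * r * a⁻¹ = r⁻¹ := by
    rw [hr, mul_inv_rev, ← mul_assoc, haa, one_mul, CfsgLib.Invol.inv_eq_self ha2, CfsgLib.Invol.inv_eq_self hu2]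
  have hca : Commute c a := by
    have h1 : a * c * a⁻¹ = c := by
      rw [← conj_pow, hai, inv_pow, inv_eq_of_mul_eq_one_right hc1]
    exact (mul_inv_eq_iff_eq_mul.1 h1).symm
  have hcu : Commute c u := by
    have e : u = a * r := by rw [hr, ← mul_assoc, haa, one_mul]
    rw [e]
    exact hca.mul_right ((Commute.refl r).pow_left m)
  exact huH (mem_of_commute hH (mem_of_commute hH ha ha2 hca) hco hcu.symm)

include hH in
theorem exists_link {a u : G} (ha : a ∈ H) (ha2 : orderOf a = 2) (hu2 : orderOf u = 2) (huH : u ∉ H) :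
    ∃ k : G, orderOf k = 2 ∧ k ∉ H ∧ k * a * k = u := by
  obtain ⟨m, hm⟩ := odd_mul hH ha ha2 hu2 huH
  have haa : a * a = 1 := CfsgLib.Invol.mul_self_eq_one ha2
  set r := a * u with hr
  have hai : a * r * a = r⁻¹ := by
    rw [hr, mul_inv_rev, ← mul_assoc, haa, one_mul, CfsgLib.Invol.inv_eq_self ha2, CfsgLib.Invol.inv_eq_self hu2]
  have hak : ∀ j : ℕ, a * r ^ j * a = (r ^ j)⁻¹ := fun j => by
    rw [← inv_pow, ← hai]
    conv_rhs => rw [show a * r * a = a * r * a⁻¹ by rw [CfsgLib.Invol.inv_eq_self ha2], conj_pow,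
      CfsgLib.Invol.inv_eq_self ha2]
  refine ⟨a * r ^ (m + 1), ?_⟩
  have hkk : a * r ^ (m + 1) * (a * r ^ (m + 1)) = 1 := by rw [← mul_assoc, hak, inv_mul_cancel]
  have hku : a * r ^ (m + 1) * a * (a * r ^ (m + 1)) = u := by
    rw [mul_assoc (a * r ^ (m + 1)), ← mul_assoc a a, haa, one_mul, mul_assoc, ← pow_add,
      show m + 1 + (m + 1) = orderOf r + 1 by omega, pow_succ, pow_orderOf_eq_one, one_mul, hr, ← mul_assoc, haa,
      one_mul]
  have hkH : a * r ^ (m + 1) ∉ H := fun h => huH (hku ▸ mul_mem (mul_mem h ha) h)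
  exact ⟨CfsgLib.Invol.orderOf_eq_two hkk fun h => hkH (h ▸ one_mem H), hkH, hku⟩

theorem link_mem (hH : Cfsg.IsStronglyEmbedded H) {a k : G} (ha : a ∈ H) (ha2 : orderOf a = 2)
    (hk : orderOf k = 2) (h : k * a * k ∈ H) : k ∈ H := by
  refine mem_of_conj_mem hH ha ha2 ?_
  rwa [CfsgLib.Invol.inv_eq_self hk]

theorem orderOf_link {a k : G} (ha2 : orderOf a = 2) (hk : orderOf k = 2) : orderOf (k * a * k) = 2 := by
  rw [show k * a * k = k * a * k⁻¹ by rw [CfsgLib.Invol.inv_eq_self hk], CfsgLib.Invol.orderOf_conj_eq, ha2]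

include hH in
theorem link_inj {a k k' : G} (ha : a ∈ H) (ha2 : orderOf a = 2) (hk : orderOf k = 2) (hkH : k ∉ H)
    (hk' : orderOf k' = 2) (hkH' : k' ∉ H) (h : k * a * k = k' * a * k') : k = k' := by
  let T := {v : G // orderOf v = 2 ∧ v ∉ H}
  let f : T → T := fun v => ⟨v.1 * a * v.1, orderOf_link ha2 v.2.1, fun hv => v.2.2 (link_mem hH ha ha2 v.2.1 hv)⟩
  have hs : Function.Surjective f := fun v => by
    obtain ⟨w, h1, h2, h3⟩ := exists_link hH ha ha2 v.2.1 v.2.2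
    exact ⟨⟨w, h1, h2⟩, Subtype.ext h3⟩
  exact congrArg Subtype.val
    ((Finite.injective_iff_surjective.2 hs) (a₁ := ⟨k, hk, hkH⟩) (a₂ := ⟨k', hk', hkH'⟩) (Subtype.ext h))

include hH in
theorem isConj_of_invols {a b : G} (ha : orderOf a = 2) (hb : orderOf b = 2) : IsConj a b := by
  obtain ⟨s, hs, hs2⟩ := exists_invol hH
  have key : ∀ u, orderOf u = 2 → u ∉ H → IsConj s u := fun u hu huH => by
    obtain ⟨k, hk, -, h⟩ := exists_link hH hs hs2 hu huH
    exact isConj_iff.2 ⟨k, by rw [CfsgLib.Invol.inv_eq_self hk, h]⟩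
  obtain ⟨g, -, hg⟩ := SetLike.exists_of_lt (lt_top_iff_ne_top.2 hH.1)
  have hall : ∀ u, orderOf u = 2 → IsConj s u := fun u hu => by
    by_cases huH : u ∈ H
    · have h1 : g * s * g⁻¹ ∉ H := fun h => hg (by
        have h2 := mem_of_conj_mem hH hs hs2 (g := g⁻¹) (by rwa [inv_inv])
        simpa using h2)
      have h2 : orderOf (g * s * g⁻¹) = 2 := by rw [CfsgLib.Invol.orderOf_conj_eq, hs2]
      obtain ⟨k, hk, -, h⟩ := exists_link hH huH hu h2 h1
      exact (key _ h2 h1).trans (isConj_iff.2 ⟨k, by rw [CfsgLib.Invol.inv_eq_self hk, h]⟩ : IsConj u _).symm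
    · exact key u hu huH
  exact (hall a ha).symm.trans (hall b hb)

/-! ### Cosets -/

theorem smul_mk_one_eq {g : G} : g • (QuotientGroup.mk (1 : G) : G ⧸ H) = QuotientGroup.mk g := by
  rw [MulAction.Quotient.smul_mk, smul_eq_mul, mul_one]

theorem smul_mk_one_iff {g : G} : g • (QuotientGroup.mk (1 : G) : G ⧸ H) = QuotientGroup.mk 1 ↔ g ∈ H := by
  rw [smul_mk_one_eq, eq_comm, QuotientGroup.eq, inv_one, one_mul]

theorem smul_mk_iff {g k : G} : g • (QuotientGroup.mk k : G ⧸ H) = QuotientGroup.mk k ↔ k⁻¹ * g * k ∈ H := by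
  rw [MulAction.Quotient.smul_mk, eq_comm, QuotientGroup.eq, smul_eq_mul, mul_assoc]

include hH in
theorem fix_unique {i : G} (hi : orderOf i = 2) {x y : G ⧸ H} (hx : i • x = x) (hy : i • y = y) : x = y := by
  obtain ⟨g, rfl⟩ := QuotientGroup.mk_surjective x
  obtain ⟨k, rfl⟩ := QuotientGroup.mk_surjective y
  rw [smul_mk_iff] at hx hy
  refine QuotientGroup.eq.2 (mem_of_conj_mem hH hx ?_ ?_)
  · rw [show g⁻¹ * i * g = g⁻¹ * i * g⁻¹⁻¹ by rw [inv_inv], CfsgLib.Invol.orderOf_conj_eq, hi]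
  · rwa [show (g⁻¹ * k)⁻¹ * (g⁻¹ * i * g) * (g⁻¹ * k) = k⁻¹ * i * k by group]

include hH in
theorem exists_fix {i : G} (hi : orderOf i = 2) : ∃ x : G ⧸ H, i • x = x := by
  obtain ⟨s, hs, hs2⟩ := exists_invol hH
  obtain ⟨g, hg⟩ := isConj_iff.1 (isConj_of_invols hH hs2 hi)
  exact ⟨QuotientGroup.mk g, smul_mk_iff.2 (by rw [← hg]; simpa [mul_assoc] using hs)⟩

/-- Every coset is fixed by as many involutions as the base coset. -/
theorem card_fix (x : G ⧸ H) :
    Nat.card {i : G // orderOf i = 2 ∧ i • x = x} = Nat.card {t : G // orderOf t = 2 ∧ t ∈ H} := by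
  obtain ⟨g, rfl⟩ := QuotientGroup.mk_surjective x
  refine Nat.card_congr (Equiv.subtypeEquiv (MulAut.conj g⁻¹).toEquiv fun i => ?_)
  show _ ↔ orderOf (g⁻¹ * i * g⁻¹⁻¹) = 2 ∧ g⁻¹ * i * g⁻¹⁻¹ ∈ H
  rw [CfsgLib.Invol.orderOf_conj_eq, smul_mk_iff, inv_inv]

include hH in
/-- The involutions linking a fixed involution of `H` map a coset to the fixed coset of the image. -/
theorem link_fix {a k : G} (ha : a ∈ H) (hk : orderOf k = 2) :
    (k * a * k) • (k • (QuotientGroup.mk (1 : G) : G ⧸ H)) = k • (QuotientGroup.mk (1 : G) : G ⧸ H) := by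
  rw [smul_smul, mul_assoc _ k k, CfsgLib.Invol.mul_self_eq_one hk, mul_one, mul_smul, smul_mk_one_iff.2 ha]

include hH in
theorem card_swap_one {y : G ⧸ H} (hy : y ≠ QuotientGroup.mk 1) :
    Nat.card {k : G // orderOf k = 2 ∧ k • (QuotientGroup.mk (1 : G) : G ⧸ H) = y} =
      Nat.card {t : G // orderOf t = 2 ∧ t ∈ H} := by
  obtain ⟨a, ha, ha2⟩ := exists_invol hH
  have hkH : ∀ k : {k : G // orderOf k = 2 ∧ k • (QuotientGroup.mk (1 : G) : G ⧸ H) = y}, k.1 ∉ H := fun k h =>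
    hy (k.2.2.symm.trans (smul_mk_one_iff.2 h))
  rw [← card_fix y]
  refine Nat.card_congr (Equiv.ofBijective (fun k => ⟨k.1 * a * k.1, orderOf_link ha2 k.2.1, ?_⟩) ⟨?_, ?_⟩)
  · have := link_fix hH ha k.2.1
    rwa [k.2.2] at this
  · intro k k' h
    exact Subtype.ext (link_inj hH ha ha2 k.2.1 (hkH k) k'.2.1 (hkH k') (congrArg Subtype.val h))
  · intro v
    have hvH : v.1 ∉ H := fun h => hy (fix_unique hH v.2.1 v.2.2 (smul_mk_one_iff.2 h))
    obtain ⟨k, hk, hkH', hku⟩ := exists_link hH ha ha2 v.2.1 hvH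
    refine ⟨⟨k, hk, fix_unique hH v.2.1 ?_ v.2.2⟩, Subtype.ext hku⟩
    rw [← hku]
    exact link_fix hH ha hk

include hH in
theorem card_swap {x y : G ⧸ H} (hxy : x ≠ y) :
    Nat.card {i : G // orderOf i = 2 ∧ i • x = y} = Nat.card {t : G // orderOf t = 2 ∧ t ∈ H} := by
  obtain ⟨g, rfl⟩ := QuotientGroup.mk_surjective x
  rw [← card_swap_one hH (y := g⁻¹ • y) fun h => hxy (by rw [← smul_inv_smul g y, h, smul_mk_one_eq])]
  refine Nat.card_congr (Equiv.subtypeEquiv (MulAut.conj g⁻¹).toEquiv fun i => ?_)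
  show _ ↔ orderOf (g⁻¹ * i * g⁻¹⁻¹) = 2 ∧ (g⁻¹ * i * g⁻¹⁻¹) • (QuotientGroup.mk (1 : G) : G ⧸ H) = _
  rw [CfsgLib.Invol.orderOf_conj_eq, inv_inv, mul_smul, mul_smul, smul_mk_one_eq, smul_left_cancel_iff]

include hH in
theorem exists_swap {x y : G ⧸ H} (hxy : x ≠ y) : ∃ i : G, orderOf i = 2 ∧ i • x = y := by
  obtain ⟨a, ha, ha2⟩ := exists_invol hH
  haveI : Nonempty {t : G // orderOf t = 2 ∧ t ∈ H} := ⟨⟨a, ha2, ha⟩⟩
  have h : 0 < Nat.card {i : G // orderOf i = 2 ∧ i • x = y} := card_swap hH hxy ▸ Nat.card_pos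
  obtain ⟨⟨i, hi⟩⟩ := (Nat.card_pos_iff.1 h).1
  exact ⟨i, hi⟩

theorem mem_inf_conj_iff {u d : G} : d ∈ H ⊓ H.map (MulAut.conj u).toMonoidHom ↔ d ∈ H ∧ u⁻¹ * d * u ∈ H := by
  refine and_congr Iff.rfl ⟨?_, fun h => ⟨_, h, by simp [mul_assoc]⟩⟩
  rintro ⟨w, hw, rfl⟩
  simpa [mul_assoc] using hw

include hH in
theorem exists_conj_in_stabilizer {u : G} (hu : orderOf u = 2) (huH : u ∉ H) {s t : G} (hs2 : orderOf s = 2)
    (hsH : s ∈ H) (ht2 : orderOf t = 2) (htH : t ∈ H) :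
    ∃ d ∈ H ⊓ H.map (MulAut.conj u).toMonoidHom, d * s * d⁻¹ = t := by
  set o : G ⧸ H := QuotientGroup.mk 1
  set y : G ⧸ H := QuotientGroup.mk u
  have hy : y ≠ o := fun h => huH (smul_mk_one_iff.1 (smul_mk_one_eq.trans h))
  set v := u * s * u
  have hv2 : orderOf v = 2 := orderOf_link hs2 hu
  have hvy : v • y = y := by
    have := link_fix hH hsH hu
    rwa [smul_mk_one_eq] at this
  have hvH : v ∉ H := fun h => hy (fix_unique hH hv2 hvy (smul_mk_one_iff.2 h))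
  obtain ⟨k, hk, -, hkv⟩ := exists_link hH htH ht2 hv2 hvH
  have hky : k • o = y := fix_unique hH hv2 (hkv ▸ link_fix hH htH hk) hvy
  have huo : u • o = y := smul_mk_one_eq
  have hku : k • y = o := by rw [← hky, smul_smul, CfsgLib.Invol.mul_self_eq_one hk, one_smul]
  have huy : u • y = o := by rw [← huo, smul_smul, CfsgLib.Invol.mul_self_eq_one hu, one_smul]
  refine ⟨k * u, mem_inf_conj_iff.2 ⟨smul_mk_one_iff.1 ?_, smul_mk_iff.1 ?_⟩, ?_⟩
  · rw [mul_smul, huo, hku]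
  · show (k * u) • y = y
    rw [mul_smul, huy, hky]
  · rw [mul_inv_rev, CfsgLib.Invol.inv_eq_self hk, CfsgLib.Invol.inv_eq_self hu,
      show k * u * s * (u * k) = k * (u * s * u) * k by group, ← show k * t * k = u * s * u from hkv,
      show k * (k * t * k) * k = k * k * t * (k * k) by group, CfsgLib.Invol.mul_self_eq_one hk]
    group

end CfsgLib.StrongEmbed
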