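import Cfsg.Agent.Invol.DihedralFour
import Cfsg.Agent.Transfer.Frobenius
import Cfsg.Agent.KGroup.DihedralAut
import Cfsg.Prelude.Def_TwoFusion

/-!
Fusion in groups with a dihedral Sylow 2-subgroup.
-/

set_option autoImplicit false
set_option linter.unusedSectionVars false
set_option linter.deprecated false
set_option linter.style.haveILetI false
set_option linter.style.multiGoal false

namespace CfsgLib.DihFour

open Subgroup

universe u

variable {X : Type u} [Group X]

/-- An automorphism group of order divisible by three fuses the involutions of a four-group. -/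
theorem isConj_of_three [Finite X] {U : Subgroup X} (hU : IsKleinFour U)
    (h3 : 3 ∣ (centralizer (U : Set X)).relIndex (normalizer (U : Set X))) {a b : X}
    (ha : a ∈ U) (hb : b ∈ U) (ha1 : a ≠ 1) (hb1 : b ≠ 1) : IsConj a b := by
  haveI := hU
  haveI : Fact (Nat.Prime 3) := ⟨Nat.prime_three⟩
  set N := normalizer (U : Set X)
  set C := (centralizer (U : Set X)).subgroupOf N with hC
  have hmem : ∀ g : N, g ∈ C ↔ ∀ u ∈ U, (g : X) * u * (g : X)⁻¹ = u := fun g => by
    rw [hC, mem_subgroupOf, mem_centralizer_iff]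
    exact ⟨fun h u hu => by rw [← h u hu, mul_inv_cancel_right],
      fun h u hu => (mul_inv_eq_iff_eq_mul.1 (h u hu)).symm⟩
  haveI hCn : C.Normal := ⟨fun n hn g => (hmem _).2 fun u hu => by
    have h1 := (hmem n).1 hn _ ((mem_normalizer_iff.1 (inv_mem g.2) u).1 hu)
    rw [inv_inv] at h1
    calc ((g * n * g⁻¹ : N) : X) * u * ((g * n * g⁻¹ : N) : X)⁻¹
        = (g : X) * ((n : X) * ((g : X)⁻¹ * u * g) * (n : X)⁻¹) * (g : X)⁻¹ := by
          simp [mul_assoc]
      _ = u := by rw [h1]; group⟩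
  obtain ⟨g', hg'⟩ := exists_prime_orderOf_dvd_card' (G := N ⧸ C) 3 (by exact h3)
  obtain ⟨g, rfl⟩ := QuotientGroup.mk_surjective g'
  have hgC : g ∉ C := fun h => by
    rw [(QuotientGroup.eq_one_iff g).2 h, orderOf_one] at hg'
    omega
  have hg3 : ∀ u ∈ U, (g : X) * ((g : X) * ((g : X) * u * (g : X)⁻¹) * (g : X)⁻¹) * (g : X)⁻¹ = u := by
    intro u hu
    have h1 : g * g * g ∈ C := by
      rw [← QuotientGroup.eq_one_iff, show g * g * g = g ^ 3 by rw [pow_succ, pow_two], QuotientGroup.mk_pow, ← hg',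
        pow_orderOf_eq_one]
    refine Eq.trans ?_ ((hmem _).1 h1 u hu)
    simp [mul_assoc]
  let σ : X → X := fun u => (g : X) * u * (g : X)⁻¹
  have hσU : ∀ u ∈ U, σ u ∈ U := fun u hu => (mem_normalizer_iff.1 g.2 u).1 hu
  have hσ1 : ∀ {u}, u ≠ 1 → σ u ≠ 1 := fun hu h => hu (conj_eq_one_iff.1 h)
  have hσ : ∀ {u v}, σ u = σ v → u = v := fun h => (MulAut.conj (g : X)).injective h
  have hthird : ∀ x y w : X, x ∈ U → y ∈ U → w ∈ U → x ≠ 1 → y ≠ 1 → x ≠ y → w ≠ 1 → w ≠ x → w ≠ y →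
      w = x * y := fun x y w hx hy hw h1 h2 h3 h4 h5 h6 =>
    congrArg Subtype.val (IsKleinFour.eq_mul_of_ne_all (x := (⟨x, hx⟩ : U)) (y := ⟨y, hy⟩) (z := ⟨w, hw⟩)
      (fun h => h1 (congrArg Subtype.val h)) (fun h => h2 (congrArg Subtype.val h))
      (fun h => h3 (congrArg Subtype.val h)) (fun h => h4 (congrArg Subtype.val h))
      (fun h => h5 (congrArg Subtype.val h)) (fun h => h6 (congrArg Subtype.val h)))
  -- `σ` has no fixed involution
  have hfix : ∀ u ∈ U, u ≠ 1 → σ u ≠ u := by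
    intro u hu hu1 hσu
    refine hgC ((hmem g).2 fun v hv => ?_)
    by_cases hv1 : v = 1
    · simp [hv1]
    by_cases hvu : v = u
    · rw [hvu]; exact hσu
    by_contra hσv
    have e1 : σ v = u * v := hthird u v _ hu hv (hσU v hv) hu1 hv1 (Ne.symm hvu) (hσ1 hv1)
      (fun h => hvu (hσ (h.trans hσu.symm))) hσv
    have e2 : σ (u * v) = v := by
      have : σ (u * v) = σ u * σ v := map_mul (MulAut.conj (g : X)) u v
      rw [this, hσu, e1, ← mul_assoc,
        show u * u = 1 from congrArg Subtype.val (IsKleinFour.mul_self (⟨u, hu⟩ : U)), one_mul]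
    have e3 : σ (σ (σ v)) = v := hg3 v hv
    rw [e1, e2, e1] at e3
    exact hu1 (by simpa using e3)
  by_cases hab : a = b
  · rw [hab]
  have n1 := hfix a ha ha1
  by_cases h1 : σ a = b
  · exact h1 ▸ isConj_iff.2 ⟨g, rfl⟩
  refine isConj_iff.2 ⟨g * g, ?_⟩
  have e1 : σ a = a * b := hthird a b _ ha hb (hσU a ha) ha1 hb1 hab (hσ1 ha1) n1 h1
  have n2 := hfix (σ a) (hσU a ha) (hσ1 ha1)
  have n3 : σ (σ a) ≠ a := fun h => n1 (by
    have e : σ (σ (σ a)) = a := hg3 a ha
    rwa [h] at e)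
  rw [show (g : X) * g * a * ((g : X) * g)⁻¹ = σ (σ a) by simp [σ, mul_assoc]]
  by_contra h2
  exact n2 ((hthird a b _ ha hb (hσU _ (hσU a ha)) ha1 hb1 hab (hσ1 (hσ1 ha1)) n3 h2).trans e1.symm)

namespace Data

variable {S : Subgroup X} (D : Data S)
include D

theorem invol_cases {w : X} (hw : w ∈ S) (h : w * w = 1) (h1 : w ≠ 1) :
    w = D.z ∨ ∃ i : ℤ, w = D.r ^ i * D.s := by
  obtain ⟨i, rfl | rfl⟩ := D.cases w hw
  · exact Or.inl ((D.rpow_inv_of_sq h).resolve_left h1)
  · exact Or.inr ⟨i, rfl⟩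

theorem z_orderOf : orderOf D.z = 2 := CfsgLib.Invol.orderOf_eq_two D.z_sq D.z_ne

theorem refl_orderOf (i : ℤ) : orderOf (D.r ^ i * D.s) = 2 :=
  CfsgLib.Invol.orderOf_eq_two (D.refl_sq i) (D.refl_ne_one i)

theorem zpowers_relIndex : (zpowers D.r).relIndex S = 2 := by
  have hle : zpowers D.r ≤ S := zpowers_le.2 D.rS
  have e := index_mul_card ((zpowers D.r).subgroupOf S)
  rw [Nat.card_congr (subgroupOfEquivOfLe hle).toEquiv, Nat.card_zpowers, D.hr, D.card_eq] at e
  rw [relIndex]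
  exact Nat.eq_of_mul_eq_mul_right (show 0 < 2 * D.h by have := D.h_pos; omega) (by rw [e]; ring)

/-- Without a subgroup of index two all involutions are fused. -/
theorem all_conj_of_no_index_two [Finite X] (hS : Odd S.index) (hsyl : ∀ a : X, orderOf a = 2 → ∃ g : X, g * a * g⁻¹ ∈ S)
    (hno : ∀ H : Subgroup X, H.index ≠ 2) {a : X} (ha : orderOf a = 2) : IsConj a D.z := by
  obtain ⟨g, hg⟩ := hsyl a ha
  refine (isConj_iff.2 ⟨g, rfl⟩).trans ?_
  have h2 := CfsgLib.Invol.mul_self_eq_one (x := g * a * g⁻¹) (by rw [CfsgLib.Invol.orderOf_conj_eq, ha])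
  have h1 : g * a * g⁻¹ ≠ 1 := fun h => CfsgLib.Invol.ne_one ha (conj_eq_one_iff.1 h)
  rcases D.invol_cases hg h2 h1 with h | ⟨i, hi⟩
  · rw [h]
  rcases CfsgLib.ThompsonTransfer.thompson_transfer S (zpowers D.r) hS D.zpowers_relIndex
    (u := D.r ^ i * D.s) (D.refl_sq i) with ⟨M, -, hM, -⟩ | ⟨x, hx⟩
  · exact absurd hM (hno M)
  obtain ⟨j, hj⟩ := mem_zpowers_iff.1 hx
  rw [hi]
  refine isConj_iff.2 ⟨x, ?_⟩
  rw [← hj]
  refine (D.rpow_inv_of_sq (i := j) ?_).resolve_left fun h => D.refl_ne_one i (conj_eq_one_iff.1 (hj.symm.trans h))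
  rw [hj]
  show MulAut.conj x (D.r ^ i * D.s) * MulAut.conj x (D.r ^ i * D.s) = 1
  rw [← map_mul, D.refl_sq, map_one]

theorem no_index_two_of_all_conj [Finite X] (hS : Odd S.index)
    (hall : ∀ a b : X, orderOf a = 2 → orderOf b = 2 → IsConj a b) (H : Subgroup X) : H.index ≠ 2 := by
  intro hH
  haveI := normal_of_index_eq_two hH
  obtain ⟨a, ha, haH⟩ : ∃ a : X, orderOf a = 2 ∧ a ∈ H := by
    by_cases hz : D.z ∈ H
    · exact ⟨_, D.z_orderOf, hz⟩
    by_cases hs : D.s ∈ H
    · exact ⟨_, D.hs, hs⟩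
    exact ⟨D.r ^ (D.h : ℤ) * D.s, D.refl_orderOf _, (mul_mem_iff_of_index_two hH).2 (iff_of_false hz hs)⟩
  have hinv : ∀ b : X, orderOf b = 2 → b ∈ H := fun b hb => by
    obtain ⟨c, rfl⟩ := isConj_iff.1 (hall a b ha hb)
    exact Normal.conj_mem inferInstance _ haH c
  have hs : D.s ∈ H := hinv _ D.hs
  have hr : D.r ∈ H := by
    have := hinv _ (D.refl_orderOf 1)
    rwa [zpow_one, mul_mem_cancel_right hs] at this
  have hle : S ≤ H := fun g hg => by
    obtain ⟨i, rfl | rfl⟩ := D.cases g hg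
    · exact zpow_mem hr i
    · exact mul_mem (zpow_mem hr i) hs
  exact Nat.not_even_iff_odd.2 (hS.of_dvd_nat (index_dvd_of_le hle)) (hH ▸ even_two)

theorem not_isolated_of_all_conj [Finite X] (hall : ∀ a b : X, orderOf a = 2 → orderOf b = 2 → IsConj a b)
    (w : X) : ¬ Cfsg.IsIsolatedInvolution w := by
  rintro ⟨hw, hiso⟩
  obtain ⟨c, hc⟩ := isConj_iff.1 (hall w D.z hw D.z_orderOf)
  obtain ⟨d, hd⟩ := isConj_iff.1 (hall w D.s hw D.hs)
  have hcom : Commute w ((c⁻¹ * d) * w * (c⁻¹ * d)⁻¹) := by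
    have e1 : MulAut.conj c⁻¹ D.z = w := by rw [← hc]; simp [mul_assoc]
    have e2 : MulAut.conj c⁻¹ D.s = (c⁻¹ * d) * w * (c⁻¹ * d)⁻¹ := by rw [← hd]; simp [mul_assoc]
    rw [← e2]
    nth_rw 1 [← e1]
    exact (D.z_comm D.sS).map (MulAut.conj c⁻¹).toMonoidHom
  have h1 := hiso _ hcom
  refine D.s_ne_z ?_
  rw [← hd, ← hc]
  calc d * w * d⁻¹ = c * ((c⁻¹ * d) * w * (c⁻¹ * d)⁻¹) * c⁻¹ := by group
    _ = c * w * c⁻¹ := by rw [h1]

theorem all_conj_of_three [Finite X] (hsyl : ∀ a : X, orderOf a = 2 → ∃ g : X, g * a * g⁻¹ ∈ S)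
    (h3 : ∀ U : Subgroup X, U ≤ S → IsKleinFour U →
      3 ∣ (centralizer (U : Set X)).relIndex (normalizer (U : Set X))) {a : X} (ha : orderOf a = 2) :
    IsConj a D.z := by
  obtain ⟨g, hg⟩ := hsyl a ha
  refine (isConj_iff.2 ⟨g, rfl⟩).trans ?_
  have h2 := CfsgLib.Invol.mul_self_eq_one (x := g * a * g⁻¹) (by rw [CfsgLib.Invol.orderOf_conj_eq, ha])
  have h1 : g * a * g⁻¹ ≠ 1 := fun h => CfsgLib.Invol.ne_one ha (conj_eq_one_iff.1 h)
  rcases D.invol_cases hg h2 h1 with h | ⟨i, hi⟩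
  · rw [h]
  rw [hi]
  exact isConj_of_three (D.four_klein i) (h3 _ (D.four_le i) (D.four_klein i))
    (subset_closure (Or.inr rfl)) (subset_closure (Or.inl rfl)) (D.refl_ne_one i) D.z_ne

/-- An odd-order element normalizing a subgroup of `S` which is not a four-group centralizes it. -/
theorem odd_centralizes [Finite X] {m : ℕ} (e : S →* DihedralGroup m) (he : Function.Injective e)
    (hS2 : IsPGroup 2 S) {Q : Subgroup X} (hQ : Q ≤ S) (hne : ¬ IsKleinFour Q) {y : X}
    (hy : y ∈ normalizer (Q : Set X)) (hodd : Odd (orderOf y)) : y ∈ centralizer (Q : Set X) := by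
  by_cases hbot : Q = ⊥
  · subst hbot
    exact mem_centralizer_iff.2 fun q hq => by rw [SetLike.mem_coe, mem_bot] at hq; simp [hq]
  obtain ⟨t, ht, ht1, hfix⟩ : ∃ t ∈ Q, t ≠ 1 ∧ y * t * y⁻¹ = t := by
    have hconj : ∀ q ∈ Q, y * q * y⁻¹ ∈ Q := fun q hq => (mem_normalizer_iff.1 hy q).1 hq
    by_cases hexp : ∃ c ∈ Q, c * c ≠ 1
    · obtain ⟨c, hc, hc2⟩ := hexp
      have hzpow : ∀ c ∈ Q, c * c ≠ 1 → ∀ e : ℕ, c ^ e ≠ 1 → (c ^ e) * (c ^ e) = 1 → c ^ e = D.z := by
        intro c hc hc2 e he1 he2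
        obtain ⟨i, rfl | rfl⟩ := D.cases c (hQ hc)
        · rw [← zpow_natCast, ← zpow_mul] at he1 he2 ⊢
          exact (D.rpow_inv_of_sq he2).resolve_left he1
        · exact absurd (D.refl_sq i) hc2
      obtain ⟨f, hf⟩ := hS2 ⟨c, hQ hc⟩
      have hf' : c ^ 2 ^ f = 1 := congrArg Subtype.val hf
      obtain ⟨e', he1, he2⟩ : ∃ e' : ℕ, c ^ e' ≠ 1 ∧ c ^ e' * c ^ e' = 1 := by
        classical
        have hex : ∃ n, c ^ 2 ^ n = 1 := ⟨f, hf'⟩
        obtain ⟨n, hn⟩ : ∃ n, Nat.find hex = n + 1 := by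
          refine ⟨Nat.find hex - 1, ?_⟩
          have : Nat.find hex ≠ 0 := fun h => hc2 (by
            have h0 := Nat.find_spec hex
            rw [h, pow_zero, pow_one] at h0
            rw [h0, one_mul])
          omega
        refine ⟨2 ^ n, fun h => ?_, ?_⟩
        · have := Nat.find_min' hex h; omega
        · have h0 := Nat.find_spec hex
          rw [hn, pow_succ, pow_mul, sq] at h0
          exact h0
      have e1 := hzpow c hc hc2 e' he1 he2
      refine ⟨D.z, e1 ▸ pow_mem hc e', D.z_ne, ?_⟩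
      have e2 := hzpow _ (hconj c hc) (fun h => hc2 ((MulAut.conj y).injective (by rw [map_mul, map_one]; exact h))) e'
        (fun h => he1 (by rw [conj_pow] at h; exact conj_eq_one_iff.1 h))
        (by rw [conj_pow]; show MulAut.conj y (c ^ e') * MulAut.conj y (c ^ e') = 1; rw [← map_mul, he2, map_one])
      rw [conj_pow, e1] at e2
      exact e2
    · push Not at hexp
      obtain ⟨t, ht, ht1⟩ := Q.bot_or_exists_ne_one.resolve_left hbot
      refine ⟨t, ht, ht1, ?_⟩
      by_contra hcon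
      refine hne (isKleinFour_mk (le_antisymm ?_ ?_) hexp)
      · let W := Q.subgroupOf S
        have hzr : ∀ i : ℤ, D.r ^ i ∈ Q → D.r ^ i ∈ ({1, D.z} : Set X) := fun i hi => by
          simpa using D.rpow_inv_of_sq (hexp _ hi)
        by_cases hr : ∃ i : ℤ, D.r ^ i * D.s ∈ Q
        · obtain ⟨i, hi⟩ := hr
          have hsub : (Q : Set X) ⊆ {1, D.z, D.r ^ i * D.s, D.z * (D.r ^ i * D.s)} := fun q hq => by
            obtain ⟨j, rfl | rfl⟩ := D.cases q (hQ hq)
            · rcases hzr j hq with h | h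
              · simp [h]
              · simp [Set.mem_singleton_iff.1 h]
            · have h1 := mul_mem hq hi
              rw [D.refl_mul] at h1
              have e1 : D.r ^ j * D.s = D.r ^ (j - i) * (D.r ^ i * D.s) := by
                rw [← mul_assoc, ← zpow_add, sub_add_cancel]
              rcases hzr _ h1 with h | h
              · rw [e1, h]; simp
              · rw [e1, Set.mem_singleton_iff.1 h]; simp
          calc Nat.card Q = (Q : Set X).ncard := Nat.card_coe_set_eq _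
            _ ≤ _ := Set.ncard_le_ncard hsub
            _ ≤ 4 := by
              refine (Set.ncard_insert_le _ _).trans (Nat.succ_le_succ ?_)
              refine (Set.ncard_insert_le _ _).trans (Nat.succ_le_succ ?_)
              exact (Set.ncard_insert_le _ _).trans (by simp)
        · push Not at hr
          have hsub : (Q : Set X) ⊆ {1, D.z} := fun q hq => by
            obtain ⟨j, rfl | rfl⟩ := D.cases q (hQ hq)
            · exact hzr j hq
            · exact absurd hq (hr j)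
          calc Nat.card Q = (Q : Set X).ncard := Nat.card_coe_set_eq _
            _ ≤ _ := Set.ncard_le_ncard hsub
            _ ≤ 4 := (Set.ncard_insert_le _ _).trans (by simp)
      · have h3 : ({1, t, y * t * y⁻¹} : Set X) ⊆ Q := by
          rintro q (rfl | rfl | rfl)
          exacts [one_mem _, ht, hconj t ht]
        have := Set.ncard_le_ncard h3
        rw [Set.ncard_eq_three.2 ⟨_, _, _, ht1.symm, fun h => ht1 (conj_eq_one_iff.1 h.symm), fun h => hcon h.symm, rfl⟩,
          ← Nat.card_coe_set_eq] at this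
        obtain ⟨k, hk⟩ := IsPGroup.iff_card.1 (hS2.to_le hQ)
        rw [SetLike.coe_sort_coe, hk] at this
        rw [hk]
        rcases k with _ | _ | k
        · norm_num at this
        · norm_num at this
        · calc 4 = 2 ^ 2 := by norm_num
            _ ≤ 2 ^ (k + 1 + 1) := Nat.pow_le_pow_right two_pos (by omega)
  exact CfsgLib.DihedralAut.mem_centralizer_of_embedding (hS2.to_le hQ) (e.comp (inclusion hQ))
    (he.comp (inclusion_injective hQ)) hy hodd ht ht1 hfix

end Data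

end CfsgLib.DihFour
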