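import Cfsg.Agent.Invol.StrongEmbedded
import Mathlib.GroupTheory.FixedPointFree
import Mathlib.GroupTheory.SpecificGroups.Cyclic
import Mathlib.GroupTheory.Complement

/-!
# Groups with elementary abelian involution centralizers: the Zassenhaus action
-/

set_option autoImplicit false

namespace CfsgLib.EACent

open Subgroup

variable {G : Type*} [Group G] [Finite G]

/-- The hypotheses: all involution centralizers are elementary abelian 2-groups, and a Sylow
2-subgroup is neither cyclic nor normal. -/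
structure Hyp (T : Sylow 2 G) : Prop where
  /-- not cyclic -/
  notCyclic : ¬ IsCyclic (T : Subgroup G)
  /-- not normal -/
  notNormal : ¬ (T : Subgroup G).Normal
  /-- the centralizers -/
  cent : ∀ t : G, orderOf t = 2 → IsMulCommutative (centralizer ({t} : Set G)) ∧
    ∀ c ∈ centralizer ({t} : Set G), c ^ 2 = 1

variable {T : Sylow 2 G} (hT : Hyp T)

include hT in
theorem T_ne_bot : (T : Subgroup G) ≠ ⊥ := fun h => hT.notCyclic (h ▸ inferInstance)

include hT in
theorem sq_eq_one_of_commute {t c : G} (ht : orderOf t = 2) (hc : Commute c t) : c ^ 2 = 1 :=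
  (hT.cent t ht).2 c (mem_centralizer_singleton_iff.2 hc.eq)

include hT in
theorem central_invol : ∃ z ∈ (T : Subgroup G), orderOf z = 2 ∧ ∀ x ∈ (T : Subgroup G), Commute x z := by
  haveI : Fact (Nat.Prime 2) := ⟨Nat.prime_two⟩
  haveI := (nontrivial_iff_ne_bot (T : Subgroup G)).2 (T_ne_bot hT)
  haveI := T.2.center_nontrivial
  obtain ⟨k, hk⟩ := IsPGroup.iff_card.1 (T.2.to_subgroup (center (T : Subgroup G)))
  have h2 : 2 ∣ Nat.card (center (T : Subgroup G)) := hk ▸ dvd_pow_self 2 fun h0 => by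
    have := Finite.one_lt_card (α := center (T : Subgroup G))
    rw [hk, h0, pow_zero] at this
    omega
  obtain ⟨z, hz⟩ := exists_prime_orderOf_dvd_card' 2 h2
  exact ⟨((z : (T : Subgroup G)) : G), z.1.2, by rwa [Subgroup.orderOf_coe, Subgroup.orderOf_coe],
    fun x hx => congrArg Subtype.val (mem_center_iff.1 z.2 ⟨x, hx⟩)⟩

include hT in
theorem T_sq {x : G} (hx : x ∈ (T : Subgroup G)) : x ^ 2 = 1 := by
  obtain ⟨z, -, hz2, hz⟩ := central_invol hT
  exact sq_eq_one_of_commute hT hz2 (hz x hx)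

include hT in
theorem T_comm {x y : G} (hx : x ∈ (T : Subgroup G)) (hy : y ∈ (T : Subgroup G)) : Commute x y := by
  have h : ∀ {w : G}, w ∈ (T : Subgroup G) → w⁻¹ = w := fun {w} hw =>
    inv_eq_of_mul_eq_one_right (by rw [← sq]; exact T_sq hT hw)
  show x * y = y * x
  rw [← h (mul_mem hx hy), mul_inv_rev, h hx, h hy]

include hT in
theorem centralizer_eq {t : G} (ht : t ∈ (T : Subgroup G)) (ht2 : orderOf t = 2) :
    centralizer ({t} : Set G) = (T : Subgroup G) :=
  T.3 (fun c => ⟨1, Subtype.ext (by push_cast; exact (hT.cent t ht2).2 c c.2)⟩)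
    fun x hx => mem_centralizer_singleton_iff.2 (T_comm hT hx ht).eq

include hT in
theorem mem_T_of_commute {t c : G} (ht : t ∈ (T : Subgroup G)) (ht2 : orderOf t = 2) (hc : Commute c t) :
    c ∈ (T : Subgroup G) :=
  centralizer_eq hT ht ht2 ▸ mem_centralizer_singleton_iff.2 hc.eq

include hT in
theorem invol_mem {t : G} (ht : t ∈ (normalizer ((T : Subgroup G) : Set G))) (ht2 : orderOf t = 2) : t ∈ (T : Subgroup G) := by
  haveI : Fact (Nat.Prime 2) := ⟨Nat.prime_two⟩
  have hp : IsPGroup 2 ((T : Subgroup G) ⊔ zpowers t : Subgroup G) :=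
    T.2.to_sup_of_normal_left' (IsPGroup.of_card (n := 1) (by rw [Nat.card_zpowers, ht2, pow_one]))
      (zpowers_le.2 ht)
  rw [← T.3 hp le_sup_left]
  exact mem_sup_right (mem_zpowers t)

theorem orderOf_eq_two_of_sq {x : G} (h : x ^ 2 = 1) (h1 : x ≠ 1) : orderOf x = 2 :=
  orderOf_eq_prime h h1

include hT in
theorem stronglyEmbedded : Cfsg.IsStronglyEmbedded (normalizer ((T : Subgroup G) : Set G)) := by
  haveI : Fact (Nat.Prime 2) := ⟨Nat.prime_two⟩
  obtain ⟨z, hz, hz2, -⟩ := central_invol hT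
  refine ⟨fun h => hT.notNormal (normalizer_eq_top_iff.1 h), even_iff_two_dvd.2
    (hz2.symm.dvd.trans (orderOf_dvd_natCard _ (le_normalizer hz))), fun g hg => Nat.not_even_iff_odd.1 fun hev => hg ?_⟩
  obtain ⟨w, ho⟩ := exists_prime_orderOf_dvd_card' 2 (even_iff_two_dvd.1 hev)
  rw [← orderOf_coe] at ho
  have hs : (w : G) ∈ (T : Subgroup G) := invol_mem hT w.2.1 ho
  obtain ⟨v, hv, hvs⟩ := w.2.2
  have hgv : g * v * g⁻¹ = (w : G) := hvs
  generalize (w : G) = s at ho hs hgv
  have hv2 : orderOf v = 2 := by rw [← ho, ← hgv, CfsgLib.Invol.orderOf_conj_eq]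
  have hvT := invol_mem hT hv hv2
  refine mem_normalizer_iff_map_conj_eq.2 (Subgroup.eq_of_le_of_card_ge ?_ ?_)
  · rintro _ ⟨x, hx, rfl⟩
    refine mem_T_of_commute hT hs ho ?_
    rw [← hgv]
    exact ((T_comm hT hx hvT).map (MulAut.conj g).toMonoidHom)
  · exact (card_map_of_injective (f := (MulAut.conj g).toMonoidHom) (MulAut.conj g).injective).ge

include hT in
theorem four_le_card : 4 ≤ Nat.card (T : Subgroup G) := by
  haveI : Fact (Nat.Prime 2) := ⟨Nat.prime_two⟩
  obtain ⟨k, hk⟩ := IsPGroup.iff_card.1 T.2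
  rcases Nat.lt_or_ge k 2 with h | h
  · refine absurd ?_ hT.notCyclic
    interval_cases k
    · haveI : Subsingleton (T : Subgroup G) := (Nat.card_eq_one_iff_unique.1 (by rw [hk, pow_zero])).1
      exact isCyclic_of_subsingleton
    · exact isCyclic_of_prime_card (p := 2) (by rw [hk, pow_one])
  · calc 4 = 2 ^ 2 := by norm_num
      _ ≤ 2 ^ k := Nat.pow_le_pow_right (by norm_num) h
      _ = _ := hk.symm

include hT in
/-- The number of involutions of `H`. -/
theorem card_invols : Nat.card {t : G // orderOf t = 2 ∧ t ∈ (normalizer ((T : Subgroup G) : Set G))} = Nat.card (T : Subgroup G) - 1 := by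
  have e : {t : G | orderOf t = 2 ∧ t ∈ (normalizer ((T : Subgroup G) : Set G))} = ((T : Subgroup G) : Set G) \ {1} := by
    ext t
    simp only [Set.mem_setOf_eq, Set.mem_diff, SetLike.mem_coe, Set.mem_singleton_iff]
    refine ⟨fun h => ⟨invol_mem hT h.2 h.1, fun h1 => by rw [h1, orderOf_one] at h; omega⟩,
      fun h => ⟨orderOf_eq_two_of_sq (T_sq hT h.1) h.2, le_normalizer h.1⟩⟩
  show Nat.card ↥{t : G | orderOf t = 2 ∧ t ∈ (normalizer ((T : Subgroup G) : Set G))} = _
  rw [e, Nat.card_coe_set_eq, Set.ncard_diff_singleton_of_mem (one_mem _)]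
  rfl

section Swap

variable {u : G} (hu : orderOf u = 2) (huH : u ∉ (normalizer ((T : Subgroup G) : Set G)))

include hT huH in
theorem odd_D : Odd (Nat.card ↥((normalizer ((T : Subgroup G) : Set G)) ⊓ (normalizer ((T : Subgroup G) : Set G)).map (MulAut.conj u).toMonoidHom)) := (stronglyEmbedded hT).2.2 u huH

include hT huH in
theorem D_commute_invol {d t : G} (hd : d ∈ ((normalizer ((T : Subgroup G) : Set G)) ⊓ (normalizer ((T : Subgroup G) : Set G)).map (MulAut.conj u).toMonoidHom)) (ht : orderOf t = 2) (hc : Commute d t) : d = 1 := by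
  rw [← orderOf_eq_one_iff]
  refine Nat.eq_one_of_dvd_coprimes (Nat.coprime_two_left.2 (odd_D hT huH))
    (orderOf_dvd_of_pow_eq_one (sq_eq_one_of_commute hT ht hc)) (orderOf_dvd_natCard _ hd)

include hT huH in
theorem D_inter_T {d : G} (hd : d ∈ ((normalizer ((T : Subgroup G) : Set G)) ⊓ (normalizer ((T : Subgroup G) : Set G)).map (MulAut.conj u).toMonoidHom)) (hdT : d ∈ (T : Subgroup G)) : d = 1 := by
  obtain ⟨z, -, hz2, hz⟩ := central_invol hT
  exact D_commute_invol hT huH hd hz2 (hz d hdT)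

include hT hu huH in
theorem exists_split {h : G} (hh : h ∈ (normalizer ((T : Subgroup G) : Set G))) : ∃ d ∈ ((normalizer ((T : Subgroup G) : Set G)) ⊓ (normalizer ((T : Subgroup G) : Set G)).map (MulAut.conj u).toMonoidHom), ∃ t ∈ (T : Subgroup G), h = d * t := by
  obtain ⟨z, hz, hz2, -⟩ := central_invol hT
  have h1 : h * z * h⁻¹ ∈ (T : Subgroup G) := (mem_normalizer_iff.1 hh z).1 hz
  obtain ⟨d, hd, hdz⟩ := StrongEmbed.exists_conj_in_stabilizer (stronglyEmbedded hT) hu huH hz2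
    (le_normalizer hz) (by rw [CfsgLib.Invol.orderOf_conj_eq, hz2]) (le_normalizer h1)
  refine ⟨d, hd, d⁻¹ * h, mem_T_of_commute hT hz hz2 ?_, by group⟩
  show d⁻¹ * h * z = z * (d⁻¹ * h)
  calc d⁻¹ * h * z = d⁻¹ * (h * z * h⁻¹) * h := by group
    _ = d⁻¹ * (d * z * d⁻¹) * h := by rw [hdz]
    _ = z * (d⁻¹ * h) := by group

include hT hu huH in
theorem card_D : Nat.card ↥((normalizer ((T : Subgroup G) : Set G)) ⊓ (normalizer ((T : Subgroup G) : Set G)).map (MulAut.conj u).toMonoidHom) = Nat.card (T : Subgroup G) - 1 := by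
  obtain ⟨z, hz, hz2, -⟩ := central_invol hT
  rw [← card_invols hT]
  refine Nat.card_congr (Equiv.ofBijective (fun d => ⟨(d : G) * z * (d : G)⁻¹,
    by rw [CfsgLib.Invol.orderOf_conj_eq, hz2], mul_mem (mul_mem d.2.1 (le_normalizer hz)) (inv_mem d.2.1)⟩)
    ⟨fun d d' h => ?_, fun t => ?_⟩)
  · have h' : (d : G) * z * (d : G)⁻¹ = (d' : G) * z * (d' : G)⁻¹ := congrArg Subtype.val h
    refine Subtype.ext (inv_mul_eq_one.1 (D_commute_invol hT huH (mul_mem (inv_mem d.2) d'.2) hz2 ?_))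
    show (d : G)⁻¹ * d' * z = z * ((d : G)⁻¹ * d')
    calc (d : G)⁻¹ * d' * z = (d : G)⁻¹ * ((d' : G) * z * (d' : G)⁻¹) * d' := by group
      _ = (d : G)⁻¹ * ((d : G) * z * (d : G)⁻¹) * d' := by rw [h']
      _ = z * ((d : G)⁻¹ * d') := by group
  · obtain ⟨d, hd, h⟩ := StrongEmbed.exists_conj_in_stabilizer (stronglyEmbedded hT) hu huH hz2
      (le_normalizer hz) t.2.1 t.2.2
    exact ⟨⟨d, hd⟩, Subtype.ext h⟩

include hT hu huH in
theorem isComplement : (((normalizer ((T : Subgroup G) : Set G)) ⊓ (normalizer ((T : Subgroup G) : Set G)).map (MulAut.conj u).toMonoidHom).subgroupOf (normalizer ((T : Subgroup G) : Set G))).IsComplement' ((T : Subgroup G).subgroupOf (normalizer ((T : Subgroup G) : Set G))) := by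
  refine Subgroup.isComplement'_of_disjoint_and_mul_eq_univ ?_ (Set.eq_univ_of_forall fun h => ?_)
  · rw [disjoint_iff, eq_bot_iff]
    intro x hx
    exact mem_bot.2 (Subtype.ext (D_inter_T hT huH (mem_subgroupOf.1 hx.1) (mem_subgroupOf.1 hx.2)))
  · obtain ⟨d, hd, t, ht, e⟩ := exists_split hT hu huH h.2
    exact Set.mem_mul.2 ⟨⟨d, hd.1⟩, mem_subgroupOf.2 hd, ⟨t, le_normalizer ht⟩, mem_subgroupOf.2 ht,
      Subtype.ext e.symm⟩

include hT hu huH in
theorem card_H : Nat.card (normalizer ((T : Subgroup G) : Set G)) = Nat.card (T : Subgroup G) * (Nat.card (T : Subgroup G) - 1) := by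
  have h1 : (((normalizer ((T : Subgroup G) : Set G)) ⊓ (normalizer ((T : Subgroup G) : Set G)).map (MulAut.conj u).toMonoidHom) : Subgroup G) ≤ (normalizer ((T : Subgroup G) : Set G)) := inf_le_left
  rw [← (isComplement hT hu huH).card_mul, Nat.card_congr (subgroupOfEquivOfLe le_normalizer).toEquiv,
    Nat.card_congr (subgroupOfEquivOfLe h1).toEquiv, card_D hT hu huH, mul_comm]

include hT hu huH in
theorem inverts {d : G} (hd : d ∈ ((normalizer ((T : Subgroup G) : Set G)) ⊓ (normalizer ((T : Subgroup G) : Set G)).map (MulAut.conj u).toMonoidHom)) : u * d * u⁻¹ = d⁻¹ := by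
  have hne : (QuotientGroup.mk (1 : G) : G ⧸ (normalizer ((T : Subgroup G) : Set G))) ≠ QuotientGroup.mk u := fun h =>
    huH (StrongEmbed.smul_mk_one_iff.1 (StrongEmbed.smul_mk_one_eq.trans h.symm))
  let Sw := {k : G // orderOf k = 2 ∧ k • (QuotientGroup.mk (1 : G) : G ⧸ (normalizer ((T : Subgroup G) : Set G))) = QuotientGroup.mk u}
  have hmem : ∀ k : Sw, u * k.1 ∈ ((normalizer ((T : Subgroup G) : Set G)) ⊓ (normalizer ((T : Subgroup G) : Set G)).map (MulAut.conj u).toMonoidHom) := fun k => by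
    have h1 : u⁻¹ * k.1 ∈ (normalizer ((T : Subgroup G) : Set G)) := by
      have h := k.2.2
      rwa [StrongEmbed.smul_mk_one_eq, eq_comm, QuotientGroup.eq] at h
    refine StrongEmbed.mem_inf_conj_iff.2 ⟨by rwa [CfsgLib.Invol.inv_eq_self hu] at h1, ?_⟩
    rw [show u⁻¹ * (u * k.1) * u = k.1 * u by group]
    have h2 := inv_mem h1
    rwa [mul_inv_rev, inv_inv, CfsgLib.Invol.inv_eq_self k.2.1] at h2
  let f : Sw → ↥((normalizer ((T : Subgroup G) : Set G)) ⊓ (normalizer ((T : Subgroup G) : Set G)).map (MulAut.conj u).toMonoidHom) := fun k => ⟨u * k.1, hmem k⟩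
  have hinj : Function.Injective f := fun k k' h => Subtype.ext (mul_left_cancel (congrArg Subtype.val h))
  have hcard : Nat.card Sw = Nat.card ↥((normalizer ((T : Subgroup G) : Set G)) ⊓ (normalizer ((T : Subgroup G) : Set G)).map (MulAut.conj u).toMonoidHom) := by
    rw [card_D hT hu huH, ← card_invols hT]
    exact StrongEmbed.card_swap (stronglyEmbedded hT) hne
  obtain ⟨k, hk⟩ := ((Nat.bijective_iff_injective_and_card f).2 ⟨hinj, hcard⟩).2 ⟨d, hd⟩
  have e : u * k.1 = d := congrArg Subtype.val hk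
  rw [← e, mul_inv_rev, CfsgLib.Invol.inv_eq_self k.2.1, CfsgLib.Invol.inv_eq_self hu, ← mul_assoc u u,
    CfsgLib.Invol.mul_self_eq_one hu, one_mul]

include hT hu huH in
theorem D_comm {d d' : G} (hd : d ∈ ((normalizer ((T : Subgroup G) : Set G)) ⊓ (normalizer ((T : Subgroup G) : Set G)).map (MulAut.conj u).toMonoidHom)) (hd' : d' ∈ ((normalizer ((T : Subgroup G) : Set G)) ⊓ (normalizer ((T : Subgroup G) : Set G)).map (MulAut.conj u).toMonoidHom)) : Commute d d' := by
  have h := inverts hT hu huH (mul_mem hd hd')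
  rw [← conj_mul, inverts hT hu huH hd, inverts hT hu huH hd', mul_inv_rev] at h
  exact (Commute.inv_inv_iff).1 h

include hT hu huH in
theorem not_inverted_in_H {d h : G} (hd : d ∈ ((normalizer ((T : Subgroup G) : Set G)) ⊓ (normalizer ((T : Subgroup G) : Set G)).map (MulAut.conj u).toMonoidHom)) (hd1 : d ≠ 1) (hh : h ∈ (normalizer ((T : Subgroup G) : Set G))) : h * d * h⁻¹ ≠ d⁻¹ := by
  intro he
  obtain ⟨e, he', t, ht, rfl⟩ := exists_split hT hu huH hh
  have h1 : t * d * t⁻¹ = d⁻¹ := by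
    calc t * d * t⁻¹ = e⁻¹ * (e * t * d * (e * t)⁻¹) * e := by group
      _ = e⁻¹ * d⁻¹ * e := by rw [he]
      _ = d⁻¹ := by rw [mul_assoc, ← (D_comm hT hu huH he' (inv_mem hd)).eq, inv_mul_cancel_left]
  have h2 : t * (d * t⁻¹ * d⁻¹) ∈ (T : Subgroup G) :=
    mul_mem ht ((mem_normalizer_iff.1 hd.1 t⁻¹).1 (inv_mem ht))
  rw [show t * (d * t⁻¹ * d⁻¹) = t * d * t⁻¹ * d⁻¹ by group, h1] at h2
  have h3 := D_inter_T hT huH (mul_mem (inv_mem hd) (inv_mem hd)) h2
  refine hd1 ((orderOf_eq_one_iff (x := d)).1 (Nat.eq_one_of_dvd_coprimes (Nat.coprime_two_left.2 (odd_D hT huH))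
    (orderOf_dvd_of_pow_eq_one ?_) (orderOf_dvd_natCard _ hd)))
  rw [← inv_eq_one, ← inv_pow, sq, h3]

include hT hu huH in
theorem centralizer_D {d c : G} (hd : d ∈ ((normalizer ((T : Subgroup G) : Set G)) ⊓ (normalizer ((T : Subgroup G) : Set G)).map (MulAut.conj u).toMonoidHom)) (hd1 : d ≠ 1) (hc : Commute c d) : c ∈ ((normalizer ((T : Subgroup G) : Set G)) ⊓ (normalizer ((T : Subgroup G) : Set G)).map (MulAut.conj u).toMonoidHom) := by
  set C := centralizer ({d} : Set G)
  have hinvC : ∀ {x : G}, Commute x d → Commute (u * x * u⁻¹) d := fun {x} hx => by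
    have h1 := hx.inv_right.map (MulAut.conj u).toMonoidHom
    simp only [MulEquiv.coe_toMonoidHom, map_inv, MulAut.conj_apply, inverts hT hu huH hd, inv_inv] at h1
    exact h1
  have hC2 : ∀ {x : G}, Commute x d → orderOf x ≠ 2 := fun {x} hx h2 =>
    hd1 (D_commute_invol hT huH hd h2 hx.symm)
  have hinv : ∀ {x : G}, Commute x d → u * x * u⁻¹ = x⁻¹ := by
    intro x hx
    let φ : C →* C := MonoidHom.mk' (fun y => ⟨u * y * u⁻¹,
      mem_centralizer_singleton_iff.2 (hinvC (mem_centralizer_singleton_iff.1 y.2)).eq⟩)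
      fun y y' => Subtype.ext (by push_cast; group)
    have hfp : MonoidHom.FixedPointFree φ := fun y hy => by
      have h1 : u * (y : G) * u⁻¹ = y := congrArg Subtype.val hy
      have h2 : ((y : G)) ^ 2 = 1 := sq_eq_one_of_commute hT hu (mul_inv_eq_iff_eq_mul.1 h1).symm
      by_contra hne
      exact hC2 (mem_centralizer_singleton_iff.1 y.2)
        (orderOf_eq_two_of_sq h2 fun h => hne (Subtype.ext h))
    have hinvol : Function.Involutive φ := fun y => Subtype.ext (by
      show u * (u * (y : G) * u⁻¹) * u⁻¹ = y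
      rw [show u * (u * (y : G) * u⁻¹) * u⁻¹ = (u * u) * y * (u * u)⁻¹ by group,
        CfsgLib.Invol.mul_self_eq_one hu]
      group)
    exact congrArg Subtype.val
      (congrFun (hfp.coe_eq_inv_of_involutive hinvol) ⟨x, mem_centralizer_singleton_iff.2 hx.eq⟩)
  have hcH : c ∈ (normalizer ((T : Subgroup G) : Set G)) := by
    by_contra hcH
    obtain ⟨v, hv2, hvc⟩ := StrongEmbed.exists_swap (stronglyEmbedded hT)
      (x := QuotientGroup.mk (1 : G)) (y := (QuotientGroup.mk c : G ⧸ (normalizer ((T : Subgroup G) : Set G))))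
      fun h => hcH (StrongEmbed.smul_mk_one_iff.1 (StrongEmbed.smul_mk_one_eq.trans h.symm))
    have hvH : v ∉ (normalizer ((T : Subgroup G) : Set G)) := fun h =>
      hcH (StrongEmbed.smul_mk_one_iff.1 (StrongEmbed.smul_mk_one_eq.trans (hvc.symm.trans
        (StrongEmbed.smul_mk_one_iff.2 h))))
    have h1 : v⁻¹ * c ∈ (normalizer ((T : Subgroup G) : Set G)) := by
      rwa [StrongEmbed.smul_mk_one_eq, QuotientGroup.eq] at hvc
    have hdv : d ∈ (normalizer ((T : Subgroup G) : Set G)) ⊓ (normalizer ((T : Subgroup G) : Set G)).map (MulAut.conj v).toMonoidHom := by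
      refine StrongEmbed.mem_inf_conj_iff.2 ⟨hd.1, ?_⟩
      have e : c * d * c⁻¹ = d := by rw [hc.eq, mul_inv_cancel_right]
      rw [show v⁻¹ * d * v = (v⁻¹ * c) * d * (v⁻¹ * c)⁻¹ by
        conv_lhs => rw [← e]
        group]
      exact mul_mem (mul_mem h1 hd.1) (inv_mem h1)
    refine not_inverted_in_H hT hu huH hd hd1 (inv_mem h1) ?_
    rw [mul_inv_rev, inv_inv, mul_inv_rev, inv_inv, show c⁻¹ * v * d * (v⁻¹ * c) = c⁻¹ * (v * d * v⁻¹) * c by group,
      inverts hT hv2 hvH hdv, mul_assoc, ← hc.inv_right.eq, inv_mul_cancel_left]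
  obtain ⟨e, he, t, ht, rfl⟩ := exists_split hT hu huH hcH
  by_cases ht1 : t = 1
  · rw [ht1, mul_one]; exact he
  · refine absurd (D_commute_invol hT huH hd (orderOf_eq_two_of_sq (T_sq hT ht) ht1) ?_) hd1
    have h2 : Commute (e⁻¹ * (e * t)) d := ((D_comm hT hu huH he hd).inv_left).mul_left hc
    rw [inv_mul_cancel_left] at h2
    exact h2.symm

include hT hu huH in
/-- A nontrivial element of `D` fixes exactly two points. -/
theorem fixed_points {d g : G} (hd : d ∈ ((normalizer ((T : Subgroup G) : Set G)) ⊓ (normalizer ((T : Subgroup G) : Set G)).map (MulAut.conj u).toMonoidHom)) (hd1 : d ≠ 1)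
    (hg : d • (QuotientGroup.mk g : G ⧸ (normalizer ((T : Subgroup G) : Set G))) = QuotientGroup.mk g) :
    (QuotientGroup.mk g : G ⧸ (normalizer ((T : Subgroup G) : Set G))) = QuotientGroup.mk 1 ∨ (QuotientGroup.mk g : G ⧸ (normalizer ((T : Subgroup G) : Set G))) = QuotientGroup.mk u := by
  set o : G ⧸ (normalizer ((T : Subgroup G) : Set G)) := QuotientGroup.mk 1
  by_cases hgo : (QuotientGroup.mk g : G ⧸ (normalizer ((T : Subgroup G) : Set G))) = o
  · exact Or.inl hgo
  right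
  obtain ⟨v, hv2, hvy⟩ := StrongEmbed.exists_swap (stronglyEmbedded hT) (Ne.symm hgo)
  have hvH : v ∉ (normalizer ((T : Subgroup G) : Set G)) := fun h => hgo (hvy.symm.trans (StrongEmbed.smul_mk_one_iff.2 h))
  have hdv : d ∈ (normalizer ((T : Subgroup G) : Set G)) ⊓ (normalizer ((T : Subgroup G) : Set G)).map (MulAut.conj v).toMonoidHom := by
    refine StrongEmbed.mem_inf_conj_iff.2 ⟨hd.1, StrongEmbed.smul_mk_iff.1 ?_⟩
    rw [← StrongEmbed.smul_mk_one_eq (g := v), hvy, hg]
  have hcomm : Commute (v * u) d := by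
    refine (mul_inv_eq_iff_eq_mul.1 ?_ : v * u * d = d * (v * u))
    rw [show v * u * d * (v * u)⁻¹ = v * (u * d * u⁻¹) * v⁻¹ by group, inverts hT hu huH hd, ← conj_inv,
      inverts hT hv2 hvH hdv, inv_inv]
  have hvu := centralizer_D hT hu huH hd hd1 hcomm
  rw [← hvy, ← StrongEmbed.smul_mk_one_eq (g := u)]
  conv_lhs => rw [show v = v * u * u by rw [mul_assoc, CfsgLib.Invol.mul_self_eq_one hu, mul_one]]
  rw [mul_smul, StrongEmbed.smul_mk_one_eq, StrongEmbed.smul_mk_iff]
  exact (StrongEmbed.mem_inf_conj_iff.1 hvu).2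

include hT hu huH in
theorem exists_ne_one : ∃ d ∈ ((normalizer ((T : Subgroup G) : Set G)) ⊓ (normalizer ((T : Subgroup G) : Set G)).map (MulAut.conj u).toMonoidHom), d ≠ 1 := by
  have h4 := four_le_card hT
  have hc := card_D hT hu huH
  by_contra hne
  push Not at hne
  have : (((normalizer ((T : Subgroup G) : Set G)) ⊓ (normalizer ((T : Subgroup G) : Set G)).map (MulAut.conj u).toMonoidHom) : Subgroup G) = ⊥ := eq_bot_iff.2 fun d hd => mem_bot.2 (hne d hd)
  rw [this, card_bot] at hc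
  omega

include hT hu huH in
theorem normalizer_D : normalizer ((((normalizer ((T : Subgroup G) : Set G)) ⊓ (normalizer ((T : Subgroup G) : Set G)).map (MulAut.conj u).toMonoidHom) : Subgroup G) : Set G) = ((normalizer ((T : Subgroup G) : Set G)) ⊓ (normalizer ((T : Subgroup G) : Set G)).map (MulAut.conj u).toMonoidHom) ⊔ zpowers u := by
  set o : G ⧸ (normalizer ((T : Subgroup G) : Set G)) := QuotientGroup.mk 1
  have huu := CfsgLib.Invol.mul_self_eq_one hu
  have huinv : ∀ {x : G}, x ∈ ((normalizer ((T : Subgroup G) : Set G)) ⊓ (normalizer ((T : Subgroup G) : Set G)).map (MulAut.conj u).toMonoidHom) → u * x * u⁻¹ ∈ ((normalizer ((T : Subgroup G) : Set G)) ⊓ (normalizer ((T : Subgroup G) : Set G)).map (MulAut.conj u).toMonoidHom) := fun {x} hx => by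
    rw [inverts hT hu huH hx]; exact inv_mem hx
  refine le_antisymm (fun g hg => ?_) (sup_le le_normalizer (zpowers_le.2 (mem_normalizer_iff_map_conj_eq.2
    (Subgroup.eq_of_le_of_card_ge (by rintro _ ⟨x, hx, rfl⟩; exact huinv hx)
      (card_map_of_injective (f := (MulAut.conj u).toMonoidHom) (MulAut.conj u).injective).ge))))
  obtain ⟨d, hd, hd1⟩ := exists_ne_one hT hu huH
  have hfix : d • (QuotientGroup.mk g : G ⧸ (normalizer ((T : Subgroup G) : Set G))) = QuotientGroup.mk g := by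
    refine StrongEmbed.smul_mk_iff.2 ?_
    have h1 := (mem_normalizer_iff.1 (inv_mem hg) d).1 hd
    rw [inv_inv] at h1
    exact h1.1
  have hkey : ∀ w ∈ normalizer ((((normalizer ((T : Subgroup G) : Set G)) ⊓ (normalizer ((T : Subgroup G) : Set G)).map (MulAut.conj u).toMonoidHom) : Subgroup G) : Set G), w ∈ (normalizer ((T : Subgroup G) : Set G)) → w ∈ ((normalizer ((T : Subgroup G) : Set G)) ⊓ (normalizer ((T : Subgroup G) : Set G)).map (MulAut.conj u).toMonoidHom) := fun w hw hwH => by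
    obtain ⟨e, he, t, ht, rfl⟩ := exists_split hT hu huH hwH
    have htN : t ∈ normalizer ((((normalizer ((T : Subgroup G) : Set G)) ⊓ (normalizer ((T : Subgroup G) : Set G)).map (MulAut.conj u).toMonoidHom) : Subgroup G) : Set G) := by
      simpa using mul_mem (inv_mem (le_normalizer he : e ∈ normalizer ((((normalizer ((T : Subgroup G) : Set G)) ⊓ (normalizer ((T : Subgroup G) : Set G)).map (MulAut.conj u).toMonoidHom) : Subgroup G) : Set G))) hw
    have h1 : t * d * t⁻¹ * d⁻¹ ∈ ((normalizer ((T : Subgroup G) : Set G)) ⊓ (normalizer ((T : Subgroup G) : Set G)).map (MulAut.conj u).toMonoidHom) := mul_mem ((mem_normalizer_iff.1 htN d).1 hd) (inv_mem hd)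
    have h2 : t * d * t⁻¹ * d⁻¹ ∈ (T : Subgroup G) := by
      rw [show t * d * t⁻¹ * d⁻¹ = t * (d * t⁻¹ * d⁻¹) by group]
      exact mul_mem ht ((mem_normalizer_iff.1 hd.1 t⁻¹).1 (inv_mem ht))
    have h3 : Commute t d := mul_inv_eq_iff_eq_mul.1 (mul_inv_eq_one.1 (D_inter_T hT huH h1 h2))
    exact mul_mem he (centralizer_D hT hu huH hd hd1 h3)
  rcases fixed_points hT hu huH hd hd1 hfix with h | h
  · exact mem_sup_left (hkey g hg (StrongEmbed.smul_mk_one_iff.1 (StrongEmbed.smul_mk_one_eq.trans h)))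
  · have h1 : u⁻¹ * g ∈ (normalizer ((T : Subgroup G) : Set G)) := QuotientGroup.eq.1 h.symm
    have huN : u ∈ normalizer ((((normalizer ((T : Subgroup G) : Set G)) ⊓ (normalizer ((T : Subgroup G) : Set G)).map (MulAut.conj u).toMonoidHom) : Subgroup G) : Set G) := mem_normalizer_iff_map_conj_eq.2
      (Subgroup.eq_of_le_of_card_ge (by rintro _ ⟨x, hx, rfl⟩; exact huinv hx)
        (card_map_of_injective (f := (MulAut.conj u).toMonoidHom) (MulAut.conj u).injective).ge)
    have h2 := hkey _ (mul_mem (inv_mem huN) hg) h1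
    rw [show g = u * (u⁻¹ * g) by group]
    exact mul_mem (mem_sup_right (mem_zpowers u)) (mem_sup_left h2)

include hT hu huH in
theorem fixed_iff (g : G) :
    (∀ d ∈ ((normalizer ((T : Subgroup G) : Set G)) ⊓ (normalizer ((T : Subgroup G) : Set G)).map (MulAut.conj u).toMonoidHom), d • (QuotientGroup.mk g : G ⧸ (normalizer ((T : Subgroup G) : Set G))) = QuotientGroup.mk g) ↔
      (QuotientGroup.mk g : G ⧸ (normalizer ((T : Subgroup G) : Set G))) = QuotientGroup.mk 1 ∨ (QuotientGroup.mk g : G ⧸ (normalizer ((T : Subgroup G) : Set G))) = QuotientGroup.mk u := by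
  obtain ⟨d, hd, hd1⟩ := exists_ne_one hT hu huH
  refine ⟨fun h => fixed_points hT hu huH hd hd1 (h d hd), ?_⟩
  rintro (h | h) e he <;> rw [h]
  · exact StrongEmbed.smul_mk_one_iff.2 he.1
  · exact StrongEmbed.smul_mk_iff.2 (StrongEmbed.mem_inf_conj_iff.1 he).2

end Swap

/-! ### Transitivity -/

include hT in
theorem T_fix_eq {t : G} (ht : t ∈ (T : Subgroup G)) {y : G ⧸ (normalizer ((T : Subgroup G) : Set G))} (hy : y ≠ (QuotientGroup.mk (1 : G) : G ⧸ (normalizer ((T : Subgroup G) : Set G)))) (h : t • y = y) : t = 1 := by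
  by_contra ht1
  exact hy (StrongEmbed.fix_unique (stronglyEmbedded hT) (orderOf_eq_two_of_sq (T_sq hT ht) ht1) h
    (StrongEmbed.smul_mk_one_iff.2 (le_normalizer ht)))

include hT in
theorem exists_outside : ∃ u : G, orderOf u = 2 ∧ u ∉ (normalizer ((T : Subgroup G) : Set G)) := by
  obtain ⟨g, -, hg⟩ := SetLike.exists_of_lt (lt_top_iff_ne_top.2 (stronglyEmbedded hT).1)
  obtain ⟨k, hk2, hk⟩ := StrongEmbed.exists_swap (stronglyEmbedded hT) (x := (QuotientGroup.mk (1 : G) : G ⧸ (normalizer ((T : Subgroup G) : Set G)))) (y := QuotientGroup.mk g)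
    fun h => hg (StrongEmbed.smul_mk_one_iff.1 (StrongEmbed.smul_mk_one_eq.trans h.symm))
  exact ⟨k, hk2, fun h => hg (StrongEmbed.smul_mk_one_iff.1
    (StrongEmbed.smul_mk_one_eq.trans (hk.symm.trans (StrongEmbed.smul_mk_one_iff.2 h))))⟩

include hT in
theorem T_transitive {u : G} (hu : orderOf u = 2) (huH : u ∉ (normalizer ((T : Subgroup G) : Set G))) {y : G ⧸ (normalizer ((T : Subgroup G) : Set G))} (hy : y ≠ (QuotientGroup.mk (1 : G) : G ⧸ (normalizer ((T : Subgroup G) : Set G)))) :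
    ∃ t ∈ (T : Subgroup G), t • y = QuotientGroup.mk u := by
  by_contra hne
  push Not at hne
  obtain ⟨v, hv2, hvy⟩ := StrongEmbed.exists_swap (stronglyEmbedded hT) (Ne.symm hy)
  have hvH : v ∉ (normalizer ((T : Subgroup G) : Set G)) := fun h => hy (hvy.symm.trans (StrongEmbed.smul_mk_one_iff.2 h))
  -- the orbit of `T` through `y`, on which `D` acts without fixed points
  set D := (normalizer ((T : Subgroup G) : Set G)) ⊓ (normalizer ((T : Subgroup G) : Set G)).map (MulAut.conj u).toMonoidHom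
  let Dv := (normalizer ((T : Subgroup G) : Set G)) ⊓ (normalizer ((T : Subgroup G) : Set G)).map (MulAut.conj v).toMonoidHom
  have hDy : ∀ e ∈ Dv, e • y = y := fun e he => by
    rw [← hvy, StrongEmbed.smul_mk_one_eq]
    exact StrongEmbed.smul_mk_iff.2 (StrongEmbed.mem_inf_conj_iff.1 he).2
  let O : Set (G ⧸ (normalizer ((T : Subgroup G) : Set G))) := (fun t : (T : Subgroup G) => (t : G) • y) '' Set.univ
  have hclosed : ∀ d : D, ∀ z : O, (d : G) • (z : G ⧸ (normalizer ((T : Subgroup G) : Set G))) ∈ O := by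
    rintro d ⟨_, t, -, rfl⟩
    obtain ⟨e, he, t', ht', h⟩ := exists_split hT hv2 hvH (mul_mem d.2.1 (le_normalizer t.2))
    refine ⟨⟨e * t' * e⁻¹, (mem_normalizer_iff.1 he.1 t').1 ht'⟩, trivial, ?_⟩
    show (e * t' * e⁻¹) • y = (d : G) • (t : G) • y
    rw [← mul_smul (d : G), h, mul_smul (e * t'), hDy _ (inv_mem he)]
  letI : MulAction D O :=
    { smul := fun d z => ⟨(d : G) • (z : G ⧸ (normalizer ((T : Subgroup G) : Set G))), hclosed d z⟩
      one_smul := fun z => Subtype.ext (one_smul G (z : G ⧸ (normalizer ((T : Subgroup G) : Set G))))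
      mul_smul := fun d d' z => Subtype.ext (mul_smul (d : G) (d' : G) (z : G ⧸ (normalizer ((T : Subgroup G) : Set G)))) }
  have hfree : ∀ z : O, MulAction.stabilizer D z = ⊥ := by
    intro z
    refine eq_bot_iff.2 fun d hd => mem_bot.2 ?_
    by_contra hd1
    obtain ⟨g, hg⟩ := QuotientGroup.mk_surjective (z : G ⧸ (normalizer ((T : Subgroup G) : Set G)))
    have h1 : (d : G) • (z : G ⧸ (normalizer ((T : Subgroup G) : Set G))) = z := congrArg Subtype.val (MulAction.mem_stabilizer_iff.1 hd)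
    rw [← hg] at h1
    obtain ⟨t, -, hw⟩ := z.2
    rcases fixed_points hT hu huH d.2 (fun h => hd1 (Subtype.ext h)) h1 with h | h
    · rw [hg, ← hw] at h
      exact hy (by rwa [← StrongEmbed.smul_mk_one_iff.2 (le_normalizer t.2 : (t : G) ∈ (normalizer ((T : Subgroup G) : Set G))), smul_left_cancel_iff] at h)
    · rw [hg, ← hw] at h
      exact hne t t.2 h
  have horb : ∀ z : O, Nat.card (MulAction.orbit D z) = Nat.card D := fun z => by
    rw [Nat.card_congr (MulAction.orbitEquivQuotientStabilizer D z), ← index_eq_card, hfree, index_bot]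
  have hO : Nat.card O = Nat.card (T : Subgroup G) := by
    show Nat.card ↥((fun t : (T : Subgroup G) => (t : G) • y) '' Set.univ) = _
    rw [Nat.card_image_of_injective, Nat.card_congr (Equiv.Set.univ _)]
    intro a b hab
    have hab' : (a : G) • y = (b : G) • y := hab
    exact (inv_mul_eq_one.1 (Subtype.ext (T_fix_eq hT (mul_mem (inv_mem b.2) a.2) hy
      (by push_cast; rw [mul_smul, hab', inv_smul_smul])) : b⁻¹ * a = 1)).symm
  have hdvd : Nat.card D ∣ Nat.card O := by
    rw [Nat.card_congr (MulAction.selfEquivSigmaOrbits D O)]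
    haveI := Fintype.ofFinite (MulAction.orbitRel.Quotient D O)
    rw [Nat.card_sigma]
    exact Finset.dvd_sum fun q _ => dvd_of_eq (horb _).symm
  have h4 := four_le_card hT
  rw [hO, card_D hT hu huH] at hdvd
  have h5 := Nat.dvd_sub hdvd (dvd_refl _)
  rw [show Nat.card (T : Subgroup G) - (Nat.card (T : Subgroup G) - 1) = 1 by omega, Nat.dvd_one] at h5
  omega

include hT in
theorem T_regular {x y : G ⧸ (normalizer ((T : Subgroup G) : Set G))} (hx : x ≠ (QuotientGroup.mk (1 : G) : G ⧸ (normalizer ((T : Subgroup G) : Set G)))) (hy : y ≠ (QuotientGroup.mk (1 : G) : G ⧸ (normalizer ((T : Subgroup G) : Set G)))) : ∃! t : G, t ∈ (T : Subgroup G) ∧ t • x = y := by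
  obtain ⟨u, hu, huH⟩ := exists_outside hT
  obtain ⟨s, hs, hsx⟩ := T_transitive hT hu huH hx
  obtain ⟨s', hs', hsy⟩ := T_transitive hT hu huH hy
  refine ⟨s'⁻¹ * s, ⟨mul_mem (inv_mem hs') hs, by rw [mul_smul, hsx, ← hsy, inv_smul_smul]⟩, ?_⟩
  rintro t ⟨ht, htx⟩
  have h := T_fix_eq hT (mul_mem (inv_mem (mul_mem (inv_mem hs') hs)) ht) hx
    (by rw [mul_smul, htx, mul_inv_rev, inv_inv, mul_smul, hsy, ← hsx, inv_smul_smul])
  exact (inv_mul_eq_one.1 h).symm

include hT in
theorem exists_two {x₁ x₂ : G ⧸ (normalizer ((T : Subgroup G) : Set G))} (h : x₁ ≠ x₂) {u : G} (hu : orderOf u = 2) (huH : u ∉ (normalizer ((T : Subgroup G) : Set G))) :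
    ∃ g : G, g • x₁ = (QuotientGroup.mk (1 : G) : G ⧸ (normalizer ((T : Subgroup G) : Set G))) ∧ g • x₂ = QuotientGroup.mk u := by
  obtain ⟨k, rfl⟩ := QuotientGroup.mk_surjective x₁
  obtain ⟨t, ht, htx⟩ := T_transitive hT hu huH (y := k⁻¹ • x₂) fun e => h (by
    rw [← smul_inv_smul k x₂, e, StrongEmbed.smul_mk_one_eq])
  refine ⟨t * k⁻¹, ?_, by rw [mul_smul, htx]⟩
  rw [mul_smul, ← StrongEmbed.smul_mk_one_eq (g := k), inv_smul_smul]
  exact StrongEmbed.smul_mk_one_iff.2 (le_normalizer ht)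

include hT in
/-- The action of `D` on the remaining points is regular. -/
theorem D_transitive {u : G} (hu : orderOf u = 2) (huH : u ∉ (normalizer ((T : Subgroup G) : Set G))) {x y : G ⧸ (normalizer ((T : Subgroup G) : Set G))} (hxo : x ≠ (QuotientGroup.mk (1 : G) : G ⧸ (normalizer ((T : Subgroup G) : Set G))))
    (hxu : x ≠ QuotientGroup.mk u) (hyo : y ≠ (QuotientGroup.mk (1 : G) : G ⧸ (normalizer ((T : Subgroup G) : Set G)))) (hyu : y ≠ QuotientGroup.mk u) :
    ∃ d ∈ (normalizer ((T : Subgroup G) : Set G)) ⊓ (normalizer ((T : Subgroup G) : Set G)).map (MulAut.conj u).toMonoidHom, d • x = y := by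
  have huo : (QuotientGroup.mk u : G ⧸ (normalizer ((T : Subgroup G) : Set G))) ≠ (QuotientGroup.mk (1 : G) : G ⧸ (normalizer ((T : Subgroup G) : Set G))) := fun h =>
    huH (StrongEmbed.smul_mk_one_iff.1 (StrongEmbed.smul_mk_one_eq.trans h))
  obtain ⟨s, ⟨hs, hsx⟩, -⟩ := T_regular hT huo hxo
  obtain ⟨s', ⟨hs', hsy⟩, -⟩ := T_regular hT huo hyo
  have hs1 : s ≠ 1 := fun h => hxu (by rw [← hsx, h, one_smul])
  have hs1' : s' ≠ 1 := fun h => hyu (by rw [← hsy, h, one_smul])
  obtain ⟨d, hd, hds⟩ := StrongEmbed.exists_conj_in_stabilizer (stronglyEmbedded hT) hu huH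
    (orderOf_eq_two_of_sq (T_sq hT hs) hs1) (le_normalizer hs)
    (orderOf_eq_two_of_sq (T_sq hT hs') hs1') (le_normalizer hs')
  refine ⟨d, hd, ?_⟩
  rw [← hsx, ← hsy, ← hds, mul_smul, mul_smul,
    ((fixed_iff hT hu huH u).2 (Or.inr rfl)) _ (inv_mem hd)]

include hT in
theorem three_transitive {x₁ x₂ x₃ y₁ y₂ y₃ : G ⧸ (normalizer ((T : Subgroup G) : Set G))} (h12 : x₁ ≠ x₂) (h13 : x₁ ≠ x₃) (h23 : x₂ ≠ x₃)
    (k12 : y₁ ≠ y₂) (k13 : y₁ ≠ y₃) (k23 : y₂ ≠ y₃) : ∃ g : G, g • x₁ = y₁ ∧ g • x₂ = y₂ ∧ g • x₃ = y₃ := by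
  obtain ⟨u, hu, huH⟩ := exists_outside hT
  obtain ⟨g, g1, g2⟩ := exists_two hT h12 hu huH
  obtain ⟨k, k1, k2⟩ := exists_two hT k12 hu huH
  obtain ⟨d, hd, hd3⟩ := D_transitive hT hu huH (x := g • x₃) (y := k • y₃)
    (g1 ▸ fun e => h13 (smul_left_cancel g e).symm) (g2 ▸ fun e => h23 (smul_left_cancel g e).symm)
    (k1 ▸ fun e => k13 (smul_left_cancel k e).symm) (k2 ▸ fun e => k23 (smul_left_cancel k e).symm)
  refine ⟨k⁻¹ * d * g, ?_, ?_, ?_⟩
  · rw [mul_smul, mul_smul, g1, StrongEmbed.smul_mk_one_iff.2 hd.1, ← k1, inv_smul_smul]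
  · rw [mul_smul, mul_smul, g2, (fixed_iff hT hu huH u).2 (Or.inr rfl) d hd, ← k2, inv_smul_smul]
  · rw [mul_smul, mul_smul, hd3, inv_smul_smul]

include hT in
theorem three_point_stabilizer {g : G} {x₁ x₂ x₃ : G ⧸ (normalizer ((T : Subgroup G) : Set G))} (h12 : x₁ ≠ x₂) (h13 : x₁ ≠ x₃) (h23 : x₂ ≠ x₃)
    (e1 : g • x₁ = x₁) (e2 : g • x₂ = x₂) (e3 : g • x₃ = x₃) : g = 1 := by
  obtain ⟨u, hu, huH⟩ := exists_outside hT
  obtain ⟨k, k1, k2⟩ := exists_two hT h12 hu huH
  have hconj : ∀ {x : G ⧸ (normalizer ((T : Subgroup G) : Set G))}, g • x = x → (k * g * k⁻¹) • (k • x) = k • x := fun {x} e => by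
    rw [mul_smul, mul_smul, inv_smul_smul, e]
  have hd : k * g * k⁻¹ ∈ (normalizer ((T : Subgroup G) : Set G)) ⊓ (normalizer ((T : Subgroup G) : Set G)).map (MulAut.conj u).toMonoidHom :=
    StrongEmbed.mem_inf_conj_iff.2 ⟨StrongEmbed.smul_mk_one_iff.1 (k1 ▸ hconj e1),
      StrongEmbed.smul_mk_iff.1 (k2 ▸ hconj e2)⟩
  by_contra hg1
  have hne : k * g * k⁻¹ ≠ 1 := fun h => hg1 (conj_eq_one_iff.1 h)
  obtain ⟨z, hz⟩ := QuotientGroup.mk_surjective (k • x₃)
  rcases fixed_points hT hu huH hd hne (g := z) (by rw [hz]; exact hconj e3) with h | h <;> rw [hz] at h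
  · exact h13 (smul_left_cancel k (h.trans k1.symm)).symm
  · exact h23 (smul_left_cancel k (h.trans k2.symm)).symm

end CfsgLib.EACent
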