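import Cfsg.Agent.Invol.QDFusion

/-!
The fusion cases for a quasi-dihedral Sylow 2-subgroup.
-/

set_option autoImplicit false
set_option linter.unusedSectionVars false
set_option linter.deprecated false
set_option linter.style.haveILetI false
set_option linter.style.multiGoal false

namespace CfsgLib.QD.Data

open Subgroup

variable {G : Type*} [Group G] [Finite G]

theorem card_one_class {P : G → Prop} {a : G} (ha : P a) (h : ∀ t, P t → IsConj t a) :
    Nat.card {C : ConjClasses G // ∃ t : G, P t ∧ ConjClasses.mk t = C} = 1 := by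
  refine Nat.card_eq_one_iff_exists.2 ⟨⟨_, a, ha, rfl⟩, ?_⟩
  rintro ⟨C, t, ht, rfl⟩
  exact Subtype.ext (ConjClasses.mk_eq_mk_iff_isConj.2 (h t ht))

theorem card_two_classes {P : G → Prop} {a b : G} (ha : P a) (hb : P b) (hab : ¬ IsConj a b)
    (h : ∀ t, P t → IsConj t a ∨ IsConj t b) :
    Nat.card {C : ConjClasses G // ∃ t : G, P t ∧ ConjClasses.mk t = C} = 2 := by
  refine Nat.card_eq_two_iff.2 ⟨⟨_, a, ha, rfl⟩, ⟨_, b, hb, rfl⟩,
    fun e => hab (ConjClasses.mk_eq_mk_iff_isConj.1 (congrArg Subtype.val e)), Set.eq_univ_of_forall ?_⟩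
  rintro ⟨C, t, ht, rfl⟩
  rcases h t ht with h' | h'
  · exact Or.inl (Subtype.ext (ConjClasses.mk_eq_mk_iff_isConj.2 h'))
  · exact Or.inr (Subtype.ext (ConjClasses.mk_eq_mk_iff_isConj.2 h'))

variable {S : Sylow 2 G} (D : CfsgLib.QD.Data (S : Subgroup G))

/-- The maximal subgroup `half ε`, in `G`. -/
def gHalf (ε : ℤ) : Subgroup G := (D.half ε).map (S : Subgroup G).subtype

theorem gHalf_le (ε : ℤ) : D.gHalf ε ≤ (S : Subgroup G) := map_subtype_le _

theorem gHalf_relIndex (ε : ℤ) : (D.gHalf ε).relIndex (S : Subgroup G) = 2 := by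
  show ((D.gHalf ε).subgroupOf (S : Subgroup G)).index = 2
  rw [gHalf, subgroupOf, comap_map_eq_self_of_injective (S : Subgroup G).subtype_injective, D.index_half]

theorem gy_mem_gHalf {ε i : ℤ} : D.gy i ∈ D.gHalf ε ↔ 2 ∣ i - ε :=
  (mem_map_iff_mem (S : Subgroup G).subtype_injective).trans D.refl_mem_half

theorem gr_mem_gHalf {ε i : ℤ} : D.gr i ∈ D.gHalf ε ↔ 2 ∣ i :=
  (mem_map_iff_mem (S : Subgroup G).subtype_injective).trans D.rot_mem_half

theorem gy_mul_gy (i j : ℤ) : D.gy i * D.gy j = D.gr (i + (4 * (D.q : ℤ) - 1) * j) := by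
  show ((D.x ^ i * D.y * (D.x ^ j * D.y) : (S : Subgroup G)) : G) = _
  rw [show D.x ^ i * D.y * (D.x ^ j * D.y) = D.x ^ i * (D.y * D.x ^ j) * D.y by group, D.y_mul,
    show D.x ^ i * (D.x ^ ((4 * (D.q : ℤ) - 1) * j) * D.y) * D.y =
      D.x ^ i * D.x ^ ((4 * (D.q : ℤ) - 1) * j) * (D.y * D.y) by group, D.yy, mul_one, ← zpow_add]
  rfl

theorem gr_even_square (m : ℤ) : D.gr (2 * m) = D.gr m * D.gr m := by rw [D.gr_add, two_mul]

theorem gw_eq : D.gw = D.gr (2 * (D.q : ℤ)) := rfl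

theorem gz_eq : D.gz = D.gr (4 * (D.q : ℤ)) := rfl

theorem eq_one_or_self {u : G} (hu : u * u = 1) (k : ℕ) : u ^ k = 1 ∨ u ^ k = u := by
  rcases Nat.even_or_odd k with ⟨l, rfl⟩ | ⟨l, rfl⟩
  · exact Or.inl (by rw [← two_mul, pow_mul, sq, hu, one_pow])
  · exact Or.inr (by rw [pow_succ, pow_mul, sq, hu, one_pow, one_mul])

theorem key_invol {M : Subgroup G} {u : G} (hu : orderOf u = 2)
    (h : ∀ g : G, g * u * g⁻¹ ∈ (S : Subgroup G) → (g * u * g⁻¹ ∈ M ↔ u ∈ M)) (k : ℕ) (g : G)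
    (hg : g * u ^ k * g⁻¹ ∈ (S : Subgroup G)) : g * u ^ k * g⁻¹ ∈ M ↔ u ^ k ∈ M := by
  rcases eq_one_or_self (CfsgLib.Invol.mul_self_eq_one hu) k with e | e <;> rw [e] at hg ⊢
  · rw [mul_one, mul_inv_cancel]
  · exact h g hg

theorem key_four {M : Subgroup G} {u : G} (hu : orderOf u = 4)
    (h2 : ∀ g : G, g * (u * u) * g⁻¹ ∈ (S : Subgroup G) → (g * (u * u) * g⁻¹ ∈ M ↔ u * u ∈ M))
    (h : ∀ g : G, g * u * g⁻¹ ∈ (S : Subgroup G) → (g * u * g⁻¹ ∈ M ↔ u ∈ M)) (k : ℕ) (g : G)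
    (hg : g * u ^ k * g⁻¹ ∈ (S : Subgroup G)) : g * u ^ k * g⁻¹ ∈ M ↔ u ^ k ∈ M := by
  have hlt : k % 4 < 4 := Nat.mod_lt _ (by norm_num)
  have e : u ^ k = u ^ (k % 4) := by rw [← hu]; exact (pow_mod_orderOf u k).symm
  rw [e] at hg ⊢
  have h4 : u ^ 3 = u⁻¹ := by
    refine eq_inv_of_mul_eq_one_left ?_
    rw [← pow_succ, show 3 + 1 = orderOf u by rw [hu], pow_orderOf_eq_one]
  generalize k % 4 = j at hlt hg ⊢
  interval_cases j
  · rw [pow_zero, mul_one, mul_inv_cancel]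
  · rw [pow_one] at hg ⊢; exact h g hg
  · rw [pow_two] at hg ⊢; exact h2 g hg
  · rw [h4, ← conj_inv, inv_mem_iff] at hg
    rw [h4, ← conj_inv, inv_mem_iff, inv_mem_iff]
    exact h g hg

/-- Elements of `S` of the same kind lie in every index-two normal subgroup together. -/
theorem mem_of_gy {L : Subgroup G} [L.Normal] {i j : ℤ} (h : 2 ∣ i - j) : D.gy i ∈ L ↔ D.gy j ∈ L := by
  obtain ⟨s, -, hs⟩ := D.gy_conj h
  rw [← hs, SylowKernel.conj_mem_iff]

theorem step_mem {L : Subgroup G} [L.Normal] {b v v' : G} (h : b * v * b⁻¹ = v' ∨ b * v * b⁻¹ = v'⁻¹) :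
    v ∈ L ↔ v' ∈ L := by
  rcases h with h | h
  · rw [← h, SylowKernel.conj_mem_iff]
  · rw [← inv_mem_iff (x := v'), ← h, SylowKernel.conj_mem_iff]

/-- A subgroup of index two of a normal subgroup of index two meets `S` properly. -/
theorem not_gHalf_le {K : Subgroup G} (hK : K.index = 2) (L : Subgroup K) (hL : L.index = 2) (ε : ℤ)
    (hle : D.gHalf ε ≤ L.map K.subtype) : False := by
  haveI : Fact (Nat.Prime 2) := ⟨Nat.prime_two⟩
  have h1 := index_dvd_of_le hle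
  rw [index_map_subtype, hL, hK, ← relIndex_mul_index (D.gHalf_le ε), D.gHalf_relIndex] at h1
  exact S.not_dvd_index (Nat.dvd_of_mul_dvd_mul_left two_pos h1)

theorem parity_step {K : Subgroup G} [K.Normal] (hK : K.index = 2) {L : Subgroup K} (hL : L.index = 2)
    {b v v' : G} (hb : Odd (orderOf b)) (hv : v ∈ K) (hv' : v' ∈ K)
    (h : b * v * b⁻¹ = v' ∨ b * v * b⁻¹ = v'⁻¹) : (⟨v, hv⟩ : K) ∈ L ↔ (⟨v', hv'⟩ : K) ∈ L := by
  haveI : L.Normal := normal_of_index_eq_two hL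
  refine step_mem (b := (⟨b, SylowKernel.mem_of_odd hK hb⟩ : K)) ?_
  rcases h with h | h
  · exact Or.inl (Subtype.ext h)
  · exact Or.inr (Subtype.ext h)

/-- Membership in all subgroups of index two of `K` is invariant under conjugation. -/
theorem all_conj_mem {K : Subgroup G} [K.Normal] {v : G} (hv : v ∈ K) (s : G)
    (h : ∀ L : Subgroup K, L.index = 2 → (⟨v, hv⟩ : K) ∈ L) (L : Subgroup K) (hL : L.index = 2) :
    (⟨s * v * s⁻¹, Normal.conj_mem inferInstance v hv s⟩ : K) ∈ L := by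
  have := h (L.comap (MulAut.conjNormal s : MulAut K).toMonoidHom)
    ((index_comap_of_surjective _ (MulAut.conjNormal s : MulAut K).surjective).trans hL)
  rwa [mem_comap, show (MulAut.conjNormal s : MulAut K).toMonoidHom ⟨v, hv⟩ =
    (⟨s * v * s⁻¹, Normal.conj_mem inferInstance v hv s⟩ : K) from Subtype.ext (MulAut.conjNormal_apply s ⟨v, hv⟩)] at this

variable {T : Subgroup G} (hT : IsKleinFour T) (hTS : T ≤ (S : Subgroup G))
  {Q : Subgroup G} (hQS : Q ≤ (S : Subgroup G)) (eQ : Q ≃* QuaternionGroup 2)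

include D hT hTS hQS eQ

theorem case_six_six (h₁ : (centralizer (T : Set G)).relIndex (normalizer (T : Set G)) = 6)
    (h₂ : (Q ⊔ centralizer (Q : Set G)).relIndex (normalizer (Q : Set G)) = 6) :
    (∀ H : Subgroup G, H.index ≠ 2) ∧
      Nat.card {C : ConjClasses G // ∃ t : G, orderOf t = 2 ∧ ConjClasses.mk t = C} = 1 ∧
      Nat.card {C : ConjClasses G // ∃ t : G, orderOf t = 4 ∧ ConjClasses.mk t = C} = 1 := by
  have c2 := D.klein_conj_six hT hTS h₁
  have c4 := D.quat_conj_six hQS eQ h₂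
  refine ⟨fun H hH => ?_, card_one_class D.gz_order ?_, card_one_class D.gw_order ?_⟩
  · haveI := normal_of_index_eq_two hH
    have hmemc : ∀ {a b : G}, IsConj a b → a ∈ H → b ∈ H := fun hab ha => by
      obtain ⟨c, rfl⟩ := isConj_iff.1 hab
      exact (SylowKernel.conj_mem_iff c _).2 ha
    have hsq : ∀ m : ℤ, D.gr (2 * m) ∈ H := fun m => by
      rw [D.gr_even_square]; exact mul_self_mem_of_index_two hH _
    have h0 : D.gy 0 ∈ H := hmemc c2 (by rw [D.gz_eq, show (4 : ℤ) * D.q = 2 * (2 * D.q) by ring]; exact hsq _)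
    have h1 : D.gy 1 ∈ H := hmemc c4 (by rw [D.gw_eq]; exact hsq _)
    have hr : ∀ i, D.gr i ∈ H := fun i => by
      rcases Int.even_or_odd i with ⟨m, rfl⟩ | ⟨m, rfl⟩
      · rw [← two_mul]; exact hsq m
      · rw [← D.gr_add, ← D.gy_mul_zero 1]; exact mul_mem (hsq m) (mul_mem h1 h0)
    refine SylowKernel.not_sylow_le S hH fun u hu => ?_
    rcases D.elem_cases hu with ⟨i, rfl⟩ | ⟨i, rfl⟩
    · exact hr i
    · rw [← add_zero i, ← D.gr_mul_gy]; exact mul_mem (hr i) h0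
  · exact fun t ht => (D.invol_isConj ht).elim id fun h => h.trans c2.symm
  · exact fun t ht => (D.four_isConj ht).elim id fun h => h.trans c4.symm

theorem case_two_six (h₁ : (centralizer (T : Set G)).relIndex (normalizer (T : Set G)) = 2)
    (h₂ : (Q ⊔ centralizer (Q : Set G)).relIndex (normalizer (Q : Set G)) = 6) :
    (∃ K : Subgroup G, K.Normal ∧ K.index = 2 ∧
      (∀ P : Sylow 2 ↥K, ∃ m : ℕ, 1 ≤ m ∧ Nonempty ((P : Subgroup ↥K) ≃* QuaternionGroup (2 ^ m))) ∧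
      (∀ H : Subgroup ↥K, H.index ≠ 2)) ∧
    Cfsg.IsWeaklyClosed ((center (S : Subgroup G)).map (S : Subgroup G).subtype) (S : Subgroup G) ∧
      Nat.card {C : ConjClasses G // ∃ t : G, orderOf t = 2 ∧ ConjClasses.mk t = C} = 2 ∧
      Nat.card {C : ConjClasses G // ∃ t : G, orderOf t = 4 ∧ ConjClasses.mk t = C} = 1 := by
  have n2 := D.klein_not_conj hT hTS h₁
  have c4 := D.quat_conj_six hQS eQ h₂
  have hyy : ∀ g : G, g * D.gy 0 * g⁻¹ ≠ D.gz := fun g h => n2 (isConj_iff.2 ⟨g, h⟩ : IsConj (D.gy 0) D.gz).symm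
  have o0 := D.gy_order_two (dvd_zero 2)
  obtain ⟨K, hKn, hK, hyK, -⟩ := SylowKernel.exists_kernel S (D.gHalf 1) (D.gHalf_relIndex 1) (D.gy_mem 0)
    (by rw [D.gy_mem_gHalf]; omega) (key_invol o0 fun g hg => by
      rcases D.invol_in hg (by rw [CfsgLib.Invol.orderOf_conj_eq, o0]) with e | ⟨j, hj, e⟩
      · exact absurd e (hyy g)
      · rw [e, D.gy_mem_gHalf, D.gy_mem_gHalf]; omega)
  haveI := hKn
  obtain ⟨i, hi, b, hb, hcyc⟩ := D.quat_cycle hQS eQ (h₂ ▸ by norm_num)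
  have hbK : b ∈ K := SylowKernel.mem_of_odd hK hb
  have hwK : D.gw ∈ K := by rw [D.gw_eq, D.gr_even_square]; exact mul_self_mem_of_index_two hK _
  have hiK : D.gy i ∈ K := by
    rcases hcyc with ⟨h, -⟩ | ⟨h, -⟩
    · exact (step_mem h).1 hwK
    · exact (step_mem h).2 hwK
  have hwiK : D.gw * D.gy i ∈ K := mul_mem hwK hiK
  have hoddK : ∀ j, ¬ 2 ∣ j → D.gy j ∈ K := fun j hj => (D.mem_of_gy (by omega)).2 hiK
  have hle : D.gHalf 1 ≤ K := fun u hu => by
    rcases D.elem_cases (D.gHalf_le 1 hu) with ⟨j, rfl⟩ | ⟨j, rfl⟩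
    · obtain ⟨m, rfl⟩ := D.gr_mem_gHalf.1 hu
      rw [D.gr_even_square]; exact mul_self_mem_of_index_two hK _
    · exact hoddK j (by have := D.gy_mem_gHalf.1 hu; omega)
  refine ⟨⟨K, hKn, hK, fun P => ?_, fun L hL => ?_⟩, ⟨map_subtype_le _, fun g hg => ?_⟩,
    card_two_classes D.gz_order o0 n2 fun t ht => D.invol_isConj ht,
    card_one_class D.gw_order fun t ht => (D.four_isConj ht).elim id fun h => h.trans c4.symm⟩
  · obtain ⟨e⟩ := SylowKernel.sylow_equiv S hK (D.gHalf_le 1) (D.gHalf_relIndex 1) hle P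
    obtain ⟨f⟩ := D.half_one_quaternion
    refine ⟨D.k + 1, Nat.le_add_left 1 _, ?_⟩
    rw [show 2 ^ (D.k + 1) = 2 * D.q by rw [D.hq, pow_succ']]
    exact ⟨(e.trans (equivMapOfInjective (D.half 1) _ (S : Subgroup G).subtype_injective).symm).trans f⟩
  · have hall : ∀ L : Subgroup K, L.index = 2 → (⟨D.gy i, hiK⟩ : K) ∈ L := by
      intro L hL
      by_contra hi'
      have hw' : (⟨D.gw, hwK⟩ : K) ∉ L ∧ (⟨_, hwiK⟩ : K) ∉ L := by
        rcases hcyc with ⟨h, h'⟩ | ⟨h, h'⟩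
        · exact ⟨fun e => hi' ((parity_step hK hL hb hwK hiK h).1 e), fun e => hi' ((parity_step hK hL hb hiK hwiK h').2 e)⟩
        · have e0 : (⟨D.gw, hwK⟩ : K) ∉ L := fun e => hi' ((parity_step hK hL hb hiK hwK h).2 e)
          exact ⟨e0, fun e => e0 ((parity_step hK hL hb hwK hwiK h').2 e)⟩
      exact hw'.2 (show (⟨D.gw, hwK⟩ : K) * ⟨D.gy i, hiK⟩ ∈ L from
        (mul_mem_iff_of_index_two hL).2 (iff_of_false hw'.1 hi'))
    have hodd : ∀ j, ¬ 2 ∣ j → D.gy j ∈ L.map K.subtype := fun j hj => by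
      obtain ⟨s, -, hs⟩ := D.gy_conj (i := i) (j := j) (by omega)
      exact ⟨_, all_conj_mem hiK s hall L hL, hs⟩
    refine D.not_gHalf_le hK L hL 1 fun u hu => ?_
    rcases D.elem_cases (D.gHalf_le 1 hu) with ⟨j, rfl⟩ | ⟨j, rfl⟩
    · obtain ⟨m, rfl⟩ := D.gr_mem_gHalf.1 hu
      have := mul_mem (hodd (2 * m + 1 - 4 * (D.q : ℤ)) (by omega)) (hodd 1 (by omega))
      rwa [D.gy_mul_gy, show 2 * m + 1 - 4 * (D.q : ℤ) + (4 * (D.q : ℤ) - 1) * 1 = 2 * m by ring] at this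
    · exact hodd j (by have := D.gy_mem_gHalf.1 hu; omega)
  · have hzc : (center (S : Subgroup G)).map (S : Subgroup G).subtype = zpowers D.gz := by
      rw [D.center_eq, MonoidHom.map_zpowers]; rfl
    rw [hzc] at hg ⊢
    rw [MonoidHom.map_zpowers] at hg ⊢
    change zpowers (g * D.gz * g⁻¹) ≤ _ at hg
    show zpowers (g * D.gz * g⁻¹) = _
    rcases D.invol_in (hg (mem_zpowers _)) (by rw [CfsgLib.Invol.orderOf_conj_eq, D.gz_order]) with e | ⟨j, hj, e⟩
    · rw [e]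
    · exact absurd ((isConj_iff.2 ⟨g, e⟩ : IsConj D.gz (D.gy j)).trans (D.gy_isConj (by simpa using hj))) n2

theorem case_six_two (h₁ : (centralizer (T : Set G)).relIndex (normalizer (T : Set G)) = 6)
    (h₂ : (Q ⊔ centralizer (Q : Set G)).relIndex (normalizer (Q : Set G)) = 2) :
    (∃ K : Subgroup G, K.Normal ∧ K.index = 2 ∧
      (∀ P : Sylow 2 ↥K, ∃ m : ℕ, Nonempty ((P : Subgroup ↥K) ≃* DihedralGroup m)) ∧
      (∀ H : Subgroup ↥K, H.index ≠ 2)) ∧
      Nat.card {C : ConjClasses G // ∃ t : G, orderOf t = 2 ∧ ConjClasses.mk t = C} = 1 ∧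
      Nat.card {C : ConjClasses G // ∃ t : G, orderOf t = 4 ∧ ConjClasses.mk t = C} = 2 := by
  have c2 := D.klein_conj_six hT hTS h₁
  have n4 := D.quat_not_conj hQS eQ h₂
  have o1 : orderOf (D.gy 1) = 4 := D.gy_order_four (by omega)
  have hz0 : D.gz ∈ D.gHalf 0 := by rw [D.gz_eq, D.gr_mem_gHalf]; omega
  obtain ⟨K, hKn, hK, hyK, -⟩ := SylowKernel.exists_kernel S (D.gHalf 0) (D.gHalf_relIndex 0) (D.gy_mem 1)
    (by rw [D.gy_mem_gHalf]; omega) (key_four o1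
      (fun g hg => by
        rw [D.gy_sq (by omega)] at hg ⊢
        refine iff_of_true ?_ hz0
        rcases D.invol_in hg (by rw [CfsgLib.Invol.orderOf_conj_eq, D.gz_order]) with e | ⟨j, hj, e⟩
        · rw [e]; exact hz0
        · rw [e, D.gy_mem_gHalf]; simpa using hj)
      (fun g hg => by
        have hc : ∀ v, g * D.gy 1 * g⁻¹ = v → IsConj (D.gy 1) v := fun v h => isConj_iff.2 ⟨g, h⟩
        rcases D.four_in hg (by rw [CfsgLib.Invol.orderOf_conj_eq, o1]) with e | e | ⟨j, hj, e⟩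
        · exact absurd (hc _ e).symm n4
        · exact absurd ((hc _ e).trans D.gw_inv_isConj).symm n4
        · rw [e, D.gy_mem_gHalf, D.gy_mem_gHalf]; omega))
  haveI := hKn
  obtain ⟨i, hi, b, hb, hcyc⟩ := D.klein_cycle hT hTS (h₁ ▸ by norm_num)
  have hzK : D.gz ∈ K := by rw [← D.gw_sq]; exact mul_self_mem_of_index_two hK _
  have hwK : D.gw ∈ K := by rw [D.gw_eq, D.gr_even_square]; exact mul_self_mem_of_index_two hK _
  have hcyc' : (b * D.gz * b⁻¹ = D.gy i ∨ b * D.gz * b⁻¹ = (D.gy i)⁻¹) ∨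
      (b * D.gy i * b⁻¹ = D.gz ∨ b * D.gy i * b⁻¹ = D.gz⁻¹) :=
    hcyc.elim (fun h => Or.inl (Or.inl h)) (fun h => Or.inr (Or.inl h))
  have hiK : D.gy i ∈ K := by
    rcases hcyc' with h | h
    · exact (step_mem h).1 hzK
    · exact (step_mem h).2 hzK
  have hevK : ∀ j, 2 ∣ j → D.gy j ∈ K := fun j hj => (D.mem_of_gy (dvd_sub hj hi)).2 hiK
  have hle : D.gHalf 0 ≤ K := fun u hu => by
    rcases D.elem_cases (D.gHalf_le 0 hu) with ⟨j, rfl⟩ | ⟨j, rfl⟩
    · obtain ⟨m, rfl⟩ := D.gr_mem_gHalf.1 hu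
      rw [D.gr_even_square]; exact mul_self_mem_of_index_two hK _
    · exact hevK j (by have := D.gy_mem_gHalf.1 hu; omega)
  refine ⟨⟨K, hKn, hK, fun P => ?_, fun L hL => ?_⟩,
    card_one_class D.gz_order fun t ht => (D.invol_isConj ht).elim id fun h => h.trans c2.symm,
    card_two_classes D.gw_order o1 n4 fun t ht => D.four_isConj ht⟩
  · obtain ⟨e⟩ := SylowKernel.sylow_equiv S hK (D.gHalf_le 0) (D.gHalf_relIndex 0) hle P
    obtain ⟨f⟩ := D.half_zero_dihedral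
    exact ⟨_, ⟨(e.trans (equivMapOfInjective (D.half 0) _ (S : Subgroup G).subtype_injective).symm).trans f⟩⟩
  · have hall : ∀ L : Subgroup K, L.index = 2 → (⟨D.gy i, hiK⟩ : K) ∈ L := by
      intro L hL
      have hzL : (⟨D.gz, hzK⟩ : K) ∈ L := by
        rw [show (⟨D.gz, hzK⟩ : K) = ⟨D.gw, hwK⟩ * ⟨D.gw, hwK⟩ from Subtype.ext D.gw_sq.symm]
        exact mul_self_mem_of_index_two hL _
      rcases hcyc' with h | h
      · exact (parity_step hK hL hb hzK hiK h).1 hzL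
      · exact (parity_step hK hL hb hiK hzK h).2 hzL
    have hev : ∀ j, 2 ∣ j → D.gy j ∈ L.map K.subtype := fun j hj => by
      obtain ⟨s, -, hs⟩ := D.gy_conj (i := i) (j := j) (dvd_sub hi hj)
      exact ⟨_, all_conj_mem hiK s hall L hL, hs⟩
    refine D.not_gHalf_le hK L hL 0 fun u hu => ?_
    rcases D.elem_cases (D.gHalf_le 0 hu) with ⟨j, rfl⟩ | ⟨j, rfl⟩
    · obtain ⟨m, rfl⟩ := D.gr_mem_gHalf.1 hu
      have := mul_mem (hev (2 * m) (by omega)) (hev 0 (by omega))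
      rwa [D.gy_mul_gy, mul_zero, add_zero] at this
    · exact hev j (by have := D.gy_mem_gHalf.1 hu; omega)

theorem case_two_two (h₁ : (centralizer (T : Set G)).relIndex (normalizer (T : Set G)) = 2)
    (h₂ : (Q ⊔ centralizer (Q : Set G)).relIndex (normalizer (Q : Set G)) = 2) :
    Cfsg.HasNormalPComplement 2 G ∧
      Nat.card {C : ConjClasses G // ∃ t : G, orderOf t = 2 ∧ ConjClasses.mk t = C} = 2 ∧
      Nat.card {C : ConjClasses G // ∃ t : G, orderOf t = 4 ∧ ConjClasses.mk t = C} = 2 := by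
  have n2 := D.klein_not_conj hT hTS h₁
  have n4 := D.quat_not_conj hQS eQ h₂
  have o0 := D.gy_order_two (dvd_zero 2)
  have o1 : orderOf (D.gy 1) = 4 := D.gy_order_four (by omega)
  refine ⟨?_, card_two_classes D.gz_order o0 n2 fun t ht => D.invol_isConj ht,
    card_two_classes D.gw_order o1 n4 fun t ht => D.four_isConj ht⟩
  set M := zpowers (D.gr 1) with hM
  have hMmem : ∀ {u : G}, u ∈ M ↔ ∃ j, u = D.gr j := fun {u} => by
    have e : ∀ j : ℤ, D.gr 1 ^ j = D.gr j := fun j => by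
      rw [gr, gr, ← Subgroup.coe_zpow, ← zpow_mul, one_mul]
    rw [hM, mem_zpowers_iff]
    exact ⟨fun ⟨j, hj⟩ => ⟨j, by rw [← hj, e]⟩, fun ⟨j, hj⟩ => ⟨j, by rw [hj, e]⟩⟩
  have hMS : M ≤ (S : Subgroup G) := zpowers_le.2 (D.gr_mem 1)
  have hny : ∀ j, D.gy j ∉ M := fun j h => by
    obtain ⟨l, hl⟩ := hMmem.1 h
    exact D.gy_not_rot j l hl
  have hMi : M.relIndex (S : Subgroup G) = 2 := by
    show (M.subgroupOf (S : Subgroup G)).index = 2
    rw [show M.subgroupOf (S : Subgroup G) = zpowers D.x from ?_, D.index_rot]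
    ext a
    rw [mem_subgroupOf, hMmem, mem_zpowers_iff]
    exact ⟨fun ⟨j, hj⟩ => ⟨j, (Subtype.ext hj).symm⟩, fun ⟨j, hj⟩ => ⟨j, by rw [← hj]; rfl⟩⟩
  have kz : ∀ g : G, g * D.gz * g⁻¹ ∈ (S : Subgroup G) → (g * D.gz * g⁻¹ ∈ M ↔ D.gz ∈ M) := fun g hg => by
    rcases D.invol_in hg (by rw [CfsgLib.Invol.orderOf_conj_eq, D.gz_order]) with e | ⟨j, hj, e⟩
    · rw [e]
    · exact absurd ((isConj_iff.2 ⟨g, e⟩ : IsConj D.gz (D.gy j)).trans (D.gy_isConj (by simpa using hj))) n2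
  have k1 := key_four (S := S) (M := M) o1 (fun g hg => by rw [D.gy_sq (by omega)] at hg ⊢; exact kz g hg) (fun g hg => by
    have hc : ∀ v, g * D.gy 1 * g⁻¹ = v → IsConj (D.gy 1) v := fun v h => isConj_iff.2 ⟨g, h⟩
    rcases D.four_in hg (by rw [CfsgLib.Invol.orderOf_conj_eq, o1]) with e | e | ⟨j, hj, e⟩
    · exact absurd (hc _ e).symm n4
    · exact absurd ((hc _ e).trans D.gw_inv_isConj).symm n4
    · rw [e]; exact iff_of_false (hny j) (hny 1))
  obtain ⟨K, hKn, hK, hyK, hout⟩ := SylowKernel.exists_kernel S M hMi (D.gy_mem 0) (hny 0)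
    (key_invol o0 fun g hg => by
      rcases D.invol_in hg (by rw [CfsgLib.Invol.orderOf_conj_eq, o0]) with e | ⟨j, hj, e⟩
      · exact absurd (isConj_iff.2 ⟨g, e⟩ : IsConj (D.gy 0) D.gz).symm n2
      · rw [e]; exact iff_of_false (hny j) (hny 0))
  haveI := hKn
  have h1K : D.gy 1 ∉ K := hout _ (D.gy_mem 1) (hny 1) k1
  have hr1 : D.gr 1 ∈ K := by
    rw [← D.gy_mul_zero 1]
    exact (mul_mem_iff_of_index_two hK).2 (iff_of_false h1K hyK)
  refine SylowKernel.complement_of_cyclic S hK hMS hMi (zpowers_le.2 hr1) inferInstance fun hbot => ?_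
  exact D.x_ne_one (by
    have := zpowers_eq_bot.1 (hM ▸ hbot)
    rw [gr, OneMemClass.coe_eq_one, zpow_one] at this
    exact this)

end CfsgLib.QD.Data
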