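import Mathlib.GroupTheory.SpecificGroups.KleinFour
import Mathlib.GroupTheory.Transfer
import Cfsg.Agent.Transfer.Basic

/-!
Groups with a cyclic or four-group Sylow 2-subgroup.
-/

set_option autoImplicit false
set_option linter.unusedSectionVars false
set_option linter.deprecated false
set_option linter.style.haveILetI false

namespace CfsgLib.SmallSylow

open Subgroup

variable {G : Type*} [Group G] [Finite G]

theorem exists_index_two_of_isPGroup {X : Type*} [Group X] [Finite X] (hX : IsPGroup 2 X)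
    (h : Nat.card X ≠ 1) : ∃ H : Subgroup X, H.index = 2 := by
  haveI : Fact (Nat.Prime 2) := ⟨Nat.prime_two⟩
  obtain ⟨k, hk⟩ := IsPGroup.iff_card.1 hX
  have hk0 : 1 ≤ k := by
    by_contra h0
    rw [hk, show k = 0 by omega, pow_zero] at h
    exact h rfl
  obtain ⟨H, hH⟩ := Sylow.exists_subgroup_card_pow_prime (G := X) 2 (n := k - 1)
    (hk ▸ pow_dvd_pow 2 (Nat.sub_le k 1))
  refine ⟨H, ?_⟩
  have e := H.index_mul_card
  rw [hk, hH] at e
  refine Nat.eq_of_mul_eq_mul_right (pow_pos two_pos (k - 1)) ?_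
  rw [e, ← pow_succ', Nat.sub_add_cancel hk0]

theorem exists_index_two_of_cyclic (heven : Even (Nat.card G)) (T : Sylow 2 G)
    (hT : IsCyclic (T : Subgroup G)) : ∃ H : Subgroup G, H.index = 2 := by
  haveI : Fact (Nat.Prime 2) := ⟨Nat.prime_two⟩
  have hp : (Nat.card G).minFac = 2 :=
    Nat.minFac_eq_two_iff (Nat.card G) |>.2 (even_iff_two_dvd.1 heven)
  have hc := IsCyclic.isComplement' hp hT
  set K := (MonoidHom.transferSylow T (hT.normalizer_le_centralizer hp)).ker
  have e := hc.symm.index_eq_card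
  have h1 : Nat.card (G ⧸ K) ≠ 1 := by
    rw [← index, e]
    intro h
    exact T.ne_bot_of_dvd_card (even_iff_two_dvd.1 heven) (card_eq_one.1 h)
  obtain ⟨k, hk⟩ := IsPGroup.iff_card.1 T.2
  obtain ⟨H, hH⟩ := exists_index_two_of_isPGroup
    (IsPGroup.iff_card.2 ⟨k, by rw [← index, e]; exact hk⟩ : IsPGroup 2 (G ⧸ K)) h1
  exact ⟨H.comap (QuotientGroup.mk' K), by
    rw [index_comap_of_surjective _ (QuotientGroup.mk'_surjective K), hH]⟩

variable (P : Sylow 2 G) (hP : IsKleinFour (P : Subgroup G))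
include hP

theorem klein_comm {a b : G} (ha : a ∈ (P : Subgroup G)) (hb : b ∈ (P : Subgroup G)) :
    a * b = b * a := by
  haveI := hP
  haveI : IsMulCommutative (P : Subgroup G) := IsKleinFour.isMulCommutative
  exact congrArg Subtype.val (mul_comm' (⟨a, ha⟩ : (P : Subgroup G)) ⟨b, hb⟩)

theorem klein_sq {a : G} (ha : a ∈ (P : Subgroup G)) : a * a = 1 := by
  haveI := hP
  exact congrArg Subtype.val (IsKleinFour.mul_self (⟨a, ha⟩ : (P : Subgroup G)))

theorem klein_third {a b c : G} (ha : a ∈ (P : Subgroup G)) (hb : b ∈ (P : Subgroup G))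
    (hc : c ∈ (P : Subgroup G)) (ha1 : a ≠ 1) (hb1 : b ≠ 1) (hc1 : c ≠ 1) (hab : a ≠ b)
    (hca : c ≠ a) (hcb : c ≠ b) : c = a * b := by
  haveI := hP
  have h := IsKleinFour.eq_mul_of_ne_all (x := (⟨a, ha⟩ : (P : Subgroup G))) (y := ⟨b, hb⟩) (z := ⟨c, hc⟩)
    (fun h => ha1 (congrArg Subtype.val h)) (fun h => hb1 (congrArg Subtype.val h))
    (fun h => hab (congrArg Subtype.val h)) (fun h => hc1 (congrArg Subtype.val h))
    (fun h => hca (congrArg Subtype.val h)) (fun h => hcb (congrArg Subtype.val h))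
  exact congrArg Subtype.val h

theorem exists_invol_mem {a : G} (ha : orderOf a = 2) :
    ∃ g : G, g * a * g⁻¹ ∈ (P : Subgroup G) := by
  haveI : Fact (Nat.Prime 2) := ⟨Nat.prime_two⟩
  obtain ⟨Q, hQ⟩ := (show IsPGroup 2 ↥(zpowers a) from
    IsPGroup.iff_card.2 ⟨1, by rw [Nat.card_zpowers, ha, pow_one]⟩).exists_le_sylow
  obtain ⟨g, hg⟩ := MulAction.exists_smul_eq G Q P
  refine ⟨g, ?_⟩
  rw [← hg]
  exact ⟨a, hQ (mem_zpowers a), rfl⟩

theorem exists_normalizer_of_isConj {a b : G} (ha : a ∈ (P : Subgroup G))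
    (hb : b ∈ (P : Subgroup G)) (h : IsConj a b) :
    ∃ n ∈ normalizer ((P : Subgroup G) : Set G), n * a * n⁻¹ = b := by
  obtain ⟨g, hg⟩ := isConj_iff.1 h
  haveI : Fact (Nat.Prime 2) := ⟨Nat.prime_two⟩
  have hfix : ∀ z, z ∈ (P : Subgroup G) → ∀ x ∈ P, (fun y => x * y * x⁻¹) '' ({z} : Set G) = {z} := by
    intro z hz x hx
    rw [Set.image_singleton, klein_comm P hP hx hz, mul_inv_cancel_right]
  obtain ⟨n, hn, he⟩ := CfsgLib.TransferBasic.fusion_normal_subsets (P := P) {a} {b}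
    (hfix a ha) (hfix b hb) g (by rw [Set.image_singleton, hg])
  refine ⟨n, hn, ?_⟩
  rw [Set.image_singleton] at he
  exact Set.singleton_injective he

theorem transitive_of_not_le (h : ¬ normalizer ((P : Subgroup G) : Set G) ≤
    centralizer ((P : Subgroup G) : Set G)) {a b : G} (ha : a ∈ (P : Subgroup G))
    (hb : b ∈ (P : Subgroup G)) (ha1 : a ≠ 1) (hb1 : b ≠ 1) : IsConj a b := by
  haveI : Fact (Nat.Prime 2) := ⟨Nat.prime_two⟩
  obtain ⟨n, hn, hnc⟩ := SetLike.not_le_iff_exists.1 h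
  set N := normalizer ((P : Subgroup G) : Set G)
  set C := centralizer ((P : Subgroup G) : Set G)
  haveI hCn : (C.subgroupOf N).Normal := (normalizerMonoidHom_ker (P : Subgroup G)).symm ▸ inferInstance
  -- an odd power of `n` centralizes `P`
  set m := (C.subgroupOf N).index
  have hodd : Odd m := by
    rw [Nat.odd_iff, ← Nat.two_dvd_ne_zero]
    intro h2
    refine P.not_dvd_index (h2.trans ?_)
    have hPC : (P : Subgroup G) ≤ C := fun x hx => mem_centralizer_iff.2 fun y hy => klein_comm P hP hy hx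
    exact (relIndex_dvd_of_le_left _ hPC).trans (relIndex_dvd_index_of_le le_normalizer)
  have hm : n ^ m ∈ C := by
    have := Subgroup.pow_index_mem (C.subgroupOf N) (⟨n, hn⟩ : N)
    simpa [mem_subgroupOf] using this
  set φ : G → G := fun x => n * x * n⁻¹
  have hφP : ∀ x ∈ (P : Subgroup G), φ x ∈ (P : Subgroup G) := fun x hx => (mem_normalizer_iff.1 hn x).1 hx
  have hφ1 : ∀ x, x ≠ 1 → φ x ≠ 1 := fun x hx e => hx (conj_eq_one_iff.1 e)
  have hpow : ∀ (k : ℕ) x, φ^[k] x = n ^ k * x * (n ^ k)⁻¹ := by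
    intro k x
    induction k with
    | zero => simp
    | succ k ih => rw [Function.iterate_succ_apply', ih, pow_succ']; simp only [φ]; group
  have hφm : ∀ x ∈ (P : Subgroup G), φ^[m] x = x := fun x hx => by
    rw [hpow, ← mem_centralizer_iff.1 hm x hx, mul_inv_cancel_right]
  obtain ⟨c, hc, hcn⟩ : ∃ c ∈ (P : Subgroup G), φ c ≠ c := by
    by_contra hcon
    push Not at hcon
    exact hnc (mem_centralizer_iff.2 fun y hy => (mul_inv_eq_iff_eq_mul.1 (hcon y hy)).symm)
  have hc1 : c ≠ 1 := fun e => hcn (by simp [φ, e])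
  have h2 : φ (φ c) ≠ c := by
    intro e
    obtain ⟨k, hk⟩ := hodd
    have h2k : ∀ j, φ^[2 * j] c = c := by
      intro j
      induction j with
      | zero => rfl
      | succ j ih =>
        rw [show 2 * (j + 1) = 2 * j + 1 + 1 by ring, Function.iterate_succ_apply',
          Function.iterate_succ_apply', ih, e]
    have := hφm c hc
    rw [hk, show 2 * k + 1 = (2 * k).succ from rfl, Function.iterate_succ_apply', h2k] at this
    exact hcn this
  have h21 : φ (φ c) ≠ φ c := fun e => hcn (by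
    have : Function.Injective φ := fun u v huv => by simpa [φ] using huv
    exact this e)
  have hall : ∀ z ∈ (P : Subgroup G), z ≠ 1 → IsConj c z := by
    intro z hz hz1
    by_cases h1 : z = c
    · exact h1 ▸ IsConj.refl z
    by_cases h3 : z = φ c
    · exact isConj_iff.2 ⟨n, h3.symm⟩
    have e1 := klein_third P hP hc (hφP c hc) hz hc1 (hφ1 c hc1) hz1 hcn.symm h1 h3
    have e2 := klein_third P hP hc (hφP c hc) (hφP _ (hφP c hc)) hc1 (hφ1 c hc1)
      (hφ1 _ (hφ1 c hc1)) hcn.symm h2 h21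
    refine isConj_iff.2 ⟨n ^ 2, ?_⟩
    rw [← hpow 2 c, e1, ← e2]
    rfl
  exact (hall a ha ha1).symm.trans (hall b hb hb1)

theorem eq_of_isConj_of_le (h : normalizer ((P : Subgroup G) : Set G) ≤
    centralizer ((P : Subgroup G) : Set G)) {a b : G} (ha : a ∈ (P : Subgroup G))
    (hb : b ∈ (P : Subgroup G)) (hab : IsConj a b) : a = b := by
  obtain ⟨n, hn, he⟩ := exists_normalizer_of_isConj P hP ha hb hab
  rw [← he, ← mem_centralizer_iff.1 (h hn) a ha, mul_inv_cancel_right]

open scoped Classical in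
theorem card_classes :
    Nat.card {C : ConjClasses G // ∃ t : G, orderOf t = 2 ∧ ConjClasses.mk t = C} =
      if normalizer ((P : Subgroup G) : Set G) ≤ centralizer ((P : Subgroup G) : Set G) then 3 else 1 := by
  haveI := hP
  haveI : Fact (Nat.Prime 2) := ⟨Nat.prime_two⟩
  have hord : ∀ t : G, t ∈ (P : Subgroup G) → t ≠ 1 → orderOf t = 2 := fun t ht ht1 =>
    orderOf_eq_prime (by rw [sq, klein_sq P hP ht]) ht1
  let f : {t : (P : Subgroup G) // t ≠ 1} → {C : ConjClasses G // ∃ t : G, orderOf t = 2 ∧ ConjClasses.mk t = C} :=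
    fun t => ⟨ConjClasses.mk ((t : (P : Subgroup G)) : G), _, hord _ t.1.2 (fun e => t.2 (Subtype.ext e)), rfl⟩
  have hsurj : Function.Surjective f := by
    rintro ⟨C, t, ht, rfl⟩
    obtain ⟨g, hg⟩ := exists_invol_mem P hP ht
    refine ⟨⟨⟨_, hg⟩, fun e => ?_⟩, ?_⟩
    · have : t = 1 := conj_eq_one_iff.1 (congrArg Subtype.val e)
      simp [this] at ht
    · exact Subtype.ext (ConjClasses.mk_eq_mk_iff_isConj.2 (isConj_iff.2 ⟨g, rfl⟩).symm)
  have hcard : Nat.card {t : (P : Subgroup G) // t ≠ 1} = 3 := by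
    haveI := Fintype.ofFinite (P : Subgroup G)
    rw [Nat.card_eq_fintype_card, Fintype.card_subtype_compl, Fintype.card_subtype_eq,
      ← Nat.card_eq_fintype_card, IsKleinFour.card_four]
  split_ifs with h
  · rw [← hcard]
    refine (Nat.card_eq_of_bijective f ⟨fun s t hst => ?_, hsurj⟩).symm
    refine Subtype.ext (Subtype.ext ?_)
    exact eq_of_isConj_of_le P hP h s.1.2 t.1.2
      (ConjClasses.mk_eq_mk_iff_isConj.1 (congrArg Subtype.val hst))
  · haveI : Nonempty {t : (P : Subgroup G) // t ≠ 1} := (Nat.card_pos_iff.1 (hcard ▸ (by norm_num))).1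
    rw [Nat.card_eq_one_iff_unique]
    refine ⟨⟨fun C D => ?_⟩, ⟨f (Classical.arbitrary _)⟩⟩
    obtain ⟨s, rfl⟩ := hsurj C
    obtain ⟨t, rfl⟩ := hsurj D
    exact Subtype.ext (ConjClasses.mk_eq_mk_iff_isConj.2 (transitive_of_not_le P hP h s.1.2 t.1.2
      (fun e => s.2 (Subtype.ext e)) (fun e => t.2 (Subtype.ext e))))

theorem complement_iff : (∃ N : Subgroup G, N.Normal ∧ IsComplement' N (P : Subgroup G)) ↔
    normalizer ((P : Subgroup G) : Set G) ≤ centralizer ((P : Subgroup G) : Set G) := by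
  haveI : Fact (Nat.Prime 2) := ⟨Nat.prime_two⟩
  constructor
  · rintro ⟨N, hN, hc⟩ n hn
    haveI := hN
    refine mem_centralizer_iff.2 fun x hx => ?_
    have hx' : n * x * n⁻¹ ∈ (P : Subgroup G) := (mem_normalizer_iff.1 hn x).1 hx
    obtain ⟨⟨u, v⟩, huv⟩ := hc.2 n
    have e : ((v : G) * x * (v : G)⁻¹) = x := by rw [klein_comm P hP v.2 hx, mul_inv_cancel_right]
    have h1 : n * x * n⁻¹ * x⁻¹ ∈ N := by
      have : n * x * n⁻¹ * x⁻¹ = (u : G) * (x * (u : G)⁻¹ * x⁻¹) := by
        rw [← huv]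
        calc _ = (u : G) * ((v : G) * x * (v : G)⁻¹) * (u : G)⁻¹ * x⁻¹ := by group
          _ = (u : G) * x * (u : G)⁻¹ * x⁻¹ := by rw [e]
          _ = _ := by group
      rw [this]
      exact mul_mem u.2 (hN.conj_mem _ (inv_mem u.2) x)
    have h2 := mem_bot.1 (hc.disjoint.le_bot ⟨h1, (P : Subgroup G).mul_mem hx' ((P : Subgroup G).inv_mem hx)⟩)
    rw [mul_inv_eq_one, mul_inv_eq_iff_eq_mul] at h2
    exact h2.symm
  · intro h
    exact ⟨_, inferInstance, MonoidHom.ker_transferSylow_isComplement' P h⟩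

end CfsgLib.SmallSylow
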