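import Cfsg.Agent.Invol.WreathedFusion

/-!
# The wreathed data attached to a quaternion subgroup
-/

set_option autoImplicit false

namespace CfsgLib.Wreath

open Subgroup

/-- The data and model subgroup attached to `U` and `Q`. -/
theorem exists_setup {G : Type*} [Group G] [Finite G] (S : Sylow 2 G) (hS : Cfsg.IsWreathed (S : Subgroup G))
    (n : ℕ) (hn : Nat.card S = 2 ^ (2 * n + 1)) (U : Subgroup G) (hUS : U ≤ S) (hUab : IsMulCommutative U)
    (hUcard : Nat.card U = 2 ^ (2 * n)) (Q : Subgroup G) (hQS : Q ≤ S) (eQ : Q ≃* QuaternionGroup 2) :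
    ∃ D : Data (S : Subgroup G), n = D.k + 2 ∧ U = D.gbase ∧
      ∃ (X : Subgroup (S : Subgroup G)) (a : ℤ), (∀ i j : ℤ, D.e i j ∈ X ↔ D.h ∣ i - j) ∧
        D.e a (-a) * D.t ∈ X ∧
        Q ⊔ ((Subgroup.center (S : Subgroup G)).map (S : Subgroup G).subtype) = X.map (S : Subgroup G).subtype := by
  obtain ⟨D⟩ := exists_data hS
  obtain ⟨hb, a, hr⟩ := D.shape_sup_center ((subgroupOfEquivOfLe hQS).trans eQ)
  refine ⟨D, ?_, D.eq_gbase hUS hUab hn hUcard, _, a, hb, hr, ?_⟩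
  · have h1 := D.card_eq
    rw [show Nat.card (S : Subgroup G) = 2 ^ (2 * n + 1) from hn, D.hq,
      show 2 * (4 * 2 ^ D.k) ^ 2 = 2 ^ (2 * (D.k + 2) + 1) by ring] at h1
    have := Nat.pow_right_injective le_rfl h1
    omega
  · rw [Subgroup.map_sup, map_subgroupOf_eq_of_le hQS]

end CfsgLib.Wreath
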