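import Cfsg.Agent.S1203
import Cfsg.Agent.Invol.QDFusionCases
import Cfsg.Agent.Invol.WreathedSetup
import Cfsg.Agent.Invol.SmallSylow

/-!
# Involution centralizers for quasi-dihedral and wreathed Sylow 2-subgroups
-/

set_option autoImplicit false

namespace CfsgLib.InvolPattern

open Subgroup

theorem isQuasiDihedral_congr {S S' : Type*} [Group S] [Group S'] (e : S ≃* S') (h : Cfsg.IsQuasiDihedral S) :
    Cfsg.IsQuasiDihedral S' := by
  obtain ⟨n, hn, hc, x, y, hx, hy, hxy⟩ := h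
  exact ⟨n, hn, (Nat.card_congr e.toEquiv).symm.trans hc, e x, e y, (e.orderOf_eq x).trans hx,
    (e.orderOf_eq y).trans hy, by rw [← map_inv, ← map_mul, ← map_mul, hxy, map_pow]⟩

theorem isWreathed_congr {S S' : Type*} [Group S] [Group S'] (e : S ≃* S') (h : Cfsg.IsWreathed S) :
    Cfsg.IsWreathed S' := by
  obtain ⟨n, hn, hc, x, y, z, hx, hxy, hd, hz, hzx⟩ := h
  refine ⟨n, hn, (Nat.card_congr e.toEquiv).symm.trans hc, e x, e y, e z, (e.orderOf_eq x).trans hx,
    by rw [← map_mul, hxy, map_mul], ?_, (e.orderOf_eq z).trans hz, by rw [← map_inv, ← map_mul, ← map_mul, hzx]⟩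
  show zpowers (e.toMonoidHom x) ⊓ zpowers (e.toMonoidHom y) = ⊥
  rw [← MonoidHom.map_zpowers, ← MonoidHom.map_zpowers, ← map_inf _ _ e.toMonoidHom e.injective, hd,
    Subgroup.map_bot]

variable {G : Type*} [Group G] [Finite G]

theorem exists_index_two_of_pow {K : Subgroup G} [K.Normal] {c : ℕ} (hK : K.index = 2 ^ c) (hc : c ≠ 0) :
    ∃ H : Subgroup G, H.index = 2 := by
  obtain ⟨H, hH⟩ := SmallSylow.exists_index_two_of_isPGroup (X := G ⧸ K)
    (IsPGroup.of_card (n := c) (by rw [← index_eq_card, hK]))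
    (by rw [← index_eq_card, hK]; exact (Nat.one_lt_pow hc one_lt_two).ne')
  exact ⟨H.comap (QuotientGroup.mk' K), by
    rw [index_comap_of_surjective _ (QuotientGroup.mk'_surjective K), hH]⟩

theorem no_complement_of_no_index_two (hG : ∀ H : Subgroup G, H.index ≠ 2) (S : Sylow 2 G)
    (hS : (S : Subgroup G) ≠ ⊥) : ¬ Cfsg.HasNormalPComplement 2 G := by
  haveI : Fact (Nat.Prime 2) := ⟨Nat.prime_two⟩
  rintro ⟨P, N, hN, hc⟩
  obtain ⟨k, hk⟩ := IsPGroup.iff_card.1 P.2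
  have hk0 : k ≠ 0 := fun h0 => hS (card_eq_one.1 (by
    rw [S.card_eq_multiplicity, ← P.card_eq_multiplicity, hk, h0, pow_zero]))
  obtain ⟨H, hH⟩ := exists_index_two_of_pow (hc.symm.index_eq_card.trans hk) hk0
  exact hG H hH

/-- An odd element moving a 2-element inside a 2-subgroup it normalizes prevents a normal
2-complement. -/
theorem no_complement_of_moved {V : Subgroup G} (hV : IsPGroup 2 V) {b v : G}
    (hb : ∀ u ∈ V, b * u * b⁻¹ ∈ V) (hbo : Odd (orderOf b)) (hv : v ∈ V) (hne : b * v * b⁻¹ ≠ v) :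
    ¬ Cfsg.HasNormalPComplement 2 G := by
  haveI : Fact (Nat.Prime 2) := ⟨Nat.prime_two⟩
  rintro ⟨P, N, hN, hc⟩
  obtain ⟨k, hk⟩ := IsPGroup.iff_card.1 P.2
  have hbN : b ∈ N := CfsgLib.Wreath.Data.mem_of_odd_pow (hc.symm.index_eq_card.trans hk) hbo
  have h1 : b * v * b⁻¹ * v⁻¹ ∈ N := by
    rw [show b * v * b⁻¹ * v⁻¹ = b * (v * b⁻¹ * v⁻¹) by group]
    exact mul_mem hbN (hN.conj_mem _ (inv_mem hbN) v)
  have h2 : b * v * b⁻¹ * v⁻¹ ∈ V := mul_mem (hb v hv) (inv_mem hv)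
  have hodd : ¬ 2 ∣ Nat.card N := by
    rw [← hc.index_eq_card]
    exact P.not_dvd_index
  obtain ⟨j, hj⟩ := IsPGroup.iff_card.1 hV
  refine hne (mul_inv_eq_one.1 (orderOf_eq_one_iff.1 (Nat.eq_one_of_dvd_coprimes
    (((Nat.Prime.coprime_iff_not_dvd Nat.prime_two).2 hodd).pow_left j) ?_ (orderOf_dvd_natCard _ h1))))
  rw [← hj]
  exact orderOf_dvd_natCard _ h2

/-- A central involution and another involution give two classes. -/
theorem card_classes_ne_one {z f : G} (hz : orderOf z = 2) (hf : orderOf f = 2) (hne : f ≠ z)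
    (hc : ∀ g : G, g * z * g⁻¹ = z) :
    Nat.card {C : ConjClasses G // ∃ t : G, orderOf t = 2 ∧ ConjClasses.mk t = C} ≠ 1 := fun h => by
  have h1 := (Nat.card_eq_one_iff_unique.1 h).1.elim ⟨ConjClasses.mk z, z, hz, rfl⟩ ⟨ConjClasses.mk f, f, hf, rfl⟩
  obtain ⟨g, hg⟩ := isConj_iff.1 (ConjClasses.mk_eq_mk_iff_isConj.1 (congrArg Subtype.val h1))
  exact hne (hg.symm.trans (hc g))

theorem isConj_of_one_class (h : Nat.card {C : ConjClasses G // ∃ t : G, orderOf t = 2 ∧ ConjClasses.mk t = C} = 1)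
    {a b : G} (ha : orderOf a = 2) (hb : orderOf b = 2) : IsConj a b :=
  ConjClasses.mk_eq_mk_iff_isConj.1 (congrArg Subtype.val
    ((Nat.card_eq_one_iff_unique.1 h).1.elim ⟨ConjClasses.mk a, a, ha, rfl⟩ ⟨ConjClasses.mk b, b, hb, rfl⟩))

theorem quaternion_embed (m : ℕ) (hm : 0 < m) :
    ∃ Q : Subgroup (QuaternionGroup (2 * m)), Nonempty (Q ≃* QuaternionGroup 2) := by
  let μ : ZMod (2 * 2) →+ ZMod (2 * (2 * m)) := ZMod.lift (2 * 2)
    ⟨(AddMonoidHom.mulRight (m : ZMod (2 * (2 * m)))).comp (Int.castAddHom (ZMod (2 * (2 * m)))), by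
      show ((2 * 2 : ℕ) : ℤ) * (m : ZMod (2 * (2 * m))) = 0
      have := ZMod.natCast_self (2 * (2 * m))
      push_cast at this ⊢
      linear_combination this⟩
  have hμ : ∀ i : ℤ, μ (i : ZMod (2 * 2)) = (i : ZMod (2 * (2 * m))) * (m : ZMod (2 * (2 * m))) := fun i =>
    ZMod.lift_coe _ _ _
  have h2 : μ ((2 : ℕ) : ZMod (2 * 2)) = ((2 * m : ℕ) : ZMod (2 * (2 * m))) := by
    have := hμ 2
    push_cast at this ⊢
    exact this
  have hinj : Function.Injective μ := by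
    rw [injective_iff_map_eq_zero]
    intro x hx
    obtain ⟨i, rfl⟩ := ZMod.intCast_surjective x
    rw [hμ, show (m : ZMod (2 * (2 * m))) = ((m : ℤ) : ZMod (2 * (2 * m))) by simp, ← Int.cast_mul,
      ZMod.intCast_zmod_eq_zero_iff_dvd] at hx
    rw [ZMod.intCast_zmod_eq_zero_iff_dvd]
    obtain ⟨c, hc⟩ := hx
    refine ⟨c, mul_right_cancel₀ (show (m : ℤ) ≠ 0 by exact_mod_cast hm.ne') ?_⟩
    push_cast at hc ⊢
    linarith
  let f : QuaternionGroup 2 →* QuaternionGroup (2 * m) := MonoidHom.mk'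
    (fun q => match q with
      | .a i => .a (μ i)
      | .xa i => .xa (μ i)) (by
    rintro (i | i) (j | j) <;> simp only [QuaternionGroup.a_mul_a, QuaternionGroup.a_mul_xa,
      QuaternionGroup.xa_mul_a, QuaternionGroup.xa_mul_xa, map_add, map_sub]
    · exact congrArg QuaternionGroup.a (by rw [h2]))
  have hf : Function.Injective f := by
    rintro (i | i) (j | j) h
    · injection h with h; exact congrArg _ (hinj h)
    · exact nomatch h
    · exact nomatch h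
    · injection h with h; exact congrArg _ (hinj h)
  exact ⟨f.range, ⟨(MonoidHom.ofInjective hf).symm⟩⟩

theorem exists_quaternion_of_equiv {P : Type*} [Group P] {H : Subgroup P} {m : ℕ} (hm : 0 < m)
    (e : H ≃* QuaternionGroup (2 * m)) : ∃ Q : Subgroup P, Q ≤ H ∧ Nonempty (Q ≃* QuaternionGroup 2) := by
  obtain ⟨Q, ⟨eQ⟩⟩ := quaternion_embed m hm
  refine ⟨(Q.map e.symm.toMonoidHom).map H.subtype, map_subtype_le _, ⟨?_⟩⟩
  exact ((equivMapOfInjective _ _ H.subtype_injective).symm.trans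
    (equivMapOfInjective _ _ e.symm.injective).symm).trans eQ

theorem weaklyClosed_of_le_order_two {Z Z₀ : Subgroup G} {R : Subgroup G} (hZ : Nat.card Z = 2) (hle : Z₀ ≤ Z)
    (hw : Cfsg.IsWeaklyClosed Z R) : Cfsg.IsWeaklyClosed Z₀ R := by
  rcases Nat.le_one_iff_eq_zero_or_eq_one.not.1 (show ¬ (2 : ℕ) ≤ 1 by omega) |> fun _ =>
    (Nat.dvd_prime Nat.prime_two).1 (hZ ▸ card_dvd_of_le hle) with h | h
  · rw [card_eq_one.1 h]
    exact ⟨bot_le, fun g _ => Subgroup.map_bot _⟩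
  · rwa [Subgroup.eq_of_le_of_card_ge hle (by rw [hZ, h])]

/-- The conclusion sought for an involution centralizer. -/
def Conclusion {H : Type*} [Group H] (R : Sylow 2 H) : Prop :=
  (∃ K : Subgroup H, K.Normal ∧ (∃ a : ℕ, K.index = 2 ^ a) ∧ (∀ L : Subgroup ↥K, L.index ≠ 2) ∧
    (∀ P : Sylow 2 ↥K, ∃ m : ℕ, 1 ≤ m ∧ Nonempty ((P : Subgroup ↥K) ≃* QuaternionGroup (2 ^ m)))) ∧
  (∀ Z₀ : Subgroup H, Z₀ ≤ ((center (R : Subgroup H)).map (R : Subgroup H).subtype) →
    Cfsg.IsWeaklyClosed Z₀ (R : Subgroup H))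

/-! ### Quasi-dihedral -/

theorem qd_setup (S : Sylow 2 G) (D : CfsgLib.QD.Data (S : Subgroup G)) :
    ∃ T Q : Subgroup G, T ≤ (S : Subgroup G) ∧ IsKleinFour T ∧ Q ≤ (S : Subgroup G) ∧
      Nonempty (Q ≃* QuaternionGroup 2) := by
  obtain ⟨e⟩ := D.half_one_quaternion
  obtain ⟨Q, -, ⟨eQ⟩⟩ := exists_quaternion_of_equiv D.q_pos e
  have hyy : D.y * D.y = 1 := D.yy
  have hzy : D.z ≠ D.y := fun h => D.ne_z 0 (by simpa using h.symm)
  let T : Subgroup (S : Subgroup G) :=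
    { carrier := {1, D.z, D.y, D.z * D.y}
      one_mem' := Or.inl rfl
      mul_mem' := by
        have hc : ∀ g, g * D.z = D.z * g := D.z_comm
        have hzyz : D.z * (D.y * D.z) = D.y := by rw [hc, ← mul_assoc, D.z_sq, one_mul]
        rintro _ _ (rfl | rfl | rfl | rfl) (rfl | rfl | rfl | rfl) <;>
          simp [← mul_assoc, hc D.y, D.z_sq, hyy, mul_assoc D.z D.y D.y] <;> simp [mul_assoc, D.z_sq, hyy, hzyz]
      inv_mem' := by
        rintro _ (rfl | rfl | rfl | rfl)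
        · exact Or.inl inv_one
        · exact Or.inr (Or.inl (inv_eq_of_mul_eq_one_right D.z_sq))
        · exact Or.inr (Or.inr (Or.inl (inv_eq_of_mul_eq_one_right hyy)))
        · refine Or.inr (Or.inr (Or.inr ?_))
          rw [mul_inv_rev, inv_eq_of_mul_eq_one_right D.z_sq, inv_eq_of_mul_eq_one_right hyy, D.z_comm]
          rfl }
  have hT : IsKleinFour T := by
    have hy1 : D.y ≠ 1 := by simpa using D.ne_one 0
    have hzy1 : D.z * D.y ≠ 1 := fun h => hzy ((mul_eq_one_iff_eq_inv.1 h).trans (inv_eq_of_mul_eq_one_right hyy))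
    have hcard : Nat.card T = 4 := by
      show Nat.card ↥({1, D.z, D.y, D.z * D.y} : Set (S : Subgroup G)) = 4
      rw [Nat.card_coe_set_eq, Set.ncard_eq_four]
      exact ⟨_, _, _, _, D.z_ne_one.symm, hy1.symm, hzy1.symm, hzy, fun h => hy1 (mul_eq_left.1 h.symm),
        fun h => D.z_ne_one (mul_eq_right.1 h.symm), rfl⟩
    refine ⟨hcard, ?_⟩
    haveI : Nontrivial T := Finite.one_lt_card_iff_nontrivial.1 (by omega)
    refine Monoid.exponent_eq_prime_iff Nat.prime_two |>.2 fun g hg => orderOf_eq_prime ?_ hg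
    obtain ⟨g, (rfl | rfl | rfl | rfl)⟩ := g <;> refine Subtype.ext ?_ <;> push_cast <;> rw [sq]
    · simp
    · exact D.z_sq
    · exact hyy
    · rw [mul_assoc, ← mul_assoc D.y, D.z_comm D.y, mul_assoc D.z D.y, hyy, mul_one, D.z_sq]
  refine ⟨T.map (S : Subgroup G).subtype, Q.map (S : Subgroup G).subtype, map_subtype_le _, ?_, map_subtype_le _,
    ⟨(equivMapOfInjective _ _ (S : Subgroup G).subtype_injective).symm.trans eQ⟩⟩
  haveI := hT
  exact ⟨by rw [card_map_of_injective (S : Subgroup G).subtype_injective]; exact hT.1,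
    by rw [← Monoid.exponent_eq_of_mulEquiv (equivMapOfInjective T _ (S : Subgroup G).subtype_injective)]; exact hT.2⟩

/-- A fusion simple group with quasi-dihedral Sylow 2-subgroups. -/
theorem qd_simple_pattern (hG : ∀ H : Subgroup G, H.index ≠ 2) (S : Sylow 2 G)
    (hS : Cfsg.IsQuasiDihedral (S : Subgroup G)) (D : CfsgLib.QD.Data (S : Subgroup G)) {T Q : Subgroup G}
    (hT : IsKleinFour T) (hTS : T ≤ (S : Subgroup G)) (hQS : Q ≤ (S : Subgroup G)) (eQ : Q ≃* QuaternionGroup 2) :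
    (centralizer (T : Set G)).relIndex (normalizer (T : Set G)) = 6 ∧
      (Q ⊔ centralizer (Q : Set G)).relIndex (normalizer (Q : Set G)) = 6 := by
  have hne : (S : Subgroup G) ≠ ⊥ := fun h => by
    have h1 := D.card_eq
    have h2 := Subgroup.card_eq_one.2 h
    omega
  rcases Cfsg.Agent.S1203.result S hS T hT hTS Q hQS eQ with ⟨hT2 | hT6, hQ2 | hQ6⟩
  · exact absurd (D.case_two_two hT hTS hQS eQ hT2 hQ2).1 (no_complement_of_no_index_two hG S hne)
  · obtain ⟨⟨K, -, hK, -⟩, -⟩ := D.case_two_six hT hTS hQS eQ hT2 hQ6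
    exact absurd hK (hG K)
  · obtain ⟨⟨K, -, hK, -⟩, -⟩ := D.case_six_two hT hTS hQS eQ hT6 hQ2
    exact absurd hK (hG K)
  · exact ⟨hT6, hQ6⟩

theorem qd_centralizer (hG : ∀ H : Subgroup G, H.index ≠ 2) (S : Sylow 2 G)
    (hS : Cfsg.IsQuasiDihedral (S : Subgroup G)) (z : G) (hz : orderOf z = 2) (hzS : z ∈ (S : Subgroup G))
    (hzc : ∀ s ∈ (S : Subgroup G), s * z * s⁻¹ = z) :
    ∃ R : Sylow 2 (centralizer ({z} : Set G)), Nat.card R = Nat.card S ∧ Conclusion R := by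
  obtain ⟨D⟩ := CfsgLib.QD.exists_data hS
  obtain ⟨T, Q, hTS, hT, hQS, ⟨eQ⟩⟩ := qd_setup S D
  obtain ⟨-, hQ6⟩ := qd_simple_pattern hG S hS D hT hTS hQS eQ
  have hzz : z = D.gz := by
    rcases D.invol_in hzS hz with h | ⟨i, hi, h⟩
    · exact h
    · exfalso
      have h1 := hzc _ (D.gr_mem 1)
      rw [h, mul_inv_eq_iff_eq_mul] at h1
      have h2 : Commute (D.x ^ (1 : ℤ)) (D.x ^ i * D.y) := Subtype.ext h1
      have := D.q_pos
      rcases D.rot_commute_iff.1 h2 with h3 | h3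
      · rw [← zpow_zero D.x, D.zpow_eq_iff] at h3
        have := Int.le_of_dvd (by omega) h3
        omega
      · rw [CfsgLib.QD.Data.z, D.zpow_eq_iff] at h3
        have := Int.le_of_dvd (by omega) (dvd_neg.2 h3)
        omega
  set H := centralizer ({z} : Set G)
  have hle : (S : Subgroup G) ≤ H := fun s hs =>
    mem_centralizer_singleton_iff.2 (mul_inv_eq_iff_eq_mul.1 (hzc s hs))
  set R : Sylow 2 H := S.subtype hle
  have eR : (R : Subgroup H) ≃* (S : Subgroup G) := subgroupOfEquivOfLe hle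
  refine ⟨R, Nat.card_congr eR.toEquiv, ?_⟩
  have hR := isQuasiDihedral_congr eR.symm hS
  obtain ⟨E⟩ := CfsgLib.QD.exists_data hR
  obtain ⟨T', Q', hTS', hT', hQS', ⟨eQ'⟩⟩ := qd_setup R E
  obtain ⟨i, hi, b, hbo, hcyc⟩ := D.quat_cycle hQS eQ (hQ6 ▸ by norm_num)
  -- the odd element centralizes the central involution
  have hbz : b ∈ H := by
    refine mem_centralizer_singleton_iff.2 (mul_inv_eq_iff_eq_mul.1 ?_)
    have hsq : ∀ {u v : G}, v * v = D.gz → (b * u * b⁻¹ = v ∨ b * u * b⁻¹ = v⁻¹) → b * (u * u) * b⁻¹ = D.gz := by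
      intro u v hv h
      rcases h with h | h <;> rw [← conj_mul, h]
      · exact hv
      · rw [← mul_inv_rev, hv, CfsgLib.Invol.inv_eq_self D.gz_order]
    rw [hzz]
    rcases hcyc with ⟨h, -⟩ | ⟨h, -⟩
    · rw [← D.gw_sq]
      rw [hsq (D.gy_sq hi) h, D.gw_sq]
    · have := hsq D.gw_sq h
      rwa [D.gy_sq hi] at this
  have hno : ¬ Cfsg.HasNormalPComplement 2 H := by
    have hwS := D.gw_mem
    have hyS := D.gy_mem i
    set V := closure ({D.gw, D.gy i} : Set G)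
    have hVS : V ≤ (S : Subgroup G) := (closure_le _).2 (Set.insert_subset hwS (Set.singleton_subset_iff.2 hyS))
    have hVH : V ≤ H := hVS.trans hle
    have mw : D.gw ∈ V := subset_closure (Set.mem_insert _ _)
    have my : D.gy i ∈ V := subset_closure (Set.mem_insert_of_mem _ rfl)
    have hstab : V ≤ V.comap (MulAut.conj b).toMonoidHom := (closure_le _).2 (by
      refine Set.insert_subset ?_ (Set.singleton_subset_iff.2 ?_) <;> show b * _ * b⁻¹ ∈ V <;>
        rcases hcyc with ⟨h, h'⟩ | ⟨h, h'⟩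
      · rcases h with h | h <;> rw [h]; exacts [my, inv_mem my]
      · rcases h' with h | h <;> rw [h]; exacts [mul_mem mw my, inv_mem (mul_mem mw my)]
      · rcases h' with h | h <;> rw [h]; exacts [mul_mem mw my, inv_mem (mul_mem mw my)]
      · rcases h with h | h <;> rw [h]; exacts [mw, inv_mem mw])
    refine no_complement_of_moved (V := V.subgroupOf H) ((S.2.to_le hVS).of_equiv (subgroupOfEquivOfLe hVH).symm)
      (b := (⟨b, hbz⟩ : H)) (v := (⟨D.gw, hle hwS⟩ : H)) (fun u hu => mem_subgroupOf.2 (hstab (mem_subgroupOf.1 hu)))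
      (by rwa [Subgroup.orderOf_mk]) (mem_subgroupOf.2 mw) fun h => ?_
    have h0 : b * D.gw * b⁻¹ = D.gw := congrArg Subtype.val h
    have hw' : D.gw⁻¹ = D.gr (-(2 * (D.q : ℤ))) := inv_eq_of_mul_eq_one_right (by
      rw [show D.gw = D.gr (2 * (D.q : ℤ)) from rfl, D.gr_add, add_neg_cancel]; simp [CfsgLib.QD.Data.gr])
    have hny : ∀ j, D.gy j ≠ D.gw ∧ D.gy j ≠ D.gw⁻¹ := fun j =>
      ⟨D.gy_not_rot j _, hw' ▸ D.gy_not_rot j _⟩
    rcases hcyc with ⟨h1 | h1, -⟩ | ⟨-, h1 | h1⟩ <;> rw [h0] at h1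
    · exact (hny i).1 h1.symm
    · exact (hny i).2 (by rw [h1, inv_inv])
    · rw [D.gw_mul_gy] at h1; exact (hny _).1 h1.symm
    · rw [D.gw_mul_gy] at h1; exact (hny _).2 (by rw [h1, inv_inv])
  have hne1 : Nat.card {C : ConjClasses H // ∃ t : H, orderOf t = 2 ∧ ConjClasses.mk t = C} ≠ 1 := by
    refine card_classes_ne_one (z := (⟨z, mem_centralizer_singleton_iff.2 rfl⟩ : H))
      (f := (⟨D.gy 0, hle (D.gy_mem 0)⟩ : H)) (by rwa [Subgroup.orderOf_mk])
      (by rw [Subgroup.orderOf_mk]; exact D.gy_order_two (dvd_zero 2))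
      (fun h => D.gy_ne_gz 0 ((congrArg Subtype.val h).trans hzz)) fun g => Subtype.ext ?_
    exact mul_inv_eq_iff_eq_mul.2 (mem_centralizer_singleton_iff.1 g.2)
  rcases Cfsg.Agent.S1203.result R hR T' hT' hTS' Q' hQS' eQ' with ⟨hT2 | hT6, hQ2 | hQ6⟩
  · exact absurd (E.case_two_two hT' hTS' hQS' eQ' hT2 hQ2).1 hno
  · obtain ⟨⟨K, hKn, hK, hKP, hKL⟩, hw, -⟩ := E.case_two_six hT' hTS' hQS' eQ' hT2 hQ6
    refine ⟨⟨K, hKn, ⟨1, hK⟩, hKL, hKP⟩, fun Z₀ hZ => weaklyClosed_of_le_order_two ?_ hZ hw⟩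
    rw [card_map_of_injective (R : Subgroup H).subtype_injective, E.card_center]
  · exact absurd (E.case_six_two hT' hTS' hQS' eQ' hT6 hQ2).2.1 hne1
  · exact absurd (E.case_six_six hT' hTS' hQS' eQ' hT6 hQ6).2.1 hne1

theorem qd_one_class (hG : ∀ H : Subgroup G, H.index ≠ 2) (S : Sylow 2 G)
    (hS : Cfsg.IsQuasiDihedral (S : Subgroup G)) :
    Nat.card {C : ConjClasses G // ∃ t : G, orderOf t = 2 ∧ ConjClasses.mk t = C} = 1 ∧
      ∃ z ∈ (S : Subgroup G), orderOf z = 2 ∧ ∀ s ∈ (S : Subgroup G), s * z * s⁻¹ = z := by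
  obtain ⟨D⟩ := CfsgLib.QD.exists_data hS
  obtain ⟨T, Q, hTS, hT, hQS, ⟨eQ⟩⟩ := qd_setup S D
  obtain ⟨hT6, hQ6⟩ := qd_simple_pattern hG S hS D hT hTS hQS eQ
  exact ⟨(D.case_six_six hT hTS hQS eQ hT6 hQ6).2.1, D.gz, D.gz_mem, D.gz_order, fun s hs => D.gz_comm hs⟩

/-! ### Wreathed -/

theorem wreath_setup (S : Sylow 2 G) (hS : Cfsg.IsWreathed (S : Subgroup G)) :
    ∃ (D : CfsgLib.Wreath.Data (S : Subgroup G)) (X : Subgroup (S : Subgroup G)) (a : ℤ),
      (∀ i j : ℤ, D.e i j ∈ X ↔ D.h ∣ i - j) ∧ D.e a (-a) * D.t ∈ X := by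
  obtain ⟨D⟩ := CfsgLib.Wreath.exists_data hS
  obtain ⟨e⟩ := D.quat_iso.2
  obtain ⟨Q, -, ⟨eQ⟩⟩ := exists_quaternion_of_equiv D.q_pos e
  obtain ⟨hb, a, hr⟩ := D.shape_sup_center eQ
  exact ⟨D, _, a, hb, hr⟩

theorem wreath_simple_pattern (hG : ∀ H : Subgroup G, H.index ≠ 2) (S : Sylow 2 G)
    (D : CfsgLib.Wreath.Data (S : Subgroup G)) {X : Subgroup (S : Subgroup G)}
    (hb : ∀ i j : ℤ, D.e i j ∈ X ↔ D.h ∣ i - j) {a : ℤ} (hr : D.e a (-a) * D.t ∈ X) :
    (centralizer (D.gbase : Set G)).relIndex (normalizer (D.gbase : Set G)) = 6 ∧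
      (X.map (S : Subgroup G).subtype ⊔ centralizer (X.map (S : Subgroup G).subtype : Set G)).relIndex
        (normalizer (X.map (S : Subgroup G).subtype : Set G)) = 6 := by
  have hne : (S : Subgroup G) ≠ ⊥ := fun h => by
    have h1 := D.card_eq
    have h2 := Subgroup.card_eq_one.2 h
    have := D.q_pos
    nlinarith
  rcases D.base_index_cases with hU | hU <;> rcases D.model_index_cases hb hr with hV | hV
  · exact absurd (D.case_two_two hb hr hU hV).1 (no_complement_of_no_index_two hG S hne)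
  · obtain ⟨⟨K, hKn, hK, -⟩, -⟩ := D.case_two_six hb hr hU hV
    haveI := hKn
    obtain ⟨H, hH⟩ := exists_index_two_of_pow hK (by omega)
    exact absurd hH (hG H)
  · obtain ⟨⟨K, -, hK, -⟩, -⟩ := D.case_six_two hb hr hU hV
    exact absurd hK (hG K)
  · exact ⟨hU, hV⟩

theorem wreath_one_class (hG : ∀ H : Subgroup G, H.index ≠ 2) (S : Sylow 2 G)
    (hS : Cfsg.IsWreathed (S : Subgroup G)) :
    Nat.card {C : ConjClasses G // ∃ t : G, orderOf t = 2 ∧ ConjClasses.mk t = C} = 1 ∧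
      ∃ z ∈ (S : Subgroup G), orderOf z = 2 ∧ ∀ s ∈ (S : Subgroup G), s * z * s⁻¹ = z := by
  obtain ⟨D, X, a, hb, hr⟩ := wreath_setup S hS
  obtain ⟨hU, hV⟩ := wreath_simple_pattern hG S D hb hr
  exact ⟨(D.exists_case_six_six hb hr hU hV).2, _, D.ge_mem _ _, D.z_order,
    fun s hs => D.gcenter_comm D.z_mem_gcenter hs⟩

theorem wreath_centralizer (hG : ∀ H : Subgroup G, H.index ≠ 2) (S : Sylow 2 G)
    (hS : Cfsg.IsWreathed (S : Subgroup G)) (z : G) (hz : orderOf z = 2) (hzS : z ∈ (S : Subgroup G))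
    (hzc : ∀ s ∈ (S : Subgroup G), s * z * s⁻¹ = z) :
    ∃ R : Sylow 2 (centralizer ({z} : Set G)), Nat.card R = Nat.card S ∧ Conclusion R := by
  obtain ⟨D, X, a, hb, hr⟩ := wreath_setup S hS
  obtain ⟨-, hV⟩ := wreath_simple_pattern hG S D hb hr
  have hzz : z = D.ge D.h D.h := by
    obtain ⟨c, hc⟩ := D.center_mem_base (g := ⟨z, hzS⟩)
      (mem_center_iff.2 fun g => Subtype.ext (mul_inv_eq_iff_eq_mul.1 (hzc g g.2)))
    have ho : orderOf (⟨z, hzS⟩ : (S : Subgroup G)) = 2 := by rwa [Subgroup.orderOf_mk]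
    have hsq := CfsgLib.Invol.mul_self_eq_one ho
    rw [hc] at hsq ho
    rcases D.base_invol_cases hsq with e | e | e | e
    · rw [e, orderOf_one] at ho; omega
    · rw [D.e_eq_iff] at e
      exact absurd (by simpa using dvd_sub e.2 e.1) D.not_dvd_h
    · rw [D.e_eq_iff] at e
      exact absurd (by simpa using dvd_sub e.1 e.2) D.not_dvd_h
    · exact congrArg Subtype.val (hc.trans e)
  set H := centralizer ({z} : Set G)
  have hle : (S : Subgroup G) ≤ H := fun s hs =>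
    mem_centralizer_singleton_iff.2 (mul_inv_eq_iff_eq_mul.1 (hzc s hs))
  set R : Sylow 2 H := S.subtype hle
  have eR : (R : Subgroup H) ≃* (S : Subgroup G) := subgroupOfEquivOfLe hle
  refine ⟨R, Nat.card_congr eR.toEquiv, ?_⟩
  obtain ⟨E, Y, c, hb', hr'⟩ := wreath_setup R (isWreathed_congr eR.symm hS)
  set V := X.map (S : Subgroup G).subtype with hVdef
  obtain ⟨b, hbN, hbo, hcyc⟩ := D.model_cycle hb hr hV
  have hbz : b ∈ H := mem_centralizer_singleton_iff.2 (mul_inv_eq_iff_eq_mul.1 (by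
    rw [hzz]; exact D.model_fix_center hb hr hbN D.z_mem_gcenter))
  have hVH : V ≤ H := (map_subtype_le _).trans hle
  have hno : ¬ Cfsg.HasNormalPComplement 2 H := by
    refine no_complement_of_moved (V := V.subgroupOf H)
      ((S.2.to_le (map_subtype_le X)).of_equiv (subgroupOfEquivOfLe hVH).symm)
      (b := (⟨b, hbz⟩ : H)) (v := (⟨D.ge D.h 0, hle (D.ge_mem _ _)⟩ : H))
      (fun u hu => mem_subgroupOf.2 ((mem_normalizer_iff.1 hbN _).1 (mem_subgroupOf.1 hu)))
      (by rwa [Subgroup.orderOf_mk]) (mem_subgroupOf.2 (D.f_mem_model hb hr)) fun h => ?_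
    have h0 : b * D.ge D.h 0 * b⁻¹ = D.ge D.h 0 := congrArg Subtype.val h
    have hno' : ∀ i, D.ge D.h 0 ∉ D.gpair (D.grinv a i) := fun i hm => by
      rcases hm with e | e
      · exact D.grinv_ne (D.mem_gbase.2 ⟨_, _, rfl⟩) e.symm
      · exact D.grinv_ne (D.mem_gbase.2 ⟨_, _, D.ge_mul _ _ _ _⟩) (show D.grinv a i = D.ge D.h 0 * D.ge D.h D.h by
          rw [e, mul_assoc, D.z_sq, mul_one])
    rcases hcyc with ⟨h1, -⟩ | ⟨-, h1⟩ <;> rw [h0] at h1
    exacts [hno' 0 h1, hno' 1 h1]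
  have hne1 : Nat.card {C : ConjClasses H // ∃ t : H, orderOf t = 2 ∧ ConjClasses.mk t = C} ≠ 1 := by
    refine card_classes_ne_one (z := (⟨z, mem_centralizer_singleton_iff.2 rfl⟩ : H))
      (f := (⟨D.ge D.h 0, hle (D.ge_mem _ _)⟩ : H)) (by rwa [Subgroup.orderOf_mk])
      (by rw [Subgroup.orderOf_mk]; exact D.f_order)
      (fun h => D.f_ne_z ((congrArg Subtype.val h).trans hzz)) fun g => Subtype.ext ?_
    exact mul_inv_eq_iff_eq_mul.2 (mem_centralizer_singleton_iff.1 g.2)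
  have hU : (centralizer (E.gbase : Set H)).relIndex (normalizer (E.gbase : Set H)) = 2 := by
    refine E.base_index_cases.resolve_right fun h6 => ?_
    have hc : ∀ g : H, g * ⟨z, mem_centralizer_singleton_iff.2 rfl⟩ * g⁻¹ =
        ⟨z, mem_centralizer_singleton_iff.2 rfl⟩ := fun g =>
      Subtype.ext (mul_inv_eq_iff_eq_mul.2 (mem_centralizer_singleton_iff.1 g.2))
    rcases E.model_index_cases hb' hr' with h | h
    · obtain ⟨b', -, -, e⟩ := E.base_cycle h6
      -- the central involution of `H` lies in the centre of `R`, so it is fixed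
      have hzR : (⟨z, mem_centralizer_singleton_iff.2 rfl⟩ : H) = E.ge E.h E.h := by
        have hm : (⟨z, mem_centralizer_singleton_iff.2 rfl⟩ : H) ∈ (R : Subgroup H) := mem_subgroupOf.2 hzS
        obtain ⟨w, hw⟩ := E.center_mem_base (g := ⟨_, hm⟩)
          (mem_center_iff.2 fun g => Subtype.ext (mul_inv_eq_iff_eq_mul.1 (hc g)))
        have ho : orderOf (⟨_, hm⟩ : (R : Subgroup H)) = 2 := by rwa [Subgroup.orderOf_mk, Subgroup.orderOf_mk]
        have hsq := CfsgLib.Invol.mul_self_eq_one ho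
        rw [hw] at hsq ho
        rcases E.base_invol_cases hsq with e | e | e | e
        · rw [e, orderOf_one] at ho; omega
        · rw [E.e_eq_iff] at e
          exact absurd (by simpa using dvd_sub e.2 e.1) E.not_dvd_h
        · rw [E.e_eq_iff] at e
          exact absurd (by simpa using dvd_sub e.1 e.2) E.not_dvd_h
        · exact congrArg Subtype.val (hw.trans e)
      rw [← hzR] at e
      rcases e with ⟨e, -⟩ | ⟨e, -⟩
      · rw [hc] at e
        exact E.f_ne_z (e.symm.trans hzR)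
      · have := hc b'⁻¹
        rw [← e] at this
        exact E.f_ne_z (by rw [← hzR, ← e, ← this]; group)
    · exact hne1 (E.exists_case_six_six hb' hr' h6 h).2
  rcases E.model_index_cases hb' hr' with h | h
  · exact absurd (E.case_two_two hb' hr' hU h).1 hno
  · obtain ⟨⟨K, hKn, hK, hKP, hKL⟩, hw, -⟩ := E.case_two_six hb' hr' hU h
    exact ⟨⟨K, hKn, ⟨_, hK⟩, hKL, hKP⟩, hw⟩

/-- Involution centralizers in fusion simple groups with quasi-dihedral or wreathed Sylow subgroups. -/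
theorem centralizer_pattern (S : Sylow 2 G)
    (hS : Cfsg.IsQuasiDihedral (S : Subgroup G) ∨ Cfsg.IsWreathed (S : Subgroup G))
    (hG : ∀ H : Subgroup G, H.index ≠ 2) (x : G) (hx : orderOf x = 2) :
    ∃ R : Sylow 2 (centralizer ({x} : Set G)), Nat.card R = Nat.card S ∧ Conclusion R := by
  obtain ⟨hone, z, hzS, hz, hzc⟩ := hS.elim (qd_one_class hG S) (wreath_one_class hG S)
  obtain ⟨c, rfl⟩ := isConj_iff.1 (isConj_of_one_class hone hz hx)
  haveI : Fact (Nat.Prime 2) := ⟨Nat.prime_two⟩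
  have hp : IsPGroup 2 ((S : Subgroup G).map (MulAut.conj c).toMonoidHom) := S.2.map _
  have e := equivMapOfInjective (S : Subgroup G) (MulAut.conj c).toMonoidHom (MulAut.conj c).injective
  obtain ⟨S', hS'⟩ := hp.exists_le_sylow
  have heq : (S' : Subgroup G) = (S : Subgroup G).map (MulAut.conj c).toMonoidHom :=
    (Subgroup.eq_of_le_of_card_ge hS' (by
      rw [card_map_of_injective (f := (MulAut.conj c).toMonoidHom) (MulAut.conj c).injective,
        S.card_eq_multiplicity, S'.card_eq_multiplicity])).symm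
  have e' : (S : Subgroup G) ≃* (S' : Subgroup G) := e.trans (MulEquiv.subgroupCongr heq.symm)
  have hzS' : c * z * c⁻¹ ∈ (S' : Subgroup G) := heq.symm ▸ ⟨z, hzS, rfl⟩
  have hzc' : ∀ s ∈ (S' : Subgroup G), s * (c * z * c⁻¹) * s⁻¹ = c * z * c⁻¹ := fun s hs => by
    obtain ⟨w, hw, rfl⟩ := heq ▸ hs
    show c * w * c⁻¹ * (c * z * c⁻¹) * (c * w * c⁻¹)⁻¹ = _
    rw [show c * w * c⁻¹ * (c * z * c⁻¹) * (c * w * c⁻¹)⁻¹ = c * (w * z * w⁻¹) * c⁻¹ by group, hzc w hw]
  obtain ⟨R, hR, hC⟩ := hS.elim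
    (fun h => qd_centralizer hG S' (isQuasiDihedral_congr e' h) _ hx hzS' hzc')
    (fun h => wreath_centralizer hG S' (isWreathed_congr e' h) _ hx hzS' hzc')
  exact ⟨R, hR.trans (Nat.card_congr e'.toEquiv).symm, hC⟩

end CfsgLib.InvolPattern
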