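import Cfsg.Prelude.Def_CaseTheorems
import Cfsg.Agent.InvChar.UniqueInvolution
import Cfsg.Agent.Invol.Dihedral
import Cfsg.Agent.Solvable.Factor

/-!
The internal structure of wreathed 2-groups.
-/

set_option autoImplicit false
set_option linter.unusedSectionVars false
set_option linter.deprecated false
set_option linter.style.haveILetI false
set_option linter.style.multiGoal false

namespace CfsgLib.Wreath

open Subgroup
open scoped commutatorElement Pointwise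

/-- Generators of a wreathed group `Z_{4q} ≀ Z₂`. -/
structure Data (S : Type*) [Group S] where
  /-- a quarter of the order of the base generators -/
  q : ℕ
  /-- the exponent of two in `q` -/
  k : ℕ
  /-- the first base generator -/
  x : S
  /-- the second base generator -/
  y : S
  /-- the swapping involution -/
  t : S
  hq : q = 2 ^ k
  card_eq : Nat.card S = 2 * (4 * q) ^ 2
  hx : orderOf x = 4 * q
  hxy : Commute x y
  hdisj : zpowers x ⊓ zpowers y = ⊥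
  ht : orderOf t = 2
  htx : t * x * t⁻¹ = y

theorem exists_data {S : Type*} [Group S] (h : Cfsg.IsWreathed S) : Nonempty (Data S) := by
  obtain ⟨n, hn, hc, x, y, z, hx, hxy, hd, hz, hzx⟩ := h
  obtain ⟨k, rfl⟩ : ∃ k, n = k + 2 := ⟨n - 2, by omega⟩
  exact ⟨⟨2 ^ k, k, x, y, z, rfl, by rw [hc]; ring, by rw [hx]; ring, hxy, hd, hz, hzx⟩⟩

variable {S : Type*} [Group S] [Finite S] (D : Data S)

namespace Data

theorem q_pos : 0 < D.q := D.hq ▸ Nat.two_pow_pos _

theorem isPGroup (D : Data S) : IsPGroup 2 S :=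
  IsPGroup.of_card (n := 2 * D.k + 5) (by rw [D.card_eq, D.hq]; ring)

/-- The order of the base generators. -/
def N : ℤ := 4 * (D.q : ℤ)

theorem N_pos : 0 < D.N := by have := D.q_pos; rw [N]; omega

theorem hy : orderOf D.y = 4 * D.q := by rw [← D.htx, CfsgLib.Invol.orderOf_conj_eq, D.hx]

theorem tt : D.t * D.t = 1 := CfsgLib.Invol.mul_self_eq_one D.ht

theorem t_conj_y : D.t * D.y * D.t⁻¹ = D.x := by
  rw [← D.htx]
  calc D.t * (D.t * D.x * D.t⁻¹) * D.t⁻¹ = (D.t * D.t) * D.x * (D.t * D.t)⁻¹ := by group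
    _ = D.x := by rw [D.tt]; group

/-- The elements of the base. -/
def e (a b : ℤ) : S := D.x ^ a * D.y ^ b

theorem e_zero : D.e 0 0 = 1 := by simp [e]

theorem e_mul (a b c d : ℤ) : D.e a b * D.e c d = D.e (a + c) (b + d) := by
  rw [e, e, e, zpow_add, zpow_add]
  calc D.x ^ a * D.y ^ b * (D.x ^ c * D.y ^ d) = D.x ^ a * (D.y ^ b * D.x ^ c) * D.y ^ d := by group
    _ = D.x ^ a * (D.x ^ c * D.y ^ b) * D.y ^ d := by rw [(D.hxy.zpow_zpow c b).eq]
    _ = _ := by group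

theorem e_inv (a b : ℤ) : (D.e a b)⁻¹ = D.e (-a) (-b) :=
  inv_eq_of_mul_eq_one_right (by rw [D.e_mul, add_neg_cancel, add_neg_cancel, D.e_zero])

theorem e_zpow (a b i : ℤ) : D.e a b ^ i = D.e (a * i) (b * i) := by
  rw [e, e, (D.hxy.zpow_zpow a b).mul_zpow, ← zpow_mul, ← zpow_mul]

theorem e_eq_one_iff {a b : ℤ} : D.e a b = 1 ↔ D.N ∣ a ∧ D.N ∣ b := by
  have hxz : ∀ i : ℤ, D.x ^ i = 1 ↔ D.N ∣ i := fun i => by
    rw [← orderOf_dvd_iff_zpow_eq_one, D.hx, N]; push_cast; rfl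
  have hyz : ∀ i : ℤ, D.y ^ i = 1 ↔ D.N ∣ i := fun i => by
    rw [← orderOf_dvd_iff_zpow_eq_one, D.hy, N]; push_cast; rfl
  refine ⟨fun h => ?_, fun ⟨ha, hb⟩ => by rw [e, (hxz a).2 ha, (hyz b).2 hb, one_mul]⟩
  rw [e] at h
  have hxa : D.x ^ a = 1 := by
    refine mem_bot.1 (D.hdisj ▸ mem_inf.2 ⟨zpow_mem (mem_zpowers _) a, ?_⟩)
    rw [eq_inv_of_mul_eq_one_left h]
    exact inv_mem (zpow_mem (mem_zpowers _) b)
  rw [hxa, one_mul] at h
  exact ⟨(hxz a).1 hxa, (hyz b).1 h⟩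

theorem e_eq_iff {a b c d : ℤ} : D.e a b = D.e c d ↔ D.N ∣ a - c ∧ D.N ∣ b - d := by
  rw [← mul_inv_eq_one, D.e_inv, D.e_mul, D.e_eq_one_iff, ← sub_eq_add_neg, ← sub_eq_add_neg]

theorem t_e (a b : ℤ) : D.t * D.e a b = D.e b a * D.t := by
  refine mul_inv_eq_iff_eq_mul.1 ?_
  rw [e, e, ← conj_mul (b := D.t) (a := D.x ^ a) (c := D.y ^ b), ← conj_zpow, ← conj_zpow, D.htx,
    D.t_conj_y, (D.hxy.zpow_zpow b a).eq]

/-- The base subgroup. -/
def base : Subgroup S where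
  carrier := {g | ∃ a b : ℤ, g = D.e a b}
  one_mem' := ⟨0, 0, D.e_zero.symm⟩
  mul_mem' := by rintro _ _ ⟨a, b, rfl⟩ ⟨c, d, rfl⟩; exact ⟨_, _, D.e_mul a b c d⟩
  inv_mem' := by rintro _ ⟨a, b, rfl⟩; exact ⟨_, _, D.e_inv a b⟩

theorem e_mem (a b : ℤ) : D.e a b ∈ D.base := ⟨a, b, rfl⟩

theorem base_comm {g h : S} (hg : g ∈ D.base) (hh : h ∈ D.base) : g * h = h * g := by
  obtain ⟨a, b, rfl⟩ := hg
  obtain ⟨c, d, rfl⟩ := hh
  rw [D.e_mul, D.e_mul, add_comm a, add_comm b]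

theorem t_not_mem : D.t ∉ D.base := by
  rintro ⟨a, b, h⟩
  have h1 := D.t_e 1 0
  rw [h, D.e_mul, D.e_mul, D.e_eq_iff] at h1
  obtain ⟨c, hc⟩ := h1.1
  have := D.N_pos
  have hN : D.N = 4 * (D.q : ℤ) := rfl
  rcases le_or_gt c 0 with h0 | h0 <;> nlinarith [D.q_pos]

theorem card_base : Nat.card D.base = (4 * D.q) ^ 2 := by
  let f : Fin (4 * D.q) × Fin (4 * D.q) → D.base := fun i =>
    ⟨D.e (i.1.1 : ℤ) (i.2.1 : ℤ), D.e_mem _ _⟩
  have hf : Function.Bijective f := by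
    refine ⟨fun i j h => ?_, fun g => ?_⟩
    · obtain ⟨⟨c₁, hc₁⟩, ⟨c₂, hc₂⟩⟩ := D.e_eq_iff.1 (congrArg Subtype.val h)
      have b1 := i.1.2; have b2 := i.2.2; have b3 := j.1.2; have b4 := j.2.2
      have hN : D.N = 4 * (D.q : ℤ) := rfl
      refine Prod.ext (Fin.ext ?_) (Fin.ext ?_)
      · rcases lt_trichotomy c₁ 0 with h0 | h0 | h0
        · nlinarith
        · subst h0; omega
        · nlinarith
      · rcases lt_trichotomy c₂ 0 with h0 | h0 | h0
        · nlinarith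
        · subst h0; omega
        · nlinarith
    · obtain ⟨g, a, b, rfl⟩ := g
      have hN := D.N_pos
      have hN' : D.N = 4 * (D.q : ℤ) := rfl
      have h1 := Int.emod_nonneg a hN.ne'
      have h2 := Int.emod_lt_of_pos a hN
      have h3 := Int.emod_nonneg b hN.ne'
      have h4 := Int.emod_lt_of_pos b hN
      refine ⟨(⟨(a % D.N).toNat, by omega⟩, ⟨(b % D.N).toNat, by omega⟩), Subtype.ext ?_⟩
      show D.e _ _ = D.e a b
      simp only [Int.toNat_of_nonneg h1, Int.toNat_of_nonneg h3]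
      exact D.e_eq_iff.2 ⟨⟨-(a / D.N), by rw [Int.emod_def]; ring⟩, ⟨-(b / D.N), by rw [Int.emod_def]; ring⟩⟩
  rw [← Nat.card_congr (Equiv.ofBijective f hf), Nat.card_prod, Nat.card_fin, sq]

theorem index_base : D.base.index = 2 := by
  have h := D.base.index_mul_card
  rw [D.card_base, D.card_eq] at h
  exact Nat.eq_of_mul_eq_mul_right (pow_pos (by have := D.q_pos; omega) 2) h

theorem cases (g : S) : (∃ a b : ℤ, g = D.e a b) ∨ ∃ a b : ℤ, g = D.e a b * D.t := by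
  by_cases hg : g ∈ D.base
  · exact Or.inl hg
  · obtain ⟨a, b, h⟩ := (mul_mem_iff_of_index_two D.index_base).2
      (iff_of_false hg fun h => D.t_not_mem (inv_mem_iff.1 h) : g ∈ D.base ↔ D.t⁻¹ ∈ D.base)
    exact Or.inr ⟨a, b, by rw [← h, inv_mul_cancel_right]⟩

theorem refl_not_mem (a b : ℤ) : D.e a b * D.t ∉ D.base := fun h =>
  D.t_not_mem ((mul_mem_cancel_left (D.e_mem a b)).1 h)

theorem refl_sq (a b : ℤ) : D.e a b * D.t * (D.e a b * D.t) = D.e (a + b) (a + b) := by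
  rw [show D.e a b * D.t * (D.e a b * D.t) = D.e a b * (D.t * D.e a b) * D.t by group, D.t_e,
    show D.e a b * (D.e b a * D.t) * D.t = D.e a b * D.e b a * (D.t * D.t) by group, D.tt, mul_one,
    D.e_mul, add_comm b a]

theorem refl_eq_iff {a b c d : ℤ} : D.e a b * D.t = D.e c d * D.t ↔ D.N ∣ a - c ∧ D.N ∣ b - d := by
  rw [mul_left_inj, D.e_eq_iff]

theorem refl_conj (a b c d : ℤ) :
    D.e c d * (D.e a b * D.t) * (D.e c d)⁻¹ = D.e (a + c - d) (b + d - c) * D.t := by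
  rw [D.e_inv, ← mul_assoc, D.e_mul, mul_assoc, D.t_e, ← mul_assoc, D.e_mul,
    show c + a + -d = a + c - d by ring, show d + b + -c = b + d - c by ring]

theorem refl_isConj {a b c d : ℤ} (h : D.N ∣ (a + b) - (c + d)) :
    D.e (c - a) 0 * (D.e a b * D.t) * (D.e (c - a) 0)⁻¹ = D.e c d * D.t := by
  rw [D.refl_conj, D.refl_eq_iff]
  obtain ⟨m, hm⟩ := h
  exact ⟨⟨0, by ring⟩, ⟨m, by linarith⟩⟩

theorem base_conj_refl (a b c d : ℤ) :
    D.e c d * D.t * D.e a b * (D.e c d * D.t)⁻¹ = D.e b a := by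
  rw [mul_assoc (D.e c d) D.t, D.t_e, mul_inv_rev,
    show D.e c d * (D.e b a * D.t) * (D.t⁻¹ * (D.e c d)⁻¹) = D.e c d * D.e b a * (D.e c d)⁻¹ by group,
    D.base_comm (D.e_mem c d) (D.e_mem b a), mul_inv_cancel_right]

theorem refl_commute_iff {a b c d : ℤ} : Commute (D.e c d) (D.e a b * D.t) ↔ D.N ∣ c - d := by
  rw [Commute, SemiconjBy, ← mul_inv_eq_iff_eq_mul, D.refl_conj, D.refl_eq_iff]
  exact ⟨fun ⟨h, _⟩ => by simpa [add_sub_assoc] using h,
    fun h => ⟨by simpa [add_sub_assoc] using h, by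
      rw [show b + d - c - b = -(c - d) by ring]; exact h.neg_right⟩⟩

theorem refl_centralizer {a b : ℤ} {g : S} (hg : Commute g (D.e a b * D.t)) :
    ∃ c : ℤ, g = D.e c c ∨ g = D.e c c * (D.e a b * D.t) := by
  rcases D.cases g with ⟨c, d, rfl⟩ | ⟨c, d, rfl⟩
  · exact ⟨c, Or.inl (D.e_eq_iff.2 ⟨⟨0, by ring⟩, by
      rw [show d - c = -(c - d) by ring]; exact (D.refl_commute_iff.1 hg).neg_right⟩)⟩
  · have e1 : D.e c d * D.t = D.e (c - a) (d - b) * (D.e a b * D.t) := by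
      rw [← mul_assoc, D.e_mul, sub_add_cancel, sub_add_cancel]
    rw [e1] at hg ⊢
    have h : Commute (D.e (c - a) (d - b)) (D.e a b * D.t) := by
      have h2 := hg.mul_left (Commute.refl (D.e a b * D.t)).inv_left
      rwa [mul_inv_cancel_right] at h2
    refine ⟨c - a, Or.inr ?_⟩
    rw [D.e_eq_iff.2 (⟨⟨0, by ring⟩, by
      rw [show d - b - (c - a) = -(c - a - (d - b)) by ring]
      exact (D.refl_commute_iff.1 h).neg_right⟩ : D.N ∣ (c - a) - (c - a) ∧ D.N ∣ (d - b) - (c - a))]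

theorem center_eq : center S = zpowers (D.e 1 1) := by
  refine le_antisymm (fun g hg => ?_) (zpowers_le.2 (mem_center_iff.2 fun g => ?_))
  · rcases D.cases g with ⟨c, d, rfl⟩ | ⟨c, d, rfl⟩
    · have h : D.N ∣ c - d := D.refl_commute_iff.1 (mem_center_iff.1 hg (D.e 0 0 * D.t)).symm
      refine mem_zpowers_iff.2 ⟨c, ?_⟩
      rw [D.e_zpow, D.e_eq_iff]
      exact ⟨⟨0, by ring⟩, by rwa [one_mul]⟩
    · exfalso
      have h : D.N ∣ (1 : ℤ) - 0 := D.refl_commute_iff.1 (mem_center_iff.1 hg (D.e 1 0))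
      have hN1 := Int.le_of_dvd one_pos (show D.N ∣ (1 : ℤ) by simpa using h)
      have := D.q_pos
      rw [N] at hN1; omega
  · rcases D.cases g with ⟨c, d, rfl⟩ | ⟨c, d, rfl⟩
    · exact D.base_comm (D.e_mem _ _) (D.e_mem _ _)
    · exact (D.refl_commute_iff.2 (by simp)).eq.symm

theorem mem_center_iff' {a b : ℤ} : D.e a b ∈ center S ↔ D.N ∣ a - b := by
  rw [D.center_eq, mem_zpowers_iff]
  constructor
  · rintro ⟨i, hi⟩
    rw [D.e_zpow, D.e_eq_iff, one_mul] at hi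
    rw [show a - b = (i - b) - (i - a) by ring]
    exact dvd_sub hi.2 hi.1
  · intro h
    exact ⟨a, by rw [D.e_zpow, D.e_eq_iff, one_mul]; exact ⟨⟨0, by ring⟩, h⟩⟩

theorem diag_mem_center (a : ℤ) : D.e a a ∈ center S := D.mem_center_iff'.2 (by simp)

theorem center_mem_base {g : S} (hg : g ∈ center S) : ∃ a : ℤ, g = D.e a a := by
  rw [D.center_eq] at hg
  obtain ⟨i, rfl⟩ := mem_zpowers_iff.1 hg
  exact ⟨i, by rw [D.e_zpow, one_mul]⟩

theorem orderOf_e_natCast (a : ℤ) (m : ℕ) (hm : a * m = D.N) (hm0 : m ≠ 0) (b : ℤ) :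
    orderOf (D.e a (a * b)) = m := by
  have key : ∀ i : ℕ, D.e a (a * b) ^ i = 1 ↔ m ∣ i := fun i => by
    rw [← zpow_natCast, D.e_zpow, D.e_eq_one_iff]
    have ha : a ≠ 0 := fun h => by
      rw [h, zero_mul] at hm; have := D.N_pos; omega
    constructor
    · rintro ⟨⟨c, hc⟩, -⟩
      rw [← hm, mul_assoc, mul_right_inj' ha] at hc
      exact Int.natCast_dvd_natCast.1 ⟨c, hc⟩
    · rintro ⟨c, rfl⟩
      rw [← hm]
      exact ⟨⟨c, by push_cast; ring⟩, ⟨b * c, by push_cast; ring⟩⟩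
  refine (orderOf_eq_iff (Nat.pos_of_ne_zero hm0)).2 ⟨(key m).2 dvd_rfl, fun i hi hi0 h => ?_⟩
  have := Nat.le_of_dvd hi0 ((key i).1 h)
  omega

theorem orderOf_diag : orderOf (D.e 1 1) = 4 * D.q := by
  have h := D.orderOf_e_natCast 1 (4 * D.q) (by rw [N]; push_cast; ring) (by have := D.q_pos; omega) 1
  simpa using h

theorem orderOf_antidiag : orderOf (D.e 1 (-1)) = 4 * D.q := by
  have h := D.orderOf_e_natCast 1 (4 * D.q) (by rw [N]; push_cast; ring) (by have := D.q_pos; omega) (-1)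
  simpa using h

theorem card_center : Nat.card (center S) = 4 * D.q := by
  rw [D.center_eq, Nat.card_zpowers, D.orderOf_diag]

theorem commutator_eq : commutator S = zpowers (D.e 1 (-1)) := by
  refine le_antisymm ?_ (zpowers_le.2 ?_)
  · rw [_root_.commutator_def, commutator_le]
    intro g _ h _
    have hk : ∀ a b : ℤ, D.N ∣ a + b → D.e a b ∈ zpowers (D.e 1 (-1)) := fun a b hab =>
      mem_zpowers_iff.2 ⟨a, by
        rw [D.e_zpow, D.e_eq_iff]
        exact ⟨⟨0, by ring⟩, by rw [show (-1) * a - b = -(a + b) by ring]; exact hab.neg_right⟩⟩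
    rcases D.cases g with ⟨a, b, rfl⟩ | ⟨a, b, rfl⟩ <;> rcases D.cases h with ⟨c, d, rfl⟩ | ⟨c, d, rfl⟩
    · rw [commutatorElement_eq_one_iff_mul_comm.2 (D.base_comm (D.e_mem a b) (D.e_mem c d))]
      exact one_mem _
    · rw [commutatorElement_def, show D.e a b * (D.e c d * D.t) * (D.e a b)⁻¹ * (D.e c d * D.t)⁻¹ =
        D.e a b * ((D.e c d * D.t) * (D.e a b)⁻¹ * (D.e c d * D.t)⁻¹) by group, D.e_inv,
        D.base_conj_refl, D.e_mul]
      exact hk _ _ ⟨0, by ring⟩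
    · rw [commutatorElement_def, D.base_conj_refl, D.e_inv, D.e_mul]
      exact hk _ _ ⟨0, by ring⟩
    · rw [commutatorElement_def, show D.e a b * D.t * (D.e c d * D.t) * (D.e a b * D.t)⁻¹ * (D.e c d * D.t)⁻¹ =
        (D.e a b * D.t * D.e c d * (D.e a b * D.t)⁻¹) * (D.e a b * (D.t * D.t * D.t⁻¹) * (D.e a b)⁻¹) *
          (D.t⁻¹ * (D.e c d)⁻¹) by group, D.base_conj_refl, D.tt, one_mul, CfsgLib.Invol.inv_eq_self D.ht,
        show D.e d c * (D.e a b * D.t * (D.e a b)⁻¹) * (D.t * (D.e c d)⁻¹) =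
          D.e d c * D.e a b * (D.t * (D.e a b)⁻¹) * (D.t * (D.e c d)⁻¹) by group, D.e_inv, D.t_e,
        show D.e d c * D.e a b * (D.e (-b) (-a) * D.t) * (D.t * (D.e c d)⁻¹) =
          D.e d c * D.e a b * D.e (-b) (-a) * (D.t * D.t) * (D.e c d)⁻¹ by group, D.tt, mul_one, D.e_inv,
        D.e_mul, D.e_mul, D.e_mul]
      exact hk _ _ ⟨0, by ring⟩
  · have h : ⁅D.e 1 0, D.t⁆ = D.e 1 (-1) := by
      rw [commutatorElement_def, mul_assoc (D.e 1 0) D.t, D.e_inv, D.t_e,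
        show D.e 1 0 * (D.e (-0) (-1) * D.t) * D.t⁻¹ = D.e 1 0 * D.e (-0) (-1) by group, D.e_mul]
      simp
    rw [← h]
    exact commutator_mem_commutator (mem_top _) (mem_top _)

theorem card_commutator : Nat.card (commutator S) = 4 * D.q := by
  rw [D.commutator_eq, Nat.card_zpowers, D.orderOf_antidiag]

/-! ### Involutions -/

/-- Half the order of the base generators. -/
def h : ℤ := 2 * (D.q : ℤ)

theorem h_two : 2 * D.h = D.N := by rw [h, N]; ring

theorem not_dvd_h : ¬ D.N ∣ D.h := fun hd => by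
  have := Int.le_of_dvd (by have := D.q_pos; rw [h]; omega) hd
  have := D.q_pos
  rw [N, h] at *; omega

theorem double_dvd {a : ℤ} (ha : D.N ∣ 2 * a) : D.N ∣ a ∨ D.N ∣ a - D.h := by
  obtain ⟨c, hc⟩ := ha
  rw [← D.h_two] at hc
  rcases Int.even_or_odd c with ⟨m, rfl⟩ | ⟨m, rfl⟩
  · exact Or.inl ⟨m, by rw [← D.h_two]; linarith⟩
  · exact Or.inr ⟨m, by rw [← D.h_two]; linarith⟩

theorem refl_invol_iff {a b : ℤ} : orderOf (D.e a b * D.t) = 2 ↔ D.N ∣ a + b := by
  refine ⟨fun hab => ?_, fun hab => CfsgLib.Invol.orderOf_eq_two ?_ fun h1 => D.refl_not_mem a b (h1 ▸ one_mem _)⟩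
  · have h1 := CfsgLib.Invol.mul_self_eq_one hab
    rw [D.refl_sq, D.e_eq_one_iff] at h1
    exact h1.1
  · rw [D.refl_sq, D.e_eq_one_iff]; exact ⟨hab, hab⟩

theorem base_invol_cases {a b : ℤ} (hab : D.e a b * D.e a b = 1) :
    D.e a b = 1 ∨ D.e a b = D.e D.h 0 ∨ D.e a b = D.e 0 D.h ∨ D.e a b = D.e D.h D.h := by
  rw [D.e_mul, D.e_eq_one_iff, ← two_mul, ← two_mul] at hab
  rcases D.double_dvd hab.1 with ha | ha <;> rcases D.double_dvd hab.2 with hb | hb
  · exact Or.inl (D.e_eq_one_iff.2 ⟨ha, hb⟩)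
  · exact Or.inr (Or.inr (Or.inl (D.e_eq_iff.2 ⟨by simpa using ha, hb⟩)))
  · exact Or.inr (Or.inl (D.e_eq_iff.2 ⟨ha, by simpa using hb⟩))
  · exact Or.inr (Or.inr (Or.inr (D.e_eq_iff.2 ⟨ha, hb⟩)))

theorem orderOf_base_invol {a b : ℤ} (ha : a = 0 ∨ a = D.h) (hb : b = 0 ∨ b = D.h)
    (hne : a ≠ 0 ∨ b ≠ 0) : orderOf (D.e a b) = 2 := by
  refine CfsgLib.Invol.orderOf_eq_two ?_ fun h1 => ?_
  · rw [D.e_mul, D.e_eq_one_iff]
    constructor
    · rcases ha with rfl | rfl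
      · simp
      · rw [← two_mul, D.h_two]
    · rcases hb with rfl | rfl
      · simp
      · rw [← two_mul, D.h_two]
  · obtain ⟨h2, h3⟩ := D.e_eq_one_iff.1 h1
    rcases hne with hne | hne
    · exact D.not_dvd_h ((ha.resolve_left hne) ▸ h2)
    · exact D.not_dvd_h ((hb.resolve_left hne) ▸ h3)

theorem h_ne_zero : D.h ≠ 0 := fun h0 => D.not_dvd_h (by rw [h0]; exact dvd_zero _)

theorem eh0_invol : orderOf (D.e D.h 0) = 2 := D.orderOf_base_invol (Or.inr rfl) (Or.inl rfl) (Or.inl D.h_ne_zero)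

theorem e0h_invol : orderOf (D.e 0 D.h) = 2 := D.orderOf_base_invol (Or.inl rfl) (Or.inr rfl) (Or.inr D.h_ne_zero)

theorem ehh_invol : orderOf (D.e D.h D.h) = 2 := D.orderOf_base_invol (Or.inr rfl) (Or.inr rfl) (Or.inl D.h_ne_zero)

theorem card_invol_classes (D : Data S) :
    Nat.card {C : ConjClasses S // ∃ u : S, orderOf u = 2 ∧ ConjClasses.mk u = C} = 3 := by
  have hsw : IsConj (D.e 0 D.h) (D.e D.h 0) := isConj_iff.2 ⟨D.t, by rw [D.t_e, mul_inv_cancel_right]⟩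
  have heq : {C : ConjClasses S | ∃ u : S, orderOf u = 2 ∧ ConjClasses.mk u = C} =
      {ConjClasses.mk (D.e D.h D.h), ConjClasses.mk (D.e D.h 0), ConjClasses.mk (D.e 0 0 * D.t)} := by
    ext C
    constructor
    · rintro ⟨u, hu, rfl⟩
      rcases D.cases u with ⟨a, b, rfl⟩ | ⟨a, b, rfl⟩
      · rcases D.base_invol_cases (CfsgLib.Invol.mul_self_eq_one hu) with e1 | e1 | e1 | e1
        · exact absurd e1 (CfsgLib.Invol.ne_one hu)
        · exact Or.inr (Or.inl (by rw [e1]))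
        · exact Or.inr (Or.inl (by rw [e1]; exact ConjClasses.mk_eq_mk_iff_isConj.2 hsw))
        · exact Or.inl (by rw [e1])
      · exact Or.inr (Or.inr (ConjClasses.mk_eq_mk_iff_isConj.2
          (isConj_iff.2 ⟨_, D.refl_isConj (by simpa using D.refl_invol_iff.1 hu)⟩)))
    · rintro (rfl | rfl | rfl)
      · exact ⟨_, D.ehh_invol, rfl⟩
      · exact ⟨_, D.eh0_invol, rfl⟩
      · exact ⟨_, D.refl_invol_iff.2 (by simp), rfl⟩
  have hne1 : ¬ IsConj (D.e D.h D.h) (D.e D.h 0) := fun hc => by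
    obtain ⟨c, hc⟩ := isConj_iff.1 hc
    rw [mem_center_iff.1 (D.diag_mem_center D.h) c, mul_inv_cancel_right, D.e_eq_iff] at hc
    exact D.not_dvd_h (by simpa using hc.2)
  haveI := Subgroup.normal_of_index_eq_two D.index_base
  have hne2 : ∀ a b : ℤ, ¬ IsConj (D.e a b) (D.e 0 0 * D.t) := fun a b hc => by
    obtain ⟨c, hc⟩ := isConj_iff.1 hc
    exact D.refl_not_mem 0 0 (hc ▸ (inferInstance : D.base.Normal).conj_mem _ (D.e_mem a b) c)
  calc Nat.card {C : ConjClasses S // ∃ u : S, orderOf u = 2 ∧ ConjClasses.mk u = C}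
      = Set.ncard {C : ConjClasses S | ∃ u : S, orderOf u = 2 ∧ ConjClasses.mk u = C} := Nat.card_coe_set_eq _
    _ = 3 := by
      rw [heq]
      refine Set.ncard_eq_three.2 ⟨_, _, _, ?_, ?_, ?_, rfl⟩
      · exact fun e1 => hne1 (ConjClasses.mk_eq_mk_iff_isConj.1 e1)
      · exact fun e1 => hne2 _ _ (ConjClasses.mk_eq_mk_iff_isConj.1 e1)
      · exact fun e1 => hne2 _ _ (ConjClasses.mk_eq_mk_iff_isConj.1 e1)

/-! ### Abelian subgroups of index two -/

theorem isMulCommutative_base : IsMulCommutative D.base :=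
  ⟨⟨fun a b => Subtype.ext (D.base_comm a.2 b.2)⟩⟩

theorem abelian_eq_base {U : Subgroup S} (hU : IsMulCommutative U) (hUc : Nat.card U = (4 * D.q) ^ 2) :
    U = D.base := by
  refine Subgroup.eq_of_le_of_card_ge ?_ (by rw [hUc, D.card_base])
  intro g hg
  by_contra hgb
  rcases D.cases g with ⟨a, b, rfl⟩ | ⟨a, b, rfl⟩
  · exact hgb (D.e_mem a b)
  let f : Fin 2 × center S → S := fun i => (i.2 : S) * (D.e a b * D.t) ^ (i.1 : ℕ)
  have hsub : (U : Set S) ⊆ Set.range f := fun u hu => by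
    have hc : Commute u (D.e a b * D.t) := congrArg Subtype.val (hU.is_comm.comm ⟨u, hu⟩ ⟨_, hg⟩)
    obtain ⟨c, rfl | rfl⟩ := D.refl_centralizer hc
    · exact ⟨(0, ⟨_, D.diag_mem_center c⟩), by simp [f]⟩
    · exact ⟨(1, ⟨_, D.diag_mem_center c⟩), by simp [f]⟩
  have h1 : Nat.card U ≤ 2 * (4 * D.q) := by
    calc Nat.card U = (U : Set S).ncard := Nat.card_coe_set_eq _
      _ ≤ (Set.range f).ncard := Set.ncard_le_ncard hsub (Set.toFinite _)
      _ ≤ Nat.card (Fin 2 × center S) := by rw [← Nat.card_coe_set_eq]; exact Finite.card_range_le f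
      _ = _ := by rw [Nat.card_prod, Nat.card_fin, D.card_center]
  have := D.q_pos
  nlinarith

theorem base_iso : Nonempty (D.base ≃* Multiplicative (ZMod (4 * D.q) × ZMod (4 * D.q))) := by
  haveI : NeZero (4 * D.q) := ⟨by have := D.q_pos; omega⟩
  let f : Multiplicative (ZMod (4 * D.q) × ZMod (4 * D.q)) →* D.base :=
    MonoidHom.mk' (fun v => ⟨D.e ((Multiplicative.toAdd v).1.val : ℤ) ((Multiplicative.toAdd v).2.val : ℤ),
      D.e_mem _ _⟩) fun v w => Subtype.ext (by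
        show D.e _ _ = D.e _ _ * D.e _ _
        rw [D.e_mul, D.e_eq_iff]
        have key : ∀ i j : ZMod (4 * D.q), D.N ∣ ((i + j).val : ℤ) - ((i.val : ℤ) + (j.val : ℤ)) := fun i j => by
          rw [show D.N = ((4 * D.q : ℕ) : ℤ) by rw [N]; push_cast; ring, ← ZMod.intCast_eq_intCast_iff_dvd_sub]
          push_cast
          simp
        exact ⟨key _ _, key _ _⟩)
  have hinj : Function.Injective f := by
    intro v w hvw
    obtain ⟨h1, h2⟩ := D.e_eq_iff.1 (congrArg Subtype.val hvw :)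
    rw [show D.N = ((4 * D.q : ℕ) : ℤ) by rw [N]; push_cast; ring, ← ZMod.intCast_eq_intCast_iff_dvd_sub] at h1 h2
    refine Multiplicative.toAdd.injective (Prod.ext ?_ ?_)
    · simpa using h1.symm
    · simpa using h2.symm
  refine ⟨(MulEquiv.ofBijective f ((Nat.bijective_iff_injective_and_card _).2 ⟨hinj, ?_⟩)).symm⟩
  rw [D.card_base, Nat.card_congr Multiplicative.toAdd, Nat.card_prod, Nat.card_zmod, sq]

/-! ### The quotient by the centre -/

theorem quotient_dihedral : Nonempty (S ⧸ center S ≃* DihedralGroup (4 * D.q)) := by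
  set π := QuotientGroup.mk' (center S)
  have hker : ∀ g, π g = 1 ↔ g ∈ center S := fun g => QuotientGroup.eq_one_iff g
  have hnd : ¬ D.N ∣ (1 : ℤ) := fun hd => by
    have := Int.le_of_dvd one_pos hd
    have := D.q_pos
    rw [N] at *; omega
  have ht : orderOf (π D.t) = 2 := CfsgLib.Invol.orderOf_eq_two (by rw [← map_mul, D.tt, map_one]) fun h1 => by
    obtain ⟨a, ha⟩ := D.center_mem_base ((hker _).1 h1)
    exact D.t_not_mem (ha ▸ D.e_mem a a)
  have hxt : orderOf (π (D.e 1 0 * D.t)) = 2 := by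
    refine CfsgLib.Invol.orderOf_eq_two ?_ fun h1 => ?_
    · rw [← map_mul, D.refl_sq, hker]; exact D.diag_mem_center _
    · obtain ⟨a, ha⟩ := D.center_mem_base ((hker _).1 h1)
      exact D.refl_not_mem 1 0 (ha ▸ D.e_mem a a)
  have hne : π D.t ≠ π (D.e 1 0 * D.t) := fun h1 => by
    rw [map_mul, eq_comm, mul_eq_right, hker, D.mem_center_iff'] at h1
    exact hnd (by simpa using h1)
  obtain ⟨iso⟩ := CfsgLib.Invol.nonempty_dihedral_equiv ht hxt hne
  have hprod : orderOf (π D.t * π (D.e 1 0 * D.t)) = 4 * D.q := by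
    have hq := D.q_pos
    rw [← map_mul, ← mul_assoc, D.t_e, mul_assoc, D.tt, mul_one, orderOf_eq_iff (by omega)]
    refine ⟨?_, fun i hi hi0 h1 => ?_⟩
    · rw [← map_pow, hker, ← zpow_natCast, D.e_zpow, D.mem_center_iff']
      exact ⟨-1, by rw [N]; push_cast; ring⟩
    · rw [← map_pow, hker, ← zpow_natCast, D.e_zpow, D.mem_center_iff'] at h1
      have hd : D.N ∣ (i : ℤ) := by
        rw [show (0 : ℤ) * i - 1 * i = -(i : ℤ) by ring, dvd_neg] at h1; exact h1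
      have := Int.le_of_dvd (by omega) hd
      rw [N] at this; omega
  rw [hprod] at iso
  have htop : closure ({π D.t, π (D.e 1 0 * D.t)} : Set (S ⧸ center S)) = ⊤ := by
    refine eq_top_iff.2 fun g _ => ?_
    obtain ⟨g, rfl⟩ := QuotientGroup.mk'_surjective (center S) g
    have h1 : π D.t ∈ closure ({π D.t, π (D.e 1 0 * D.t)} : Set (S ⧸ center S)) := subset_closure (Or.inl rfl)
    have h2 : π (D.e 1 0) ∈ closure ({π D.t, π (D.e 1 0 * D.t)} : Set (S ⧸ center S)) := by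
      have := mul_mem (subset_closure (Or.inr rfl) :
        π (D.e 1 0 * D.t) ∈ closure ({π D.t, π (D.e 1 0 * D.t)} : Set (S ⧸ center S))) h1
      rwa [← map_mul, mul_assoc, D.tt, mul_one] at this
    have h3 : ∀ a b : ℤ, π (D.e a b) ∈ closure ({π D.t, π (D.e 1 0 * D.t)} : Set (S ⧸ center S)) := fun a b => by
      have e1 : D.e a b = D.e 1 0 ^ (a - b) * D.e b b := by
        rw [D.e_zpow, D.e_mul]; congr 1 <;> ring
      rw [e1, π.map_mul (D.e 1 0 ^ (a - b)) (D.e b b), π.map_zpow, show π (D.e b b) = 1 from (hker _).2 (D.diag_mem_center b), mul_one]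
      exact zpow_mem h2 _
    rcases D.cases g with ⟨a, b, rfl⟩ | ⟨a, b, rfl⟩
    · exact h3 a b
    · show π _ ∈ _
      rw [map_mul]; exact mul_mem (h3 a b) h1
  exact ⟨((MulEquiv.subgroupCongr htop).trans Subgroup.topEquiv).symm.trans iso⟩

/-! ### Klein four-subgroups -/

/-- The normal four-group. -/
def four : Subgroup S where
  carrier := {g | ∃ a b : ℤ, g = D.e a b ∧ D.N ∣ 2 * a ∧ D.N ∣ 2 * b}
  one_mem' := ⟨0, 0, D.e_zero.symm, by simp, by simp⟩
  mul_mem' := by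
    rintro _ _ ⟨a, b, rfl, ha, hb⟩ ⟨c, d, rfl, hc, hd⟩
    exact ⟨_, _, D.e_mul a b c d, by rw [mul_add]; exact dvd_add ha hc, by rw [mul_add]; exact dvd_add hb hd⟩
  inv_mem' := by
    rintro _ ⟨a, b, rfl, ha, hb⟩
    exact ⟨_, _, D.e_inv a b, by rw [mul_neg]; exact ha.neg_right, by rw [mul_neg]; exact hb.neg_right⟩

theorem mem_four {g : S} : g ∈ D.four ↔ g ∈ D.base ∧ g * g = 1 := by
  constructor
  · rintro ⟨a, b, rfl, ha, hb⟩
    exact ⟨D.e_mem a b, by rw [D.e_mul, D.e_eq_one_iff, ← two_mul, ← two_mul]; exact ⟨ha, hb⟩⟩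
  · rintro ⟨⟨a, b, rfl⟩, h1⟩
    rw [D.e_mul, D.e_eq_one_iff, ← two_mul, ← two_mul] at h1
    exact ⟨a, b, rfl, h1.1, h1.2⟩

theorem isKleinFour_mk {T : Subgroup S} (hc : Nat.card T = 4) (hexp : ∀ g ∈ T, g * g = 1) :
    IsKleinFour T := by
  refine ⟨hc, ?_⟩
  haveI : Nontrivial T := Finite.one_lt_card_iff_nontrivial.1 (by omega)
  exact (Monoid.exponent_eq_prime_iff Nat.prime_two).2 fun g hg =>
    orderOf_eq_prime (Subtype.ext (by rw [SubmonoidClass.coe_pow, sq]; exact hexp g g.2)) hg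

theorem four_klein : IsKleinFour D.four := by
  refine isKleinFour_mk ?_ fun g hg => (D.mem_four.1 hg).2
  have heq : (D.four : Set S) = {1, D.e D.h 0, D.e 0 D.h, D.e D.h D.h} := by
    ext g
    constructor
    · intro hg
      obtain ⟨⟨a, b, rfl⟩, h1⟩ := D.mem_four.1 hg
      simpa using D.base_invol_cases h1
    · rintro (rfl | rfl | rfl | rfl)
      · exact one_mem D.four
      · exact D.mem_four.2 ⟨D.e_mem _ _, CfsgLib.Invol.mul_self_eq_one D.eh0_invol⟩
      · exact D.mem_four.2 ⟨D.e_mem _ _, CfsgLib.Invol.mul_self_eq_one D.e0h_invol⟩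
      · exact D.mem_four.2 ⟨D.e_mem _ _, CfsgLib.Invol.mul_self_eq_one D.ehh_invol⟩
  show Nat.card (D.four : Set S) = 4
  rw [Nat.card_coe_set_eq, heq]
  have n1 : D.e D.h 0 ≠ D.e 0 D.h := fun h1 => D.not_dvd_h (by simpa using (D.e_eq_iff.1 h1).1)
  have n2 : D.e D.h 0 ≠ D.e D.h D.h := fun h1 => D.not_dvd_h (by simpa using (D.e_eq_iff.1 h1).2)
  have n3 : D.e 0 D.h ≠ D.e D.h D.h := fun h1 => D.not_dvd_h (by simpa using (D.e_eq_iff.1 h1).1)
  rw [Set.ncard_insert_of_notMem (by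
      simp [(CfsgLib.Invol.ne_one D.eh0_invol).symm, (CfsgLib.Invol.ne_one D.e0h_invol).symm,
        (CfsgLib.Invol.ne_one D.ehh_invol).symm]),
    Set.ncard_insert_of_notMem (by simp [n1, n2]), Set.ncard_insert_of_notMem (by simp [n3]),
    Set.ncard_singleton]

theorem four_normal : D.four.Normal := by
  haveI := Subgroup.normal_of_index_eq_two D.index_base
  refine ⟨fun g hg c => ?_⟩
  obtain ⟨h1, h2⟩ := D.mem_four.1 hg
  exact D.mem_four.2 ⟨(inferInstance : D.base.Normal).conj_mem g h1 c, by rw [conj_mul, h2]; group⟩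

/-- The four-group attached to a reflection of order two. -/
theorem other_four {T : Subgroup S} (hT : IsKleinFour T) (hne : T ≠ D.four) :
    ∃ a b : ℤ, D.N ∣ a + b ∧ D.e a b * D.t ∈ T ∧
      (T : Set S) ⊆ {1, D.e D.h D.h, D.e a b * D.t, D.e D.h D.h * (D.e a b * D.t)} := by
  haveI := hT
  have hsq : ∀ g ∈ T, g * g = 1 := fun g hg => congrArg Subtype.val (IsKleinFour.mul_self (⟨g, hg⟩ : T))
  obtain ⟨g, hg, hgb⟩ : ∃ g ∈ T, g ∉ D.base := by
    by_contra hcon
    push Not at hcon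
    exact hne (Subgroup.eq_of_le_of_card_ge (fun g hg => D.mem_four.2 ⟨hcon g hg, hsq g hg⟩)
      (by rw [hT.card_four, D.four_klein.card_four]))
  rcases D.cases g with ⟨a, b, rfl⟩ | ⟨a, b, rfl⟩
  · exact absurd (D.e_mem a b) hgb
  have hs := hsq _ hg
  rw [D.refl_sq, D.e_eq_one_iff] at hs
  refine ⟨a, b, hs.1, hg, fun u hu => ?_⟩
  have hc : Commute u (D.e a b * D.t) :=
    congrArg Subtype.val (mul_comm_of_exponent_two hT.exponent_two (⟨u, hu⟩ : T) ⟨_, hg⟩)
  simp only [Set.mem_insert_iff, Set.mem_singleton_iff]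
  obtain ⟨c, rfl | rfl⟩ := D.refl_centralizer hc
  · have h1 := hsq _ hu
    rw [D.e_mul, D.e_eq_one_iff, ← two_mul] at h1
    rcases D.double_dvd h1.1 with h2 | h2
    · exact Or.inl (D.e_eq_one_iff.2 ⟨h2, h2⟩)
    · exact Or.inr (Or.inl (D.e_eq_iff.2 ⟨h2, h2⟩))
  · have h1 : D.e c c * D.e c c = 1 := by
      have := hsq _ hu
      rw [show D.e c c * (D.e a b * D.t) * (D.e c c * (D.e a b * D.t)) =
        D.e c c * ((D.e a b * D.t) * D.e c c) * (D.e a b * D.t) by group,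
        mem_center_iff.1 (D.diag_mem_center c) _,
        show D.e c c * (D.e c c * (D.e a b * D.t)) * (D.e a b * D.t) =
          D.e c c * D.e c c * ((D.e a b * D.t) * (D.e a b * D.t)) by group, hsq _ hg, mul_one] at this
      exact this
    rw [D.e_mul, D.e_eq_one_iff, ← two_mul] at h1
    rcases D.double_dvd h1.1 with h2 | h2
    · exact Or.inr (Or.inr (Or.inl (by rw [D.e_eq_one_iff.2 ⟨h2, h2⟩, one_mul])))
    · exact Or.inr (Or.inr (Or.inr (by rw [D.e_eq_iff.2 (⟨h2, h2⟩ : D.N ∣ c - D.h ∧ D.N ∣ c - D.h)])))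

theorem exists_other_four (D : Data S) : ∃ T₀ : Subgroup S, IsKleinFour T₀ ∧ T₀ ≠ D.four := by
  have hz := CfsgLib.Invol.mul_self_eq_one D.ehh_invol
  have hc : ∀ g : S, g * D.e D.h D.h = D.e D.h D.h * g := mem_center_iff.1 (D.diag_mem_center D.h)
  have k1 : D.e D.h D.h * D.t * D.e D.h D.h = D.t := by
    rw [mul_assoc, hc D.t, ← mul_assoc, hz, one_mul]
  have k2 : D.e D.h D.h * (D.e D.h D.h * D.t) = D.t := by rw [← mul_assoc, hz, one_mul]
  have k3 : D.t * (D.e D.h D.h * D.t) = D.e D.h D.h := by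
    rw [← mul_assoc, hc D.t, mul_assoc, D.tt, mul_one]
  have k4 : D.e D.h D.h * D.t * (D.e D.h D.h * D.t) = 1 := by rw [mul_assoc, k3, hz]
  have k5 : D.e D.h D.h * D.t * D.t = D.e D.h D.h := by rw [mul_assoc, D.tt, mul_one]
  let T₀ : Subgroup S :=
    { carrier := {g | g = 1 ∨ g = D.e D.h D.h ∨ g = D.t ∨ g = D.e D.h D.h * D.t}
      one_mem' := Or.inl rfl
      mul_mem' := by
        rintro u v (e1 | e1 | e1 | e1) (e2 | e2 | e2 | e2) <;> rw [e1, e2] <;>
          simp [hz, D.tt, k1, k2, k3, k4, k5, hc D.t]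
      inv_mem' := by
        rintro u (e1 | e1 | e1 | e1) <;> rw [e1] <;>
          simp [inv_eq_of_mul_eq_one_right hz, CfsgLib.Invol.inv_eq_self D.ht, hc D.t] }
  have htn : D.t ∉ D.four := fun h1 => D.t_not_mem (D.mem_four.1 h1).1
  refine ⟨T₀, isKleinFour_mk ?_ ?_, fun h1 => htn (h1 ▸ (Or.inr (Or.inr (Or.inl rfl)) : D.t ∈ T₀))⟩
  · show Nat.card ({g | g = 1 ∨ g = D.e D.h D.h ∨ g = D.t ∨ g = D.e D.h D.h * D.t} : Set S) = 4
    have n0 : D.e D.h D.h ≠ D.t := fun h1 => D.t_not_mem (h1 ▸ D.e_mem _ _)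
    have n1 : D.e D.h D.h * D.t ≠ 1 := fun h1 => D.refl_not_mem _ _ (h1 ▸ one_mem _)
    rw [Nat.card_coe_set_eq, show ({g | g = 1 ∨ g = D.e D.h D.h ∨ g = D.t ∨ g = D.e D.h D.h * D.t} : Set S) =
      {1, D.e D.h D.h, D.t, D.e D.h D.h * D.t} from Set.ext fun g => by simp]
    rw [Set.ncard_insert_of_notMem (by
        simp [(CfsgLib.Invol.ne_one D.ehh_invol).symm, (CfsgLib.Invol.ne_one D.ht).symm, n1.symm]),
      Set.ncard_insert_of_notMem (by simp [n0, CfsgLib.Invol.ne_one D.ht]),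
      Set.ncard_insert_of_notMem (by simp [CfsgLib.Invol.ne_one D.ehh_invol]), Set.ncard_singleton]
  · rintro g (e1 | e1 | e1 | e1) <;> rw [e1]
    · exact one_mul 1
    · exact hz
    · exact D.tt
    · exact k4

theorem other_four_conj {T₁ T₂ : Subgroup S} (h₁ : IsKleinFour T₁) (h₂ : IsKleinFour T₂)
    (n₁ : T₁ ≠ D.four) (n₂ : T₂ ≠ D.four) : ∃ s : S, T₁.map (MulAut.conj s).toMonoidHom = T₂ := by
  obtain ⟨a, b, hab, hm₁, hs₁⟩ := D.other_four h₁ n₁
  obtain ⟨c, d, hcd, hm₂, hs₂⟩ := D.other_four h₂ n₂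
  have hz : ∀ {T : Subgroup S} {r : S}, IsKleinFour T → r ∈ T →
      (T : Set S) ⊆ {1, D.e D.h D.h, r, D.e D.h D.h * r} → D.e D.h D.h ∈ T := by
    intro T r hT hr hs
    by_contra hn
    have hle : (T : Set S) ⊆ {1, r} := fun u hu => by
      rcases hs hu with e1 | e1 | e1 | e1
      · exact Or.inl e1
      · exact absurd (e1 ▸ hu) hn
      · exact Or.inr e1
      · refine absurd ?_ hn
        rw [eq_mul_inv_of_mul_eq e1.symm]; exact mul_mem hu (inv_mem hr)
    have h1 := Set.ncard_le_ncard hle (Set.toFinite _)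
    rw [← Nat.card_coe_set_eq (T : Set S), show Nat.card ↑(T : Set S) = 4 from hT.card_four] at h1
    have := Set.ncard_insert_le (1 : S) {r}
    rw [Set.ncard_singleton] at this
    omega
  refine ⟨D.e (c - a) 0, Subgroup.eq_of_le_of_card_ge ?_ (le_of_eq ?_)⟩
  · rintro _ ⟨u, hu, rfl⟩
    have hzz : D.e (c - a) 0 * D.e D.h D.h * (D.e (c - a) 0)⁻¹ = D.e D.h D.h := by
      rw [mem_center_iff.1 (D.diag_mem_center D.h), mul_inv_cancel_right]
    have hr := D.refl_isConj (a := a) (b := b) (c := c) (d := d) (dvd_sub hab hcd)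
    show D.e (c - a) 0 * u * (D.e (c - a) 0)⁻¹ ∈ T₂
    rcases hs₁ hu with e1 | e1 | e1 | e1 <;> rw [e1]
    · simp
    · rw [hzz]; exact hz h₂ hm₂ hs₂
    · rw [hr]; exact hm₂
    · rw [← conj_mul, hzz, hr]; exact mul_mem (hz h₂ hm₂ hs₂) hm₂
  · rw [card_map_of_injective (f := (MulAut.conj (D.e (c - a) 0)).toMonoidHom)
      (MulAut.conj (D.e (c - a) 0)).injective, h₁.card_four, h₂.card_four]

/-! ### The subgroup generated by the involutions -/

/-- The subgroup `{a + b ≡ 0 mod h}` extended by `t`. -/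
def involSpan : Subgroup S where
  carrier := {g | ∃ a b : ℤ, D.h ∣ a + b ∧ (g = D.e a b ∨ g = D.e a b * D.t)}
  one_mem' := ⟨0, 0, by simp, Or.inl D.e_zero.symm⟩
  mul_mem' := by
    rintro u v ⟨a, b, hab, rfl | rfl⟩ ⟨c, d, hcd, rfl | rfl⟩
    · exact ⟨a + c, b + d, by rw [show a + c + (b + d) = a + b + (c + d) by ring]; exact dvd_add hab hcd,
        Or.inl (D.e_mul a b c d)⟩
    · exact ⟨a + c, b + d, by rw [show a + c + (b + d) = a + b + (c + d) by ring]; exact dvd_add hab hcd,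
        Or.inr (by rw [← mul_assoc, D.e_mul])⟩
    · exact ⟨a + d, b + c, by rw [show a + d + (b + c) = a + b + (c + d) by ring]; exact dvd_add hab hcd,
        Or.inr (by rw [mul_assoc, D.t_e, ← mul_assoc, D.e_mul])⟩
    · exact ⟨a + d, b + c, by rw [show a + d + (b + c) = a + b + (c + d) by ring]; exact dvd_add hab hcd,
        Or.inl (by rw [show D.e a b * D.t * (D.e c d * D.t) = D.e a b * (D.t * D.e c d) * D.t by group,
          D.t_e, show D.e a b * (D.e d c * D.t) * D.t = D.e a b * D.e d c * (D.t * D.t) by group, D.tt,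
          mul_one, D.e_mul])⟩
  inv_mem' := by
    rintro u ⟨a, b, hab, rfl | rfl⟩
    · exact ⟨-a, -b, by rw [← neg_add]; exact hab.neg_right, Or.inl (D.e_inv a b)⟩
    · exact ⟨-b, -a, by rw [← neg_add, add_comm b a]; exact hab.neg_right, Or.inr (by
        rw [mul_inv_rev, CfsgLib.Invol.inv_eq_self D.ht, D.e_inv, D.t_e])⟩

theorem closure_invol : closure {g : S | orderOf g = 2} = D.involSpan := by
  refine le_antisymm ((closure_le _).2 fun g hg => ?_) ?_
  · rcases D.cases g with ⟨a, b, rfl⟩ | ⟨a, b, rfl⟩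
    · rcases D.base_invol_cases (CfsgLib.Invol.mul_self_eq_one hg) with e1 | e1 | e1 | e1 <;> rw [e1]
      · exact one_mem _
      all_goals exact ⟨_, _, by simp, Or.inl rfl⟩
    · exact ⟨a, b, (Dvd.intro_left 2 D.h_two).trans (D.refl_invol_iff.1 hg), Or.inr rfl⟩
  · have ht' : D.t ∈ closure {g : S | orderOf g = 2} := subset_closure D.ht
    have hh : D.e 0 D.h ∈ closure {g : S | orderOf g = 2} := subset_closure D.e0h_invol
    have hanti : ∀ a : ℤ, D.e a (-a) ∈ closure {g : S | orderOf g = 2} := fun a => by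
      have h1 : D.e a (-a) * D.t ∈ closure {g : S | orderOf g = 2} :=
        subset_closure (D.refl_invol_iff.2 (by simp))
      have h2 := mul_mem h1 ht'
      rwa [mul_assoc, D.tt, mul_one] at h2
    have hall : ∀ a b : ℤ, D.h ∣ a + b → D.e a b ∈ closure {g : S | orderOf g = 2} := fun a b ⟨m, hm⟩ => by
      have e1 : D.e a b = D.e a (-a) * D.e 0 D.h ^ m := by
        rw [D.e_zpow, D.e_mul]; congr 1 <;> linarith
      rw [e1]; exact mul_mem (hanti a) (zpow_mem hh m)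
    rintro g ⟨a, b, hab, rfl | rfl⟩
    · exact hall a b hab
    · exact mul_mem (hall a b hab) ht'

theorem involSpan_sup : D.involSpan ⊔ zpowers D.x = ⊤ := by
  have hset : ∀ g : S, g ∈ D.involSpan ⊔ zpowers D.x := by
    intro g
    have he : ∀ a b : ℤ, D.e a b ∈ D.involSpan ⊔ zpowers D.x := fun a b => by
      have e1 : D.e a b = D.e (-b) b * D.x ^ (a + b) := by
        rw [show D.x ^ (a + b) = D.e (a + b) 0 by simp [e], D.e_mul]; congr 1 <;> ring
      rw [e1]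
      exact mul_mem (mem_sup_left ⟨-b, b, by simp, Or.inl rfl⟩)
        (mem_sup_right (zpow_mem (mem_zpowers _) _))
    rcases D.cases g with ⟨a, b, rfl⟩ | ⟨a, b, rfl⟩
    · exact he a b
    · exact mul_mem (he a b) (mem_sup_left ⟨0, 0, by simp, Or.inr (by rw [D.e_zero, one_mul])⟩)
  exact eq_top_iff.2 fun g _ => hset g

theorem card_involSpan : Nat.card D.involSpan = 4 * (4 * D.q) := by
  have h1 : Nat.card D.involSpan * Nat.card (zpowers D.x) = Nat.card S * 2 := by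
    have hset : (D.involSpan : Set S) * (zpowers D.x : Set S) = Set.univ := by
      have he : ∀ a b : ℤ, D.e a b ∈ (D.involSpan : Set S) * (zpowers D.x : Set S) := fun a b =>
        ⟨D.e (-b) b, ⟨-b, b, by simp, Or.inl rfl⟩, D.x ^ (a + b), zpow_mem (mem_zpowers _) _, by
          show D.e (-b) b * D.x ^ (a + b) = D.e a b
          rw [show D.x ^ (a + b) = D.e (a + b) 0 by simp [e], D.e_mul]; congr 1 <;> ring⟩
      refine Set.eq_univ_of_forall fun g => ?_
      rcases D.cases g with ⟨a, b, rfl⟩ | ⟨a, b, rfl⟩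
      · exact he a b
      · -- move `t` to the left
        obtain ⟨w, hw, v, hv, hwv⟩ := he b a
        have hwv' : w * v = D.e b a := hwv
        refine ⟨D.t * w, mul_mem ⟨0, 0, by simp, Or.inr (by rw [D.e_zero, one_mul])⟩ hw, v, hv, ?_⟩
        show D.t * w * v = _
        rw [mul_assoc, hwv', D.t_e]
    have hinf : Nat.card ↥(D.involSpan ⊓ zpowers D.x) = 2 := by
      have heq : D.involSpan ⊓ zpowers D.x = zpowers (D.e D.h 0) := by
        refine le_antisymm ?_ (zpowers_le.2 ⟨⟨D.h, 0, by simp, Or.inl rfl⟩, mem_zpowers_iff.2 ⟨D.h, by simp [e]⟩⟩)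
        rintro g ⟨⟨a, b, hab, hg⟩, hgx⟩
        obtain ⟨i, rfl⟩ := mem_zpowers_iff.1 hgx
        rw [show D.x ^ i = D.e i 0 by simp [e]] at hg ⊢
        rcases hg with hg | hg
        · obtain ⟨h1, h2⟩ := D.e_eq_iff.1 hg
          have h3 : D.h ∣ i := by
            have := dvd_add (dvd_add ((Dvd.intro_left 2 D.h_two).trans h1) ((Dvd.intro_left 2 D.h_two).trans h2)) hab
            rwa [show i - a + (0 - b) + (a + b) = i by ring] at this
          obtain ⟨m, rfl⟩ := h3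
          exact mem_zpowers_iff.2 ⟨m, by rw [D.e_zpow, zero_mul]⟩
        · exact absurd (hg ▸ D.e_mem i 0) (D.refl_not_mem a b)
      rw [heq, Nat.card_zpowers, D.eh0_invol]
    have h := CfsgLib.Factor.card_mul_set D.involSpan (zpowers D.x)
    rw [hset, Nat.card_univ, hinf] at h
    exact h.symm
  rw [Nat.card_zpowers, D.hx, D.card_eq] at h1
  refine Nat.eq_of_mul_eq_mul_right (by have := D.q_pos; omega : 0 < 4 * D.q) (h1.trans ?_)
  ring

theorem center_map_le (D : Data S) {X : Subgroup S} (hX : ¬ IsMulCommutative X) :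
    (center X).map X.subtype ≤ center S := by
  rintro _ ⟨c, hc, rfl⟩
  have hcomm : ∀ g ∈ X, Commute (c : S) g := fun g hg =>
    (congrArg Subtype.val (mem_center_iff.1 hc ⟨g, hg⟩)).symm
  rcases D.cases (c : S) with ⟨a, b, e1⟩ | ⟨a, b, e1⟩
  · show (c : S) ∈ center S
    rw [e1, D.mem_center_iff']
    by_contra hab
    refine hX ⟨⟨fun g k => Subtype.ext ?_⟩⟩
    have hbase : ∀ g : X, (g : S) ∈ D.base := fun g => by
      rcases D.cases (g : S) with ⟨u, v, e2⟩ | ⟨u, v, e2⟩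
      · exact e2 ▸ D.e_mem u v
      · have h := hcomm g g.2
        rw [e1, e2] at h
        exact absurd (D.refl_commute_iff.1 h) hab
    exact D.base_comm (hbase g) (hbase k)
  · exfalso
    refine hX ⟨⟨fun g k => Subtype.ext ?_⟩⟩
    have hform : ∀ g : X, ∃ w : ℤ, (g : S) = D.e w w ∨ (g : S) = D.e w w * (D.e a b * D.t) := fun g =>
      D.refl_centralizer (e1 ▸ (hcomm g g.2).symm)
    obtain ⟨u, hu⟩ := hform g
    obtain ⟨v, hv⟩ := hform k
    have hz : ∀ (w : ℤ) (m : S), Commute (D.e w w) m := fun w m => (mem_center_iff.1 (D.diag_mem_center w) m).symm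
    show Commute (g : S) (k : S)
    rcases hu with hu | hu <;> rcases hv with hv | hv <;> rw [hu, hv]
    · exact hz _ _
    · exact hz _ _
    · exact (hz _ _).symm
    · exact (hz u _).mul_left ((hz v _).symm.mul_right (Commute.refl _))

/-! ### The quaternion subgroup of order `2N` -/

/-- `{e(a,-a)} ∪ {e(a,b) t : a + b ≡ h}`. -/
def quat : Subgroup S where
  carrier := {g | ∃ a b : ℤ, (g = D.e a b ∧ D.N ∣ a + b) ∨ (g = D.e a b * D.t ∧ D.N ∣ a + b - D.h)}
  one_mem' := ⟨0, 0, Or.inl ⟨D.e_zero.symm, by simp⟩⟩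
  mul_mem' := by
    rintro u v ⟨a, b, ⟨rfl, hab⟩ | ⟨rfl, hab⟩⟩ ⟨c, d, ⟨rfl, hcd⟩ | ⟨rfl, hcd⟩⟩
    · exact ⟨a + c, b + d, Or.inl ⟨D.e_mul a b c d, by
        rw [show a + c + (b + d) = a + b + (c + d) by ring]; exact dvd_add hab hcd⟩⟩
    · exact ⟨a + c, b + d, Or.inr ⟨by rw [← mul_assoc, D.e_mul], by
        rw [show a + c + (b + d) - D.h = a + b + (c + d - D.h) by ring]; exact dvd_add hab hcd⟩⟩
    · exact ⟨a + d, b + c, Or.inr ⟨by rw [mul_assoc, D.t_e, ← mul_assoc, D.e_mul], by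
        rw [show a + d + (b + c) - D.h = a + b - D.h + (c + d) by ring]; exact dvd_add hab hcd⟩⟩
    · exact ⟨a + d, b + c, Or.inl
        ⟨by rw [show D.e a b * D.t * (D.e c d * D.t) = D.e a b * (D.t * D.e c d) * D.t by group,
          D.t_e, show D.e a b * (D.e d c * D.t) * D.t = D.e a b * D.e d c * (D.t * D.t) by group, D.tt,
          mul_one, D.e_mul], by
        rw [show a + d + (b + c) = (a + b - D.h) + (c + d - D.h) + 2 * D.h by ring, D.h_two]
        exact dvd_add (dvd_add hab hcd) dvd_rfl⟩⟩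
  inv_mem' := by
    rintro u ⟨a, b, ⟨rfl, hab⟩ | ⟨rfl, hab⟩⟩
    · exact ⟨-a, -b, Or.inl ⟨D.e_inv a b, by rw [← neg_add]; exact hab.neg_right⟩⟩
    · exact ⟨-b, -a, Or.inr ⟨by rw [mul_inv_rev, CfsgLib.Invol.inv_eq_self D.ht, D.e_inv, D.t_e], by
        rw [show -b + -a - D.h = -(a + b - D.h) - 2 * D.h by ring, D.h_two]
        exact dvd_sub hab.neg_right dvd_rfl⟩⟩

theorem quat_iso : Nat.card D.quat = 2 * (4 * D.q) ∧ Nonempty (D.quat ≃* QuaternionGroup (2 * D.q)) := by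
  set g : D.quat := ⟨D.e 1 (-1), 1, -1, Or.inl ⟨rfl, by simp⟩⟩ with hg
  set r : D.quat := ⟨D.e D.h 0 * D.t, D.h, 0, Or.inr ⟨rfl, by simp⟩⟩ with hr
  have hgo : orderOf g = 4 * D.q := by rw [← Subgroup.orderOf_coe, hg]; exact D.orderOf_antidiag
  have hrn : r ∉ zpowers g := fun h => by
    obtain ⟨i, hi⟩ := mem_zpowers_iff.1 h
    have := congrArg Subtype.val hi
    rw [Subgroup.coe_zpow] at this
    simp only [hg, hr, D.e_zpow] at this
    exact D.refl_not_mem D.h 0 (this ▸ D.e_mem _ _)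
  have hidx : (zpowers g).index = 2 := by
    rw [index_eq_two_iff]
    refine ⟨r, fun ⟨u, hu⟩ => ?_⟩
    obtain ⟨a, b, ⟨hu', hab⟩ | ⟨hu', hab⟩⟩ := hu
    · have hmem : (⟨u, ⟨a, b, Or.inl ⟨hu', hab⟩⟩⟩ : D.quat) ∈ zpowers g := by
        refine mem_zpowers_iff.2 ⟨a, Subtype.ext ?_⟩
        rw [Subgroup.coe_zpow, hg]
        show D.e 1 (-1) ^ a = u
        rw [hu', D.e_zpow, D.e_eq_iff]
        exact ⟨⟨0, by ring⟩, by rw [show -1 * a - b = -(a + b) by ring]; exact hab.neg_right⟩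
      exact Or.inr ⟨hmem, fun h => hrn ((mul_mem_cancel_left hmem).1 h)⟩
    · refine Or.inl ⟨mem_zpowers_iff.2 ⟨a, Subtype.ext ?_⟩, fun h => ?_⟩
      · rw [Subgroup.coe_zpow, Subgroup.coe_mul, hg, hr]
        show D.e 1 (-1) ^ a = u * (D.e D.h 0 * D.t)
        rw [hu', D.e_zpow, show D.e a b * D.t * (D.e D.h 0 * D.t) = D.e a b * (D.t * D.e D.h 0) * D.t by group,
          D.t_e, show D.e a b * (D.e 0 D.h * D.t) * D.t = D.e a b * D.e 0 D.h * (D.t * D.t) by group, D.tt,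
          mul_one, D.e_mul, D.e_eq_iff]
        refine ⟨⟨0, by ring⟩, ?_⟩
        rw [show -1 * a - (b + D.h) = -(a + b - D.h) - 2 * D.h by ring, D.h_two]
        exact dvd_sub hab.neg_right dvd_rfl
      · obtain ⟨i, hi⟩ := mem_zpowers_iff.1 h
        have := congrArg Subtype.val hi
        rw [Subgroup.coe_zpow] at this
        simp only [hg, D.e_zpow] at this
        exact D.refl_not_mem a b (hu' ▸ this ▸ D.e_mem _ _)
  have hq : 2 * D.q = 2 ^ (D.k + 2 - 1) := by rw [D.hq, show D.k + 2 - 1 = D.k + 1 by omega, pow_succ']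
  refine ⟨?_, ?_⟩
  · have h := (zpowers g).index_mul_card
    rw [hidx, Nat.card_zpowers, hgo] at h
    omega
  rw [hq]
  refine CfsgLib.UniqueInvol.nonempty_quaternion_equiv (by omega) (hgo.trans (by rw [D.hq]; ring)) hidx hrn ?_ ?_
  · refine Subtype.ext ?_
    simp only [Subgroup.coe_mul, Subgroup.coe_inv, hg, hr]
    rw [D.base_conj_refl, D.e_inv, neg_neg]
  · refine Subtype.ext ?_
    rw [Subgroup.coe_pow, Subgroup.coe_pow, sq, ← hq]
    simp only [hg, hr]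
    rw [D.refl_sq, add_zero, ← zpow_natCast, D.e_zpow, D.e_eq_iff]
    refine ⟨⟨0, by rw [h]; push_cast; ring⟩, ⟨1, by rw [N, h]; push_cast; ring⟩⟩

theorem quat_unique {Y : Subgroup S} (hYc : Nat.card Y = 2 * (4 * D.q))
    (hY : Nonempty (Y ≃* QuaternionGroup (2 * D.q))) : Y = D.quat := by
  obtain ⟨iso⟩ := hY
  haveI : NeZero (2 * D.q) := ⟨by have := D.q_pos; omega⟩
  have hq := D.q_pos
  set g₀ : Y := iso.symm (QuaternionGroup.a 1) with hg₀
  set r₀ : Y := iso.symm (QuaternionGroup.xa 0) with hr₀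
  have hgo : orderOf (g₀ : S) = 4 * D.q := by
    rw [Subgroup.orderOf_coe, hg₀, MulEquiv.orderOf_eq, QuaternionGroup.orderOf_a_one]; omega
  have hconj : (r₀ : S) * g₀ * (r₀ : S)⁻¹ = (g₀ : S)⁻¹ := by
    have : r₀ * g₀ * r₀⁻¹ = g₀⁻¹ := by
      rw [hg₀, hr₀, ← map_inv, ← map_inv, ← map_mul, ← map_mul]
      congr 1
      rw [mul_inv_eq_iff_eq_mul]
      show _ = QuaternionGroup.a (-1) * _
      simp
    exact congrArg Subtype.val this
  have hsq : (r₀ : S) * r₀ = (g₀ : S) ^ (2 * D.q) := by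
    have : r₀ * r₀ = g₀ ^ (2 * D.q) := by
      rw [hg₀, hr₀, ← map_pow, ← map_mul]
      congr 1
      simp [QuaternionGroup.xa_mul_xa, QuaternionGroup.a_one_pow]
    simpa using congrArg Subtype.val this
  have hne : (r₀ : S) * g₀ ≠ g₀ * r₀ := fun h1 => by
    rw [h1, mul_inv_cancel_right] at hconj
    have h2 : (g₀ : S) * g₀ = 1 := eq_inv_iff_mul_eq_one.1 hconj
    have h3 := orderOf_le_of_pow_eq_one two_pos (by rw [sq]; exact h2 : (g₀ : S) ^ 2 = 1)
    omega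
  -- choose the pair so that the cyclic part is in the base
  obtain ⟨g, r, hg, hr, hgb, hrb, hgo', hconj', hsq'⟩ : ∃ g r : S, g ∈ Y ∧ r ∈ Y ∧ g ∈ D.base ∧ r ∉ D.base ∧
      orderOf g = 4 * D.q ∧ r * g * r⁻¹ = g⁻¹ ∧ r * r = g ^ (2 * D.q) := by
    by_cases hgb : (g₀ : S) ∈ D.base
    · exact ⟨_, _, g₀.2, r₀.2, hgb, fun hrb => hne (D.base_comm hrb hgb), hgo, hconj, hsq⟩
    -- then `g₀²` is central, so `N = 4`
    rcases D.cases (g₀ : S) with ⟨a, b, e1⟩ | ⟨a, b, e1⟩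
    · exact absurd (e1 ▸ D.e_mem a b) hgb
    have hz : (g₀ : S) * g₀ ∈ center S := by rw [e1, D.refl_sq]; exact D.diag_mem_center _
    have p4 : (g₀ : S) * g₀ * (g₀ * g₀) = (g₀ : S) ^ 4 := by rw [← sq (g₀ : S), ← pow_add]
    have h4 : (g₀ : S) ^ 4 = 1 := by
      have h5 : (r₀ : S) * (g₀ * g₀) * (r₀ : S)⁻¹ = (g₀ : S)⁻¹ * (g₀ : S)⁻¹ := by rw [← conj_mul, hconj]
      rw [mem_center_iff.1 hz, mul_inv_cancel_right, ← mul_inv_rev, eq_inv_iff_mul_eq_one] at h5
      rw [← p4]; exact h5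
    have hq1 : D.q = 1 := by
      have h6 := orderOf_le_of_pow_eq_one (by norm_num) h4
      omega
    have hg2 : (g₀ : S) ^ (2 * D.q) = g₀ * g₀ := by rw [hq1, mul_one, sq]
    by_cases hrb : (r₀ : S) ∈ D.base
    · refine ⟨r₀, g₀, r₀.2, g₀.2, hrb, hgb, ?_, ?_, by rw [hq1, mul_one, sq, hsq, hg2]⟩
      · rw [hq1]
        haveI : Fact (Nat.Prime 2) := ⟨Nat.prime_two⟩
        show orderOf (r₀ : S) = 2 ^ (1 + 1)
        refine orderOf_eq_prime_pow ?_ ?_
        · rw [pow_one, sq, hsq, hg2, ← sq]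
          exact fun h7 => by have := orderOf_le_of_pow_eq_one two_pos h7; omega
        · rw [show 2 ^ (1 + 1) = 2 * 2 from rfl, pow_mul, sq, sq, hsq, hg2]
          rw [p4, h4]
      · calc (g₀ : S) * r₀ * (g₀ : S)⁻¹ = g₀ * ((r₀ : S) * (g₀ : S)⁻¹ * (r₀ : S)⁻¹) * r₀ := by group
          _ = (g₀ : S) * g₀ * r₀ := by rw [← conj_inv, hconj, inv_inv]
          _ = (r₀ : S) * r₀ * r₀ := by rw [hsq, hg2]
          _ = (r₀ : S)⁻¹ := by
              rw [eq_inv_iff_mul_eq_one, mul_assoc, hsq, hg2, p4, h4]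
    · have hgr : (g₀ : S) * r₀ ∈ D.base := (mul_mem_iff_of_index_two D.index_base).2 (iff_of_false hgb hrb)
      have hgr2 : (g₀ : S) * r₀ * (g₀ * r₀) = g₀ * g₀ := by
        calc (g₀ : S) * r₀ * (g₀ * r₀) = g₀ * ((r₀ : S) * g₀ * (r₀ : S)⁻¹) * ((r₀ : S) * r₀) := by group
          _ = _ := by rw [hconj, mul_inv_cancel, one_mul, hsq, hg2]
      refine ⟨g₀ * r₀, g₀, mul_mem g₀.2 r₀.2, g₀.2, hgr, hgb, ?_, ?_, ?_⟩
      · rw [hq1]
        haveI : Fact (Nat.Prime 2) := ⟨Nat.prime_two⟩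
        show orderOf ((g₀ : S) * r₀) = 2 ^ (1 + 1)
        refine orderOf_eq_prime_pow ?_ ?_
        · rw [pow_one, sq, hgr2, ← sq]
          exact fun h7 => by have := orderOf_le_of_pow_eq_one two_pos h7; omega
        · rw [show 2 ^ (1 + 1) = 2 * 2 from rfl, pow_mul, sq, sq, hgr2,
            p4, h4]
      · rw [eq_inv_iff_mul_eq_one]
        calc (g₀ : S) * (g₀ * r₀) * (g₀ : S)⁻¹ * (g₀ * r₀)
            = g₀ * g₀ * ((r₀ : S) * r₀) := by group
          _ = 1 := by rw [hsq, hg2, p4, h4]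
      · rw [hq1, mul_one, sq, hgr2]
  rcases D.cases r with ⟨c, d, rfl⟩ | ⟨c, d, rfl⟩
  · exact absurd (D.e_mem c d) hrb
  obtain ⟨a, b, rfl⟩ := hgb
  rw [D.base_conj_refl, D.e_inv, D.e_eq_iff, sub_neg_eq_add, sub_neg_eq_add] at hconj'
  have ha : ¬ 2 ∣ a := fun ⟨m, hm⟩ => by
    have h1 : D.e a b ^ (2 * D.q) = 1 := by
      obtain ⟨c', hc'⟩ := hconj'.1
      rw [← zpow_natCast, D.e_zpow, D.e_eq_one_iff]
      have hN : D.N = 4 * (D.q : ℤ) := rfl
      refine ⟨⟨m, by rw [hm, hN]; push_cast; ring⟩, ⟨2 * (D.q : ℤ) * c' - m, ?_⟩⟩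
      rw [show b = D.N * c' - a by linarith, hm, hN]; push_cast; ring
    have := orderOf_le_of_pow_eq_one (by omega) h1
    omega
  rw [D.refl_sq, ← zpow_natCast, D.e_zpow, D.e_eq_iff] at hsq'
  obtain ⟨m, hm⟩ : (2 : ℤ) ∣ a - 1 := by omega
  have hcd : D.N ∣ c + d - D.h := by
    obtain ⟨w, hw⟩ := hsq'.1
    refine ⟨w + m, ?_⟩
    have hN : D.N = 4 * (D.q : ℤ) := rfl
    have hh : D.h = 2 * (D.q : ℤ) := rfl
    push_cast at hw
    rw [hN] at hw ⊢
    rw [hh]
    linear_combination hw + (2 * (D.q : ℤ)) * hm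
  have hanti : ∀ i : ℤ, D.e i (-i) ∈ Y := by
    have hu : IsCoprime a D.N := by
      have : IsCoprime a ((2 : ℤ) ^ (D.k + 2)) := ((Int.prime_two.coprime_iff_not_dvd.2 ha).symm).pow_right
      convert this using 1
      rw [N, D.hq]; push_cast; ring
    obtain ⟨u, w, huw⟩ := hu
    intro i
    have h1 := zpow_mem hg (u * i)
    rw [D.e_zpow] at h1
    obtain ⟨c', hc'⟩ := hconj'.1
    rwa [D.e_eq_iff.2 (⟨⟨-(w * i), by linear_combination i * huw⟩,
      ⟨c' * u * i + w * i, by linear_combination (u * i) * hc' - i * huw⟩⟩ :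
      D.N ∣ a * (u * i) - i ∧ D.N ∣ b * (u * i) - -i)] at h1
  refine (Subgroup.eq_of_le_of_card_ge ?_ ?_).symm
  · rintro u ⟨a', b', ⟨rfl, hab⟩ | ⟨rfl, hab⟩⟩
    · rw [D.e_eq_iff.2 (⟨⟨0, by ring⟩, by
        rw [show b' - -a' = a' + b' by ring]; exact hab⟩ : D.N ∣ a' - a' ∧ D.N ∣ b' - -a')]
      exact hanti a'
    · have e2 : D.e a' b' * D.t = D.e (a' - c) (-(a' - c)) * (D.e c d * D.t) := by
        rw [← mul_assoc, D.e_mul, D.refl_eq_iff]
        refine ⟨⟨0, by ring⟩, ?_⟩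
        rw [show b' - (-(a' - c) + d) = (a' + b' - D.h) - (c + d - D.h) by ring]
        exact dvd_sub hab hcd
      rw [e2]; exact mul_mem (hanti _) hr
  · rw [hYc, D.quat_iso.1]

theorem quat_normal : D.quat.Normal := by
  refine ⟨fun u hu g => ?_⟩
  have hmap : D.quat.map (MulAut.conj g).toMonoidHom = D.quat := by
    have hc : Nat.card ↥(D.quat.map (MulAut.conj g).toMonoidHom) = 2 * (4 * D.q) := by
      rw [card_map_of_injective (f := (MulAut.conj g).toMonoidHom) (MulAut.conj g).injective, D.quat_iso.1]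
    obtain ⟨iso⟩ := D.quat_iso.2
    exact D.quat_unique hc
      ⟨((D.quat.equivMapOfInjective (MulAut.conj g).toMonoidHom (MulAut.conj g).injective)).symm.trans iso⟩
  rw [← hmap]
  exact ⟨u, hu, rfl⟩

end Data

end CfsgLib.Wreath
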