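import Cfsg.Prelude.Def_CaseTheorems
import Cfsg.Agent.InvChar.UniqueInvolution
import Cfsg.Agent.Invol.Dihedral

/-!
The internal structure of quasi-dihedral (semidihedral) 2-groups.
-/

set_option autoImplicit false
set_option linter.unusedSectionVars false
set_option linter.deprecated false
set_option linter.style.haveILetI false
set_option linter.style.multiGoal false

namespace CfsgLib.QD

open Subgroup
open scoped commutatorElement

/-- Generators of a quasi-dihedral group: `y x y⁻¹ = x^(4q - 1)` with `x` of order `8q`. -/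
structure Data (S : Type*) [Group S] where
  /-- a quarter of half the order of the rotation -/
  q : ℕ
  /-- the exponent of two in `q` -/
  k : ℕ
  /-- the rotation -/
  x : S
  /-- the reflection -/
  y : S
  hq : q = 2 ^ k
  card_eq : Nat.card S = 16 * q
  hx : orderOf x = 8 * q
  hy : orderOf y = 2
  hxy : y * x * y⁻¹ = x ^ (4 * (q : ℤ) - 1)

theorem exists_data {S : Type*} [Group S] (h : Cfsg.IsQuasiDihedral S) : Nonempty (Data S) := by
  obtain ⟨n, hn, hc, x, y, hx, hy, hxy⟩ := h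
  obtain ⟨k, rfl⟩ : ∃ k, n = k + 3 := ⟨n - 3, by omega⟩
  refine ⟨⟨2 ^ k, k, x, y, rfl, by rw [hc]; ring, by rw [hx]; ring, hy, ?_⟩⟩
  rw [hxy, ← zpow_natCast]
  congr 1
  rw [show k + 3 - 1 = k + 2 by omega, pow_add, Nat.cast_sub (Nat.one_le_iff_ne_zero.2 (by positivity))]
  push_cast
  ring

variable {S : Type*} [Group S] [Finite S] (D : Data S)

namespace Data

theorem q_pos : 0 < D.q := D.hq ▸ Nat.two_pow_pos _

theorem isPGroup (D : Data S) : IsPGroup 2 S :=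
  IsPGroup.of_card (n := D.k + 4) (by rw [D.card_eq, D.hq]; ring)

theorem zpow_eq_iff {a b : ℤ} : D.x ^ a = D.x ^ b ↔ (8 * (D.q : ℤ)) ∣ a - b := by
  rw [← mul_inv_eq_one, ← zpow_sub, ← orderOf_dvd_iff_zpow_eq_one, D.hx]
  push_cast
  rfl

theorem index_rot : (zpowers D.x).index = 2 := by
  have h := (zpowers D.x).index_mul_card
  rw [Nat.card_zpowers, D.hx, D.card_eq] at h
  have := D.q_pos
  nlinarith

theorem y_conj (i : ℤ) : D.y * D.x ^ i * D.y⁻¹ = D.x ^ ((4 * (D.q : ℤ) - 1) * i) := by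
  rw [← conj_zpow, D.hxy, ← zpow_mul]

theorem y_mul (i : ℤ) : D.y * D.x ^ i = D.x ^ ((4 * (D.q : ℤ) - 1) * i) * D.y :=
  mul_inv_eq_iff_eq_mul.1 (D.y_conj i)

theorem y_not_mem : D.y ∉ zpowers D.x := by
  intro h
  obtain ⟨i, hi⟩ := mem_zpowers_iff.1 h
  have hc : D.y * D.x = D.x * D.y := by
    rw [← hi]; exact ((Commute.refl D.x).zpow_left i).eq
  have e : D.x ^ (4 * (D.q : ℤ) - 1) = D.x ^ (1 : ℤ) := by rw [← D.hxy, zpow_one, hc, mul_inv_cancel_right]
  obtain ⟨c, hc⟩ := D.zpow_eq_iff.1 e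
  have := D.q_pos
  rcases le_or_gt c 0 with h0 | h0
  · nlinarith
  · nlinarith

theorem cases (g : S) : (∃ i : ℤ, g = D.x ^ i) ∨ ∃ i : ℤ, g = D.x ^ i * D.y := by
  by_cases hg : g ∈ zpowers D.x
  · exact Or.inl ((mem_zpowers_iff.1 hg).imp fun i hi => hi.symm)
  · have h : g * D.y⁻¹ ∈ zpowers D.x := (mul_mem_iff_of_index_two D.index_rot).2
      (iff_of_false hg fun h => D.y_not_mem (inv_mem_iff.1 h))
    obtain ⟨i, hi⟩ := mem_zpowers_iff.1 h
    exact Or.inr ⟨i, by rw [hi, inv_mul_cancel_right]⟩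

theorem ne_rot (i j : ℤ) : D.x ^ i * D.y ≠ D.x ^ j := fun h => D.y_not_mem (by
  rw [← inv_mul_cancel_left (D.x ^ i) D.y, h]
  exact mul_mem (inv_mem (zpow_mem (mem_zpowers _) i)) (zpow_mem (mem_zpowers _) j))

theorem ne_one (i : ℤ) : D.x ^ i * D.y ≠ 1 := by simpa using D.ne_rot i 0

theorem refl_eq_iff {i j : ℤ} : D.x ^ i * D.y = D.x ^ j * D.y ↔ (8 * (D.q : ℤ)) ∣ i - j := by
  rw [mul_left_inj, D.zpow_eq_iff]

theorem yy : D.y * D.y = 1 := CfsgLib.Invol.mul_self_eq_one D.hy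

theorem refl_sq (i : ℤ) : D.x ^ i * D.y * (D.x ^ i * D.y) = D.x ^ (4 * (D.q : ℤ) * i) := by
  rw [show D.x ^ i * D.y * (D.x ^ i * D.y) = D.x ^ i * (D.y * D.x ^ i) * D.y by group, D.y_mul,
    show D.x ^ i * (D.x ^ ((4 * (D.q : ℤ) - 1) * i) * D.y) * D.y =
      D.x ^ i * D.x ^ ((4 * (D.q : ℤ) - 1) * i) * (D.y * D.y) by group, D.yy, mul_one, ← zpow_add]
  congr 1; ring

theorem refl_conj_rot (i j : ℤ) :
    D.x ^ j * (D.x ^ i * D.y) * (D.x ^ j)⁻¹ = D.x ^ (i + 2 * (1 - 2 * (D.q : ℤ)) * j) * D.y := by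
  rw [← zpow_neg, show D.x ^ j * (D.x ^ i * D.y) * D.x ^ (-j) = D.x ^ j * D.x ^ i * (D.y * D.x ^ (-j)) by group,
    D.y_mul, ← mul_assoc, ← zpow_add, ← zpow_add]
  congr 2; ring

theorem refl_conj_y (i : ℤ) :
    D.y * (D.x ^ i * D.y) * D.y⁻¹ = D.x ^ ((4 * (D.q : ℤ) - 1) * i) * D.y := by
  rw [← mul_assoc, D.y_mul, mul_assoc _ D.y D.y, D.yy, mul_one, CfsgLib.Invol.inv_eq_self D.hy]

theorem unit_sq : (4 * (D.q : ℤ)) ∣ (1 - 2 * (D.q : ℤ)) * (1 - 2 * (D.q : ℤ)) - 1 :=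
  ⟨(D.q : ℤ) - 1, by ring⟩

/-- The reflections of a given parity form one class. -/
theorem refl_conj {i j : ℤ} (h : 2 ∣ i - j) :
    ∃ s : S, s ∈ zpowers D.x ∧ s * (D.x ^ i * D.y) * s⁻¹ = D.x ^ j * D.y := by
  obtain ⟨m, hm⟩ := h
  refine ⟨D.x ^ (-(m * (1 - 2 * (D.q : ℤ)))), zpow_mem (mem_zpowers _) _, ?_⟩
  rw [D.refl_conj_rot, D.refl_eq_iff]
  obtain ⟨c, hc⟩ := D.unit_sq
  exact ⟨-(m * c), by linear_combination (-2 * m) * hc + hm⟩

theorem refl_sq_even {i : ℤ} (h : 2 ∣ i) : D.x ^ i * D.y * (D.x ^ i * D.y) = 1 := by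
  obtain ⟨m, rfl⟩ := h
  rw [D.refl_sq, ← zpow_zero D.x, D.zpow_eq_iff]
  exact ⟨m, by ring⟩

theorem refl_sq_odd {i : ℤ} (h : ¬ 2 ∣ i) :
    D.x ^ i * D.y * (D.x ^ i * D.y) = D.x ^ (4 * (D.q : ℤ)) := by
  rw [D.refl_sq, D.zpow_eq_iff]
  exact ⟨(i - 1) / 2, by
    have : i - 1 = 2 * ((i - 1) / 2) := (Int.mul_ediv_cancel' (by omega)).symm
    linear_combination (4 * (D.q : ℤ)) * this⟩

theorem refl_invol_iff {i : ℤ} : orderOf (D.x ^ i * D.y) = 2 ↔ 2 ∣ i := by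
  refine ⟨fun h => ?_, fun h => CfsgLib.Invol.orderOf_eq_two (D.refl_sq_even h) (D.ne_one i)⟩
  by_contra hi
  have := D.refl_sq_odd hi
  rw [CfsgLib.Invol.mul_self_eq_one h, ← zpow_zero D.x, D.zpow_eq_iff] at this
  obtain ⟨c, hc⟩ := this
  have := D.q_pos
  have h2 : (D.q : ℤ) * (2 * c + 1) = 0 := by linarith
  rcases mul_eq_zero.1 h2 with h3 | h3 <;> omega

/-- The central involution. -/
def z : S := D.x ^ (4 * (D.q : ℤ))

theorem z_sq : D.z * D.z = 1 := by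
  rw [z, ← zpow_add, ← zpow_zero D.x, D.zpow_eq_iff]; exact ⟨1, by ring⟩

theorem z_ne_one : D.z ≠ 1 := by
  rw [z, ← zpow_zero D.x, Ne, D.zpow_eq_iff]
  rintro ⟨c, hc⟩
  have := D.q_pos
  have h2 : (D.q : ℤ) * (2 * c - 1) = 0 := by linarith
  rcases mul_eq_zero.1 h2 with h3 | h3 <;> omega

theorem orderOf_z : orderOf D.z = 2 := CfsgLib.Invol.orderOf_eq_two D.z_sq D.z_ne_one

theorem z_comm (g : S) : g * D.z = D.z * g := by
  rcases D.cases g with ⟨i, rfl⟩ | ⟨i, rfl⟩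
  · exact ((Commute.refl D.x).zpow_zpow _ _).eq
  · have hy : D.y * D.z = D.z * D.y := by
      rw [z, D.y_mul, D.refl_eq_iff]
      exact ⟨2 * (D.q : ℤ) - 1, by ring⟩
    rw [mul_assoc, hy, ← mul_assoc, ← mul_assoc]
    congr 1
    exact ((Commute.refl D.x).zpow_zpow _ _).eq

theorem z_mem_center : D.z ∈ center S := mem_center_iff.2 D.z_comm

theorem invol_cases {g : S} (hg : orderOf g = 2) : g = D.z ∨ ∃ i : ℤ, 2 ∣ i ∧ g = D.x ^ i * D.y := by
  rcases D.cases g with ⟨i, rfl⟩ | ⟨i, rfl⟩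
  · left
    have h := CfsgLib.Invol.mul_self_eq_one hg
    have h' := CfsgLib.Invol.ne_one hg
    rw [← zpow_add, ← zpow_zero D.x, D.zpow_eq_iff] at h
    rw [← zpow_zero D.x, Ne, D.zpow_eq_iff] at h'
    rw [z, D.zpow_eq_iff]
    obtain ⟨c, hc⟩ := h
    have hi : i = 4 * (D.q : ℤ) * c := by linarith
    rcases Int.even_or_odd c with ⟨d, rfl⟩ | ⟨d, rfl⟩
    · exact absurd ⟨d, by rw [hi]; ring⟩ h'
    · exact ⟨d, by rw [hi]; ring⟩
  · exact Or.inr ⟨i, D.refl_invol_iff.1 hg, rfl⟩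

theorem rot_commute_iff {i j : ℤ} :
    Commute (D.x ^ j) (D.x ^ i * D.y) ↔ D.x ^ j = 1 ∨ D.x ^ j = D.z := by
  constructor
  · intro h
    have e : D.x ^ j * (D.x ^ i * D.y) * (D.x ^ j)⁻¹ = D.x ^ i * D.y := by
      rw [h.eq, mul_inv_cancel_right]
    rw [D.refl_conj_rot, D.refl_eq_iff] at e
    obtain ⟨c, hc⟩ := e
    obtain ⟨d, hd⟩ := D.unit_sq
    -- `4q ∣ j`
    have hj : j = 4 * (D.q : ℤ) * (c * (1 - 2 * (D.q : ℤ)) - d * j) := by
      linear_combination (-j) * hd + (1 - 2 * (D.q : ℤ)) * (by linarith : (1 - 2 * (D.q : ℤ)) * j = 4 * (D.q : ℤ) * c)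
    rcases Int.even_or_odd (c * (1 - 2 * (D.q : ℤ)) - d * j) with ⟨m, hm⟩ | ⟨m, hm⟩
    · exact Or.inl (by rw [← zpow_zero D.x, D.zpow_eq_iff]; exact ⟨m, by rw [hj, hm]; ring⟩)
    · exact Or.inr (by rw [z, D.zpow_eq_iff]; exact ⟨m, by rw [hj, hm]; ring⟩)
  · rintro (h | h) <;> rw [h]
    · exact Commute.one_left _
    · exact (D.z_comm _).symm

theorem refl_centralizer {i : ℤ} {g : S} (hg : Commute g (D.x ^ i * D.y)) :
    g = 1 ∨ g = D.z ∨ g = D.x ^ i * D.y ∨ g = D.z * (D.x ^ i * D.y) := by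
  rcases D.cases g with ⟨j, rfl⟩ | ⟨j, rfl⟩
  · rcases D.rot_commute_iff.1 hg with h | h
    · exact Or.inl h
    · exact Or.inr (Or.inl h)
  · have e : D.x ^ j * D.y = D.x ^ (j - i) * (D.x ^ i * D.y) := by
      rw [← mul_assoc, ← zpow_add, sub_add_cancel]
    rw [e] at hg ⊢
    have h : Commute (D.x ^ (j - i)) (D.x ^ i * D.y) := by
      have h2 := hg.mul_left (Commute.refl (D.x ^ i * D.y)).inv_left
      rwa [mul_inv_cancel_right] at h2
    rcases D.rot_commute_iff.1 h with h' | h' <;> rw [h']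
    · exact Or.inr (Or.inr (Or.inl (one_mul _)))
    · exact Or.inr (Or.inr (Or.inr rfl))

theorem center_eq : center S = zpowers D.z := by
  refine le_antisymm (fun g hg => ?_) (zpowers_le.2 D.z_mem_center)
  rcases D.cases g with ⟨j, rfl⟩ | ⟨i, rfl⟩
  · rcases D.rot_commute_iff.1 (mem_center_iff.1 hg (D.x ^ (0 : ℤ) * D.y)).symm with e | e <;> rw [e]
    · exact one_mem _
    · exact mem_zpowers _
  · exfalso
    have h := D.rot_commute_iff.1 (mem_center_iff.1 hg (D.x ^ (1 : ℤ)) : Commute (D.x ^ (1 : ℤ)) (D.x ^ i * D.y))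
    have := D.q_pos
    rw [zpow_one] at h
    rcases h with e | e <;> have h' := congrArg orderOf e <;>
      simp only [D.hx, orderOf_one, D.orderOf_z] at h' <;> omega

theorem card_center (D : Data S) : Nat.card (center S) = 2 := by
  rw [D.center_eq, Nat.card_zpowers, D.orderOf_z]

theorem x_ne_one : D.x ≠ 1 := fun h => by
  have := congrArg orderOf h
  rw [D.hx, orderOf_one] at this
  omega

theorem orderOf_zpow_dvd (e : ℤ) (m : ℕ) (hm : e * m = 8 * (D.q : ℤ)) (hm0 : m ≠ 0) (he : 0 < e) :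
    orderOf (D.x ^ e) = m := by
  obtain ⟨a, rfl⟩ := Int.eq_ofNat_of_zero_le he.le
  rw [zpow_natCast, orderOf_pow' _ (by omega), D.hx]
  have h : a * m = 8 * D.q := by exact_mod_cast hm
  rw [← h, Nat.gcd_eq_right (dvd_mul_right a m), Nat.mul_div_cancel_left _ (by omega)]

/-! ### Conjugacy classes of elements of order two and four -/

/-- The rotation of order four. -/
def w : S := D.x ^ (2 * (D.q : ℤ))

theorem w_sq : D.w * D.w = D.z := by rw [w, z, ← zpow_add]; congr 1; ring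

theorem orderOf_w : orderOf D.w = 4 := by
  have := D.q_pos
  exact D.orderOf_zpow_dvd _ 4 (by push_cast; ring) (by omega) (by omega)

theorem w_inv_eq : D.w⁻¹ = D.w * D.z := by
  rw [inv_eq_iff_mul_eq_one, ← mul_assoc, D.w_sq, D.z_sq]

theorem refl_four_iff {i : ℤ} : orderOf (D.x ^ i * D.y) = 4 ↔ ¬ 2 ∣ i := by
  haveI : Fact (Nat.Prime 2) := ⟨Nat.prime_two⟩
  constructor
  · intro h hi
    have := D.refl_invol_iff.2 hi
    omega
  · intro hi
    have h2 := D.refl_sq_odd hi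
    show orderOf (D.x ^ i * D.y) = 2 ^ (1 + 1)
    refine orderOf_eq_prime_pow ?_ ?_
    · rw [pow_one, sq, h2]
      exact D.z_ne_one
    · rw [show 2 ^ (1 + 1) = 2 * 2 from rfl, pow_mul, sq, sq, h2]
      exact D.z_sq

theorem four_cases {g : S} (hg : orderOf g = 4) :
    g = D.w ∨ g = D.w⁻¹ ∨ ∃ i : ℤ, ¬ 2 ∣ i ∧ g = D.x ^ i * D.y := by
  rcases D.cases g with ⟨i, rfl⟩ | ⟨i, rfl⟩
  · have h4 : D.x ^ (4 * i) = 1 := by
      rw [mul_comm, zpow_mul, show (4 : ℤ) = ((4 : ℕ) : ℤ) from rfl, zpow_natCast, ← hg, pow_orderOf_eq_one]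
    have h2 : D.x ^ (2 * i) ≠ 1 := by
      rw [mul_comm, zpow_mul, show (2 : ℤ) = ((2 : ℕ) : ℤ) from rfl, zpow_natCast]
      exact fun h => by have := orderOf_le_of_pow_eq_one two_pos h; omega
    rw [← zpow_zero D.x, D.zpow_eq_iff] at h4
    rw [← zpow_zero D.x, Ne, D.zpow_eq_iff] at h2
    obtain ⟨c, hc⟩ := h4
    have hi : i = 2 * (D.q : ℤ) * c := by linarith
    rcases Int.even_or_odd c with ⟨d, rfl⟩ | ⟨d, rfl⟩
    · exact absurd ⟨d, by rw [hi]; ring⟩ h2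
    · rcases Int.even_or_odd d with ⟨e, rfl⟩ | ⟨e, rfl⟩
      · exact Or.inl (by rw [w, D.zpow_eq_iff]; exact ⟨e, by rw [hi]; ring⟩)
      · exact Or.inr (Or.inl (by rw [w, ← zpow_neg, D.zpow_eq_iff]; exact ⟨e + 1, by rw [hi]; ring⟩))
  · exact Or.inr (Or.inr ⟨i, D.refl_four_iff.1 hg, rfl⟩)

theorem y_conj_w : D.y * D.w * D.y⁻¹ = D.w⁻¹ := by
  rw [w, D.y_conj, ← zpow_neg, D.zpow_eq_iff]
  exact ⟨(D.q : ℤ), by ring⟩

theorem refl_conj_w (i : ℤ) : (D.x ^ i * D.y) * D.w * (D.x ^ i * D.y)⁻¹ = D.w⁻¹ := by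
  rw [show (D.x ^ i * D.y) * D.w * (D.x ^ i * D.y)⁻¹ = D.x ^ i * (D.y * D.w * D.y⁻¹) * (D.x ^ i)⁻¹ by group,
    D.y_conj_w, w, ← zpow_neg, ← zpow_neg, ← zpow_add, ← zpow_add]
  congr 1; ring

theorem not_isConj_z {g : S} (hg : g ≠ D.z) : ¬ IsConj D.z g := fun h => by
  obtain ⟨s, hs⟩ := isConj_iff.1 h
  rw [D.z_comm s, mul_inv_cancel_right] at hs
  exact hg hs.symm

theorem not_isConj_w {i : ℤ} : ¬ IsConj D.w (D.x ^ i * D.y) := fun h => by
  obtain ⟨s, hs⟩ := isConj_iff.1 h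
  haveI := Subgroup.normal_of_index_eq_two D.index_rot
  refine D.ne_rot i (2 * (D.q : ℤ)) ?_
  rcases D.cases s with ⟨j, rfl⟩ | ⟨j, rfl⟩
  · rw [w, ((Commute.refl D.x).zpow_zpow _ _).eq, mul_inv_cancel_right] at hs
    exact hs.symm
  · rw [D.refl_conj_w, w, ← zpow_neg] at hs
    exact absurd hs.symm (D.ne_rot i _)

theorem ne_z (i : ℤ) : D.x ^ i * D.y ≠ D.z := D.ne_rot i _

/-! ### Klein four-subgroups -/

theorem klein_structure {T : Subgroup S} (hT : IsKleinFour T) :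
    ∃ i : ℤ, 2 ∣ i ∧ (T : Set S) = {1, D.z, D.x ^ i * D.y, D.z * (D.x ^ i * D.y)} := by
  have hinv : ∀ t : T, t ≠ 1 → orderOf (t : S) = 2 := fun t ht => by
    haveI := hT
    rw [Subgroup.orderOf_coe]
    exact CfsgLib.Invol.orderOf_eq_two (IsKleinFour.mul_self t) ht
  obtain ⟨i, hi, hmem⟩ : ∃ i : ℤ, 2 ∣ i ∧ D.x ^ i * D.y ∈ T := by
    by_contra hcon
    push Not at hcon
    have hle : T ≤ zpowers D.z := fun t ht => by
      by_cases h1 : (⟨t, ht⟩ : T) = 1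
      · rw [show t = 1 from congrArg Subtype.val h1]; exact one_mem _
      rcases D.invol_cases (hinv _ h1) with e | ⟨i, hi, e⟩
      · rw [show t = D.z from e]; exact mem_zpowers _
      · exact absurd (show D.x ^ i * D.y ∈ T from (show t = _ from e) ▸ ht) (hcon i hi)
    have h4 := Subgroup.card_le_of_le hle
    rw [Nat.card_zpowers, D.orderOf_z, hT.card_four] at h4
    omega
  refine ⟨i, hi, Set.eq_of_subset_of_ncard_le (fun t ht => ?_) ?_ (by simp)⟩
  · have hc : Commute t (D.x ^ i * D.y) := congrArg Subtype.val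
      (show (⟨t, ht⟩ : T) * ⟨_, hmem⟩ = ⟨_, hmem⟩ * ⟨t, ht⟩ from setLike_mul_comm' hT ⟨t, ht⟩ ⟨_, hmem⟩)
    simpa using D.refl_centralizer hc
  · rw [← Nat.card_coe_set_eq (T : Set S), show Nat.card ↑(T : Set S) = 4 from hT.card_four]
    refine (Set.ncard_insert_le _ _).trans ?_
    have h1 := Set.ncard_insert_le D.z {D.x ^ i * D.y, D.z * (D.x ^ i * D.y)}
    have h2 := Set.ncard_insert_le (D.x ^ i * D.y) {D.z * (D.x ^ i * D.y)}
    simp only [Set.ncard_singleton] at h2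
    omega
where
  setLike_mul_comm' {T : Subgroup S} (hT : IsKleinFour T) (a b : T) : a * b = b * a :=
    mul_comm_of_exponent_two hT.exponent_two a b

theorem klein_conj (D : Data S) {T₁ T₂ : Subgroup S} (h₁ : IsKleinFour T₁) (h₂ : IsKleinFour T₂) :
    ∃ s : S, T₁.map (MulAut.conj s).toMonoidHom = T₂ := by
  obtain ⟨i, hi, e₁⟩ := D.klein_structure h₁
  obtain ⟨j, hj, e₂⟩ := D.klein_structure h₂
  obtain ⟨s, -, hs⟩ := D.refl_conj (dvd_sub hi hj)
  refine ⟨s, Subgroup.eq_of_le_of_card_ge ?_ (le_of_eq ?_)⟩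
  · rintro _ ⟨t, ht, rfl⟩
    rw [e₁] at ht
    rw [← SetLike.mem_coe, e₂]
    simp only [Set.mem_insert_iff, Set.mem_singleton_iff] at ht ⊢
    show s * t * s⁻¹ = _ ∨ s * t * s⁻¹ = _ ∨ s * t * s⁻¹ = _ ∨ s * t * s⁻¹ = _
    rcases ht with rfl | rfl | rfl | rfl
    · exact Or.inl (by group)
    · exact Or.inr (Or.inl (by rw [D.z_comm, mul_inv_cancel_right]))
    · exact Or.inr (Or.inr (Or.inl hs))
    · exact Or.inr (Or.inr (Or.inr (by rw [← mul_assoc s, D.z_comm s, ← hs]; group)))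
  · rw [card_map_of_injective (f := (MulAut.conj s).toMonoidHom) (MulAut.conj s).injective,
      h₁.card_four, h₂.card_four]

theorem klein_centralizer (D : Data S) {T : Subgroup S} (hT : IsKleinFour T) :
    centralizer (T : Set S) = T ∧ T.relIndex (normalizer (T : Set S)) = 2 := by
  obtain ⟨i, hi, e⟩ := D.klein_structure hT
  have hmem : ∀ t : S, t ∈ T ↔ t = 1 ∨ t = D.z ∨ t = D.x ^ i * D.y ∨ t = D.z * (D.x ^ i * D.y) := fun t => by
    rw [← SetLike.mem_coe, e]; simp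
  have hg : D.x ^ i * D.y ∈ T := (hmem _).2 (by simp)
  have hC : centralizer (T : Set S) = T := by
    refine le_antisymm (fun t ht => (hmem t).2 (D.refl_centralizer (mem_centralizer_iff.1 ht _ hg).symm)) fun t ht => ?_
    exact mem_centralizer_iff.2 fun u hu =>
      congrArg Subtype.val (mul_comm_of_exponent_two hT.exponent_two (⟨u, hu⟩ : T) ⟨t, ht⟩)
  refine ⟨hC, ?_⟩
  have hfix : ∀ {b : S}, b ∈ T ↔ b * (D.x ^ i * D.y) * b⁻¹ = D.x ^ i * D.y := by
    intro b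
    refine ⟨fun hb => ?_, fun hb => (hmem b).2 (D.refl_centralizer (mul_inv_eq_iff_eq_mul.1 hb))⟩
    rw [← hC] at hb
    rw [← mem_centralizer_iff.1 hb _ hg, mul_inv_cancel_right]
  have hflip : D.w * (D.x ^ i * D.y) * D.w⁻¹ = D.z * (D.x ^ i * D.y) := by
    rw [w, D.refl_conj_rot, z, ← mul_assoc (D.x ^ (4 * (D.q : ℤ))), ← zpow_add, D.refl_eq_iff]
    exact ⟨-(D.q : ℤ), by ring⟩
  have hwN : D.w ∈ normalizer (T : Set S) := by
    refine mem_normalizer_iff_map_conj_eq.2 (Subgroup.eq_of_le_of_card_ge ?_ ?_)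
    · rintro _ ⟨t, ht, rfl⟩
      show D.w * t * D.w⁻¹ ∈ T
      rw [hmem]
      rcases (hmem t).1 ht with rfl | rfl | rfl | rfl
      · exact Or.inl (by group)
      · exact Or.inr (Or.inl (by rw [D.z_comm, mul_inv_cancel_right]))
      · exact Or.inr (Or.inr (Or.inr hflip))
      · exact Or.inr (Or.inr (Or.inl (by
          rw [← mul_assoc D.w, D.z_comm D.w, mul_assoc D.z D.w, mul_assoc D.z (D.w * _) _, hflip,
            ← mul_assoc, D.z_sq, one_mul])))
    · exact (card_map_of_injective (f := (MulAut.conj D.w).toMonoidHom) (MulAut.conj D.w).injective).ge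
  rw [relIndex, index_eq_two_iff]
  refine ⟨⟨D.w, hwN⟩, fun ⟨b, hb⟩ => ?_⟩
  simp only [mem_subgroupOf, Subgroup.coe_mul]
  have e' : b * D.w * (D.x ^ i * D.y) * (b * D.w)⁻¹ = D.z * (b * (D.x ^ i * D.y) * b⁻¹) := by
    calc b * D.w * (D.x ^ i * D.y) * (b * D.w)⁻¹ = b * (D.w * (D.x ^ i * D.y) * D.w⁻¹) * b⁻¹ := by group
      _ = b * D.z * (D.x ^ i * D.y) * b⁻¹ := by rw [hflip]; group
      _ = D.z * b * (D.x ^ i * D.y) * b⁻¹ := by rw [D.z_comm]
      _ = _ := by group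
  have hbg : b * (D.x ^ i * D.y) * b⁻¹ ∈ T := (mem_normalizer_iff.1 hb _).1 hg
  show Xor (b * D.w ∈ T) (b ∈ T)
  rw [hfix, hfix, e']
  rcases (hmem _).1 hbg with h | h | h | h
  · exact absurd (conj_eq_one_iff.1 h) (D.ne_one i)
  · refine absurd ?_ (D.ne_z i)
    calc D.x ^ i * D.y = b⁻¹ * (b * (D.x ^ i * D.y) * b⁻¹) * b := by group
      _ = b⁻¹ * D.z * b := by rw [h]
      _ = D.z := by rw [D.z_comm, mul_assoc, inv_mul_cancel, mul_one]
  · rw [h]
    exact Or.inr ⟨rfl, fun h' => D.z_ne_one (mul_eq_right.1 h')⟩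
  · rw [h]
    exact Or.inl ⟨by rw [← mul_assoc, D.z_sq, one_mul], fun h' => D.z_ne_one (mul_eq_right.1 h')⟩

/-! ### Quaternion subgroups of order eight -/

theorem quaternion_structure {Q : Subgroup S} (hQ : Nonempty (Q ≃* QuaternionGroup 2)) :
    ∃ i : ℤ, ¬ 2 ∣ i ∧ (Q : Set S) = {1, D.z, D.w, D.w⁻¹, D.x ^ i * D.y, D.z * (D.x ^ i * D.y),
      D.w * (D.x ^ i * D.y), D.w⁻¹ * (D.x ^ i * D.y)} := by
  obtain ⟨e⟩ := hQ
  haveI : NeZero 2 := ⟨two_ne_zero⟩
  have hcard : Nat.card Q = 8 := by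
    rw [Nat.card_congr e.toEquiv, Nat.card_eq_fintype_card, QuaternionGroup.card]
  have hfour : ∀ a ∈ Q, a = 1 ∨ orderOf a = 2 ∨ orderOf a = 4 := by
    intro a ha
    have h : ∀ c : QuaternionGroup 2, c = 1 ∨ (c * c = 1 ∧ c ≠ 1) ∨ (c * c * (c * c) = 1 ∧ c * c ≠ 1) := by decide
    rcases h (e ⟨a, ha⟩) with h | ⟨h, h'⟩ | ⟨h, h'⟩
    · exact Or.inl (congrArg Subtype.val (e.injective (h.trans (map_one e).symm)))
    · right; left
      rw [← Subgroup.orderOf_mk (H := Q) a ha, ← MulEquiv.orderOf_eq e]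
      exact CfsgLib.Invol.orderOf_eq_two h h'
    · right; right
      haveI : Fact (Nat.Prime 2) := ⟨Nat.prime_two⟩
      rw [← Subgroup.orderOf_mk (H := Q) a ha, ← MulEquiv.orderOf_eq e]
      exact orderOf_eq_prime_pow (p := 2) (n := 1) (by rw [pow_one, sq]; exact h')
        (by rw [show 2 ^ (1 + 1) = 2 * 2 from rfl, pow_mul, sq, sq]; exact h)
  have huniq : ∀ a ∈ Q, ∀ b ∈ Q, orderOf a = 2 → orderOf b = 2 → a = b := by
    intro a ha b hb ha2 hb2
    have h : ∀ c d : QuaternionGroup 2, c * c = 1 → c ≠ 1 → d * d = 1 → d ≠ 1 → c = d := by decide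
    refine congrArg Subtype.val (e.injective (h (e ⟨a, ha⟩) (e ⟨b, hb⟩) ?_ ?_ ?_ ?_))
    · rw [← map_mul, show (⟨a, ha⟩ : Q) * ⟨a, ha⟩ = 1 from Subtype.ext (CfsgLib.Invol.mul_self_eq_one ha2), map_one]
    · exact fun h => CfsgLib.Invol.ne_one ha2 (congrArg Subtype.val (e.injective (h.trans (map_one e).symm)))
    · rw [← map_mul, show (⟨b, hb⟩ : Q) * ⟨b, hb⟩ = 1 from Subtype.ext (CfsgLib.Invol.mul_self_eq_one hb2), map_one]
    · exact fun h => CfsgLib.Invol.ne_one hb2 (congrArg Subtype.val (e.injective (h.trans (map_one e).symm)))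
  -- an element of order four outside the rotations
  obtain ⟨i, hi, hmem⟩ : ∃ i : ℤ, ¬ 2 ∣ i ∧ D.x ^ i * D.y ∈ Q := by
    by_contra hcon
    push Not at hcon
    have hle : (Q : Set S) ⊆ insert 1 (insert D.w (insert D.w⁻¹ ({a | a ∈ Q ∧ orderOf a = 2}))) := by
      intro a ha
      rcases hfour a ha with h | h | h
      · exact Or.inl h
      · exact Or.inr (Or.inr (Or.inr ⟨ha, h⟩))
      · rcases D.four_cases h with h' | h' | ⟨i, hi, rfl⟩
        · exact Or.inr (Or.inl h')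
        · exact Or.inr (Or.inr (Or.inl h'))
        · exact absurd ha (hcon i hi)
    have h1 : Set.ncard {a | a ∈ Q ∧ orderOf a = 2} ≤ 1 :=
      (Set.ncard_le_one_iff (Set.toFinite _)).2 fun {a b} ha hb => huniq a ha.1 b hb.1 ha.2 hb.2
    have h2 := Set.ncard_le_ncard hle (Set.toFinite _)
    rw [← Nat.card_coe_set_eq (Q : Set S), show Nat.card ↑(Q : Set S) = 8 from hcard] at h2
    have h3 := Set.ncard_insert_le (1 : S) (insert D.w (insert D.w⁻¹ {a | a ∈ Q ∧ orderOf a = 2}))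
    have h4 := Set.ncard_insert_le D.w (insert D.w⁻¹ {a | a ∈ Q ∧ orderOf a = 2})
    have h5 := Set.ncard_insert_le D.w⁻¹ {a | a ∈ Q ∧ orderOf a = 2}
    omega
  have hz : D.z ∈ Q := by rw [z, ← D.refl_sq_odd hi]; exact mul_mem hmem hmem
  refine ⟨i, hi, Set.eq_of_subset_of_ncard_le (fun a ha => ?_) ?_ (by simp)⟩
  · simp only [Set.mem_insert_iff, Set.mem_singleton_iff]
    have hz2 : ∀ b ∈ Q, orderOf b = 2 → b = D.z := fun b hb h => huniq b hb D.z hz h D.orderOf_z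
    rcases hfour a ha with h | h | h
    · exact Or.inl h
    · exact Or.inr (Or.inl (hz2 a ha h))
    rcases D.four_cases h with h' | h' | ⟨j, hj, rfl⟩
    · exact Or.inr (Or.inr (Or.inl h'))
    · exact Or.inr (Or.inr (Or.inr (Or.inl h')))
    · -- the quotient of two reflections is a rotation in `Q`
      have e : D.x ^ j * D.y = D.x ^ (j - i) * (D.x ^ i * D.y) := by
        rw [← mul_assoc, ← zpow_add, sub_add_cancel]
      have hr : D.x ^ (j - i) ∈ Q := by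
        rw [eq_mul_inv_of_mul_eq e.symm]; exact mul_mem ha (inv_mem hmem)
      rw [e]
      rcases hfour _ hr with h1 | h1 | h1
      · rw [h1, one_mul]; simp
      · rw [hz2 _ hr h1]; simp
      · rcases D.four_cases h1 with h2 | h2 | ⟨l, -, h2⟩
        · rw [h2]; simp
        · rw [h2]; simp
        · exact absurd h2.symm (D.ne_rot l _)
  · rw [← Nat.card_coe_set_eq (Q : Set S), show Nat.card ↑(Q : Set S) = 8 from hcard]
    have c1 := Set.ncard_singleton (D.w⁻¹ * (D.x ^ i * D.y))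
    have c2 := Set.ncard_insert_le (D.w * (D.x ^ i * D.y)) {D.w⁻¹ * (D.x ^ i * D.y)}
    have c3 := Set.ncard_insert_le (D.z * (D.x ^ i * D.y)) {D.w * (D.x ^ i * D.y), D.w⁻¹ * (D.x ^ i * D.y)}
    have c4 := Set.ncard_insert_le (D.x ^ i * D.y) {D.z * (D.x ^ i * D.y), D.w * (D.x ^ i * D.y), D.w⁻¹ * (D.x ^ i * D.y)}
    refine (Set.ncard_insert_le _ _).trans (Nat.add_le_add_right (m := 7) ?_ _)
    refine (Set.ncard_insert_le _ _).trans (Nat.add_le_add_right (m := 6) ?_ _)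
    refine (Set.ncard_insert_le _ _).trans (Nat.add_le_add_right (m := 5) ?_ _)
    refine (Set.ncard_insert_le _ _).trans (Nat.add_le_add_right (m := 4) ?_ _)
    omega

theorem quaternion_conj (D : Data S) {Q₁ Q₂ : Subgroup S} (h₁ : Nonempty (Q₁ ≃* QuaternionGroup 2))
    (h₂ : Nonempty (Q₂ ≃* QuaternionGroup 2)) : ∃ s : S, Q₁.map (MulAut.conj s).toMonoidHom = Q₂ := by
  obtain ⟨i, hi, e₁⟩ := D.quaternion_structure h₁
  obtain ⟨j, hj, e₂⟩ := D.quaternion_structure h₂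
  obtain ⟨s, hsA, hs⟩ := D.refl_conj (i := i) (j := j) (by omega)
  obtain ⟨c, rfl⟩ := mem_zpowers_iff.1 hsA
  have hw : D.x ^ c * D.w * (D.x ^ c)⁻¹ = D.w := by
    rw [w, ((Commute.refl D.x).zpow_zpow _ _).eq, mul_inv_cancel_right]
  have hs' : ∀ b : S, D.x ^ c * (b * (D.x ^ i * D.y)) * (D.x ^ c)⁻¹ =
      D.x ^ c * b * (D.x ^ c)⁻¹ * (D.x ^ j * D.y) := fun b => by rw [← hs]; group
  refine ⟨D.x ^ c, Subgroup.eq_of_le_of_card_ge ?_ (le_of_eq ?_)⟩
  · rintro _ ⟨t, ht, rfl⟩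
    rw [e₁] at ht
    rw [← SetLike.mem_coe, e₂]
    simp only [Set.mem_insert_iff, Set.mem_singleton_iff] at ht ⊢
    rw [show (MulAut.conj (D.x ^ c)).toMonoidHom t = D.x ^ c * t * (D.x ^ c)⁻¹ from rfl]
    have hwi : D.x ^ c * D.w⁻¹ * (D.x ^ c)⁻¹ = D.w⁻¹ := by rw [← conj_inv, hw]
    have hzc : D.x ^ c * D.z * (D.x ^ c)⁻¹ = D.z := by rw [D.z_comm, mul_inv_cancel_right]
    rcases ht with rfl | rfl | rfl | rfl | rfl | rfl | rfl | rfl
    · simp
    · rw [hzc]; simp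
    · rw [hw]; simp
    · rw [hwi]; simp
    · rw [hs]; simp
    · rw [hs', hzc]; simp
    · rw [hs', hw]; simp
    · rw [hs', hwi]; simp
  · rw [card_map_of_injective (f := (MulAut.conj (D.x ^ c)).toMonoidHom) (MulAut.conj (D.x ^ c)).injective,
      Nat.card_congr h₁.some.toEquiv, Nat.card_congr h₂.some.toEquiv]

theorem quaternion_centralizer (D : Data S) {Q : Subgroup S} (hQ : Nonempty (Q ≃* QuaternionGroup 2)) :
    centralizer (Q : Set S) = (center Q).map Q.subtype ∧ Q.relIndex (normalizer (Q : Set S)) = 2 := by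
  obtain ⟨i, hi, e⟩ := D.quaternion_structure hQ
  set h := D.x ^ i * D.y with hh
  have hmem : ∀ t : S, t ∈ Q ↔ t = 1 ∨ t = D.z ∨ t = D.w ∨ t = D.w⁻¹ ∨ t = h ∨ t = D.z * h ∨
      t = D.w * h ∨ t = D.w⁻¹ * h := fun t => by rw [← SetLike.mem_coe, e]; simp
  have hhQ : h ∈ Q := (hmem _).2 (by simp)
  have hwQ : D.w ∈ Q := (hmem _).2 (by simp)
  have hzQ : D.z ∈ Q := (hmem _).2 (by simp)
  have hwh : D.w * h * D.w⁻¹ = D.z * h := by
    rw [hh, w, D.refl_conj_rot, z, ← mul_assoc (D.x ^ (4 * (D.q : ℤ))), ← zpow_add, D.refl_eq_iff]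
    exact ⟨-(D.q : ℤ), by ring⟩
  refine ⟨le_antisymm (fun t ht => ?_) ?_, ?_⟩
  · have h1 := D.refl_centralizer (mem_centralizer_iff.1 ht _ hhQ).symm
    have htw := mem_centralizer_iff.1 ht _ hwQ
    have htz : t = 1 ∨ t = D.z := by
      have hno : ∀ c : S, Commute c D.w → D.w * (c * h) ≠ c * h * D.w := fun c hc hw2 => by
        rw [← mul_assoc, ← hc.eq, mul_assoc, mul_assoc] at hw2
        have := mul_inv_eq_iff_eq_mul.2 (mul_left_cancel hw2)
        rw [hwh] at this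
        exact D.z_ne_one (mul_eq_right.1 this)
      rcases h1 with h1 | h1 | h1 | h1
      · exact Or.inl h1
      · exact Or.inr h1
      · exact absurd (show D.w * (1 * h) = 1 * h * D.w by rw [one_mul, hh, ← h1]; exact htw) (hno 1 (Commute.one_left _))
      · exact absurd (h1 ▸ htw) (hno D.z (D.z_comm D.w).symm)
    have htQ : t ∈ Q := by rcases htz with rfl | rfl; exacts [one_mem Q, hzQ]
    refine ⟨⟨t, htQ⟩, mem_center_iff.2 fun u => Subtype.ext ?_, rfl⟩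
    exact mem_centralizer_iff.1 ht u u.2
  · rintro _ ⟨c, hc, rfl⟩
    exact mem_centralizer_iff.2 fun u hu => congrArg Subtype.val (mem_center_iff.1 hc ⟨u, hu⟩)
  · set v := D.x ^ ((D.q : ℤ)) with hv
    have hvh : v * h * v⁻¹ = D.x ^ (2 * (D.q : ℤ) * (1 - 2 * (D.q : ℤ))) * h := by
      rw [hv, hh, D.refl_conj_rot, ← mul_assoc (D.x ^ (2 * (D.q : ℤ) * (1 - 2 * (D.q : ℤ)))), ← zpow_add]
      congr 2; ring
    have hww : D.x ^ (2 * (D.q : ℤ) * (1 - 2 * (D.q : ℤ))) = D.w ∨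
        D.x ^ (2 * (D.q : ℤ) * (1 - 2 * (D.q : ℤ))) = D.w⁻¹ := by
      rcases Nat.even_or_odd D.q with ⟨a, ha⟩ | ⟨a, ha⟩
      · left
        rw [w, D.zpow_eq_iff]
        exact ⟨-(a : ℤ), by push_cast [ha]; ring⟩
      · right
        rw [w, ← zpow_neg, D.zpow_eq_iff]
        exact ⟨-(a : ℤ), by push_cast [ha]; ring⟩
    have hvQ : D.x ^ (2 * (D.q : ℤ) * (1 - 2 * (D.q : ℤ))) ∈ Q := by
      rcases hww with e' | e' <;> rw [e']
      exacts [hwQ, inv_mem hwQ]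
    have hvw : v * D.w * v⁻¹ = D.w := by
      rw [hv, w, ((Commute.refl D.x).zpow_zpow _ _).eq, mul_inv_cancel_right]
    have hvh' : ∀ b : S, v * (b * h) * v⁻¹ = v * b * v⁻¹ * (v * h * v⁻¹) := fun b => by group
    have hvN : v ∈ normalizer (Q : Set S) := by
      refine mem_normalizer_iff_map_conj_eq.2 (Subgroup.eq_of_le_of_card_ge ?_ ?_)
      · rintro _ ⟨t, ht, rfl⟩
        show v * t * v⁻¹ ∈ Q
        have h3 : v * h * v⁻¹ ∈ Q := by rw [hvh]; exact mul_mem hvQ hhQ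
        have h4 : v * D.w⁻¹ * v⁻¹ = D.w⁻¹ := by rw [← conj_inv, hvw]
        have h5 : v * D.z * v⁻¹ = D.z := by rw [D.z_comm, mul_inv_cancel_right]
        rcases (hmem t).1 ht with rfl | rfl | rfl | rfl | rfl | rfl | rfl | rfl
        · simp
        · rw [h5]; exact hzQ
        · rw [hvw]; exact hwQ
        · rw [h4]; exact inv_mem hwQ
        · exact h3
        · rw [hvh', h5]; exact mul_mem hzQ h3
        · rw [hvh', hvw]; exact mul_mem hwQ h3
        · rw [hvh', h4]; exact mul_mem (inv_mem hwQ) h3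
      · exact (card_map_of_injective (f := (MulAut.conj v).toMonoidHom) (MulAut.conj v).injective).ge
    -- membership in `Q` is read off from the image of `h`
    have hfix : ∀ {b : S}, b ∈ normalizer (Q : Set S) →
        (b ∈ Q ↔ b * h * b⁻¹ = h ∨ b * h * b⁻¹ = D.z * h) := by
      intro b _
      have hC : ∀ c : S, c * h * c⁻¹ = h → c ∈ Q := fun c hc => by
        rcases D.refl_centralizer (mul_inv_eq_iff_eq_mul.1 hc) with e' | e' | e' | e' <;> rw [e', hmem] <;> simp [hh]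
      refine ⟨fun hb => ?_, fun hb => hb.elim (hC b) fun hb => ?_⟩
      · have hzh : ∀ c : S, Commute c h → (c * h) * h * (c * h)⁻¹ = h := fun c hc => by
          rw [show c * h * h * (c * h)⁻¹ = c * h * c⁻¹ by group, hc.eq, mul_inv_cancel_right]
        have hwi : D.w⁻¹ * h * D.w⁻¹⁻¹ = D.z * h := by
          calc D.w⁻¹ * h * D.w⁻¹⁻¹ = D.w⁻¹ * (D.z * (D.z * h)) * D.w := by
                rw [← mul_assoc D.z D.z, D.z_sq, one_mul, inv_inv]
            _ = (D.w⁻¹ * D.z) * (D.z * h) * D.w := by group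
            _ = D.z * (D.w⁻¹ * (D.z * h) * D.w) := by rw [D.z_comm D.w⁻¹]; group
            _ = D.z * h := by rw [show D.w⁻¹ * (D.z * h) * D.w = h by rw [← hwh]; group]
        rcases (hmem b).1 hb with rfl | rfl | rfl | rfl | rfl | rfl | rfl | rfl
        · simp
        · exact Or.inl (by rw [← D.z_comm h, mul_inv_cancel_right])
        · exact Or.inr hwh
        · exact Or.inr hwi
        · exact Or.inl (by group)
        · exact Or.inl (hzh _ (D.z_comm h).symm)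
        · exact Or.inr (by rw [← hwh]; group)
        · exact Or.inr (by rw [← hwi]; group)
      · have h2 := hC (D.w * b) (by
          rw [show D.w * b * h * (D.w * b)⁻¹ = D.w * (b * h * b⁻¹) * D.w⁻¹ by group, hb,
            show D.w * (D.z * h) * D.w⁻¹ = D.w * D.z * h * D.w⁻¹ by group, D.z_comm,
            show D.z * D.w * h * D.w⁻¹ = D.z * (D.w * h * D.w⁻¹) by group, hwh, ← mul_assoc, D.z_sq, one_mul])
        rw [show b = D.w⁻¹ * (D.w * b) by group]
        exact mul_mem (inv_mem hwQ) h2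
    rw [relIndex, index_eq_two_iff]
    refine ⟨⟨v, hvN⟩, fun ⟨b, hb⟩ => ?_⟩
    simp only [mem_subgroupOf, Subgroup.coe_mul]
    show Xor (b * v ∈ Q) (b ∈ Q)
    rw [hfix hb, hfix (mul_mem hb hvN)]
    have hbh : b * h * b⁻¹ ∈ Q := (mem_normalizer_iff.1 hb _).1 hhQ
    have hord : orderOf (b * h * b⁻¹) = 4 := by
      rw [CfsgLib.Invol.orderOf_conj_eq]; exact D.refl_four_iff.2 hi
    haveI := Subgroup.normal_of_index_eq_two D.index_rot
    have hout : b * h * b⁻¹ ∉ zpowers D.x := fun h' => by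
      have h2 := (inferInstance : (zpowers D.x).Normal).conj_mem _ h' b⁻¹
      obtain ⟨l, hl⟩ := mem_zpowers_iff.1 h2
      refine D.ne_rot i l ?_
      rw [hl, hh]; group
    have hwi2 : ∀ c, c = D.w ∨ c = D.w⁻¹ → b * c * b⁻¹ = D.w ∨ b * c * b⁻¹ = D.w⁻¹ := by
      intro c hc
      rcases D.cases b with ⟨l, rfl⟩ | ⟨l, rfl⟩
      · have : Commute (D.x ^ l) c := by
          rcases hc with rfl | rfl
          · exact (Commute.refl D.x).zpow_zpow _ _
          · exact ((Commute.refl D.x).zpow_zpow _ _).inv_right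
        rw [this.eq, mul_inv_cancel_right]; exact hc
      · rcases hc with rfl | rfl
        · exact Or.inr (D.refl_conj_w l)
        · exact Or.inl (by rw [← conj_inv, D.refl_conj_w, inv_inv])
    have hbv : b * v * h * (b * v)⁻¹ = b * (D.x ^ (2 * (D.q : ℤ) * (1 - 2 * (D.q : ℤ)))) * b⁻¹ * (b * h * b⁻¹) := by
      rw [show b * v * h * (b * v)⁻¹ = b * (v * h * v⁻¹) * b⁻¹ by group, hvh]; group
    rw [hbv]
    obtain ⟨c, hc⟩ : ∃ c, b * (D.x ^ (2 * (D.q : ℤ) * (1 - 2 * (D.q : ℤ)))) * b⁻¹ = c := ⟨_, rfl⟩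
    have hcw : c = D.w ∨ c = D.w⁻¹ := hc ▸ hwi2 _ hww
    rw [hc]
    have key : ∀ d, d = D.w ∨ d = D.w⁻¹ → d * h ≠ h ∧ d * h ≠ D.z * h := by
      intro d hd
      constructor <;> intro h' <;> have h'' := mul_right_cancel (h'.trans (by first | exact (one_mul h).symm | rfl))
      all_goals
        have := congrArg orderOf h''
        rcases hd with rfl | rfl <;> simp only [orderOf_inv, D.orderOf_w, orderOf_one, D.orderOf_z] at this <;> omega
    have e1 : ∀ d, d = D.w ∨ d = D.w⁻¹ → D.w * d = 1 ∨ D.w * d = D.z := by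
      rintro d (rfl | rfl)
      exacts [Or.inr D.w_sq, Or.inl (mul_inv_cancel _)]
    have e2 : ∀ d, d = D.w ∨ d = D.w⁻¹ → D.w⁻¹ * d = 1 ∨ D.w⁻¹ * d = D.z := by
      rintro d (rfl | rfl)
      exacts [Or.inl (inv_mul_cancel _), Or.inr (by rw [← mul_inv_rev, D.w_sq, CfsgLib.Invol.inv_eq_self D.orderOf_z])]
    rcases (hmem _).1 hbh with h' | h' | h' | h' | h' | h' | h' | h'
    · rw [h', orderOf_one] at hord; omega
    · rw [h', D.orderOf_z] at hord; omega
    · exact absurd (h' ▸ zpow_mem (mem_zpowers _) _) hout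
    · exact absurd (h' ▸ inv_mem (zpow_mem (mem_zpowers _) _)) hout
    · rw [h']
      exact Or.inr ⟨Or.inl rfl, not_or.2 (key c hcw)⟩
    · rw [h']
      refine Or.inr ⟨Or.inr rfl, ?_⟩
      rw [← mul_assoc, D.z_comm c, mul_assoc]
      refine not_or.2 ⟨fun h2 => (key c hcw).2 ?_, fun h2 => (key c hcw).1 (mul_left_cancel h2)⟩
      nth_rw 2 [← h2]
      rw [← mul_assoc D.z D.z, D.z_sq, one_mul]
    · rw [h']
      refine Or.inl ⟨?_, not_or.2 (key _ (Or.inl rfl))⟩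
      rw [← mul_assoc]
      rcases hcw with rfl | rfl
      · exact Or.inr (by rw [D.w_sq])
      · exact Or.inl (by rw [inv_mul_cancel, one_mul])
    · rw [h']
      refine Or.inl ⟨?_, not_or.2 (key _ (Or.inr rfl))⟩
      rw [← mul_assoc]
      rcases hcw with rfl | rfl
      · exact Or.inl (by rw [mul_inv_cancel, one_mul])
      · exact Or.inr (by rw [← mul_inv_rev, D.w_sq, CfsgLib.Invol.inv_eq_self D.orderOf_z])

theorem card_invol_classes (D : Data S) :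
    Nat.card {C : ConjClasses S // ∃ t : S, orderOf t = 2 ∧ ConjClasses.mk t = C} = 2 := by
  have heq : {C : ConjClasses S | ∃ t : S, orderOf t = 2 ∧ ConjClasses.mk t = C} =
      {ConjClasses.mk D.z, ConjClasses.mk (D.x ^ (0 : ℤ) * D.y)} := by
    ext C
    constructor
    · rintro ⟨t, ht, rfl⟩
      rcases D.invol_cases ht with rfl | ⟨i, hi, rfl⟩
      · exact Or.inl rfl
      · obtain ⟨s, -, hs⟩ := D.refl_conj (i := i) (j := 0) (by simpa using hi)
        exact Or.inr (Set.mem_singleton_iff.2 (ConjClasses.mk_eq_mk_iff_isConj.2 (isConj_iff.2 ⟨s, hs⟩)))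
    · rintro (rfl | rfl)
      · exact ⟨_, D.orderOf_z, rfl⟩
      · exact ⟨_, D.refl_invol_iff.2 (dvd_zero 2), rfl⟩
  calc Nat.card {C : ConjClasses S // ∃ t : S, orderOf t = 2 ∧ ConjClasses.mk t = C}
      = Set.ncard {C : ConjClasses S | ∃ t : S, orderOf t = 2 ∧ ConjClasses.mk t = C} := Nat.card_coe_set_eq _
    _ = 2 := by
      rw [heq]
      exact Set.ncard_pair fun h => D.not_isConj_z (D.ne_z 0) (ConjClasses.mk_eq_mk_iff_isConj.1 h)

theorem card_four_classes (D : Data S) :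
    Nat.card {C : ConjClasses S // ∃ t : S, orderOf t = 4 ∧ ConjClasses.mk t = C} = 2 := by
  have hww : IsConj D.w⁻¹ D.w := isConj_iff.2 ⟨D.y, by rw [← conj_inv, D.y_conj_w, inv_inv]⟩
  have heq : {C : ConjClasses S | ∃ t : S, orderOf t = 4 ∧ ConjClasses.mk t = C} =
      {ConjClasses.mk D.w, ConjClasses.mk (D.x ^ (1 : ℤ) * D.y)} := by
    ext C
    constructor
    · rintro ⟨t, ht, rfl⟩
      rcases D.four_cases ht with rfl | rfl | ⟨i, hi, rfl⟩
      · exact Or.inl rfl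
      · exact Or.inl (ConjClasses.mk_eq_mk_iff_isConj.2 hww)
      · obtain ⟨s, -, hs⟩ := D.refl_conj (i := i) (j := 1) (by omega)
        exact Or.inr (Set.mem_singleton_iff.2 (ConjClasses.mk_eq_mk_iff_isConj.2 (isConj_iff.2 ⟨s, hs⟩)))
    · rintro (rfl | rfl)
      · exact ⟨_, D.orderOf_w, rfl⟩
      · exact ⟨_, D.refl_four_iff.2 (by omega), rfl⟩
  calc Nat.card {C : ConjClasses S // ∃ t : S, orderOf t = 4 ∧ ConjClasses.mk t = C}
      = Set.ncard {C : ConjClasses S | ∃ t : S, orderOf t = 4 ∧ ConjClasses.mk t = C} := Nat.card_coe_set_eq _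
    _ = 2 := by
      rw [heq]
      exact Set.ncard_pair fun h => D.not_isConj_w (ConjClasses.mk_eq_mk_iff_isConj.1 h)

/-! ### Maximal subgroups -/

/-- The subgroup `⟨x², x^ε y⟩`. -/
def half (ε : ℤ) : Subgroup S where
  carrier := {g | ∃ m : ℤ, g = D.x ^ (2 * m) ∨ g = D.x ^ (2 * m + ε) * D.y}
  one_mem' := ⟨0, Or.inl (by simp)⟩
  mul_mem' := by
    rintro a b ⟨m, rfl | rfl⟩ ⟨l, rfl | rfl⟩
    · exact ⟨m + l, Or.inl (by rw [← zpow_add, mul_add])⟩
    · exact ⟨m + l, Or.inr (by rw [← mul_assoc, ← zpow_add]; congr 2; ring)⟩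
    · exact ⟨m + (4 * (D.q : ℤ) - 1) * l, Or.inr (by
        rw [mul_assoc, D.y_mul, ← mul_assoc, ← zpow_add]; congr 2; ring)⟩
    · refine ⟨m + (4 * (D.q : ℤ) - 1) * l + 2 * (D.q : ℤ) * ε, Or.inl ?_⟩
      rw [show D.x ^ (2 * m + ε) * D.y * (D.x ^ (2 * l + ε) * D.y) =
        D.x ^ (2 * m + ε) * (D.y * D.x ^ (2 * l + ε)) * D.y by group, D.y_mul,
        show D.x ^ (2 * m + ε) * (D.x ^ ((4 * (D.q : ℤ) - 1) * (2 * l + ε)) * D.y) * D.y =
          D.x ^ (2 * m + ε) * D.x ^ ((4 * (D.q : ℤ) - 1) * (2 * l + ε)) * (D.y * D.y) by group,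
        D.yy, mul_one, ← zpow_add]
      congr 1; ring
  inv_mem' := by
    rintro a ⟨m, rfl | rfl⟩
    · exact ⟨-m, Or.inl (by rw [← zpow_neg, mul_neg])⟩
    · refine ⟨-(4 * (D.q : ℤ) - 1) * m - 2 * (D.q : ℤ) * ε, Or.inr ?_⟩
      rw [mul_inv_rev, CfsgLib.Invol.inv_eq_self D.hy, ← zpow_neg, D.y_mul]
      congr 2; ring

theorem mem_half {ε : ℤ} {g : S} :
    g ∈ D.half ε ↔ ∃ m : ℤ, g = D.x ^ (2 * m) ∨ g = D.x ^ (2 * m + ε) * D.y := Iff.rfl

theorem rot_mem_half {ε i : ℤ} : D.x ^ i ∈ D.half ε ↔ 2 ∣ i := by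
  refine ⟨fun ⟨m, h⟩ => ?_, fun ⟨m, hm⟩ => ⟨m, Or.inl (by rw [hm])⟩⟩
  rcases h with h | h
  · obtain ⟨c, hc⟩ := D.zpow_eq_iff.1 h
    exact ⟨m + 4 * (D.q : ℤ) * c, by linarith⟩
  · exact absurd h.symm (D.ne_rot _ _)

theorem refl_mem_half {ε i : ℤ} : D.x ^ i * D.y ∈ D.half ε ↔ 2 ∣ i - ε := by
  refine ⟨fun ⟨m, h⟩ => ?_, fun ⟨m, hm⟩ => ⟨m, Or.inr (by rw [show i = 2 * m + ε by linarith])⟩⟩
  rcases h with h | h
  · exact absurd h (D.ne_rot _ _)
  · obtain ⟨c, hc⟩ := D.refl_eq_iff.1 h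
    exact ⟨m + 4 * (D.q : ℤ) * c, by linarith⟩

theorem index_half (ε : ℤ) : (D.half ε).index = 2 := by
  rw [index_eq_two_iff]
  refine ⟨D.x ^ (1 : ℤ), fun b => ?_⟩
  show Xor (b * D.x ^ (1 : ℤ) ∈ D.half ε) (b ∈ D.half ε)
  rcases D.cases b with ⟨i, rfl⟩ | ⟨i, rfl⟩
  · rw [← zpow_add, D.rot_mem_half, D.rot_mem_half]
    rcases Int.even_or_odd i with ⟨m, hm⟩ | ⟨m, hm⟩
    · exact Or.inr ⟨by omega, by omega⟩
    · exact Or.inl ⟨by omega, by omega⟩
  · rw [mul_assoc, D.y_mul, ← mul_assoc, ← zpow_add, D.refl_mem_half, D.refl_mem_half]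
    rcases Int.even_or_odd (i - ε) with ⟨m, hm⟩ | ⟨m, hm⟩
    · exact Or.inr ⟨by omega, by omega⟩
    · exact Or.inl ⟨by omega, by omega⟩

theorem half_ne_rot (ε : ℤ) : D.half ε ≠ zpowers D.x := fun h => by
  have h1 : D.x ^ ε * D.y ∈ D.half ε := D.refl_mem_half.2 (by simp)
  rw [h] at h1
  obtain ⟨j, hj⟩ := mem_zpowers_iff.1 h1
  exact D.ne_rot _ _ hj.symm

theorem half_zero_ne_one : D.half 0 ≠ D.half 1 := fun h => by
  have h1 : D.x ^ (0 : ℤ) * D.y ∈ D.half 0 := D.refl_mem_half.2 (by simp)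
  rw [h, D.refl_mem_half] at h1
  omega

theorem card_index_two {M : Subgroup S} (D : Data S) (hM : M.index = 2) : Nat.card M = 8 * D.q := by
  have h := M.index_mul_card
  rw [hM, D.card_eq] at h
  linarith

theorem isCoatom_of_index_two {M : Subgroup S} (hM : M.index = 2) : IsCoatom M := by
  refine ⟨fun e => by rw [e, index_top] at hM; omega, fun K hK => ?_⟩
  rcases (Nat.dvd_prime Nat.prime_two).1 (hM ▸ index_dvd_of_le hK.le) with h | h
  · exact index_eq_one.1 h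
  · exact absurd (Subgroup.eq_of_le_of_card_ge hK.le (le_of_eq (by
      have h1 := K.index_mul_card
      rw [h, ← M.index_mul_card, hM] at h1
      linarith))) hK.ne

theorem index_two_of_isCoatom {M : Subgroup S} (D : Data S) (hM : IsCoatom M) : M.index = 2 := by
  haveI : Fact (Nat.Prime 2) := ⟨Nat.prime_two⟩
  haveI := D.isPGroup.isNilpotent
  haveI : M.Normal := NormalizerCondition.normal_of_coatom M normalizerCondition_of_isNilpotent hM
  obtain ⟨k, hk⟩ := IsPGroup.iff_card.1 (D.isPGroup.to_quotient M)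
  rcases k with _ | k
  · exact absurd (index_eq_one.1 (by rw [index_eq_card, hk, pow_zero])) hM.1
  obtain ⟨x, hx⟩ := exists_prime_orderOf_dvd_card' (G := S ⧸ M) 2 (hk ▸ dvd_pow_self 2 k.succ_ne_zero)
  have hK : M < (zpowers x).comap (QuotientGroup.mk' M) := by
    refine lt_of_le_of_ne ((QuotientGroup.ker_mk' M).ge.trans (MonoidHom.ker_le_comap _ _)) fun e => ?_
    obtain ⟨g, hg⟩ := QuotientGroup.mk'_surjective M x
    have h : g ∈ M := e ▸ (show g ∈ (zpowers x).comap (QuotientGroup.mk' M) by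
      rw [mem_comap, hg]; exact mem_zpowers x)
    have h' : x = 1 := by rw [← hg]; exact (QuotientGroup.eq_one_iff g).2 h
    rw [h', orderOf_one] at hx
    omega
  have h := congrArg (Subgroup.map (QuotientGroup.mk' M)) (hM.2 _ hK)
  rw [map_comap_eq_self_of_surjective (QuotientGroup.mk'_surjective M),
    map_top_of_surjective _ (QuotientGroup.mk'_surjective M)] at h
  rw [index_eq_card, ← card_top, ← h, Nat.card_zpowers, hx]

theorem coatom_cases {M : Subgroup S} (hM : IsCoatom M) :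
    M = zpowers D.x ∨ M = D.half 1 ∨ M = D.half 0 := by
  have hM2 := D.index_two_of_isCoatom hM
  have hsq : ∀ m : ℤ, D.x ^ (2 * m) ∈ M := fun m => by
    rw [two_mul, zpow_add]; exact mul_self_mem_of_index_two hM2 _
  by_cases hx : D.x ∈ M
  · left
    exact (Subgroup.eq_of_le_of_card_ge (zpowers_le.2 hx) (by
      rw [Nat.card_zpowers, D.hx, D.card_index_two hM2])).symm
  obtain ⟨ε, hε, hmem⟩ : ∃ ε : ℤ, (ε = 0 ∨ ε = 1) ∧ D.x ^ ε * D.y ∈ M := by
    by_cases hy : D.y ∈ M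
    · exact ⟨0, Or.inl rfl, by simpa using hy⟩
    · exact ⟨1, Or.inr rfl, by simpa using (mul_mem_iff_of_index_two hM2).2 (iff_of_false hx hy)⟩
  have hle : D.half ε ≤ M := by
    rintro g ⟨m, rfl | rfl⟩
    · exact hsq m
    · rw [zpow_add, mul_assoc]; exact mul_mem (hsq m) hmem
  have := Subgroup.eq_of_le_of_card_ge hle (by
    rw [D.card_index_two hM2, D.card_index_two (D.index_half ε)])
  rcases hε with rfl | rfl
  · exact Or.inr (Or.inr this.symm)
  · exact Or.inr (Or.inl this.symm)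

theorem half_one_quaternion : Nonempty (D.half 1 ≃* QuaternionGroup (2 * D.q)) := by
  have hq : 2 * D.q = 2 ^ (D.k + 2 - 1) := by rw [D.hq, show D.k + 2 - 1 = D.k + 1 by omega, pow_succ']
  rw [hq]
  have hpos := D.q_pos
  set a : D.half 1 := ⟨D.x ^ (2 : ℤ), D.rot_mem_half.2 (dvd_refl 2)⟩
  have ha : orderOf a = 2 ^ (D.k + 2) := by
    rw [← Subgroup.orderOf_coe, show ((a : D.half 1) : S) = D.x ^ (2 : ℤ) from rfl,
      D.orderOf_zpow_dvd 2 (4 * D.q) (by push_cast; ring) (by omega) (by norm_num), D.hq]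
    ring
  refine CfsgLib.UniqueInvol.nonempty_quaternion_equiv (by omega) ha ?_
    (g := ⟨D.x ^ (1 : ℤ) * D.y, D.refl_mem_half.2 (by simp)⟩) ?_ ?_ ?_
  · have h := (zpowers a).index_mul_card
    rw [Nat.card_zpowers, ha, D.card_index_two (D.index_half 1), D.hq] at h
    refine Nat.eq_of_mul_eq_mul_right (Nat.two_pow_pos (D.k + 2)) (h.trans ?_)
    ring
  · intro h
    obtain ⟨m, hm⟩ := mem_zpowers_iff.1 h
    have := congrArg Subtype.val hm
    rw [Subgroup.coe_zpow, show ((a : D.half 1) : S) = D.x ^ (2 : ℤ) from rfl, ← zpow_mul] at this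
    exact D.ne_rot 1 _ this.symm
  · refine Subtype.ext ?_
    simp only [Subgroup.coe_mul, Subgroup.coe_inv, show ((a : D.half 1) : S) = D.x ^ (2 : ℤ) from rfl]
    rw [show D.x ^ (1 : ℤ) * D.y * D.x ^ (2 : ℤ) * (D.x ^ (1 : ℤ) * D.y)⁻¹ =
      D.x ^ (1 : ℤ) * (D.y * D.x ^ (2 : ℤ) * D.y⁻¹) * (D.x ^ (1 : ℤ))⁻¹ by group, D.y_conj,
      ← zpow_neg, ← zpow_neg, ← zpow_add, ← zpow_add, D.zpow_eq_iff]
    exact ⟨1, by ring⟩
  · refine Subtype.ext ?_
    rw [Subgroup.coe_pow, Subgroup.coe_pow, show ((a : D.half 1) : S) = D.x ^ (2 : ℤ) from rfl, ← hq, sq,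
      D.refl_sq_odd (by omega), ← zpow_natCast, ← zpow_mul]
    congr 1
    push_cast
    ring

theorem half_zero_eq_closure :
    D.half 0 = closure ({D.y, D.x ^ (2 : ℤ) * D.y} : Set S) := by
  refine le_antisymm ?_ ?_
  · have hy : D.y ∈ closure ({D.y, D.x ^ (2 : ℤ) * D.y} : Set S) := subset_closure (Or.inl rfl)
    have hx : D.x ^ (2 : ℤ) ∈ closure ({D.y, D.x ^ (2 : ℤ) * D.y} : Set S) := by
      have := mul_mem (subset_closure (Or.inr rfl) : D.x ^ (2 : ℤ) * D.y ∈ closure ({D.y, D.x ^ (2 : ℤ) * D.y} : Set S)) hy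
      rwa [mul_assoc, D.yy, mul_one] at this
    rintro g ⟨m, rfl | rfl⟩
    · rw [zpow_mul]; exact zpow_mem hx m
    · rw [add_zero, zpow_mul]; exact mul_mem (zpow_mem hx m) hy
  · rw [closure_le]
    rintro g (rfl | rfl)
    · exact ⟨0, Or.inr (by simp)⟩
    · exact D.refl_mem_half.2 (by simp)

theorem half_zero_dihedral : Nonempty (D.half 0 ≃* DihedralGroup (4 * D.q)) := by
  have hpos := D.q_pos
  have hy2 : orderOf (D.x ^ (2 : ℤ) * D.y) = 2 := D.refl_invol_iff.2 (dvd_refl 2)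
  have hne : D.y ≠ D.x ^ (2 : ℤ) * D.y := fun h => by
    have h' : D.x ^ (2 : ℤ) = D.x ^ (0 : ℤ) := by rw [zpow_zero]; exact (mul_eq_right.1 h.symm)
    obtain ⟨c, hc⟩ := D.zpow_eq_iff.1 h'
    rcases le_or_gt c 0 with h0 | h0 <;> nlinarith
  obtain ⟨e⟩ := CfsgLib.Invol.nonempty_dihedral_equiv D.hy hy2 hne
  have hord : orderOf (D.y * (D.x ^ (2 : ℤ) * D.y)) = 4 * D.q := by
    have h : D.y * (D.x ^ (2 : ℤ) * D.y) = D.y * (D.x ^ (2 : ℤ)) * D.y⁻¹ := by
      rw [CfsgLib.Invol.inv_eq_self D.hy, mul_assoc]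
    rw [h, CfsgLib.Invol.orderOf_conj_eq,
      D.orderOf_zpow_dvd 2 (4 * D.q) (by push_cast; ring) (by omega) (by norm_num)]
  rw [hord] at e
  exact ⟨(MulEquiv.subgroupCongr D.half_zero_eq_closure).trans e⟩

/-! ### The Frattini subgroup and the derived group -/

theorem half_inf_rot : D.half 0 ⊓ zpowers D.x = zpowers (D.x ^ (2 : ℤ)) := by
  refine le_antisymm ?_ (zpowers_le.2 ⟨D.rot_mem_half.2 (dvd_refl 2), zpow_mem (mem_zpowers _) _⟩)
  rintro g ⟨h1, h2⟩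
  obtain ⟨i, rfl⟩ := mem_zpowers_iff.1 h2
  obtain ⟨m, rfl⟩ := D.rot_mem_half.1 h1
  exact mem_zpowers_iff.2 ⟨m, by rw [← zpow_mul]⟩

theorem x_sq_mem_commutator : D.x ^ (2 : ℤ) ∈ commutator S := by
  have h : ⁅D.x ^ ((1 - 2 * (D.q : ℤ))), D.y⁆ = D.x ^ (2 : ℤ) := by
    rw [commutatorElement_def, mul_assoc (D.x ^ (1 - 2 * (D.q : ℤ))) D.y, mul_assoc, ← zpow_neg,
      D.y_conj, ← zpow_add, D.zpow_eq_iff]
    obtain ⟨c, hc⟩ := D.unit_sq
    exact ⟨c, by linear_combination 2 * hc⟩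
  rw [← h]
  exact commutator_mem_commutator (mem_top _) (mem_top _)

theorem commutator_le_frattini (D : Data S) : commutator S ≤ frattini S := by
  refine le_iInf₂ fun M hM => ?_
  haveI := Subgroup.normal_of_index_eq_two (D.index_two_of_isCoatom hM)
  refine Subgroup.Normal.quotient_commutative_iff_commutator_le.1 ?_
  have h2 : Nat.card (S ⧸ M) = 2 := by rw [← index_eq_card, D.index_two_of_isCoatom hM]
  haveI : Fact (Nat.Prime 2) := ⟨Nat.prime_two⟩
  haveI := isCyclic_of_prime_card h2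
  infer_instance

theorem commutator_eq : commutator S = zpowers (D.x ^ (2 : ℤ)) ∧ frattini S = zpowers (D.x ^ (2 : ℤ)) := by
  have h1 : zpowers (D.x ^ (2 : ℤ)) ≤ commutator S := zpowers_le.2 D.x_sq_mem_commutator
  have h2 : frattini S ≤ zpowers (D.x ^ (2 : ℤ)) := by
    rw [← D.half_inf_rot]
    exact le_inf (frattini_le_coatom (isCoatom_of_index_two (D.index_half 0)))
      (frattini_le_coatom (isCoatom_of_index_two D.index_rot))
  exact ⟨le_antisymm (D.commutator_le_frattini.trans h2) h1, le_antisymm h2 (h1.trans D.commutator_le_frattini)⟩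

theorem closure_invol : closure {g : S | orderOf g = 2} = D.half 0 := by
  refine le_antisymm ((closure_le _).2 fun g hg => ?_) ?_
  · rcases D.invol_cases hg with rfl | ⟨i, hi, rfl⟩
    · exact D.rot_mem_half.2 ⟨2 * (D.q : ℤ), by ring⟩
    · exact D.refl_mem_half.2 (by simpa using hi)
  · rw [D.half_zero_eq_closure]
    refine closure_mono ?_
    rintro g (rfl | rfl)
    · exact D.hy
    · exact D.refl_invol_iff.2 (dvd_refl 2)

/-- A proper normal subgroup is maximal or inside `⟨x²⟩`. -/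
theorem normal_cases {N : Subgroup S} [N.Normal] (hN : N ≠ ⊤) :
    IsCoatom N ∨ N ≤ zpowers (D.x ^ (2 : ℤ)) := by
  by_contra hcon
  push Not at hcon
  obtain ⟨hnc, hnle⟩ := hcon
  obtain ⟨g, hg, hg'⟩ := SetLike.not_le_iff_exists.1 hnle
  suffices h : ∃ M : Subgroup S, M.index = 2 ∧ M ≤ N by
    obtain ⟨M, hM, hMN⟩ := h
    rcases eq_or_lt_of_le hMN with e | hlt
    · exact hnc (e ▸ isCoatom_of_index_two hM)
    · exact hN ((isCoatom_of_index_two hM).2 N hlt)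
  rcases D.cases g with ⟨i, rfl⟩ | ⟨i, rfl⟩
  · refine ⟨zpowers D.x, D.index_rot, ?_⟩
    have hi : ¬ 2 ∣ i := fun ⟨m, hm⟩ => hg' (mem_zpowers_iff.2 ⟨m, by rw [← zpow_mul, ← hm]⟩)
    obtain ⟨a, b, hab⟩ : IsCoprime i (8 * (D.q : ℤ)) := by
      have : IsCoprime i ((2 : ℤ) ^ (D.k + 3)) := by
        refine IsCoprime.pow_right ((Int.prime_two.coprime_iff_not_dvd.2 hi).symm)
      convert this using 1
      rw [D.hq]; push_cast; ring
    refine zpowers_le.2 ?_
    have h := zpow_mem hg a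
    rwa [← zpow_mul, (D.zpow_eq_iff (a := i * a) (b := 1)).2 ⟨-b, by linarith⟩, zpow_one] at h
  · refine ⟨D.half i, D.index_half i, ?_⟩
    have hall : ∀ m : ℤ, D.x ^ (2 * m + i) * D.y ∈ N := fun m => by
      obtain ⟨s, -, hs⟩ := D.refl_conj (i := i) (j := 2 * m + i) (by omega)
      exact hs ▸ (inferInstance : N.Normal).conj_mem _ hg s
    rintro t ⟨m, rfl | rfl⟩
    · have h := mul_mem (hall m) (inv_mem hg)
      rwa [mul_inv_rev, ← mul_assoc, mul_assoc _ D.y D.y⁻¹, mul_inv_cancel, mul_one,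
        ← zpow_neg, ← zpow_add, add_neg_cancel_right] at h
    · exact hall m

end Data

end CfsgLib.QD
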