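import Cfsg.Agent.Kinf.LocalBalance

/-!
In a group `G` with `O_{p'}(G) = 1`, the preimage in `N = N_G(P)` of `E(N / O_{p'}(N))`, for a
`p`-subgroup `P`, normalizes every component of `G`.
-/

set_option autoImplicit false
set_option linter.unusedSectionVars false
set_option linter.deprecated false
set_option linter.style.haveILetI false

namespace CfsgLib.LocalBalance

open Subgroup
open scoped commutatorElement

variable {G : Type*} [Group G] [Finite G] {p : ℕ} [Fact p.Prime]

/-- A subgroup `M` perfect modulo a normal `T` lies in `T` once its elements of order prime to `p` do. -/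
theorem le_of_coprime_elements {T M : Subgroup G} [T.Normal] (hM : M ≤ ⁅M, M⁆ ⊔ T)
    (h : ∀ k ∈ M, (orderOf k).Coprime p → k ∈ T) : M ≤ T := by
  set f := QuotientGroup.mk' T
  have hp : IsPGroup p (M.map f) := by
    rintro ⟨_, m, hm, rfl⟩
    obtain ⟨a, r, hr, hmn⟩ := Nat.exists_eq_pow_mul_and_not_dvd (orderOf_pos m).ne' p
      (Fact.out : p.Prime).ne_one
    refine ⟨a, Subtype.ext ?_⟩
    show f m ^ p ^ a = 1
    rw [← map_pow]
    refine (QuotientGroup.eq_one_iff _).2 (h _ (pow_mem hm _) ?_)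
    rw [orderOf_pow_of_dvd (pow_ne_zero _ (Fact.out : p.Prime).ne_zero)
      (hmn ▸ dvd_mul_right _ _), hmn, Nat.mul_div_cancel_left _ (pow_pos (Fact.out : p.Prime).pos _)]
    exact ((Nat.Prime.coprime_iff_not_dvd Fact.out).2 hr).symm
  haveI := hp.isNilpotent
  have hperf : M.map f ≤ ⁅M.map f, M.map f⁆ := by
    refine (Subgroup.map_mono hM).trans ?_
    rw [Subgroup.map_sup, Subgroup.map_commutator,
      (Subgroup.map_eq_bot_iff T).2 (QuotientGroup.ker_mk' T).ge, sup_bot_eq]
  have hbot : M.map f = ⊥ := by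
    by_contra hne
    haveI : Nontrivial (M.map f) := (nontrivial_iff_ne_bot _).2 hne
    refine (Group.IsSolvable.commutator_lt_top_of_nontrivial (G := M.map f)).ne (top_le_iff.1 ?_)
    intro x _
    have h1 : (x : G ⧸ T) ∈ (_root_.commutator (M.map f)).map (M.map f).subtype := by
      rw [map_subtype_commutator]; exact hperf x.2
    obtain ⟨y, hy, hyx⟩ := h1
    exact (Subtype.ext hyx : y = x) ▸ hy
  exact ((Subgroup.map_eq_bot_iff M).1 hbot).trans (QuotientGroup.ker_mk' T).le

variable (hO : Cfsg.pPrimeCore p G = ⊥)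
include hO

theorem preimage_component_le_normalizer {P : Subgroup G} (hP : IsPGroup p P)
    {N : Subgroup G} (hNdef : N = normalizer (P : Set G))
    {K : Subgroup (↥N ⧸ Cfsg.pPrimeCore p ↥N)}
    (hK : Cfsg.IsComponent K) {L : Subgroup G} (hL : Cfsg.IsComponent L) :
    (K.comap (QuotientGroup.mk' (Cfsg.pPrimeCore p ↥N))).map N.subtype ≤
      normalizer (L : Set G) := by
  have hPN : P ≤ N := hNdef ▸ le_normalizer
  have hNP : N ≤ normalizer (P : Set G) := hNdef.le
  set π := QuotientGroup.mk' (Cfsg.pPrimeCore p ↥N)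
  set O := core p N
  set Kt := (K.comap π).map N.subtype with hKt
  have hKN : Kt ≤ N := map_subtype_le _
  have hmemO : ∀ {g : G} (hg : g ∈ N), π ⟨g, hg⟩ = 1 ↔ g ∈ O := fun {g} hg =>
    ⟨fun h => ⟨⟨g, hg⟩, (QuotientGroup.eq_one_iff _).1 h, rfl⟩, by
      rintro ⟨u, hu, rfl⟩; exact (QuotientGroup.eq_one_iff _).2 hu⟩
  have hNO : N ≤ normalizer (O : Set G) :=
    le_normalizer.trans (normalizer_le_normalizer_core N)
  have hOP : O ⊓ P = ⊥ := (eq_bot_iff_forall _).2 fun z hz => by
    obtain ⟨j, hj⟩ := hP ⟨z, hz.2⟩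
    exact eq_one_of_coprime (coprime_core N) hz.1 (k := j) (congrArg Subtype.val hj)
  have hcomm : ∀ {o : G}, o ∈ O → ∀ u ∈ P, o * u = u * o := fun {o} ho u hu => by
    have h1 : o * u * o⁻¹ * u⁻¹ ∈ O ⊓ P := by
      refine mem_inf.2 ⟨?_, mul_mem ((mem_normalizer_iff.1 (hNP (core_le N ho)) u).1 hu) (inv_mem hu)⟩
      rw [show o * u * o⁻¹ * u⁻¹ = o * (u * o⁻¹ * u⁻¹) by group]
      exact mul_mem ho ((mem_normalizer_iff.1 (hNO (hPN hu)) _).1 (inv_mem ho))
    rw [hOP, mem_bot, mul_inv_eq_one, mul_inv_eq_iff_eq_mul] at h1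
    exact h1
  have hCN : centralizer (P : Set G) ≤ N := hNdef ▸ centralizer_le_normalizer _
  have hOC : O ≤ core p (centralizer (P : Set G)) :=
    le_core (fun o ho => mem_centralizer_iff.2 fun u hu => (hcomm ho u hu).symm) (hCN.trans hNO)
      (coprime_core N)
  have hOL : O ≤ normalizer (L : Set G) := hOC.trans (core_centralizer_le_normalizer hO hP hL)
  set U' := U p P
  have hUN : U' ≤ N := inf_le_left.trans hCN
  have hNU : N ≤ normalizer (U' : Set G) := fun g hg => inf_normalizer_le_normalizer_inf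
    (mem_inf.2 ⟨normalizer_le_normalizer_centralizer _ (hNP hg), le_normalizer_of_normal (mem_top g)⟩)
  have hOU : O ≤ U' := hOC.trans (core_centralizer_le_U hP)
  have hcoreU : core p U' = O := le_antisymm
    (le_core ((core_le U').trans hUN) (hNU.trans (normalizer_le_normalizer_core U')) (coprime_core _))
    (le_core hOU (hUN.trans hNO) (coprime_core N))
  have hpsub : ∀ Q : Subgroup G, IsPGroup p Q → Q ≤ N → N ≤ normalizer (Q : Set G) →
      ∀ k ∈ Kt, ∀ u ∈ Q, k * u = u * k := by
    intro Q hQ hQN hNQ k hk u hu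
    haveI : (Q.subgroupOf N).Normal := (normal_subgroupOf_iff_le_normalizer hQN).2 hNQ
    have hQp : IsPGroup p (Q.subgroupOf N) := hQ.comap_subtype
    haveI : ((Q.subgroupOf N).map π).Normal :=
      Subgroup.Normal.map inferInstance _ (QuotientGroup.mk'_surjective _)
    haveI := (hQp.map π).isNilpotent
    have hc := Comp.component_le_centralizer_of_not_le hK (Normal.isSubnormal inferInstance)
      (Comp.component_not_le_solvable hK (H := (Q.subgroupOf N).map π) inferInstance)
    obtain ⟨k', hk', rfl⟩ := hk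
    have h1 := mem_centralizer_iff.1 (hc (mem_comap.1 hk')) (π ⟨u, hQN hu⟩)
      (mem_map_of_mem π hu)
    have h2 : (k' : G) * u * (k' : G)⁻¹ * u⁻¹ ∈ O ⊓ Q := by
      refine mem_inf.2 ⟨(hmemO (mul_mem (mul_mem (mul_mem k'.2 (hQN hu)) (inv_mem k'.2))
        (inv_mem (hQN hu)))).1 ?_, mul_mem ((mem_normalizer_iff.1 (hNQ k'.2) u).1 hu) (inv_mem hu)⟩
      show π (k' * ⟨u, hQN hu⟩ * k'⁻¹ * ⟨u, hQN hu⟩⁻¹) = 1
      rw [map_mul, map_mul, map_mul, map_inv, map_inv, ← h1]; group
    have h3 : (k' : G) * u * (k' : G)⁻¹ * u⁻¹ = 1 := by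
      obtain ⟨j, hj⟩ := hQ ⟨_, h2.2⟩
      exact eq_one_of_coprime (coprime_core N) h2.1 (k := j) (congrArg Subtype.val hj)
    rw [mul_inv_eq_one, mul_inv_eq_iff_eq_mul] at h3
    exact h3
  have hKP : Kt ≤ centralizer (P : Set G) := fun k hk => mem_centralizer_iff.2 fun u hu =>
    (hpsub P hP hPN hNP k hk u hu).symm
  have hperf : Kt ≤ ⁅Kt, Kt⁆ ⊔ O := by
    have h1 : (⁅K.comap π, K.comap π⁆).map π = K := by
      rw [Subgroup.map_commutator, map_comap_eq_self_of_surjective (QuotientGroup.mk'_surjective _),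
        Comp.component_perfect hK]
    have h2 : K.comap π = ⁅K.comap π, K.comap π⁆ ⊔ π.ker := by
      rw [← comap_map_eq, h1]
    refine (Subgroup.map_mono h2.le).trans ?_
    rw [Subgroup.map_sup, Subgroup.map_commutator]
    exact sup_le_sup_left (Subgroup.map_mono (QuotientGroup.ker_mk' _).le) _
  have hKU : Kt ≤ U' := by
    have hcop : ∀ k ∈ Kt, (orderOf k).Coprime p →
        k ∈ centralizer (Cfsg.pCore p G : Set G) := by
      intro k hk ho
      refine mem_centralizer_iff.2 fun r hr => ?_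
      refine ((LocalB.commute_of_pxq hP (Solvable.isPGroup_pCore p) le_normalizer_of_normal ho
        (le_normalizer_of_normal (mem_top k)) (mem_centralizer_iff.1 (hKP hk)) ?_) r hr).eq.symm
      intro r hr hfix
      exact hpsub (Cfsg.pCore p G ⊓ centralizer (P : Set G))
        ((Solvable.isPGroup_pCore p).to_le inf_le_left) (inf_le_right.trans hCN)
        (fun g hg => inf_normalizer_le_normalizer_inf (mem_inf.2
          ⟨le_normalizer_of_normal (mem_top g), normalizer_le_normalizer_centralizer _ (hNP hg)⟩))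
        k hk r ⟨hr, mem_centralizer_iff.2 hfix⟩
    refine le_inf hKP (le_of_coprime_elements (p := p) ?_ hcop)
    exact hperf.trans (sup_le_sup_left (hOU.trans inf_le_right) _)
  have hnt : Kt ≤ ⨅ M : {M : Subgroup G // Cfsg.IsComponent M}, normalizer ((M : Subgroup G) : Set G) := by
    haveI : (⨅ M : {M : Subgroup G // Cfsg.IsComponent M},
        normalizer ((M : Subgroup G) : Set G)).Normal := by
      refine ⟨fun z hz g => mem_iInf.2 fun M => ?_⟩
      have h1 := mem_iInf.1 hz ⟨_, Comp.component_conj g⁻¹ M.2⟩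
      have h2 := le_normalizer_map (MulAut.conj g).toMonoidHom
        (mem_map_of_mem (MulAut.conj g).toMonoidHom h1)
      have e : ((M : Subgroup G).map (MulAut.conj g⁻¹).toMonoidHom).map
          (MulAut.conj g).toMonoidHom = (M : Subgroup G) := by
        rw [Subgroup.map_map, show (MulAut.conj g).toMonoidHom.comp (MulAut.conj g⁻¹).toMonoidHom =
          MonoidHom.id G by ext y; simp [mul_assoc], Subgroup.map_id]
      rw [e] at h2
      exact h2
    refine le_of_coprime_elements (p := p) (hperf.trans (sup_le_sup_left (le_iInf fun M =>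
      hOC.trans (core_centralizer_le_normalizer hO hP M.2)) _)) fun x hx hxo => mem_iInf.2 ?_
    rintro ⟨M, hM⟩
    set D := U' ⊓ Cfsg.layer G
    have hDN : D ≤ N := inf_le_left.trans hUN
    have hND : N ≤ normalizer (D : Set G) := fun g hg => inf_normalizer_le_normalizer_inf
      (mem_inf.2 ⟨hNU hg, le_normalizer_of_normal (mem_top g)⟩)
    haveI : (D.subgroupOf N).Normal := (normal_subgroupOf_iff_le_normalizer hDN).2 hND
    haveI : ((D.subgroupOf N).map π).Normal :=
      Subgroup.Normal.map inferInstance _ (QuotientGroup.mk'_surjective _)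
    by_cases hKD : K ≤ (D.subgroupOf N).map π
    · have h1 : Kt ≤ D ⊔ O := by
        refine (Subgroup.map_mono (Subgroup.comap_mono hKD)).trans ?_
        rw [comap_map_eq, Subgroup.map_sup, map_subgroupOf_eq_of_le hDN]
        exact sup_le_sup_left (Subgroup.map_mono (QuotientGroup.ker_mk' _).le) _
      exact sup_le (inf_le_right.trans (Comp.layer_le_normalizer_component hM))
        (hOC.trans (core_centralizer_le_normalizer hO hP hM)) (h1 hx)
    have hc := Comp.component_le_centralizer_of_not_le hK (Normal.isSubnormal inferInstance) hKD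
    refine mem_normalizer_of_mod hO hP hM hxo (mem_centralizer_iff.1 (hKP hx))
      (coprime_core U') fun d hd j hj hdP => ?_
    have hdU : d ∈ normalizer (U' : Set G) := mem_normalizer_U hdP
    have hdO : d ∈ normalizer (O : Set G) := hcoreU ▸ mem_normalizer_core_U hdP
    have hdD : d ∈ normalizer (D : Set G) :=
      inf_normalizer_le_normalizer_inf (mem_inf.2 ⟨hdU, le_normalizer_of_normal (mem_top d)⟩)
    set Kc := K.comap π
    have hmemK : ∀ k : Kc, ((k : N) : G) ∈ Kt := fun k => ⟨k, k.2, rfl⟩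
    have hDmem : ∀ k : Kc, d * ((k : N) : G) * d⁻¹ * ((k : N) : G)⁻¹ ∈ D := fun k => by
      refine mem_inf.2 ⟨mul_mem ((mem_normalizer_iff.1 hdU _).1 (hKU (hmemK k)))
        (inv_mem (hKU (hmemK k))), ?_⟩
      rw [show d * ((k : N) : G) * d⁻¹ * ((k : N) : G)⁻¹ =
        d * (((k : N) : G) * d⁻¹ * ((k : N) : G)⁻¹) by group]
      exact mul_mem hd ((inferInstance : (Cfsg.layer G).Normal).conj_mem _ (inv_mem hd) _)
    have hkD : ∀ (k : Kc) {e : G} (he : e ∈ D),
        Commute (π (k : N)) (π ⟨e, hDN he⟩) := fun k {e} he =>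
      (mem_centralizer_iff.1 (hc (mem_comap.1 k.2)) _
        (mem_map_of_mem π (show (⟨e, hDN he⟩ : N) ∈ D.subgroupOf N from he))).symm
    let δ : Kc →* (↥N ⧸ Cfsg.pPrimeCore p ↥N) :=
      { toFun := fun k => π ⟨_, hDN (hDmem k)⟩
        map_one' := by
          rw [← map_one π]; exact congrArg π (Subtype.ext (by simp))
        map_mul' := fun a b => by
          have e : (⟨_, hDN (hDmem (a * b))⟩ : N) =
              ⟨_, hDN (hDmem a)⟩ * ((a : N) * ⟨_, hDN (hDmem b)⟩ * (a : N)⁻¹) :=
            Subtype.ext (by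
              show d * (((a : N) : G) * (b : N)) * d⁻¹ * (((a : N) : G) * (b : N))⁻¹ = _ * _
              simp only [Subgroup.coe_mul, InvMemClass.coe_inv]
              group)
          show π ⟨_, hDN (hDmem (a * b))⟩ = π _ * π _
          rw [e, map_mul, map_mul, map_mul, map_inv]
          congr 1
          rw [(hkD a (hDmem b)).eq, mul_assoc, mul_inv_cancel, mul_one] }
    have hδD : ∀ (k : Kc) {e : G} (he : e ∈ D), Commute (δ k) (π ⟨e, hDN he⟩) := by
      intro k e he
      have he' : d⁻¹ * e * d ∈ D := by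
        simpa using (mem_normalizer_iff.1 (inv_mem hdD) e).1 he
      have h1 : ((k : N) : G) * (d⁻¹ * e * d) * ((k : N) : G)⁻¹ * (d⁻¹ * e * d)⁻¹ ∈ O := by
        refine (hmemO (mul_mem (mul_mem (mul_mem (k : N).2 (hDN he')) (inv_mem (k : N).2))
          (inv_mem (hDN he')))).1 ?_
        show π ((k : N) * ⟨_, hDN he'⟩ * (k : N)⁻¹ * ⟨_, hDN he'⟩⁻¹) = 1
        rw [map_mul, map_mul, map_mul, map_inv, map_inv, (hkD k he').eq]; group
      have h2 : d * ((k : N) : G) * d⁻¹ * e * (d * ((k : N) : G) * d⁻¹)⁻¹ * e⁻¹ ∈ O := by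
        convert (mem_normalizer_iff.1 hdO _).1 h1 using 1
        group
      have hkd : d * ((k : N) : G) * d⁻¹ ∈ N := hUN ((mem_normalizer_iff.1 hdU _).1 (hKU (hmemK k)))
      have h3 : Commute (π ⟨_, hkd⟩) (π ⟨e, hDN he⟩) := by
        have h4 := (hmemO (mul_mem (mul_mem (mul_mem hkd (hDN he)) (inv_mem hkd))
          (inv_mem (hDN he)))).2 h2
        have h5 : π (⟨_, hkd⟩ * ⟨e, hDN he⟩ * ⟨_, hkd⟩⁻¹ * ⟨e, hDN he⟩⁻¹) = 1 := h4
        rw [map_mul, map_mul, map_mul, map_inv, map_inv, mul_inv_eq_one,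
          mul_inv_eq_iff_eq_mul] at h5
        exact h5
      show Commute (π ⟨_, hDN (hDmem k)⟩) _
      rw [show (⟨_, hDN (hDmem k)⟩ : N) = ⟨_, hkd⟩ * (k : N)⁻¹ from Subtype.ext rfl, map_mul,
        map_inv]
      exact h3.mul_left (hkD k he).inv_left
    have hker : ∀ k : Kc, δ k = 1 := by
      intro k
      have h1 : (K.comap π).subgroupOf Kc ≤ δ.ker := by
        have h2 : K.comap π = ⁅K.comap π, K.comap π⁆ ⊔ π.ker := by
          rw [← comap_map_eq, Subgroup.map_commutator,
            map_comap_eq_self_of_surjective (QuotientGroup.mk'_surjective _),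
            Comp.component_perfect hK]
        intro z hz
        have hz' : (z : N) ∈ δ.ker.map Kc.subtype := by
          refine (h2.le.trans (sup_le ?_ ?_)) z.2
          · refine commutator_le.2 fun a ha b hb => ⟨⁅(⟨a, ha⟩ : Kc), (⟨b, hb⟩ : Kc)⁆, ?_, rfl⟩
            rw [SetLike.mem_coe, MonoidHom.mem_ker, map_commutatorElement,
              commutatorElement_eq_one_iff_mul_comm]
            show δ ⟨a, ha⟩ * δ ⟨b, hb⟩ = δ ⟨b, hb⟩ * δ ⟨a, ha⟩
            exact (hδD ⟨a, ha⟩ (hDmem ⟨b, hb⟩)).eq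
          · intro o ho
            have hoK : o ∈ Kc := mem_comap.2 (by rw [MonoidHom.mem_ker.1 ho]; exact one_mem K)
            refine ⟨⟨o, hoK⟩, ?_, rfl⟩
            have hoO : (o : G) ∈ O := (hmemO o.2).1 (MonoidHom.mem_ker.1 ho)
            exact (hmemO (hDN (hDmem ⟨o, hoK⟩))).2
              (mul_mem ((mem_normalizer_iff.1 hdO _).1 hoO) (inv_mem hoO))
        obtain ⟨z', hz'', e⟩ := hz'
        exact (Subtype.ext e : z' = z) ▸ hz''
      exact MonoidHom.mem_ker.1 (h1 (show (k : N) ∈ K.comap π from k.2))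
    obtain ⟨x', hx', rfl⟩ := hx
    have h1 : d * (x' : G) * d⁻¹ * (x' : G)⁻¹ ∈ O :=
      (hmemO (hDN (hDmem ⟨x', hx'⟩))).1 (hker ⟨x', hx'⟩)
    rw [hcoreU]
    convert inv_mem h1 using 1
    show (x' : G) * d * (x' : G)⁻¹ * d⁻¹ = _
    group
  intro x hx
  exact mem_iInf.1 (hnt hx) ⟨L, hL⟩

theorem layer_preimage_le_normalizer {P : Subgroup G} (hP : IsPGroup p P) {L : Subgroup G}
    (hL : Cfsg.IsComponent L) :
    ((Cfsg.layer (↥(normalizer (P : Set G)) ⧸ Cfsg.pPrimeCore p ↥(normalizer (P : Set G)))).comap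
      (QuotientGroup.mk' (Cfsg.pPrimeCore p ↥(normalizer (P : Set G))))).map
        (normalizer (P : Set G)).subtype ≤ normalizer (L : Set G) := by
  set π := QuotientGroup.mk' (Cfsg.pPrimeCore p ↥(normalizer (P : Set G)))
  set V := (normalizer (L : Set G)).subgroupOf (normalizer (P : Set G))
  have hker : π.ker ≤ V := by
    rw [QuotientGroup.ker_mk']
    intro o ho
    have hCN : centralizer (P : Set G) ≤ normalizer (P : Set G) := centralizer_le_normalizer _
    set O := core p (normalizer (P : Set G))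
    have hoO : (o : G) ∈ O := ⟨o, ho, rfl⟩
    have hNO : normalizer (P : Set G) ≤ normalizer (O : Set G) :=
      le_normalizer.trans (normalizer_le_normalizer_core _)
    refine core_centralizer_le_normalizer hO hP hL (le_core (N := O) ?_ (hCN.trans hNO)
      (coprime_core _) hoO)
    intro z hz
    refine mem_centralizer_iff.2 fun u hu => ?_
    have h1 : z * u * z⁻¹ * u⁻¹ ∈ O ⊓ P := by
      refine mem_inf.2 ⟨?_, mul_mem ((mem_normalizer_iff.1 (core_le _ hz) u).1 hu) (inv_mem hu)⟩
      rw [show z * u * z⁻¹ * u⁻¹ = z * (u * z⁻¹ * u⁻¹) by group]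
      exact mul_mem hz ((mem_normalizer_iff.1 (hNO (le_normalizer hu)) _).1 (inv_mem hz))
    obtain ⟨j, hj⟩ := hP ⟨_, h1.2⟩
    have h2 := eq_one_of_coprime (coprime_core (normalizer (P : Set G))) h1.1 (k := j)
      (congrArg Subtype.val hj)
    rw [mul_inv_eq_one, mul_inv_eq_iff_eq_mul] at h2
    exact h2.symm
  have hle : Cfsg.layer _ ≤ V.map π := Comp.layer_le fun K hK => by
    intro q hq
    obtain ⟨z, rfl⟩ := QuotientGroup.mk'_surjective _ q
    exact mem_map_of_mem π (preimage_component_le_normalizer hO hP rfl hK hL ⟨z, hq, rfl⟩)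
  rintro _ ⟨z, hz, rfl⟩
  have h1 : z ∈ (V.map π).comap π := hle hz
  rw [comap_map_eq, sup_eq_left.2 hker] at h1
  exact h1

end CfsgLib.LocalBalance
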