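import Cfsg.Agent.Comp.Layer
import Cfsg.Agent.Comp.Fitting
import Cfsg.Agent.LocalB.CharP
import Cfsg.Agent.FGSA.RankTwoSolvable
import Cfsg.Agent.Kinf.LocalBalance
import Cfsg.Agent.Invol.NormalizerLayer
import Cfsg.Prelude.Def_Transfer

/-!
Bender's lemma on overgroups of a large subgroup of `F*(A)`, `A` a maximal subgroup of a simple group.
-/

set_option autoImplicit false
set_option linter.unusedSectionVars false
set_option linter.deprecated false
set_option linter.style.haveILetI false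

namespace CfsgLib.MaxBender

open Subgroup
open scoped commutatorElement Pointwise

variable {G : Type*} [Group G] [Finite G]

/-- `O_r(A)` inside `G`. -/
def coreR (r : ℕ) (A : Subgroup G) : Subgroup G := (Cfsg.pCore r A).map A.subtype

/-- `E(A)` inside `G`. -/
def lay (A : Subgroup G) : Subgroup G := (Cfsg.layer A).map A.subtype

/-- `F*(A)` inside `G`. -/
def fstar (A : Subgroup G) : Subgroup G := (Cfsg.generalizedFittingSubgroup A).map A.subtype

/-- `F(A)` inside `G`. -/
def fit (A : Subgroup G) : Subgroup G := (Cfsg.fittingSubgroup A).map A.subtype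

variable {A : Subgroup G}

theorem le_normalizer_map_normal (N : Subgroup A) [N.Normal] :
    A ≤ normalizer ((N.map A.subtype : Subgroup G) : Set G) := fun a ha =>
  le_normalizer_map A.subtype (mem_map_of_mem A.subtype
    (le_normalizer_of_normal (mem_top (⟨a, ha⟩ : A))))

theorem coreR_le (r : ℕ) : coreR r A ≤ A := map_subtype_le _

theorem lay_le : lay A ≤ A := map_subtype_le _

theorem fstar_le : fstar A ≤ A := map_subtype_le _

theorem le_normalizer_coreR {r : ℕ} [Fact r.Prime] : A ≤ normalizer (coreR r A : Set G) := by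
  haveI : (Cfsg.pCore r A).Normal := inferInstance
  exact le_normalizer_map_normal _

theorem le_normalizer_lay : A ≤ normalizer (lay A : Set G) := le_normalizer_map_normal _

theorem le_normalizer_fstar : A ≤ normalizer (fstar A : Set G) := le_normalizer_map_normal _

theorem isPGroup_coreR (r : ℕ) [Fact r.Prime] : IsPGroup r (coreR r A) :=
  (Solvable.isPGroup_pCore r).map _

theorem coreR_le_fit (r : ℕ) [Fact r.Prime] : coreR r A ≤ fit A :=
  map_mono (Comp.le_fitting inferInstance (Solvable.isPGroup_pCore r).isNilpotent)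

theorem fit_le_fstar : fit A ≤ fstar A := map_mono Comp.fitting_le_Fstar

theorem lay_le_fstar : lay A ≤ fstar A := map_mono Comp.layer_le_Fstar

theorem lay_perfect : ⁅lay A, lay A⁆ = lay A := by
  rw [lay, ← Subgroup.map_commutator, Comp.layer_perfect]

theorem eq_bot_of_isPGroup {X : Subgroup G} {p r : ℕ} [Fact p.Prime] [Fact r.Prime] (hpr : p ≠ r)
    (hp : IsPGroup p X) (hr : IsPGroup r X) : X = ⊥ := by
  refine (eq_bot_iff_forall _).2 fun x hx => ?_
  obtain ⟨i, hi⟩ := hp ⟨x, hx⟩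
  obtain ⟨j, hj⟩ := hr ⟨x, hx⟩
  exact orderOf_eq_one_iff.1 (Nat.eq_one_of_dvd_coprimes
    (Nat.Coprime.pow i j ((Nat.coprime_primes Fact.out Fact.out).2 hpr))
    (orderOf_dvd_of_pow_eq_one (congrArg Subtype.val hi))
    (orderOf_dvd_of_pow_eq_one (congrArg Subtype.val hj)))

/-- Mutually normalizing subgroups meeting trivially commute. -/
theorem commute_of_inf_eq_bot {X Y : Subgroup G} (h : X ⊓ Y = ⊥) {x y : G} (hx : x ∈ X) (hy : y ∈ Y)
    (hxY : x ∈ normalizer (Y : Set G)) (hyX : y ∈ normalizer (X : Set G)) : x * y = y * x := by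
  have h1 : x * y * x⁻¹ * y⁻¹ ∈ X ⊓ Y := by
    refine mem_inf.2 ⟨?_, mul_mem ((mem_normalizer_iff.1 hxY y).1 hy) (inv_mem hy)⟩
    rw [show x * y * x⁻¹ * y⁻¹ = x * (y * x⁻¹ * y⁻¹) by group]
    exact mul_mem hx ((mem_normalizer_iff.1 hyX _).1 (inv_mem hx))
  rw [h, mem_bot, mul_inv_eq_one, mul_inv_eq_iff_eq_mul] at h1
  exact h1

theorem coreR_commute {r t : ℕ} [Fact r.Prime] [Fact t.Prime] (hrt : r ≠ t) {x y : G}
    (hx : x ∈ coreR r A) (hy : y ∈ coreR t A) : x * y = y * x :=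
  commute_of_inf_eq_bot (eq_bot_of_isPGroup hrt ((isPGroup_coreR r).to_le inf_le_left)
    ((isPGroup_coreR t).to_le inf_le_right)) hx hy
    (le_normalizer_coreR (coreR_le r hx)) (le_normalizer_coreR (coreR_le t hy))

theorem lay_commute {r : ℕ} [Fact r.Prime] {x y : G} (hx : x ∈ lay A) (hy : y ∈ coreR r A) :
    x * y = y * x := by
  obtain ⟨x', hx', rfl⟩ := hx
  obtain ⟨y', hy', rfl⟩ := hy
  haveI := (Solvable.isPGroup_pCore (G := A) r).isNilpotent
  have h : ⁅Cfsg.layer A, Cfsg.pCore r A⁆ = ⊥ := Comp.layer_commutator_normal_solvable inferInstance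
  exact congrArg Subtype.val
    (mem_centralizer_iff.1 (commutator_eq_bot_iff_le_centralizer.1 h hx') y' hy').symm

/-- An element of `A` commuting with `E(A)` and with every `O_r(A)` centralizes `F*(A)`. -/
theorem fstar_le_centralizer_of {z : G} (hE : ∀ e ∈ lay A, z * e = e * z)
    (hR : ∀ r : ℕ, r.Prime → ∀ u ∈ coreR r A, z * u = u * z) :
    fstar A ≤ centralizer {z} := by
  have h1 : ∀ N : Subgroup A, (∀ u ∈ N.map A.subtype, z * u = u * z) →
      N.map A.subtype ≤ centralizer {z} := fun N h u hu =>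
    mem_centralizer_singleton_iff.2 (h u hu).symm
  rw [fstar, Cfsg.generalizedFittingSubgroup, Subgroup.map_sup]
  refine sup_le (h1 _ hE) ?_
  rw [Comp.fitting_eq_iSup_pCore, Subgroup.map_iSup]
  exact iSup_le fun q => h1 _ (hR q (Nat.prime_of_mem_primeFactors q.2))

theorem normalizer_eq [IsSimpleGroup G] (hA : IsCoatom A) {X : Subgroup G} (hXA : X ≤ A)
    (hne : X ≠ ⊥) (hn : A ≤ normalizer (X : Set G)) : normalizer (X : Set G) = A := by
  rcases hA.le_iff.1 hn with h | h
  · exfalso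
    rcases (normalizer_eq_top_iff.1 h).eq_bot_or_eq_top with h' | h'
    · exact hne h'
    · exact hA.1 (top_le_iff.1 (h'.ge.trans hXA))
  · exact h

/-- The hypotheses on `S`. -/
structure Large (A S : Subgroup G) : Prop where
  le : S ≤ fstar A
  sub : (S.subgroupOf A).IsSubnormal
  self : fstar A ⊓ centralizer (S : Set G) ≤ S

variable {S : Subgroup G}

theorem lay_le_of_large (hS : Large A S) : lay A ≤ S := by
  refine map_le_iff_le_comap.2 (Comp.layer_le fun K hK => ?_)
  by_contra hle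
  have h1 : K ≤ centralizer (S.subgroupOf A : Set A) :=
    Comp.component_le_centralizer_of_not_le hK hS.sub hle
  refine hle fun k hk => hS.self ⟨lay_le_fstar ⟨k, Comp.component_le_layer hK hk, rfl⟩, ?_⟩
  exact mem_centralizer_iff.2 fun s hs => congrArg Subtype.val
    (mem_centralizer_iff.1 (h1 hk) ⟨s, fstar_le (hS.le hs)⟩ hs)

/-- Splitting an element into commuting parts of `r`-power and `r`-prime order. -/
theorem exists_split {r : ℕ} [Fact r.Prime] (f : G) :
    ∃ a b : ℤ, f = f ^ a * f ^ b ∧ (∃ j, (f ^ a) ^ r ^ j = 1) ∧ (orderOf (f ^ b)).Coprime r := by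
  obtain ⟨i, m, hm, hfm⟩ := Nat.exists_eq_pow_mul_and_not_dvd (orderOf_pos f).ne' r
    (Fact.out : r.Prime).ne_one
  have hco : (r ^ i).Coprime m := (((Fact.out : r.Prime).coprime_iff_not_dvd).2 hm).pow_left i
  obtain ⟨s, t, hst⟩ : ∃ s t : ℤ, (r ^ i : ℤ) * s + (m : ℤ) * t = 1 := by
    refine ⟨Nat.gcdA (r ^ i) m, Nat.gcdB (r ^ i) m, ?_⟩
    have := Nat.gcd_eq_gcd_ab (r ^ i) m
    rw [hco.gcd_eq_one] at this
    push_cast at this
    linarith
  have hkill : ∀ c : ℤ, f ^ (((r ^ i * m : ℕ) : ℤ) * c) = 1 := fun c => by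
    rw [zpow_mul, zpow_natCast, ← hfm, pow_orderOf_eq_one, one_zpow]
  refine ⟨(m : ℤ) * t, (r ^ i : ℤ) * s, ?_, ⟨i, ?_⟩, ?_⟩
  · rw [← zpow_add, add_comm, hst, zpow_one]
  · rw [← zpow_natCast, ← zpow_mul]
    convert hkill t using 2
    push_cast; ring
  · have hb : (f ^ ((r ^ i : ℤ) * s)) ^ m = 1 := by
      rw [← zpow_natCast, ← zpow_mul]
      convert hkill s using 2
      push_cast; ring
    exact (((Fact.out : r.Prime).coprime_iff_not_dvd).2 hm).symm.coprime_dvd_left
      (orderOf_dvd_of_pow_eq_one hb)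

theorem mem_coreR_of_fit {r : ℕ} [Fact r.Prime] {f : G} (hf : f ∈ fit A) {j : ℕ}
    (hj : f ^ r ^ j = 1) : f ∈ coreR r A := by
  obtain ⟨f', hf', rfl⟩ := hf
  have h1 : f' ^ r ^ j = 1 := Subtype.ext (by simpa using hj)
  obtain ⟨i, -, hi⟩ := (Nat.dvd_prime_pow (Fact.out : r.Prime)).1 (orderOf_dvd_of_pow_eq_one h1)
  exact ⟨f', FGSA.RankTwoSolvable.mem_pCore_of_mem_fitting Fact.out hi hf', rfl⟩

theorem fit_commute {r : ℕ} [Fact r.Prime] {u v : G} (hu : u ∈ coreR r A) (hv : v ∈ fit A)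
    (hvo : (orderOf v).Coprime r) : u * v = v * u := by
  obtain ⟨j, hj⟩ := isPGroup_coreR r ⟨u, hu⟩
  have hu' := coreR_le_fit r hu
  obtain ⟨u', hu'F, rfl⟩ := hu'
  obtain ⟨v', hv'F, rfl⟩ := hv
  haveI : Group.IsNilpotent (Cfsg.fittingSubgroup A) := Comp.fitting_isNilpotent
  have h := FGSA.commute_of_coprime_orderOf (⟨u', hu'F⟩ : Cfsg.fittingSubgroup A) ⟨v', hv'F⟩ (by
    rw [← Subgroup.orderOf_coe, ← Subgroup.orderOf_coe, ← Subgroup.orderOf_coe,
      ← Subgroup.orderOf_coe (⟨v', hv'F⟩ : Cfsg.fittingSubgroup A).1]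
    exact (hvo.pow_right j).symm.coprime_dvd_left
      (orderOf_dvd_of_pow_eq_one (congrArg Subtype.val hj)))
  exact congrArg (fun w : Cfsg.fittingSubgroup A => ((w : A) : G)) h.eq

/-- `C_{O_r(A)}(S ∩ O_r(A)) ≤ S`. -/
theorem inf_centralizer_le {r : ℕ} [Fact r.Prime] (hS : Large A S) :
    coreR r A ⊓ centralizer ((S ⊓ coreR r A : Subgroup G) : Set G) ≤ S := by
  intro u hu
  refine hS.self ⟨fit_le_fstar (coreR_le_fit r hu.1), mem_centralizer_iff.2 fun s hs => ?_⟩
  have hsF := hS.le hs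
  have hlay : lay A ≤ normalizer (fit A : Set G) := lay_le.trans (le_normalizer_map_normal _)
  have h1 : s ∈ (↑(lay A ⊔ fit A) : Set G) := by
    have : fstar A = lay A ⊔ fit A := by
      rw [fstar, Cfsg.generalizedFittingSubgroup, Subgroup.map_sup]; rfl
    rw [← this]; exact hsF
  rw [coe_mul_of_left_le_normalizer_right (lay A) (fit A) hlay] at h1
  obtain ⟨e, he, f, hf, rfl⟩ := h1
  have hfS : f ∈ S := by
    rw [show f = e⁻¹ * (e * f) by group]
    exact mul_mem (inv_mem (lay_le_of_large hS he)) hs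
  obtain ⟨a, b, hab, ⟨j, hj⟩, hb⟩ := exists_split (r := r) f
  have hu1 : Commute u (f ^ a) := (mem_centralizer_iff.1 hu.2 _
    ⟨zpow_mem hfS a, mem_coreR_of_fit (zpow_mem hf a) hj⟩).symm
  have hu2 : Commute u (f ^ b) := fit_commute hu.1 (zpow_mem hf b) hb
  have hue : Commute u e := (lay_commute he hu.1).symm
  exact ((hue.mul_right (hab ▸ hu1.mul_right hu2)).eq).symm

theorem center_coreR_le {r : ℕ} [Fact r.Prime] (hS : Large A S) :
    coreR r A ⊓ centralizer (coreR r A : Set G) ≤ S ⊓ coreR r A := fun _z hz =>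
  ⟨inf_centralizer_le hS ⟨hz.1, centralizer_le inf_le_right hz.2⟩, hz.1⟩

theorem coreR_center_ne_bot {r : ℕ} [Fact r.Prime] (hne : coreR r A ≠ ⊥) :
    coreR r A ⊓ centralizer (coreR r A : Set G) ≠ ⊥ := by
  haveI : Nontrivial (coreR r A) := (nontrivial_iff_ne_bot _).2 hne
  haveI := (isPGroup_coreR (A := A) r).center_nontrivial
  obtain ⟨⟨z, hz⟩, hz1⟩ := exists_ne (1 : center (coreR r A))
  refine fun h => hz1 (Subtype.ext (Subtype.ext ?_))
  have hmem : (z : G) ∈ coreR r A ⊓ centralizer (coreR r A : Set G) :=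
    ⟨z.2, mem_centralizer_iff.2 fun g hg => congrArg Subtype.val (mem_center_iff.1 hz ⟨g, hg⟩)⟩
  rw [h, mem_bot] at hmem
  exact hmem

theorem centralizer_le_of_large [IsSimpleGroup G] (hA : IsCoatom A) {r : ℕ} [Fact r.Prime]
    (hS : Large A S) (hne : coreR r A ≠ ⊥) :
    centralizer ((S ⊓ coreR r A : Subgroup G) : Set G) ≤ A := by
  set Z := coreR r A ⊓ centralizer (coreR r A : Set G)
  refine (centralizer_le (center_coreR_le hS)).trans ((centralizer_le_normalizer _).trans (le_of_eq ?_))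
  refine normalizer_eq hA (inf_le_left.trans (coreR_le r)) (coreR_center_ne_bot hne) fun a ha => ?_
  exact inf_normalizer_le_normalizer_inf (mem_inf.2 ⟨le_normalizer_coreR ha,
    LocalBalance.normalizer_le_normalizer_centralizer _ (le_normalizer_coreR ha)⟩)

/-- A `p`-subgroup `X ≤ A` normalized by `S` centralizes `E(A)`. -/
theorem commute_lay {p : ℕ} [Fact p.Prime] {X : Subgroup G} (hX : IsPGroup p X) (hXA : X ≤ A)
    (hS : Large A S) (hSX : S ≤ normalizer (X : Set G)) {x : G} (hx : x ∈ X) :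
    x ∈ centralizer (lay A : Set G) := by
  refine LocalBalance.centralizes_of_commutator_central lay_perfect (le_normalizer_lay (hXA hx))
    fun e he => ?_
  have hD : x * e * x⁻¹ * e⁻¹ ∈ X ⊓ lay A := by
    refine mem_inf.2 ⟨?_, mul_mem ((mem_normalizer_iff.1 (le_normalizer_lay (hXA hx)) e).1 he) (inv_mem he)⟩
    rw [show x * e * x⁻¹ * e⁻¹ = x * (e * x⁻¹ * e⁻¹) by group]
    exact mul_mem hx ((mem_normalizer_iff.1 (hSX (lay_le_of_large hS he)) _).1 (inv_mem hx))
  -- a normal `p`-subgroup of the layer lies in `O_p(A)`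
  set D : Subgroup (Cfsg.layer A) := ((X ⊓ lay A).subgroupOf A).subgroupOf (Cfsg.layer A)
  have hDn : D.Normal := ⟨fun d hd g => by
    refine ⟨(mem_normalizer_iff.1 (hSX (lay_le_of_large hS ⟨(g : A), g.2, rfl⟩)) ((d : A) : G)).1 hd.1, ?_⟩
    exact ⟨_, (g * d * g⁻¹ : Cfsg.layer A).2, rfl⟩⟩
  have hDp : IsPGroup p D := ((hX.to_le inf_le_left).comap_subtype).comap_subtype
  haveI : (Cfsg.pCore p (Cfsg.layer A)).Characteristic := Subgroup.characteristic_iff_map_le.2 fun φ =>
    Solvable.le_pCore p (Subgroup.Normal.map inferInstance _ φ.surjective)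
      ((Solvable.isPGroup_pCore p).map _)
  have hle : (Cfsg.pCore p (Cfsg.layer A)).map (Cfsg.layer A).subtype ≤ Cfsg.pCore p A :=
    Solvable.le_pCore p inferInstance ((Solvable.isPGroup_pCore p).map _)
  obtain ⟨d, hd, hde⟩ : ∃ d : A, d ∈ Cfsg.pCore p A ∧ (d : G) = x * e * x⁻¹ * e⁻¹ := by
    obtain ⟨d, hdl, hde⟩ := hD.2
    exact ⟨d, hle ⟨⟨d, hdl⟩, Solvable.le_pCore p hDn hDp
      (show (⟨d, hdl⟩ : Cfsg.layer A) ∈ D from by
        show (d : G) ∈ X ⊓ lay A
        rw [show (d : G) = _ from hde]; exact hD), rfl⟩, hde⟩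
  exact mem_centralizer_iff.2 fun g hg => lay_commute hg ⟨d, hd, hde⟩

/-- A `p`-subgroup `X ≤ A` normalized by `S` centralizes each `O_r(A)`, `r ≠ p`. -/
theorem commute_coreR {p r : ℕ} [Fact p.Prime] [Fact r.Prime] (hpr : r ≠ p) {X : Subgroup G}
    (hX : IsPGroup p X) (hXA : X ≤ A) (hS : Large A S) (hSX : S ≤ normalizer (X : Set G))
    {x u : G} (hx : x ∈ X) (hu : u ∈ coreR r A) : x * u = u * x := by
  have h1 : ∀ s ∈ S ⊓ coreR r A, x * s = s * x := fun s hs =>
    commute_of_inf_eq_bot (eq_bot_of_isPGroup hpr.symm (hX.to_le inf_le_left)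
      ((isPGroup_coreR r).to_le inf_le_right)) hx hs.2 (le_normalizer_coreR (hXA hx)) (hSX hs.1)
  refine (LocalB.commute_of_pxq ((isPGroup_coreR r).to_le inf_le_right) (isPGroup_coreR r)
    (inf_le_right.trans le_normalizer) ?_ (le_normalizer_coreR (hXA hx))
    (fun s hs => (h1 s hs).symm) ?_ u hu).eq
  · obtain ⟨j, hj⟩ := hX ⟨x, hx⟩
    exact (((Nat.coprime_primes (Fact.out : p.Prime) (Fact.out : r.Prime)).2 hpr.symm).pow_left j).coprime_dvd_left
      (orderOf_dvd_of_pow_eq_one (congrArg Subtype.val hj))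
  · intro v hv hfix
    exact h1 v ⟨inf_centralizer_le hS ⟨hv, mem_centralizer_iff.2 hfix⟩, hv⟩

/-- The part of `F*(A)` generated by `E(A)` and the `O_r(A)`, `r ≠ p`. -/
def away (p : ℕ) (A : Subgroup G) : Subgroup G :=
  lay A ⊔ ⨆ r : {r : ℕ // r.Prime ∧ r ≠ p}, coreR r A

theorem pResidual_le_away (p : ℕ) [Fact p.Prime] :
    ((Cfsg.pResidual p ↥(Cfsg.generalizedFittingSubgroup A)).map
      (Cfsg.generalizedFittingSubgroup A).subtype).map A.subtype ≤ away p A := by
  set T := Cfsg.layer A ⊔ ⨆ r : {r : ℕ // r.Prime ∧ r ≠ p}, Cfsg.pCore (r : ℕ) A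
  have hT : T.map A.subtype = away p A := by
    rw [Subgroup.map_sup, Subgroup.map_iSup]; rfl
  rw [← hT]
  refine map_mono (map_le_iff_le_comap.2 ((closure_le _).2 fun g hg => ?_))
  haveI : ∀ r : {r : ℕ // r.Prime ∧ r ≠ p}, (Cfsg.pCore (r : ℕ) A).Normal := fun r => by
    haveI := Fact.mk r.2.1
    infer_instance
  haveI : T.Normal := by
    haveI : (⨆ r : {r : ℕ // r.Prime ∧ r ≠ p}, Cfsg.pCore (r : ℕ) A).Normal := Subgroup.iSup_normal _
    exact Subgroup.sup_normal _ _
  have hle : Cfsg.generalizedFittingSubgroup A ≤ T ⊔ Cfsg.pCore p A := by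
    refine sup_le (le_sup_of_le_left le_sup_left) ?_
    rw [Comp.fitting_eq_iSup_pCore]
    refine iSup_le fun q => ?_
    rcases eq_or_ne (q : ℕ) p with h | h
    · rw [h]; exact le_sup_right
    · exact le_sup_of_le_left (le_sup_of_le_right (le_iSup
        (fun r : {r : ℕ // r.Prime ∧ r ≠ p} => Cfsg.pCore (r : ℕ) A)
        ⟨q, Nat.prime_of_mem_primeFactors q.2, h⟩))
  have hmem : (g : A) ∈ (↑(T ⊔ Cfsg.pCore p A) : Set A) := hle g.2
  rw [coe_mul_of_right_le_normalizer_left T (Cfsg.pCore p A) le_normalizer_of_normal] at hmem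
  obtain ⟨t, ht, o, ho, hto⟩ := hmem
  set f := QuotientGroup.mk' T
  have hfo : f (g : A) = f o := by
    rw [← hto]
    show f (t * o) = f o
    rw [map_mul, show f t = 1 from (QuotientGroup.eq_one_iff t).2 ht, one_mul]
  obtain ⟨j, hj⟩ := Solvable.isPGroup_pCore (G := A) p ⟨o, ho⟩
  refine (QuotientGroup.eq_one_iff (N := T) (g : A)).1 (orderOf_eq_one_iff.1 (Nat.eq_one_of_dvd_coprimes
    ((show (orderOf g).Coprime p from hg).pow_right j) ?_ ?_))
  · exact (orderOf_map_dvd f (g : A)).trans (Subgroup.orderOf_coe g).dvd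
  · show orderOf (f (g : A)) ∣ p ^ j
    rw [hfo]
    exact (orderOf_map_dvd f o).trans (orderOf_dvd_of_pow_eq_one (congrArg Subtype.val hj))

theorem le_centralizer_away {p : ℕ} [Fact p.Prime] {X : Subgroup G} (hX : IsPGroup p X) (hXA : X ≤ A)
    (hS : Large A S) (hSX : S ≤ normalizer (X : Set G)) :
    away p A ≤ centralizer (X : Set G) := by
  refine sup_le (Subgroup.le_centralizer_iff.1 fun x hx => commute_lay hX hXA hS hSX hx)
    (iSup_le fun r u hu => mem_centralizer_iff.2 fun x hx => ?_)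
  haveI := Fact.mk r.2.1
  exact commute_coreR r.2.2 hX hXA hS hSX hx hu

/-- (a) A `q`-subgroup of `A` normalized by `S` is trivial for `q` prime to `|F(A)|`. -/
theorem eq_bot_of_not_dvd {q : ℕ} [Fact q.Prime] (hq : ¬ q ∣ Nat.card (Cfsg.fittingSubgroup A))
    {X : Subgroup G} (hX : IsPGroup q X) (hXA : X ≤ A) (hS : Large A S)
    (hSX : S ≤ normalizer (X : Set G)) : X = ⊥ := by
  refine (eq_bot_iff_forall _).2 fun x hx => ?_
  have hc : fstar A ≤ centralizer {x} := by
    refine fstar_le_centralizer_of (fun e he => (mem_centralizer_iff.1 (commute_lay hX hXA hS hSX hx) e he).symm)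
      fun r hr u hu => ?_
    haveI := Fact.mk hr
    by_cases hrq : r = q
    · subst hrq
      obtain ⟨u', hu', rfl⟩ := hu
      obtain ⟨j, hj⟩ := Solvable.isPGroup_pCore (G := A) r ⟨u', hu'⟩
      have hu1 : u' = 1 := orderOf_eq_one_iff.1 (Nat.eq_one_of_dvd_coprimes
        ((((Fact.out : r.Prime).coprime_iff_not_dvd).2 hq).pow_left j)
        (orderOf_dvd_of_pow_eq_one (congrArg Subtype.val hj))
        ((orderOf_dvd_natCard (Cfsg.pCore r A) hu').trans
          (card_dvd_of_le (Comp.le_fitting inferInstance (Solvable.isPGroup_pCore r).isNilpotent))))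
      simp [hu1]
    · exact commute_coreR hrq hX hXA hS hSX hx hu
  set x' : A := ⟨x, hXA hx⟩
  have hxC : x' ∈ centralizer (Cfsg.generalizedFittingSubgroup A : Set A) :=
    mem_centralizer_iff.2 fun z hz => Subtype.ext
      (mem_centralizer_singleton_iff.1 (hc ⟨z, hz, rfl⟩))
  set C := centralizer (Cfsg.generalizedFittingSubgroup A : Set A)
  haveI : IsMulCommutative C := ⟨⟨fun a b => Subtype.ext
    (mem_centralizer_iff.1 b.2 a (Comp.centralizer_Fstar_le a.2))⟩⟩
  have hCF : C ≤ Cfsg.fittingSubgroup A :=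
    Comp.le_fitting inferInstance (Subgroup.isNilpotent_of_lowerCentralSeries_eq_bot (n := 1)
      (by simp [commutator_self_eq_bot_iff.mpr inferInstance]))
  obtain ⟨j, hj⟩ := hX ⟨x, hx⟩
  have h1 : x' = 1 := orderOf_eq_one_iff.1 (Nat.eq_one_of_dvd_coprimes
    ((((Fact.out : q.Prime).coprime_iff_not_dvd).2 hq).pow_left j)
    (orderOf_dvd_of_pow_eq_one (Subtype.ext (by simpa [x'] using congrArg Subtype.val hj)))
    (orderOf_dvd_natCard _ (hCF hxC)))
  exact congrArg Subtype.val h1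

/-- (b) A `p`-subgroup normalized by `S` centralizes `O^p(F*(A))`. -/
theorem away_le_centralizer [IsSimpleGroup G] (hA : IsCoatom A) {p : ℕ} [Fact p.Prime]
    (hp : p ∣ Nat.card (Cfsg.fittingSubgroup A)) {Q : Subgroup G} (hQ : IsPGroup p Q)
    (hS : Large A S) (hSQ : S ≤ normalizer (Q : Set G)) :
    away p A ≤ centralizer (Q : Set G) := by
  have hSA : S ≤ A := hS.le.trans fstar_le
  have hSX : S ≤ normalizer ((Q ⊓ A : Subgroup G) : Set G) := fun s hs =>
    inf_normalizer_le_normalizer_inf (mem_inf.2 ⟨hSQ hs, le_normalizer (hSA hs)⟩)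
  have hcore := le_centralizer_away (hQ.to_le (inf_le_left : Q ⊓ A ≤ Q)) inf_le_right hS hSX
  suffices hfin : Q ≤ A ∨ away p A = ⊥ by
    rcases hfin with h | h
    · rwa [inf_eq_left.2 h] at hcore
    · rw [h]; exact bot_le
  have hRp : coreR p A ≠ ⊥ := by
    obtain ⟨f, hf⟩ := exists_prime_orderOf_dvd_card' (G := Cfsg.fittingSubgroup A) p hp
    intro h
    have hm : ((f : A) : G) ∈ coreR p A := mem_coreR_of_fit ⟨(f : A), f.2, rfl⟩ (j := 1) (by
      rw [pow_one, ← hf]
      exact congrArg (fun w : Cfsg.fittingSubgroup A => ((w : A) : G)) (pow_orderOf_eq_one f))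
    rw [h, mem_bot] at hm
    have : f = 1 := Subtype.ext (Subtype.ext hm)
    rw [this, orderOf_one] at hf
    exact (Fact.out : p.Prime).one_lt.ne hf
  have hCp := centralizer_le_of_large hA hS hRp
  set P := S ⊓ coreR p A
  -- `p'`-elements of `S` commuting with `P` centralize `Q`
  have hkey : ∀ w ∈ S ⊓ away p A, (orderOf w).Coprime p → (∀ π ∈ P, Commute π w) →
      w ∈ centralizer (Q : Set G) := fun w hw hwo hwP => mem_centralizer_iff.2 fun y hy => by
    refine ((LocalB.commute_of_pxq ((isPGroup_coreR p).to_le inf_le_right) hQ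
      (inf_le_left.trans hSQ) hwo (hSQ hw.1) hwP ?_) y hy).eq.symm
    intro v hv hfix
    exact (mem_centralizer_iff.1 (hcore hw.2) v ⟨hv, hCp (mem_centralizer_iff.2 hfix)⟩).symm
  by_cases hr : ∃ r : ℕ, r.Prime ∧ r ≠ p ∧ coreR r A ≠ ⊥
  · obtain ⟨r, hr, hrp, hrne⟩ := hr
    haveI := Fact.mk hr
    left
    refine le_trans ?_ (centralizer_le_of_large hA hS hrne)
    refine Subgroup.le_centralizer_iff.1 fun w hw => hkey w ⟨hw.1, mem_sup_right
      (le_iSup (fun r : {r : ℕ // r.Prime ∧ r ≠ p} => coreR (r : ℕ) A) ⟨r, hr, hrp⟩ hw.2)⟩ ?_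
      fun π hπ => coreR_commute hrp.symm hπ.2 hw.2
    obtain ⟨j, hj⟩ := isPGroup_coreR r ⟨w, hw.2⟩
    exact (((Nat.coprime_primes hr (Fact.out : p.Prime)).2 hrp).pow_left j).coprime_dvd_left
      (orderOf_dvd_of_pow_eq_one (congrArg Subtype.val hj))
  push Not at hr
  have haway : away p A = lay A := by
    refine le_antisymm (sup_le le_rfl (iSup_le fun r => ?_)) le_sup_left
    rw [hr r.1 r.2.1 r.2.2]; exact bot_le
  rcases eq_or_ne (lay A) ⊥ with hE | hE
  · exact Or.inr (haway.trans hE)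
  left
  refine le_trans (Subgroup.le_centralizer_iff.1 ?_)
    ((centralizer_le_normalizer _).trans (normalizer_eq hA lay_le hE le_normalizer_lay).le)
  set T := (centralizer (Q : Set G)).subgroupOf (lay A)
  haveI : T.Normal := ⟨fun t ht g => (mem_normalizer_iff.1
    (LocalBalance.normalizer_le_normalizer_centralizer _ (hSQ (lay_le_of_large hS g.2))) (t : G)).1 ht⟩
  have hall : (⊤ : Subgroup (lay A)) ≤ T := by
    refine LocalBalance.le_of_coprime_elements (p := p) ?_ fun w _ hwo => ?_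
    · refine le_sup_of_le_left fun g _ => ?_
      have h1 : (g : G) ∈ Subgroup.map (lay A).subtype ⁅(⊤ : Subgroup (lay A)), (⊤ : Subgroup (lay A))⁆ := by
        rw [Subgroup.map_commutator, ← MonoidHom.range_eq_map, range_subtype, lay_perfect]
        exact g.2
      obtain ⟨g', hg', e⟩ := h1
      exact (Subtype.ext e : g' = g) ▸ hg'
    · refine hkey w ⟨lay_le_of_large hS w.2, mem_sup_left w.2⟩ (by rwa [Subgroup.orderOf_coe])
        fun π hπ => (lay_commute w.2 hπ.2).symm
  exact fun w hw => hall (mem_top (⟨w, hw⟩ : lay A))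

end CfsgLib.MaxBender
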