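import Mathlib.GroupTheory.SpecificGroups.KleinFour
import Mathlib.GroupTheory.SpecificGroups.Dihedral
import Cfsg.Agent.Invol.Dihedral
import Cfsg.Agent.Invol.ThompsonTransfer

/-!
Klein four-subgroups of a group with a dihedral Sylow 2-subgroup.
-/

set_option autoImplicit false
set_option linter.unusedSectionVars false
set_option linter.deprecated false
set_option linter.style.haveILetI false
set_option linter.style.multiGoal false

namespace CfsgLib.DihFour

open Subgroup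

variable {X : Type*} [Group X]

/-- Generators of a dihedral 2-subgroup `S` of order `4 * h`. -/
structure Data (S : Subgroup X) where
  /-- half of the order of the rotation -/
  h : ℕ
  /-- exponent of two in `h` -/
  k : ℕ
  /-- the rotation -/
  r : X
  /-- a reflection -/
  s : X
  hh : h = 2 ^ k
  hr : orderOf r = 2 * h
  hs : orderOf s = 2
  hsr : s * r * s⁻¹ = r⁻¹
  rS : r ∈ S
  sS : s ∈ S
  cases : ∀ g ∈ S, ∃ i : ℤ, g = r ^ i ∨ g = r ^ i * s
  card_eq : Nat.card S = 4 * h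
  s_not : s ∉ zpowers r

theorem isKleinFour_mk [Finite X] {T : Subgroup X} (hc : Nat.card T = 4)
    (hexp : ∀ g ∈ T, g * g = 1) : IsKleinFour T := by
  refine ⟨hc, ?_⟩
  haveI : Nontrivial T := Finite.one_lt_card_iff_nontrivial.1 (by omega)
  exact (Monoid.exponent_eq_prime_iff Nat.prime_two).2 fun g hg =>
    orderOf_eq_prime (Subtype.ext (by rw [SubmonoidClass.coe_pow, sq]; exact hexp g g.2)) hg

theorem exists_data [Finite X] {S : Subgroup X} (hS : IsPGroup 2 S) {m : ℕ} (hm : 2 ≤ m)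
    (e : S ≃* DihedralGroup m) : Nonempty (Data S) := by
  haveI : NeZero m := ⟨by omega⟩
  obtain ⟨n, hn⟩ := IsPGroup.iff_card.1 hS
  have hc : Nat.card S = 2 * m := (Nat.card_congr e.toEquiv).trans DihedralGroup.nat_card
  have hn2 : 2 ≤ n := by
    by_contra h
    have : 2 ^ n ≤ 2 := le_trans (Nat.pow_le_pow_right two_pos (show n ≤ 1 by omega)) le_rfl
    omega
  obtain ⟨k, rfl⟩ : ∃ k, n = k + 2 := ⟨n - 2, by omega⟩
  rw [hn, pow_add] at hc
  set r : S := e.symm (DihedralGroup.r 1) with hr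
  set s : S := e.symm (DihedralGroup.sr 0) with hs
  have her : ∀ i : ℤ, e (r ^ i) = DihedralGroup.r (i : ZMod m) := fun i => by
    rw [map_zpow, hr, MulEquiv.apply_symm_apply, DihedralGroup.r_one_zpow]
  refine ⟨⟨2 ^ k, k, r, s, rfl, ?_, ?_, ?_, r.2, s.2, ?_, ?_, ?_⟩⟩
  · rw [Subgroup.orderOf_coe, hr, e.symm.orderOf_eq, DihedralGroup.orderOf_r_one]; omega
  · rw [Subgroup.orderOf_coe, hs, e.symm.orderOf_eq, DihedralGroup.orderOf_sr]
  · have h1 : s * r * s⁻¹ = r⁻¹ := e.injective (by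
      simp [hr, hs])
    exact congrArg Subtype.val h1
  · intro g hg
    rcases hcase : e ⟨g, hg⟩ with a | a
    · refine ⟨(a.val : ℤ), Or.inl ?_⟩
      have h1 : (⟨g, hg⟩ : S) = r ^ (a.val : ℤ) := e.injective (by
        rw [her, hcase, Int.cast_natCast, ZMod.natCast_zmod_val])
      simpa using congrArg Subtype.val h1
    · refine ⟨-(a.val : ℤ), Or.inr ?_⟩
      have h1 : (⟨g, hg⟩ : S) = r ^ (-(a.val : ℤ)) * s := e.injective (by
        rw [map_mul, her, hcase, hs, MulEquiv.apply_symm_apply, DihedralGroup.r_mul_sr]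
        simp)
      simpa using congrArg Subtype.val h1
  · rw [hn, pow_add]; ring
  · rintro ⟨i, hi⟩
    have h1 : r ^ i = s := Subtype.ext (by simpa using hi)
    have h2 := her i
    rw [h1, hs, MulEquiv.apply_symm_apply] at h2
    exact absurd h2 (by simp)

namespace Data

variable {S : Subgroup X} (D : Data S)

theorem h_pos : 0 < D.h := D.hh ▸ Nat.two_pow_pos _

/-- The central involution. -/
def z : X := D.r ^ (D.h : ℤ)

theorem z_mem : D.z ∈ S := zpow_mem D.rS _

theorem rpow_eq_one_iff {i : ℤ} : D.r ^ i = 1 ↔ 2 * (D.h : ℤ) ∣ i := by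
  rw [← orderOf_dvd_iff_zpow_eq_one, D.hr]; push_cast; rfl

theorem z_ne : D.z ≠ 1 := by
  rw [z, Ne, D.rpow_eq_one_iff]
  intro h
  have := D.h_pos
  have := Int.le_of_dvd (by omega) h
  omega

theorem z_sq : D.z * D.z = 1 := by
  rw [z, ← zpow_add, D.rpow_eq_one_iff]; exact ⟨1, by ring⟩

theorem z_inv : D.z⁻¹ = D.z := inv_eq_of_mul_eq_one_right D.z_sq

theorem rpow_inv_of_sq {i : ℤ} (h1 : D.r ^ i * D.r ^ i = 1) : D.r ^ i = 1 ∨ D.r ^ i = D.z := by
  rw [← zpow_add, D.rpow_eq_one_iff] at h1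
  obtain ⟨c, hc⟩ := h1
  rcases Int.even_or_odd c with ⟨j, rfl⟩ | ⟨j, rfl⟩
  · exact Or.inl (D.rpow_eq_one_iff.2 ⟨j, by linarith⟩)
  · right
    rw [z, show i = (D.h : ℤ) + 2 * (D.h : ℤ) * j by linarith, zpow_add,
      D.rpow_eq_one_iff.2 ⟨j, rfl⟩, mul_one]

theorem s_rpow (i : ℤ) : D.s * D.r ^ i * D.s⁻¹ = D.r ^ (-i) := by
  rw [← conj_zpow, D.hsr, inv_zpow']

theorem s_mul_rpow (i : ℤ) : D.s * D.r ^ i = D.r ^ (-i) * D.s :=
  mul_inv_eq_iff_eq_mul.1 (D.s_rpow i)

theorem s_sq : D.s * D.s = 1 := CfsgLib.Invol.mul_self_eq_one D.hs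

theorem refl_mul (i j : ℤ) : D.r ^ i * D.s * (D.r ^ j * D.s) = D.r ^ (i - j) := by
  rw [mul_assoc, ← mul_assoc D.s, D.s_mul_rpow, mul_assoc _ D.s, D.s_sq, mul_one, ← zpow_add,
    ← sub_eq_add_neg]

theorem refl_sq (i : ℤ) : D.r ^ i * D.s * (D.r ^ i * D.s) = 1 := by
  rw [D.refl_mul, sub_self, zpow_zero]

theorem refl_not_mem (i : ℤ) : D.r ^ i * D.s ∉ zpowers D.r := fun h =>
  D.s_not ((mul_mem_cancel_left (zpow_mem (mem_zpowers D.r) i)).1 h)

theorem refl_ne_one (i : ℤ) : D.r ^ i * D.s ≠ 1 := fun h => D.refl_not_mem i (h ▸ one_mem _)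

theorem refl_ne_z (i : ℤ) : D.r ^ i * D.s ≠ D.z := fun h =>
  D.refl_not_mem i (h ▸ zpow_mem (mem_zpowers D.r) _)

theorem s_ne_z : D.s ≠ D.z := fun h => D.refl_ne_z 0 (by rw [zpow_zero, one_mul, h])

theorem z_comm {g : X} (hg : g ∈ S) : Commute D.z g := by
  have hs : Commute D.z D.s := by
    have := D.s_mul_rpow (D.h : ℤ)
    rw [zpow_neg, ← z, D.z_inv] at this
    exact this.symm
  have hr : ∀ i : ℤ, Commute D.z (D.r ^ i) := fun i => Commute.zpow_zpow_self D.r _ _
  obtain ⟨i, rfl | rfl⟩ := D.cases g hg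
  · exact hr i
  · exact (hr i).mul_right hs

theorem rot_conj_refl (i j : ℤ) :
    D.r ^ j * (D.r ^ i * D.s) * (D.r ^ j)⁻¹ = D.r ^ (i + 2 * j) * D.s := by
  rw [← zpow_neg, mul_assoc, mul_assoc, D.s_mul_rpow, ← mul_assoc, ← mul_assoc, ← zpow_add,
    ← zpow_add]
  congr 2; ring

/-- The four-group generated by `z` and a reflection. -/
def four (i : ℤ) : Subgroup X := closure {D.z, D.r ^ i * D.s}

theorem four_le (i : ℤ) : D.four i ≤ S := (closure_le _).2 (by
  rintro g (rfl | rfl)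
  exacts [D.z_mem, mul_mem (zpow_mem D.rS i) D.sS])

theorem four_klein [Finite X] (i : ℤ) : IsKleinFour (D.four i) := by
  set a := D.z
  set b := D.r ^ i * D.s
  have hc : Commute a b := D.z_comm (mul_mem (zpow_mem D.rS i) D.sS)
  let U : Subgroup X :=
    { carrier := {g | g = 1 ∨ g = a ∨ g = b ∨ g = a * b}
      one_mem' := Or.inl rfl
      mul_mem' := by
        have ha : a * a = 1 := D.z_sq
        have hb : b * b = 1 := D.refl_sq i
        have haab : a * (a * b) = b := by rw [← mul_assoc, ha, one_mul]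
        have haba : a * b * a = b := by rw [hc.eq, mul_assoc, ha, mul_one]
        have habb : a * b * b = a := by rw [mul_assoc, hb, mul_one]
        have hbab : b * (a * b) = a := by rw [← mul_assoc, ← hc.eq, habb]
        have habab : a * b * (a * b) = 1 := by rw [← mul_assoc, haba, hb]
        rintro u v (rfl | rfl | rfl | rfl) (rfl | rfl | rfl | rfl) <;>
          simp [ha, hb, hc.eq.symm, haab, haba, habb, hbab, habab]
      inv_mem' := by
        have ha : a⁻¹ = a := D.z_inv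
        have hb : b⁻¹ = b := inv_eq_of_mul_eq_one_right (D.refl_sq i)
        rintro u (rfl | rfl | rfl | rfl) <;> simp [ha, hb, hc.eq.symm] }
  have hU : D.four i = U := by
    refine le_antisymm ((closure_le _).2 ?_) ?_
    · rintro g (rfl | rfl)
      exacts [Or.inr (Or.inl rfl), Or.inr (Or.inr (Or.inl rfl))]
    · have h1 : a ∈ D.four i := subset_closure (Or.inl rfl)
      have h2 : b ∈ D.four i := subset_closure (Or.inr rfl)
      rintro g (rfl | rfl | rfl | rfl)
      exacts [one_mem _, h1, h2, mul_mem h1 h2]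
  rw [hU]
  have hab : a ≠ b := fun h => D.refl_ne_z i h.symm
  have hab1 : a * b ≠ 1 := fun h => hab (by rw [← mul_inv_eq_one, inv_eq_of_mul_eq_one_right (D.refl_sq i), h])
  have hset : (U : Set X) = {1, a, b, a * b} := by ext g; simp [U]
  have hcard : Nat.card U = 4 := by
    show Nat.card (U : Set X) = 4
    rw [Nat.card_coe_set_eq, hset]
    have h1 : a ≠ a * b := fun h => D.refl_ne_one i (by simpa using h.symm)
    have h2 : b ≠ a * b := fun h => D.z_ne (by simpa using h.symm)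
    rw [Set.ncard_insert_of_notMem (by simp [D.z_ne.symm, (D.refl_ne_one i).symm, hab1.symm, a, b]),
      Set.ncard_insert_of_notMem (by simp [hab, h1]), Set.ncard_pair h2]
  refine isKleinFour_mk hcard fun g hg => ?_
  have hz := D.z_sq
  have hb := D.refl_sq i
  rcases (show g = 1 ∨ g = a ∨ g = b ∨ g = a * b from hg) with rfl | rfl | rfl | rfl
  · exact one_mul 1
  · exact hz
  · exact hb
  · rw [hc.symm.mul_mul_mul_comm, hz, hb, one_mul]

theorem mem_four {i : ℤ} {g : X} (hg : g ∈ D.four i) (hFin : Finite X) :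
    g = 1 ∨ g = D.z ∨ g = D.r ^ i * D.s ∨ g = D.r ^ (i + (D.h : ℤ)) * D.s := by
  have hzr : D.z * (D.r ^ i * D.s) = D.r ^ (i + (D.h : ℤ)) * D.s := by
    rw [z, ← mul_assoc, ← zpow_add, add_comm]
  have hs : D.z ∈ D.four i := subset_closure (Or.inl rfl)
  have hb : D.r ^ i * D.s ∈ D.four i := subset_closure (Or.inr rfl)
  haveI := D.four_klein i
  have hne : (⟨_, hs⟩ : D.four i) ≠ ⟨_, hb⟩ := fun h => D.refl_ne_z i (congrArg Subtype.val h).symm
  by_cases h1 : g = 1
  · exact Or.inl h1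
  by_cases h2 : g = D.z
  · exact Or.inr (Or.inl h2)
  by_cases h3 : g = D.r ^ i * D.s
  · exact Or.inr (Or.inr (Or.inl h3))
  refine Or.inr (Or.inr (Or.inr ?_))
  have := IsKleinFour.eq_mul_of_ne_all (x := (⟨_, hs⟩ : D.four i)) (y := ⟨_, hb⟩) (z := ⟨g, hg⟩)
    (fun h => D.z_ne (congrArg Subtype.val h)) (fun h => D.refl_ne_one i (congrArg Subtype.val h)) hne
    (fun h => h1 (congrArg Subtype.val h)) (fun h => h2 (congrArg Subtype.val h))
    (fun h => h3 (congrArg Subtype.val h))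
  rw [← hzr]
  exact congrArg Subtype.val this

/-- A four-subgroup of `S` contains `z` and is conjugate to one of the two standard ones. -/
theorem klein_in_S [Finite X] {V : Subgroup X} (hVS : V ≤ S) (hV : IsKleinFour V) :
    ∃ i : ℤ, (i = 0 ∨ i = 1) ∧ ∃ x : X, V.map (MulAut.conj x).toMonoidHom = D.four i := by
  haveI := hV
  have hsq : ∀ g ∈ V, g * g = 1 := fun g hg => congrArg Subtype.val (IsKleinFour.mul_self (⟨g, hg⟩ : V))
  have hrot : ∀ i : ℤ, D.r ^ i ∈ V → D.r ^ i = 1 ∨ D.r ^ i = D.z := fun i hi =>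
    D.rpow_inv_of_sq (hsq _ hi)
  -- a reflection
  obtain ⟨i, hi⟩ : ∃ i : ℤ, D.r ^ i * D.s ∈ V := by
    by_contra hcon
    push Not at hcon
    have hle : (V : Set X) ⊆ {1, D.z} := fun g hg => by
      obtain ⟨j, rfl | rfl⟩ := D.cases g (hVS hg)
      · exact hrot j hg
      · exact absurd hg (hcon j)
    have := Set.ncard_le_ncard hle
    rw [← Nat.card_coe_set_eq, show Nat.card (V : Set X) = 4 from hV.card_four, Set.ncard_pair D.z_ne.symm] at this
    omega
  have hz : D.z ∈ V := by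
    obtain ⟨g, hg, hne⟩ : ∃ g ∈ V, g ∉ ({1, D.r ^ i * D.s} : Set X) := by
      by_contra hcon
      push Not at hcon
      have := Set.ncard_le_ncard (show (V : Set X) ⊆ {1, D.r ^ i * D.s} from hcon)
      rw [← Nat.card_coe_set_eq, show Nat.card (V : Set X) = 4 from hV.card_four, Set.ncard_pair (D.refl_ne_one i).symm] at this
      omega
    simp only [Set.mem_insert_iff, Set.mem_singleton_iff, not_or] at hne
    obtain ⟨j, rfl | rfl⟩ := D.cases g (hVS hg)
    · exact ((hrot j hg).resolve_left hne.1) ▸ hg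
    · have h1 := mul_mem hg hi
      rw [D.refl_mul] at h1
      rcases hrot _ h1 with h2 | h2
      · refine absurd ?_ hne.2
        rw [← D.refl_mul] at h2
        rw [eq_inv_of_mul_eq_one_left h2, inv_eq_of_mul_eq_one_right (D.refl_sq i)]
      · exact h2 ▸ h1
  have hVeq : ∀ {W : Subgroup X} {j : ℤ}, IsKleinFour W → D.z ∈ W → D.r ^ j * D.s ∈ W → W = D.four j := by
    intro W j hW hzW hjW
    symm
    refine Subgroup.eq_of_le_of_card_ge ((closure_le _).2 ?_) ?_
    · rintro g (rfl | rfl)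
      exacts [hzW, hjW]
    · rw [hW.card_four, (D.four_klein j).card_four]
  obtain ⟨l, hl⟩ : ∃ l : ℤ, i + 2 * l = 0 ∨ i + 2 * l = 1 := by
    rcases Int.even_or_odd i with ⟨c, rfl⟩ | ⟨c, rfl⟩
    · exact ⟨-c, Or.inl (by ring)⟩
    · exact ⟨-c, Or.inr (by ring)⟩
  refine ⟨i + 2 * l, hl, D.r ^ l, hVeq ?_ ?_ ?_⟩
  · refine isKleinFour_mk ?_ ?_
    · rw [card_map_of_injective (f := (MulAut.conj (D.r ^ l)).toMonoidHom) (MulAut.conj (D.r ^ l)).injective, hV.card_four]
    · rintro _ ⟨g, hg, rfl⟩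
      show MulAut.conj (D.r ^ l) g * MulAut.conj (D.r ^ l) g = 1
      rw [← map_mul, hsq g hg, map_one]
  · refine ⟨D.z, hz, ?_⟩
    show D.r ^ l * D.z * (D.r ^ l)⁻¹ = D.z
    rw [← (D.z_comm (zpow_mem D.rS l)).eq, mul_inv_cancel_right]
  · exact ⟨_, hi, D.rot_conj_refl i l⟩

/-- In `C(z)` the reflections of the two classes are not conjugate. -/
theorem not_conj_in_centralizer [Finite X] (hS : Odd S.index) (hh : 2 ∣ D.h) {c : X}
    (hc : c * D.z * c⁻¹ = D.z) : c * D.s * c⁻¹ ≠ D.r * D.s := by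
  haveI : Fact (Nat.Prime 2) := ⟨Nat.prime_two⟩
  intro hconj
  set C := centralizer ({D.z} : Set X) with hCdef
  have hSC : S ≤ C := fun g hg => mem_centralizer_singleton_iff.2 (D.z_comm hg).symm.eq
  have hcC : c ∈ C := mem_centralizer_singleton_iff.2 (mul_inv_eq_iff_eq_mul.1 hc)
  set P := S.subgroupOf C with hPdef
  set Q := (zpowers D.r).subgroupOf C with hQdef
  have hrS : zpowers D.r ≤ S := zpowers_le.2 D.rS
  have hcardQ : Nat.card Q = 2 * D.h := by
    rw [Nat.card_congr (subgroupOfEquivOfLe (hrS.trans hSC)).toEquiv, Nat.card_zpowers, D.hr]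
  have hcardP : Nat.card P = 4 * D.h := by
    rw [Nat.card_congr (subgroupOfEquivOfLe hSC).toEquiv, D.card_eq]
  have hPodd : Odd P.index := hS.of_dvd_nat (relIndex_dvd_index_of_le hSC)
  have hQle : Q ≤ P := fun g hg => hrS hg
  have hQi : Q.relIndex P = 2 := by
    have e : Q.relIndex P * Nat.card Q = Nat.card P := by
      rw [← Nat.card_congr (subgroupOfEquivOfLe hQle).toEquiv, relIndex, index_mul_card]
    rw [hcardQ, hcardP] at e
    exact Nat.eq_of_mul_eq_mul_right (show 0 < 2 * D.h by have := D.h_pos; omega) (by rw [e]; ring)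
  obtain ⟨M, hMn, hMi, hsM⟩ | ⟨g, hg⟩ := CfsgLib.ThompsonTransfer.thompson_transfer P Q hPodd hQi
    (u := (⟨D.s, hSC D.sS⟩ : C)) (Subtype.ext D.s_sq)
  swap
  · rw [hQdef, mem_subgroupOf, Subgroup.coe_mul, Subgroup.coe_mul, Subgroup.coe_inv, mem_zpowers_iff] at hg
    obtain ⟨i, hi⟩ := hg
    have hgz : (g : X) * D.z * (g : X)⁻¹ = D.z := by
      rw [mem_centralizer_singleton_iff.1 g.2, mul_inv_cancel_right]
    rcases D.rpow_inv_of_sq (i := i) (by
        rw [hi]
        show (MulAut.conj (g : X)) D.s * (MulAut.conj (g : X)) D.s = 1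
        rw [← map_mul, D.s_sq, map_one]) with h | h
    · exact CfsgLib.Invol.ne_one D.hs (conj_eq_one_iff.1 (hi.symm.trans h))
    · exact D.s_ne_z ((MulAut.conj (g : X)).injective (hi.symm.trans (h.trans hgz.symm)))
  haveI := hMn
  set R : C := ⟨D.r, hSC D.rS⟩ with hR
  set T : C := ⟨D.s, hSC D.sS⟩ with hT
  have hRT : R * T ∉ M := fun h => hsM (by
    have e : (⟨c, hcC⟩ : C)⁻¹ * (R * T) * ⟨c, hcC⟩ = T := Subtype.ext (by
      show c⁻¹ * (D.r * D.s) * c = D.s
      rw [← hconj]; group)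
    rw [← e]
    exact hMn.conj_mem' _ h _)
  have hRM : R ∈ M := by
    by_contra h
    exact hRT ((mul_mem_iff_of_index_two hMi).2 (iff_of_false h hsM))
  have hQM : Q ≤ M := fun g hg => by
    obtain ⟨i, hi⟩ := mem_zpowers_iff.1 (mem_subgroupOf.1 hg)
    rw [show g = R ^ i from Subtype.ext (by rw [Subgroup.coe_zpow]; exact hi.symm)]
    exact zpow_mem hRM i
  set W := Q.subgroupOf M with hW
  have hWcard : Nat.card W = 2 * D.h := by rw [Nat.card_congr (subgroupOfEquivOfLe hQM).toEquiv, hcardQ]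
  have hPeq : P.index * (4 * D.h) = Nat.card C := by rw [← hcardP, index_mul_card]
  have hMcard : Nat.card M = P.index * (2 * D.h) := by
    have := M.index_mul_card
    rw [hMi, ← hPeq] at this
    linarith
  have hWi : W.index = P.index := by
    have := W.index_mul_card
    rw [hWcard, hMcard] at this
    exact Nat.eq_of_mul_eq_mul_right (by have := D.h_pos; omega) this
  have hWp : IsPGroup 2 W := IsPGroup.of_card (n := D.k + 1) (by rw [hWcard, D.hh]; ring)
  set T' : Sylow 2 M := hWp.toSylow (by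
    rw [hWi]; exact fun h => Nat.not_even_iff_odd.2 hPodd (even_iff_two_dvd.2 h))
  have hT' : (T' : Subgroup M) = W := rfl
  haveI hcyc : IsCyclic (T' : Subgroup M) := by
    haveI : IsCyclic W := ((subgroupOfEquivOfLe hQM).trans (subgroupOfEquivOfLe (hrS.trans hSC))).isCyclic.2 inferInstance
    exact hT' ▸ this
  have hp : (Nat.card M).minFac = 2 := (Nat.minFac_eq_two_iff _).2 ⟨P.index * D.h, by rw [hMcard]; ring⟩
  have hcomp := IsCyclic.isComplement' hp hcyc
  set K := (MonoidHom.transferSylow T' (hcyc.normalizer_le_centralizer hp)).ker with hK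
  have hKcard : Nat.card K = P.index := by
    have := hcomp.card_mul
    rw [show Nat.card (T' : Subgroup M) = 2 * D.h by rw [hT', hWcard], hMcard] at this
    exact Nat.eq_of_mul_eq_mul_right (by have := D.h_pos; omega) this
  have hKi : K.index = 2 ^ (D.k + 1) := by
    rw [hcomp.symm.index_eq_card, hT', hWcard, D.hh]; ring
  -- membership in the complement is governed by the order
  have hmem : ∀ g : M, g ∈ K ↔ Odd (orderOf g) := by
    intro g
    constructor
    · intro hg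
      refine hPodd.of_dvd_nat ?_
      rw [← hKcard, ← Subgroup.orderOf_mk g hg]
      exact orderOf_dvd_natCard _
    · intro hodd
      haveI : K.Normal := inferInstance
      rw [← QuotientGroup.eq_one_iff g, ← orderOf_eq_one_iff]
      have h1 : orderOf (g : M ⧸ K) ∣ orderOf g := orderOf_map_dvd (QuotientGroup.mk' K) g
      have h2 : orderOf (g : M ⧸ K) ∣ 2 ^ (D.k + 1) := hKi ▸ orderOf_dvd_natCard _
      exact Nat.eq_one_of_dvd_coprimes ((Nat.coprime_two_right.2 hodd).pow_right _) h1 h2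
  set O := K.map M.subtype with hO
  have hOmem : ∀ g : C, g ∈ O ↔ g ∈ M ∧ Odd (orderOf g) := by
    intro g
    constructor
    · rintro ⟨a, ha, rfl⟩
      exact ⟨a.2, by rw [M.coe_subtype, Subgroup.orderOf_coe]; exact (hmem a).1 ha⟩
    · rintro ⟨hg, hodd⟩
      exact ⟨⟨g, hg⟩, (hmem _).2 (by rwa [Subgroup.orderOf_mk]), rfl⟩
  haveI hOn : O.Normal := ⟨fun g hg a => by
    rw [hOmem] at hg ⊢
    refine ⟨hMn.conj_mem g hg.1 a, ?_⟩
    rw [CfsgLib.Invol.orderOf_conj_eq]; exact hg.2⟩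
  have hOcard : Nat.card O = P.index := by
    rw [hO, card_map_of_injective M.subtype_injective, hKcard]
  have hcop : Nat.Coprime (Nat.card O) (Nat.card P) := by
    rw [hOcard, hcardP, D.hh, show 4 * 2 ^ D.k = 2 ^ (D.k + 2) by ring]
    exact (Nat.coprime_two_right.2 hPodd).pow_right _
  have hOP : Nat.card O * Nat.card P = Nat.card C := by
    rw [hOcard, index_mul_card]
  have hOc : IsComplement' O P := isComplement'_of_coprime hOP hcop
  obtain ⟨⟨⟨o, ho⟩, ⟨x, hx⟩⟩, hox, -⟩ := isComplement_iff_existsUnique.1 hOc ⟨c, hcC⟩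
  simp only at hox
  have h1 : o * (x * T * x⁻¹) * o⁻¹ = R * T := by
    rw [show o * (x * T * x⁻¹) * o⁻¹ = (o * x) * T * (o * x)⁻¹ by group]
    exact Subtype.ext (by rw [hox]; exact hconj)
  have hd : (x * T * x⁻¹) * (R * T)⁻¹ ∈ O := by
    rw [← h1]
    have e : (x * T * x⁻¹) * (o * (x * T * x⁻¹) * o⁻¹)⁻¹ = (x * T * x⁻¹) * o * (x * T * x⁻¹)⁻¹ * o⁻¹ := by group
    rw [e]
    exact mul_mem (hOn.conj_mem o ho _) (inv_mem ho)
  have hPmem : ∀ g : C, g ∈ P ↔ (g : X) ∈ S := fun _ => mem_subgroupOf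
  have hdP : (x * T * x⁻¹) * (R * T)⁻¹ ∈ P := by
    have hTP : T ∈ P := (hPmem T).2 D.sS
    have hRP : R ∈ P := (hPmem R).2 D.rS
    exact mul_mem (mul_mem (mul_mem hx hTP) (inv_mem hx)) (inv_mem (mul_mem hRP hTP))
  have h2 := (Subgroup.disjoint_def.1 hOc.disjoint) hd hdP
  have h3 := congrArg Subtype.val (mul_inv_eq_one.1 h2)
  rw [Subgroup.coe_mul, Subgroup.coe_mul, Subgroup.coe_inv, Subgroup.coe_mul] at h3
  change (x : X) * D.s * (x : X)⁻¹ = D.r * D.s at h3
  obtain ⟨i, hi | hi⟩ := D.cases (x : X) hx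
  all_goals
    obtain ⟨j, hj⟩ : ∃ j : ℤ, (x : X) * D.s * (x : X)⁻¹ = D.r ^ (2 * j) * D.s := by
      refine ⟨i, ?_⟩
      rw [hi]
      first
        | (have := D.rot_conj_refl 0 i; rwa [zpow_zero, one_mul, zero_add] at this)
        | (rw [show D.r ^ i * D.s * D.s * (D.r ^ i * D.s)⁻¹ = D.r ^ i * (D.s * D.s * D.s⁻¹) * (D.r ^ i)⁻¹ by group,
              D.s_sq, one_mul, inv_eq_of_mul_eq_one_right D.s_sq]
           have := D.rot_conj_refl 0 i
           rwa [zpow_zero, one_mul, zero_add] at this)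
    rw [h3] at hj
    have h4 : D.r ^ (2 * j - 1) = 1 := by
      rw [zpow_sub_one, ← mul_right_cancel hj, mul_inv_cancel]
    obtain ⟨d, hd'⟩ := D.rpow_eq_one_iff.1 h4
    rw [mul_assoc] at hd'
    omega

theorem four_not_conj [Finite X] (hS : Odd S.index) (hh : 2 ∣ D.h) :
    ¬ ∃ x : X, (D.four 0).map (MulAut.conj x).toMonoidHom = D.four 1 := by
  rintro ⟨g, hg⟩
  have hz0 : D.z ∈ D.four 0 := subset_closure (Or.inl rfl)
  have hs0 : D.s ∈ D.four 0 := subset_closure (Or.inr (by simp))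
  have hz1 : D.z ∈ D.four 1 := subset_closure (Or.inl rfl)
  have himg : ∀ u ∈ D.four 0, g * u * g⁻¹ ∈ D.four 1 := fun u hu => hg ▸ ⟨u, hu, rfl⟩
  -- an element normalizing a standard four-group and moving everything off `z`
  obtain ⟨h2, hh2⟩ := hh
  set q := D.r ^ (h2 : ℤ) with hq
  have hqz : q * D.z * q⁻¹ = D.z := by
    rw [← (D.z_comm (zpow_mem D.rS _)).eq, mul_inv_cancel_right]
  have hqrefl : ∀ i : ℤ, q * (D.r ^ i * D.s) * q⁻¹ = D.z * (D.r ^ i * D.s) := fun i => by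
    rw [hq, D.rot_conj_refl, z, ← mul_assoc, ← zpow_add]
    congr 2
    rw [hh2]; push_cast; ring
  have hq' : ∀ i, ∀ u ∈ D.four i, u ≠ 1 → u ≠ D.z → q * u * q⁻¹ = D.z * u := by
    intro i u hu hu1 huz
    rcases D.mem_four hu inferInstance with h | h | h | h
    · exact absurd h hu1
    · exact absurd h huz
    · rw [h]; exact hqrefl i
    · rw [h]; exact hqrefl _
  -- adjust `g` to centralize `z`
  obtain ⟨c, hcz, hcs⟩ : ∃ c : X, c * D.z * c⁻¹ = D.z ∧ c * D.s * c⁻¹ ∈ D.four 1 := by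
    by_cases hw : g * D.z * g⁻¹ = D.z
    · exact ⟨g, hw, himg _ hs0⟩
    set w := g * D.z * g⁻¹ with hwdef
    have hw1 : w ≠ 1 := fun h => D.z_ne (conj_eq_one_iff.1 h)
    obtain ⟨u, hu, huz⟩ : D.z ∈ (D.four 0).map (MulAut.conj g).toMonoidHom := hg ▸ hz1
    change g * u * g⁻¹ = D.z at huz
    have hu1 : u ≠ 1 := fun h => D.z_ne (by rw [← huz, h]; group)
    have huz' : u ≠ D.z := fun h => hw (by rw [hwdef]; rw [h] at huz; exact huz)
    -- `q₁ = g q g⁻¹` fixes `w` and exchanges `z` and `z w`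
    have hqU : ∀ v ∈ D.four 0, q * v * q⁻¹ ∈ D.four 0 := fun v hv => by
      by_cases h1 : v = 1
      · rw [h1, mul_one, mul_inv_cancel]; exact one_mem _
      by_cases h2 : v = D.z
      · rw [h2, hqz]; exact hz0
      rw [hq' 0 v hv h1 h2]; exact mul_mem hz0 hv
    refine ⟨g * q * g⁻¹ * (q * g), ?_, ?_⟩
    · have e1 : q * w * q⁻¹ = D.z * w := hq' 1 w (himg _ hz0) hw1 hw
      have e2 : q * (u * D.z) * q⁻¹ = u := by
        rw [show q * (u * D.z) * q⁻¹ = (q * u * q⁻¹) * (q * D.z * q⁻¹) by group, hqz, hq' 0 u hu hu1 huz',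
          mul_assoc, ← (D.z_comm ((D.four_le 0) hu)).eq, ← mul_assoc, D.z_sq, one_mul]
      rw [show g * q * g⁻¹ * (q * g) * D.z * (g * q * g⁻¹ * (q * g))⁻¹ = g * q * g⁻¹ * (q * w * q⁻¹) * g * q⁻¹ * g⁻¹ by
        rw [hwdef]; group, e1]
      conv_lhs => rw [← huz, hwdef]
      rw [show g * q * g⁻¹ * (g * u * g⁻¹ * (g * D.z * g⁻¹)) * g * q⁻¹ * g⁻¹ = g * (q * (u * D.z) * q⁻¹) * g⁻¹ by group,
        e2, huz]
    · have e1 : g * D.s * g⁻¹ ∈ D.four 1 := himg _ hs0
      have hq1 : ∀ v ∈ D.four 1, q * v * q⁻¹ ∈ D.four 1 := fun v hv => by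
        by_cases h1 : v = 1
        · rw [h1, mul_one, mul_inv_cancel]; exact one_mem _
        by_cases h2 : v = D.z
        · rw [h2, hqz]; exact hz1
        rw [hq' 1 v hv h1 h2]; exact mul_mem hz1 hv
      obtain ⟨v, hv, hve⟩ : q * (g * D.s * g⁻¹) * q⁻¹ ∈ (D.four 0).map (MulAut.conj g).toMonoidHom :=
        hg ▸ hq1 _ e1
      change g * v * g⁻¹ = q * (g * D.s * g⁻¹) * q⁻¹ at hve
      rw [show g * q * g⁻¹ * (q * g) * D.s * (g * q * g⁻¹ * (q * g))⁻¹ =
        g * q * g⁻¹ * (q * (g * D.s * g⁻¹) * q⁻¹) * g * q⁻¹ * g⁻¹ by group, ← hve,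
        show g * q * g⁻¹ * (g * v * g⁻¹) * g * q⁻¹ * g⁻¹ = g * (q * v * q⁻¹) * g⁻¹ by group]
      exact himg _ (hqU v hv)
  rcases D.mem_four hcs inferInstance with h | h | h | h
  · exact CfsgLib.Invol.ne_one D.hs (conj_eq_one_iff.1 h)
  · exact D.s_ne_z ((MulAut.conj c).injective (h.trans hcz.symm))
  · exact D.not_conj_in_centralizer hS ⟨h2, hh2⟩ hcz (by rw [h, zpow_one])
  · refine D.not_conj_in_centralizer hS ⟨h2, hh2⟩ (c := q⁻¹ * c) ?_ ?_
    · rw [show q⁻¹ * c * D.z * (q⁻¹ * c)⁻¹ = q⁻¹ * (c * D.z * c⁻¹) * q by group, hcz]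
      rw [← (D.z_comm (inv_mem (zpow_mem D.rS (h2 : ℤ)))).eq, inv_mul_cancel_right]
    · rw [show q⁻¹ * c * D.s * (q⁻¹ * c)⁻¹ = q⁻¹ * (c * D.s * c⁻¹) * q by group, h]
      have := hqrefl 1
      rw [show D.z * (D.r ^ (1 : ℤ) * D.s) = D.r ^ ((1 : ℤ) + (D.h : ℤ)) * D.s by
        rw [z, ← mul_assoc, ← zpow_add, add_comm]] at this
      rw [← this]
      group

end Data

end CfsgLib.DihFour
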