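import Cfsg.Agent.Invol.Wreathed

/-!
Self-centralizing subgroups of wreathed 2-groups with an automorphism of odd order.
-/

set_option autoImplicit false
set_option linter.unusedSectionVars false
set_option linter.deprecated false
set_option linter.style.haveILetI false
set_option linter.style.multiGoal false

namespace CfsgLib.Wreath

open Subgroup

section Stability

variable {X : Type*} [Group X] {φ : MulAut X}

theorem pow_apply_eq_mul {g u : X} (hg : φ g = g * u) (hu : φ u = u) (j : ℕ) :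
    (φ ^ j) g = g * u ^ j := by
  induction j with
  | zero => simp
  | succ j ih => rw [pow_succ', MulAut.mul_apply, ih, map_mul, map_pow, hg, hu, mul_assoc, ← pow_succ']

/-- An automorphism of odd order fixing `g⁻¹ φ(g)` fixes `g`. -/
theorem fix_step (hp : IsPGroup 2 X) (hodd : Odd (orderOf φ)) {g : X}
    (h : φ (g⁻¹ * φ g) = g⁻¹ * φ g) : φ g = g := by
  have h1 := pow_apply_eq_mul (φ := φ) (g := g) (u := g⁻¹ * φ g) (by group) h (orderOf φ)
  rw [pow_orderOf_eq_one, MulAut.one_apply, left_eq_mul] at h1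
  obtain ⟨k, hk⟩ := hp (g⁻¹ * φ g)
  have h3 : (g⁻¹ * φ g) ^ Nat.gcd (orderOf φ) (2 ^ k) = 1 := pow_gcd_eq_one.2 ⟨h1, hk⟩
  rw [Nat.Coprime.gcd_eq_one (Nat.Coprime.pow_right k (Nat.coprime_two_right.2 hodd)), pow_one] at h3
  exact (inv_mul_eq_one.1 h3).symm

theorem zmod_eq_one {s m : ℕ} (hm : Odd m) {i : ℤ} (h : ((i : ZMod (2 ^ s))) ^ m = 1) :
    (i : ZMod (2 ^ s)) = 1 := by
  obtain ⟨j, hj⟩ := hm
  haveI : NeZero (2 ^ s) := ⟨(Nat.two_pow_pos s).ne'⟩
  set u : (ZMod (2 ^ s))ˣ := Units.ofPowEqOne _ m h (by omega)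
  have h1 : u ^ m = 1 := Units.ext (by rw [Units.val_pow_eq_pow_val, Units.val_ofPowEqOne]; exact h)
  have h2 : u ^ (2 ^ s).totient = 1 := ZMod.pow_totient u
  have h3 : u ^ (2 ^ s) = 1 := by
    have hd : (2 ^ s).totient ∣ 2 ^ s := by
      rcases s with _ | s
      · simp
      · rw [Nat.totient_prime_pow Nat.prime_two s.succ_pos]
        simp [pow_succ]
    exact orderOf_dvd_iff_pow_eq_one.1 ((orderOf_dvd_of_pow_eq_one h2).trans hd)
  have h4 := pow_gcd_eq_one.2 ⟨h1, h3⟩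
  rw [Nat.Coprime.gcd_eq_one (Nat.Coprime.pow_right s (Nat.coprime_two_right.2 ⟨j, hj⟩)), pow_one] at h4
  rw [← Units.val_ofPowEqOne (i : ZMod (2 ^ s)) m h (by omega)]
  exact congrArg Units.val h4

/-- An automorphism of odd order acts trivially on a cyclic 2-section. -/
theorem fix_cyclic (hodd : Odd (orderOf φ)) {M : Subgroup X} [M.Normal] (hM : ∀ m ∈ M, φ m = m)
    {c : X} {s : ℕ} (hc : ∀ i : ℤ, c ^ i ∈ M ↔ ((2 ^ s : ℕ) : ℤ) ∣ i) {i : ℤ}
    (hφ : (c ^ i)⁻¹ * φ c ∈ M) : c⁻¹ * φ c ∈ M := by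
  set π := QuotientGroup.mk' M
  have hker : ∀ g, π g = 1 ↔ g ∈ M := fun g => QuotientGroup.eq_one_iff g
  have heq : ∀ a b, π a = π b ↔ a⁻¹ * b ∈ M := fun a b => QuotientGroup.eq
  have hstep : ∀ j : ℕ, π ((φ ^ j) c) = π c ^ (i ^ j) := by
    intro j
    induction j with
    | zero => simp
    | succ j ih =>
      rw [← map_zpow, heq] at ih
      have h1 : φ (((φ ^ j) c)⁻¹ * c ^ (i ^ j)) = ((φ ^ j) c)⁻¹ * c ^ (i ^ j) := hM _ ih
      rw [map_mul, map_inv, map_zpow, ← MulAut.mul_apply, ← pow_succ'] at h1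
      have h2 : π ((φ ^ (j + 1)) c) = π (φ c ^ (i ^ j)) := (heq _ _).2 (h1 ▸ ih)
      rw [h2, map_zpow, show π (φ c) = π c ^ i by rw [← map_zpow]; exact ((heq _ _).2 hφ).symm,
        ← zpow_mul, pow_succ']
  have h := hstep (orderOf φ)
  rw [pow_orderOf_eq_one, MulAut.one_apply, eq_comm, ← mul_inv_eq_one, ← zpow_sub_one, ← map_zpow, hker, hc] at h
  have h2 : ((i : ZMod (2 ^ s))) ^ orderOf φ = 1 := by
    rw [← Int.cast_pow, ← Int.cast_one, eq_comm, ZMod.intCast_eq_intCast_iff_dvd_sub]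
    exact h
  have h3 := zmod_eq_one hodd h2
  rw [← Int.cast_one, eq_comm, ZMod.intCast_eq_intCast_iff_dvd_sub, ← hc] at h3
  have e : c⁻¹ * φ c = c ^ (i - 1) * ((c ^ i)⁻¹ * φ c) := by group
  rw [e]
  exact mul_mem h3 hφ

end Stability

namespace Data

variable {S : Type*} [Group S] [Finite S] (D : Data S)

theorem N_eq : D.N = ((2 ^ (D.k + 2) : ℕ) : ℤ) := by rw [N, D.hq]; push_cast; ring

theorem center_le {X : Subgroup S} (hC : centralizer (X : Set S) ≤ X) : center S ≤ X :=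
  (center_le_centralizer _).trans hC

theorem exists_odd_aut {X : Subgroup S} (hA : ¬ IsPGroup 2 (MulAut X)) :
    ∃ φ : MulAut X, Odd (orderOf φ) ∧ φ ≠ 1 := by
  haveI : Finite (MulAut X) := Finite.of_injective (fun f => (f : X → X)) DFunLike.coe_injective
  by_contra hcon
  push Not at hcon
  refine hA fun φ => ?_
  obtain ⟨k, m, hm, hkm⟩ := Nat.exists_eq_two_pow_mul_odd (orderOf_pos φ).ne'
  have h1 : orderOf (φ ^ 2 ^ k) = m := by
    rw [orderOf_pow_of_dvd (pow_ne_zero _ two_ne_zero) ⟨m, hkm⟩, hkm,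
      Nat.mul_div_cancel_left _ (Nat.two_pow_pos k)]
  exact ⟨k, hcon _ (h1 ▸ hm)⟩

/-- An abelian self-centralizing subgroup outside the base has a 2-group of automorphisms. -/
theorem no_odd_aut_abelian {X : Subgroup S} (hC : centralizer (X : Set S) ≤ X) (hab : IsMulCommutative X)
    {a b : ℤ} (hr : D.e a b * D.t ∈ X) {φ : MulAut X} (hodd : Odd (orderOf φ)) : φ = 1 := by
  have hp : IsPGroup 2 X := D.isPGroup.to_subgroup X
  have hZ := center_le hC
  have hform : ∀ g : X, ∃ w : ℤ, (g : S) = D.e w w ∨ (g : S) = D.e w w * (D.e a b * D.t) := fun g =>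
    D.refl_centralizer (congrArg Subtype.val (hab.is_comm.comm g ⟨_, hr⟩))
  set z : X := ⟨D.e 1 1, hZ (D.diag_mem_center 1)⟩ with hz
  have hzi : ∀ w : ℤ, ((z ^ w : X) : S) = D.e w w := fun w => by
    rw [Subgroup.coe_zpow, hz, D.e_zpow, one_mul]
  rcases Int.even_or_odd (a + b) with ⟨m, hm⟩ | hs
  · -- an involution generates a complement
    set r : X := z ^ (-m) * ⟨_, hr⟩ with hrdef
    have hform' : ∀ g : X, ∃ w : ℤ, g = z ^ w ∨ g = z ^ w * r := fun g => by
      obtain ⟨w, h | h⟩ := hform g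
      · exact ⟨w, Or.inl (Subtype.ext (h.trans (hzi w).symm))⟩
      · refine ⟨w + m, Or.inr ?_⟩
        rw [hrdef, ← mul_assoc, ← zpow_add, add_neg_cancel_right]
        exact Subtype.ext (by rw [Subgroup.coe_mul, hzi]; exact h)
    have hzc : ∀ (w : ℤ) (g : X), Commute (z ^ w) g := fun w g => hab.is_comm.comm _ g
    have hr2 : r * r = 1 := by
      refine Subtype.ext ?_
      rw [Subgroup.coe_mul, hrdef, Subgroup.coe_mul, hzi, ← mul_assoc (D.e (-m) (-m)) (D.e a b) D.t,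
        D.e_mul, D.refl_sq, Subgroup.coe_one, D.e_eq_one_iff]
      simp [show -m + a + (-m + b) = 0 by linarith]
    have hrz : ∀ w : ℤ, r ≠ z ^ w := fun w h => by
      have := congrArg Subtype.val h
      rw [hzi, hrdef, Subgroup.coe_mul, hzi, ← mul_assoc, D.e_mul] at this
      exact D.refl_not_mem _ _ (this ▸ D.e_mem _ _)
    have hsq : ∀ g : X, ∃ w : ℤ, g * g = z ^ (2 * w) := fun g => by
      obtain ⟨w, rfl | rfl⟩ := hform' g <;> refine ⟨w, ?_⟩
      · rw [← zpow_add, two_mul]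
      · rw [mul_assoc, ← mul_assoc r, ← (hzc w r).eq, mul_assoc (z ^ w) r r, hr2, mul_one, ← zpow_add,
          two_mul]
    have hz2 : φ (z ^ (2 : ℤ)) = z ^ (2 : ℤ) := by
      obtain ⟨w, hw⟩ := hsq (φ z)
      have h1 : φ (z ^ (2 : ℤ)) = (z ^ (2 : ℤ)) ^ w := by
        rw [map_zpow, zpow_two, hw, ← zpow_mul]
      obtain ⟨s, hs⟩ := IsPGroup.iff_orderOf.1 hp (z ^ (2 : ℤ))
      haveI : (⊥ : Subgroup X).Normal := inferInstance
      have := fix_cyclic (φ := φ) hodd (M := ⊥) (fun m hm => by rw [mem_bot.1 hm, map_one])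
        (c := z ^ (2 : ℤ)) (s := s) (fun i => by rw [mem_bot, ← hs, orderOf_dvd_iff_zpow_eq_one])
        (i := w) (by rw [h1, inv_mul_cancel]; exact one_mem _)
      exact (inv_mul_eq_one.1 (mem_bot.1 this)).symm
    have hz2w : ∀ w : ℤ, φ (z ^ (2 * w)) = z ^ (2 * w) := fun w => by rw [zpow_mul, map_zpow, hz2]
    have hφr : φ r = r := by
      obtain ⟨w, h | h⟩ := hform' (φ r)
      · exfalso
        have h1 : z ^ (2 * w) = 1 := by rw [two_mul, zpow_add, ← h, ← map_mul, hr2, map_one]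
        have h3 := congrArg Subtype.val h1
        rw [hzi, Subgroup.coe_one, D.e_eq_one_iff] at h3
        obtain ⟨c, hc⟩ := h3.1
        have hN : D.N = 4 * (D.q : ℤ) := rfl
        have hw : w = 2 * ((D.q : ℤ) * c) := by rw [hN] at hc; linarith
        rw [hw, ← hz2w] at h
        exact hrz _ (φ.injective h)
      · refine fix_step hp hodd ?_
        have hmem : r⁻¹ * φ r = z ^ w := by rw [h, (hzc w r).eq, inv_mul_cancel_left]
        have h1 : z ^ (2 * w) = 1 := by
          calc z ^ (2 * w) = z ^ w * z ^ w * (r * r) := by rw [hr2, mul_one, two_mul, zpow_add]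
            _ = z ^ w * r * (z ^ w * r) := by
                rw [mul_assoc (z ^ w) r, ← mul_assoc r (z ^ w) r, ← (hzc w r).eq]; group
            _ = φ r * φ r := by rw [h]
            _ = 1 := by rw [← map_mul, hr2, map_one]
        have h3 := congrArg Subtype.val h1
        rw [hzi, Subgroup.coe_one, D.e_eq_one_iff] at h3
        obtain ⟨c, hc⟩ := h3.1
        have hN : D.N = 4 * (D.q : ℤ) := rfl
        have hw : w = 2 * ((D.q : ℤ) * c) := by rw [hN] at hc; linarith
        rw [hmem, hw, hz2w]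
    have hφz : φ z = z := by
      refine fix_step hp hodd ?_
      obtain ⟨w, hwz⟩ := hform' (φ z)
      rcases Int.even_or_odd w with ⟨j, hj⟩ | ⟨j, hj⟩
      · exfalso
        have h0 : φ (φ z) = φ z := by
          rcases hwz with h | h <;> rw [h, hj, ← two_mul]
          · exact hz2w j
          · rw [map_mul, hz2w, hφr]
        have h1 : φ z = z := φ.injective h0
        rw [h1] at hwz
        rcases hwz with h | h
        · have h2 : z ^ (w - 1) = 1 := by rw [zpow_sub_one, ← h, mul_inv_cancel]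
          have h3 := congrArg Subtype.val h2
          rw [hzi, Subgroup.coe_one, D.e_eq_one_iff] at h3
          obtain ⟨c, hc⟩ := h3.1
          have hN : D.N = 2 * (2 * (D.q : ℤ)) := by rw [N]; ring
          rw [hN, mul_assoc] at hc
          omega
        · exact hrz (1 - w) (by rw [zpow_sub, zpow_one, hab.is_comm.comm z (z ^ w)⁻¹, eq_inv_mul_iff_mul_eq]; exact h.symm)
      · rcases hwz with h | h
        · rw [h, show z⁻¹ * z ^ w = z ^ (2 * j) by
            rw [hj, zpow_add, zpow_one, hab.is_comm.comm (z ^ (2 * j)) z, inv_mul_cancel_left]]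
          exact hz2w j
        · rw [h, show z⁻¹ * (z ^ w * r) = z ^ (2 * j) * r by
            rw [hj, zpow_add, zpow_one, hab.is_comm.comm (z ^ (2 * j)) z, mul_assoc, inv_mul_cancel_left]]
          rw [map_mul, hz2w, hφr]
    refine MulEquiv.ext fun g => ?_
    obtain ⟨w, rfl | rfl⟩ := hform' g
    · rw [MulAut.one_apply, map_zpow, hφz]
    · rw [MulAut.one_apply, map_mul, map_zpow, hφz, hφr]
  · -- `X` is cyclic
    set r : X := ⟨_, hr⟩
    obtain ⟨u, v, huv⟩ : IsCoprime (a + b) D.N := by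
      rw [D.N_eq]; push_cast
      exact ((Int.prime_two.coprime_iff_not_dvd.2 (Int.not_even_iff_odd.2 hs ∘ even_iff_two_dvd.2)).symm).pow_right
    have hgen : ∀ g : X, ∃ j : ℤ, g = r ^ j := fun g => by
      have hzr : z = r ^ (2 * u) := by
        refine Subtype.ext ?_
        rw [zpow_mul, zpow_two, Subgroup.coe_zpow, Subgroup.coe_mul, D.refl_sq, D.e_zpow]
        show D.e 1 1 = _
        rw [D.e_eq_iff]
        exact ⟨⟨v, by linarith⟩, ⟨v, by linarith⟩⟩
      obtain ⟨w, h | h⟩ := hform g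
      · exact ⟨2 * u * w, by rw [zpow_mul, ← hzr]; exact Subtype.ext (h.trans (hzi w).symm)⟩
      · exact ⟨2 * u * w + 1, by
          rw [zpow_add, zpow_mul, ← hzr, zpow_one]
          exact Subtype.ext (by rw [Subgroup.coe_mul, hzi]; exact h)⟩
    obtain ⟨i, hi⟩ := hgen (φ r)
    obtain ⟨s, hs⟩ := IsPGroup.iff_orderOf.1 hp r
    have := fix_cyclic (φ := φ) hodd (M := ⊥) (fun m hm => by rw [mem_bot.1 hm, map_one])
      (c := r) (s := s) (fun j => by rw [mem_bot, ← hs, orderOf_dvd_iff_zpow_eq_one])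
      (i := i) (by rw [← hi, inv_mul_cancel]; exact one_mem _)
    have hφr : φ r = r := (inv_mul_eq_one.1 (mem_bot.1 this)).symm
    refine MulEquiv.ext fun g => ?_
    obtain ⟨j, rfl⟩ := hgen g
    rw [MulAut.one_apply, map_zpow, hφr]

/-- The structure of a non-abelian self-centralizing subgroup with an automorphism of odd order. -/
theorem nonabelian_structure {X : Subgroup S} (hC : centralizer (X : Set S) ≤ X)
    (hA : ¬ IsPGroup 2 (MulAut X)) (hX : ¬ IsMulCommutative X) :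
    (∀ a b : ℤ, D.e a b ∈ X ↔ D.h ∣ a - b) ∧ ∃ a b : ℤ, a + b = 0 ∧ D.e a b * D.t ∈ X := by
  have hp : IsPGroup 2 X := D.isPGroup.to_subgroup X
  have hZ := center_le hC
  obtain ⟨φ, hodd, hφ1⟩ := exists_odd_aut hA
  obtain ⟨a₀, b₀, hr⟩ : ∃ a b : ℤ, D.e a b * D.t ∈ X := by
    by_contra hcon
    push Not at hcon
    refine hX ⟨⟨fun g k => Subtype.ext ?_⟩⟩
    have hb : ∀ g : X, (g : S) ∈ D.base := fun g => by
      rcases D.cases (g : S) with ⟨a, b, h⟩ | ⟨a, b, h⟩
      · exact h ▸ D.e_mem a b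
      · exact absurd (h ▸ g.2) (hcon a b)
    exact D.base_comm (hb g) (hb k)
  let K : AddSubgroup ℤ :=
    { carrier := {k | D.e k 0 ∈ X}
      zero_mem' := by show D.e 0 0 ∈ X; rw [D.e_zero]; exact one_mem X
      add_mem' := by
        intro k l hk hl
        change D.e k 0 ∈ X at hk
        change D.e l 0 ∈ X at hl
        show D.e (k + l) 0 ∈ X
        have := mul_mem hk hl
        rwa [D.e_mul, add_zero] at this
      neg_mem' := by
        intro k hk
        change D.e k 0 ∈ X at hk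
        show D.e (-k) 0 ∈ X
        have := inv_mem hk
        rwa [D.e_inv, neg_zero] at this }
  have hK : ∀ a b : ℤ, D.e a b ∈ X ↔ a - b ∈ K := fun a b => by
    have e1 : D.e a b = D.e (a - b) 0 * D.e b b := by rw [D.e_mul, sub_add_cancel, zero_add]
    show _ ↔ D.e (a - b) 0 ∈ X
    rw [e1]
    exact mul_mem_cancel_right (hZ (D.diag_mem_center b))
  obtain ⟨d, hd⟩ : ∃ d : ℤ, K = AddSubgroup.zmultiples d := by
    obtain ⟨d, hd⟩ := Int.subgroup_cyclic K
    exact ⟨d, by rw [hd, AddSubgroup.zmultiples_eq_closure]⟩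
  have hKd : ∀ k : ℤ, k ∈ K ↔ d ∣ k := fun k => by rw [hd, Int.mem_zmultiples_iff]
  have hdN : d ∣ D.N := (hKd _).1 (by
    show D.e D.N 0 ∈ X
    rw [D.e_eq_one_iff.2 ⟨dvd_rfl, dvd_zero _⟩]; exact one_mem X)
  obtain ⟨v, hv, hdv⟩ : ∃ v ≤ D.k + 2, d.natAbs = 2 ^ v := by
    have h1 : d.natAbs ∣ 2 ^ (D.k + 2) := by
      rw [D.N_eq] at hdN
      exact Int.natAbs_dvd_natAbs.2 hdN
    exact (Nat.dvd_prime_pow Nat.prime_two).1 h1
  have hKv : ∀ k : ℤ, k ∈ K ↔ ((2 ^ v : ℕ) : ℤ) ∣ k := fun k => by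
    rw [hKd, ← hdv, Int.natAbs_dvd]
  have hv1 : v ≤ D.k + 1 := by
    by_contra hv'
    have hv2 : v = D.k + 2 := by omega
    refine hX ⟨⟨fun g k => Subtype.ext ?_⟩⟩
    have hform : ∀ g : X, ∃ w : ℤ, (g : S) = D.e w w ∨ (g : S) = D.e w w * (D.e a₀ b₀ * D.t) := fun g => by
      refine D.refl_centralizer ?_
      have hbase : ∀ a b : ℤ, D.e a b ∈ X → D.e a b ∈ center S := fun a b h => by
        rw [hK, hKv, hv2, ← D.N_eq] at h
        exact D.mem_center_iff'.2 h
      rcases D.cases (g : S) with ⟨a, b, h⟩ | ⟨a, b, h⟩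
      · rw [h]; exact (mem_center_iff.1 (hbase a b (h ▸ g.2)) _).symm
      · have e1 : D.e a b * D.t = D.e (a - a₀) (b - b₀) * (D.e a₀ b₀ * D.t) := by
          rw [← mul_assoc, D.e_mul, sub_add_cancel, sub_add_cancel]
        rw [h, e1]
        exact Commute.mul_left (mem_center_iff.1 (hbase _ _
          ((mul_mem_cancel_right hr).1 (e1 ▸ h ▸ g.2))) _).symm (Commute.refl _)
    obtain ⟨i, hi⟩ := hform g
    obtain ⟨j, hj⟩ := hform k
    have hz : ∀ (w : ℤ) (m : S), Commute (D.e w w) m := fun w m => (mem_center_iff.1 (D.diag_mem_center w) m).symm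
    show Commute (g : S) (k : S)
    rcases hi with hi | hi <;> rcases hj with hj | hj <;> rw [hi, hj]
    · exact hz _ _
    · exact hz _ _
    · exact (hz _ _).symm
    · exact (hz i _).mul_left ((hz j _).symm.mul_right (Commute.refl _))
  by_contra hcon
  refine hφ1 ?_
  -- the centre of `X`
  have hcX : ∀ g : X, g ∈ center X ↔ (g : S) ∈ center S := fun g =>
    ⟨fun hg => D.center_map_le hX ⟨g, hg, rfl⟩, fun hg => mem_center_iff.2 fun k => Subtype.ext (mem_center_iff.1 hg k)⟩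
  set z : X := ⟨D.e 1 1, hZ (D.diag_mem_center 1)⟩ with hz
  have hzi : ∀ w : ℤ, ((z ^ w : X) : S) = D.e w w := fun w => by
    rw [Subgroup.coe_zpow, hz, D.e_zpow, one_mul]
  have hcen : ∀ g : X, g ∈ center X → ∃ w : ℤ, g = z ^ w := fun g hg => by
    obtain ⟨w, hw⟩ := D.center_mem_base ((hcX g).1 hg)
    exact ⟨w, Subtype.ext (hw.trans (hzi w).symm)⟩
  have hφc : ∀ g : X, g ∈ center X ↔ φ g ∈ center X := fun g => by
    constructor
    · intro hg
      refine mem_center_iff.2 fun k => ?_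
      obtain ⟨k, rfl⟩ := φ.surjective k
      rw [← map_mul, ← map_mul, mem_center_iff.1 hg k]
    · intro hg
      exact mem_center_iff.2 fun k => φ.injective (by rw [map_mul, map_mul, mem_center_iff.1 hg (φ k)])
  have hφz : φ z = z := by
    obtain ⟨i, hi⟩ := hcen _ ((hφc z).1 ((hcX z).2 (D.diag_mem_center 1)))
    obtain ⟨s, hs⟩ := IsPGroup.iff_orderOf.1 hp z
    have := fix_cyclic (φ := φ) hodd (M := ⊥) (fun m hm => by rw [mem_bot.1 hm, map_one])
      (c := z) (s := s) (fun j => by rw [mem_bot, ← hs, orderOf_dvd_iff_zpow_eq_one])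
      (i := i) (by rw [← hi, inv_mul_cancel]; exact one_mem _)
    exact (inv_mul_eq_one.1 (mem_bot.1 this)).symm
  have hφcen : ∀ g ∈ center X, φ g = g := fun g hg => by
    obtain ⟨w, rfl⟩ := hcen g hg
    rw [map_zpow, hφz]
  -- the base part is invariant
  have hinv : ∀ g : X, (g : S) ∈ D.base → ((φ g : X) : S) ∈ D.base := by
    by_cases hvk : v ≤ D.k
    · have hq : D.e (D.q : ℤ) 0 ∈ X := by
        refine (hK _ _).2 ((hKv _).2 ?_)
        rw [sub_zero, D.hq, Int.natCast_dvd_natCast]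
        exact pow_dvd_pow 2 hvk
      set u : X := ⟨_, hq⟩ with hu
      have hnot : ¬ D.N ∣ 2 * (D.q : ℤ) := D.not_dvd_h
      have hu2 : u * u ∉ center X := fun h => by
        rw [hcX, Subgroup.coe_mul, hu] at h
        change D.e (D.q : ℤ) 0 * D.e (D.q : ℤ) 0 ∈ center S at h
        rw [D.e_mul, D.mem_center_iff'] at h
        exact hnot (by simpa [two_mul] using h)
      have hu1 : u ∉ center X := fun h => hu2 (mul_mem h h)
      have hrefl : ∀ g : X, ((φ g : X) : S) ∉ D.base → g * g ∈ center X := fun g hg => by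
        rcases D.cases ((φ g : X) : S) with ⟨a, b, h⟩ | ⟨a, b, h⟩
        · exact absurd (h ▸ D.e_mem a b) hg
        · rw [hφc, map_mul, hcX, Subgroup.coe_mul, h, D.refl_sq]
          exact D.diag_mem_center _
      have hub : ((φ u : X) : S) ∈ D.base := by
        by_contra h
        exact hu2 (hrefl u h)
      intro g hg
      by_contra hgb
      rcases D.cases ((φ g : X) : S) with ⟨a, b, h⟩ | ⟨a, b, h⟩
      · exact hgb (h ▸ D.e_mem a b)
      obtain ⟨c, d', h'⟩ := hub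
      have hcomm : Commute ((φ u : X) : S) ((φ g : X) : S) := by
        have : u * g = g * u := Subtype.ext (D.base_comm (D.e_mem _ _) hg)
        exact congrArg Subtype.val (show φ u * φ g = φ g * φ u by rw [← map_mul, ← map_mul, this])
      rw [h', h, D.refl_commute_iff] at hcomm
      refine hu1 ((hφc u).2 ((hcX _).2 ?_))
      rw [h']
      exact D.mem_center_iff'.2 hcomm
    · have hv2 : v = D.k + 1 := by omega
      have hKh : ∀ k : ℤ, k ∈ K ↔ D.h ∣ k := fun k => by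
        rw [hKv, hv2, h, D.hq]; push_cast; rw [pow_succ']
      rcases Int.even_or_odd (a₀ + b₀) with ⟨m, hm⟩ | hodd0
      · refine absurd ⟨fun a b => (hK a b).trans (hKh _), a₀ - m, b₀ - m, by linarith, ?_⟩ hcon
        have h1 : D.e (a₀ - m) (b₀ - m) * D.t = D.e (-m) (-m) * (D.e a₀ b₀ * D.t) := by
          rw [← mul_assoc, D.e_mul]; congr 2 <;> ring
        rw [h1]
        exact mul_mem (hZ (D.diag_mem_center _)) hr
      · have hpw : ∀ g : X, (g : S) ∈ D.base ↔ g ^ (4 * D.q) = 1 := by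
          intro g
          constructor
          · rintro ⟨a, b, hg⟩
            refine Subtype.ext ?_
            rw [Subgroup.coe_pow, hg, Subgroup.coe_one, ← zpow_natCast, D.e_zpow, D.e_eq_one_iff]
            exact ⟨⟨a, by rw [N]; push_cast; ring⟩, ⟨b, by rw [N]; push_cast; ring⟩⟩
          · intro hg
            rcases D.cases (g : S) with ⟨a, b, h'⟩ | ⟨a, b, h'⟩
            · exact h' ▸ D.e_mem a b
            exfalso
            have h1 := congrArg Subtype.val hg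
            rw [Subgroup.coe_pow, h', Subgroup.coe_one, show 4 * D.q = 2 * (2 * D.q) by ring, pow_mul, sq,
              D.refl_sq, ← zpow_natCast, D.e_zpow, D.e_eq_one_iff] at h1
            have h2 : D.h ∣ (a - a₀) - (b - b₀) := by
              refine (hKh _).1 ((hK _ _).1 ((mul_mem_cancel_right hr).1 ?_))
              rw [← mul_assoc, D.e_mul, sub_add_cancel, sub_add_cancel, ← h']; exact g.2
            obtain ⟨c, hc⟩ := h1.1
            obtain ⟨j, hj⟩ := h2
            obtain ⟨w, hw⟩ := hodd0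
            have hN : D.N = 4 * (D.q : ℤ) := rfl
            have hh : D.h = 2 * (D.q : ℤ) := rfl
            have h3 : a + b = 2 * c := by
              have hq0 : (2 * (D.q : ℤ)) ≠ 0 := by have := D.q_pos; omega
              refine mul_left_cancel₀ hq0 ?_
              rw [hN] at hc; push_cast at hc; linarith
            rw [hh, mul_assoc] at hj
            omega
        intro g hg
        rw [hpw] at hg ⊢
        rw [← map_pow, hg, map_one]
  set M := D.base.subgroupOf X with hM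
  haveI : (center X).Normal := inferInstance
  set u : X := ⟨D.e ((2 ^ v : ℕ) : ℤ) 0, (hKv _).2 dvd_rfl⟩ with hu
  have hui : ∀ i : ℤ, ((u ^ i : X) : S) = D.e (((2 ^ v : ℕ) : ℤ) * i) 0 := fun i => by
    rw [Subgroup.coe_zpow, hu, D.e_zpow, zero_mul]
  have hbase : ∀ g : X, (g : S) ∈ D.base → ∃ i w : ℤ, g = u ^ i * z ^ w := by
    rintro g ⟨a, b, hg⟩
    obtain ⟨i, hi⟩ : ((2 ^ v : ℕ) : ℤ) ∣ a - b := (hKv _).1 ((hK a b).1 (hg ▸ g.2))
    refine ⟨i, b, Subtype.ext ?_⟩
    rw [Subgroup.coe_mul, hui, hzi, D.e_mul, hg, ← hi, sub_add_cancel, zero_add]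
  have hcu : ∀ i : ℤ, u ^ i ∈ center X ↔ ((2 ^ (D.k + 2 - v) : ℕ) : ℤ) ∣ i := fun i => by
    have hne : ((2 ^ v : ℕ) : ℤ) ≠ 0 := by exact_mod_cast (Nat.two_pow_pos v).ne'
    rw [hcX, hui, D.mem_center_iff', sub_zero, D.N_eq,
      show (2 : ℕ) ^ (D.k + 2) = 2 ^ v * 2 ^ (D.k + 2 - v) by rw [← pow_add]; congr 1; omega, Nat.cast_mul]
    exact mul_dvd_mul_iff_left hne
  have hφu : φ u = u := by
    obtain ⟨i, w, hi⟩ := hbase _ (hinv u ⟨_, _, rfl⟩)
    have h1 := fix_cyclic (φ := φ) hodd (M := center X) hφcen hcu (i := i) (by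
      rw [hi, inv_mul_cancel_left]
      exact zpow_mem ((hcX z).2 (D.diag_mem_center 1)) w)
    exact fix_step hp hodd (hφcen _ h1)
  have hφb : ∀ g : X, (g : S) ∈ D.base → φ g = g := fun g hg => by
    obtain ⟨i, w, rfl⟩ := hbase g hg
    rw [map_mul, map_zpow, map_zpow, hφu, hφz]
  refine MulEquiv.ext fun g => ?_
  rw [MulAut.one_apply]
  by_cases hg : (g : S) ∈ D.base
  · exact hφb g hg
  · refine fix_step hp hodd (hφb _ ?_)
    have hφg : ((φ g : X) : S) ∉ D.base := fun h => hg (by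
      rw [show g = φ g from φ.injective (hφb _ h).symm]; exact h)
    rw [Subgroup.coe_mul, Subgroup.coe_inv]
    exact (mul_mem_iff_of_index_two D.index_base).2 (iff_of_false (fun h => hg (inv_mem_iff.1 h)) hφg)

theorem isMulCommutative_case {X : Subgroup S} (hC : centralizer (X : Set S) ≤ X)
    (hA : ¬ IsPGroup 2 (MulAut X)) (hab : IsMulCommutative X) : X = D.base := by
  have hle : X ≤ D.base := by
    intro g hg
    rcases D.cases g with ⟨a, b, rfl⟩ | ⟨a, b, rfl⟩
    · exact D.e_mem a b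
    · obtain ⟨φ, hodd, hne⟩ := exists_odd_aut hA
      exact absurd (D.no_odd_aut_abelian hC hab hg hodd) hne
  exact le_antisymm hle fun g hg => hC (mem_centralizer_iff.2 fun k hk => D.base_comm (hle hk) hg)

theorem relIndex_normalizer_nonabelian {X : Subgroup S}
    (hb : ∀ a b : ℤ, D.e a b ∈ X ↔ D.h ∣ a - b) {a b : ℤ} (hr : D.e a b * D.t ∈ X) :
    X.relIndex (normalizer (X : Set S)) = 2 := by
  have hh : D.h = 2 * (D.q : ℤ) := rfl
  have hdiag : ∀ c : ℤ, D.e c c ∈ X := fun c => (hb c c).2 (by simp)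
  have hrefl : ∀ {c d : ℤ}, D.e c d * D.t ∈ X ↔ D.h ∣ (c - a) - (d - b) := by
    intro c d
    rw [show D.e c d * D.t = D.e (c - a) (d - b) * (D.e a b * D.t) by
      rw [← mul_assoc, D.e_mul, sub_add_cancel, sub_add_cancel], mul_mem_cancel_right hr, hb]
  have hnorm : ∀ c d : ℤ, D.e c d ∈ normalizer (X : Set S) ↔ (D.q : ℤ) ∣ c - d := by
    intro c d
    constructor
    · intro h1
      have h2 := (mem_normalizer_iff.1 h1 _).1 hr
      rw [D.refl_conj, hrefl, hh] at h2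
      obtain ⟨m, hm⟩ := h2
      exact ⟨m, by linarith⟩
    · rintro ⟨m, hm⟩
      refine mem_normalizer_iff_map_conj_eq.2 (Subgroup.eq_of_le_of_card_ge ?_ ?_)
      · rintro _ ⟨g, hg, rfl⟩
        show D.e c d * g * (D.e c d)⁻¹ ∈ X
        rcases D.cases g with ⟨i, j, rfl⟩ | ⟨i, j, rfl⟩
        · rw [D.base_comm (D.e_mem c d) (D.e_mem i j), mul_inv_cancel_right]; exact hg
        · rw [D.refl_conj, hrefl]
          rw [show i + c - d - a - (j + d - c - b) = (i - a - (j - b)) + 2 * (c - d) by ring]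
          exact dvd_add (hrefl.1 hg) ⟨m, by rw [hm, hh]; ring⟩
      · exact (card_map_of_injective (f := (MulAut.conj (D.e c d)).toMonoidHom) (MulAut.conj (D.e c d)).injective).ge
  rw [relIndex, index_eq_two_iff]
  refine ⟨⟨D.e (D.q : ℤ) 0, (hnorm _ _).2 (by simp)⟩, fun ⟨g, hg⟩ => ?_⟩
  simp only [mem_subgroupOf, Subgroup.coe_mul]
  show Xor (g * D.e (D.q : ℤ) 0 ∈ X) (g ∈ X)
  have key : ∀ m k : ℤ, k = (D.q : ℤ) * m → Xor (D.h ∣ k + (D.q : ℤ)) (D.h ∣ k) := by
    intro m k hk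
    have hq0 : (D.q : ℤ) ≠ 0 := by have := D.q_pos; omega
    rw [hk, hh, mul_comm 2, show (D.q : ℤ) * m + D.q = (D.q : ℤ) * (m + 1) by ring,
      mul_dvd_mul_iff_left hq0, mul_dvd_mul_iff_left hq0]
    rcases Int.even_or_odd m with ⟨w, rfl⟩ | ⟨w, rfl⟩
    · exact Or.inr ⟨⟨w, by ring⟩, by omega⟩
    · exact Or.inl ⟨⟨w + 1, by ring⟩, by omega⟩
  rcases D.cases g with ⟨c, d, rfl⟩ | ⟨c, d, rfl⟩
  · obtain ⟨m, hm⟩ := (hnorm c d).1 hg
    rw [D.e_mul, hb, hb, add_zero, show c + (D.q : ℤ) - d = c - d + D.q by ring]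
    exact key m _ hm
  · have e1 : D.e c d * D.t = D.e (c - a) (d - b) * (D.e a b * D.t) := by
      rw [← mul_assoc, D.e_mul, sub_add_cancel, sub_add_cancel]
    obtain ⟨m, hm⟩ : (D.q : ℤ) ∣ (c - a) - (d - b) := (hnorm _ _).1 (by
      rw [eq_mul_inv_of_mul_eq e1.symm]; exact mul_mem hg (inv_mem (le_normalizer hr)))
    rw [mul_assoc, D.t_e, ← mul_assoc, D.e_mul, hrefl, hrefl,
      show c + 0 - a - (d + (D.q : ℤ) - b) = (c - a - (d - b)) - D.q by ring]
    have hk := key (m - 1) (c - a - (d - b) - D.q) (by rw [hm]; ring)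
    rw [sub_add_cancel] at hk
    rcases hk with ⟨h1, h2⟩ | ⟨h1, h2⟩
    · exact Or.inr ⟨h1, h2⟩
    · exact Or.inl ⟨h1, h2⟩

theorem exists_quaternion {X : Subgroup S} (hb : ∀ a b : ℤ, D.e a b ∈ X ↔ D.h ∣ a - b) {a b : ℤ}
    (hab : a + b = 0) (hr : D.e a b * D.t ∈ X) :
    ∃ Q : Subgroup S, Nonempty (Q ≃* QuaternionGroup 2) ∧ X = Q ⊔ center S := by
  have hh : D.h = 2 * (D.q : ℤ) := rfl
  set g : S := D.e (D.q : ℤ) (-(D.q : ℤ)) with hgdef
  set r : S := D.e (a + (D.q : ℤ)) (b + (D.q : ℤ)) * D.t with hrdef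
  have hrg : r * g * r⁻¹ = g⁻¹ := by rw [hrdef, hgdef, D.base_conj_refl, D.e_inv, neg_neg]
  have hrr : r * r = g ^ 2 := by
    rw [hrdef, hgdef, D.refl_sq, sq, D.e_mul, D.e_eq_iff]
    exact ⟨⟨0, by linarith⟩, ⟨1, by rw [N]; linarith⟩⟩
  have hg4 : g ^ 4 = 1 := by
    rw [hgdef, ← zpow_natCast, D.e_zpow, D.e_eq_one_iff]
    exact ⟨⟨1, by rw [N]; push_cast; ring⟩, ⟨-1, by rw [N]; push_cast; ring⟩⟩
  have hrgi : ∀ i : ℤ, r * g ^ i = g ^ (-i) * r := fun i =>
    mul_inv_eq_iff_eq_mul.1 (by rw [← conj_zpow, hrg, inv_zpow, zpow_neg])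
  let Q : Subgroup S :=
    { carrier := {u | ∃ i : ℤ, u = g ^ i ∨ u = g ^ i * r}
      one_mem' := ⟨0, Or.inl (zpow_zero g).symm⟩
      mul_mem' := by
        rintro u v ⟨i, rfl | rfl⟩ ⟨j, rfl | rfl⟩
        · exact ⟨i + j, Or.inl (zpow_add g i j).symm⟩
        · exact ⟨i + j, Or.inr (by rw [zpow_add, mul_assoc])⟩
        · exact ⟨i - j, Or.inr (by rw [mul_assoc, hrgi, ← mul_assoc, ← zpow_add, sub_eq_add_neg])⟩
        · exact ⟨i - j + 2, Or.inl (by
            rw [show g ^ i * r * (g ^ j * r) = g ^ i * (r * g ^ j) * r by group, hrgi,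
              show g ^ i * (g ^ (-j) * r) * r = g ^ i * g ^ (-j) * (r * r) by group, hrr, ← zpow_natCast,
              ← zpow_add, ← zpow_add, sub_eq_add_neg]; norm_num)⟩
      inv_mem' := by
        rintro u ⟨i, rfl | rfl⟩
        · exact ⟨-i, Or.inl (zpow_neg g i).symm⟩
        · refine ⟨i + 2, Or.inr ?_⟩
          refine inv_eq_of_mul_eq_one_right ?_
          rw [show g ^ i * r * (g ^ (i + 2) * r) = g ^ i * (r * g ^ (i + 2)) * r by group, hrgi,
            show g ^ i * (g ^ (-(i + 2)) * r) * r = g ^ i * g ^ (-(i + 2)) * (r * r) by group, hrr,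
            ← zpow_natCast, ← zpow_add, ← zpow_add]
          norm_num }
  refine ⟨Q, ?_, ?_⟩
  · set g' : Q := ⟨g, 1, Or.inl (zpow_one g).symm⟩ with hg'
    set r' : Q := ⟨r, 0, Or.inr (by rw [zpow_zero, one_mul])⟩
    have hgo : orderOf g' = 2 ^ 2 := by
      rw [← Subgroup.orderOf_coe]
      show orderOf (D.e (D.q : ℤ) (-(D.q : ℤ))) = _
      have h1 := D.orderOf_e_natCast (D.q : ℤ) 4 (by rw [N]; push_cast; ring) (by norm_num) (-1)
      rw [show (D.q : ℤ) * -1 = -(D.q : ℤ) by ring] at h1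
      exact h1
    have hrn : ∀ i : ℤ, g ^ i ≠ r := fun i h1 => by
      rw [hgdef, D.e_zpow, hrdef] at h1
      exact D.refl_not_mem _ _ (h1 ▸ D.e_mem _ _)
    have hmem : ∀ {u : Q}, u ∈ zpowers g' ↔ ∃ i : ℤ, (u : S) = g ^ i := by
      intro u
      rw [mem_zpowers_iff]
      refine ⟨fun ⟨i, hi⟩ => ⟨i, by rw [← hi, Subgroup.coe_zpow, hg']⟩, fun ⟨i, hi⟩ => ⟨i, Subtype.ext ?_⟩⟩
      rw [Subgroup.coe_zpow, hg', hi]
    have hr' : r' ∉ zpowers g' := fun h1 => by
      obtain ⟨i, hi⟩ := hmem.1 h1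
      exact hrn i hi.symm
    have hidx : (zpowers g').index = 2 := by
      rw [index_eq_two_iff]
      refine ⟨r', fun ⟨u, hu⟩ => ?_⟩
      obtain ⟨i, h1 | h1⟩ := hu
      · refine Or.inr ⟨hmem.2 ⟨i, h1⟩, fun h2 => ?_⟩
        exact hr' ((mul_mem_cancel_left (hmem.2 ⟨i, h1⟩)).1 h2)
      · refine Or.inl ⟨hmem.2 ⟨i + 2, ?_⟩, fun h2 => ?_⟩
        · show u * r = _
          rw [h1, mul_assoc, hrr, ← zpow_natCast, ← zpow_add]; norm_num
        · obtain ⟨j, hj⟩ := hmem.1 h2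
          refine hrn (-i + j) ?_
          rw [zpow_add, ← show u = g ^ j from hj, h1, zpow_neg, inv_mul_cancel_left]
    exact CfsgLib.UniqueInvol.nonempty_quaternion_equiv (n := 2) (by norm_num) hgo hidx hr'
      (Subtype.ext hrg) (Subtype.ext (by rw [Subgroup.coe_pow, Subgroup.coe_pow, sq]; exact hrr))
  · have hgX : g ∈ X := (hb _ _).2 ⟨1, by rw [hh]; ring⟩
    have hdiag : ∀ c : ℤ, D.e c c ∈ X := fun c => (hb c c).2 (by simp)
    have hrX : r ∈ X := by
      rw [hrdef, show D.e (a + (D.q : ℤ)) (b + (D.q : ℤ)) * D.t = D.e (D.q : ℤ) (D.q : ℤ) * (D.e a b * D.t) by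
        rw [← mul_assoc, D.e_mul, add_comm a, add_comm b]]
      exact mul_mem (hdiag _) hr
    refine le_antisymm (fun u hu => ?_) (sup_le ?_ ?_)
    · have hbase : ∀ c d : ℤ, D.e c d ∈ X → D.e c d ∈ Q ⊔ center S := fun c d hcd => by
        obtain ⟨m, hm⟩ := (hb c d).1 hcd
        have e1 : D.e c d = g ^ m * D.e (d + (D.q : ℤ) * m) (d + (D.q : ℤ) * m) := by
          rw [hgdef, D.e_zpow, D.e_mul, D.e_eq_iff]
          exact ⟨⟨0, by rw [hh] at hm; linear_combination hm⟩, ⟨0, by ring⟩⟩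
        rw [e1]
        exact mul_mem (mem_sup_left ⟨m, Or.inl rfl⟩) (mem_sup_right (D.diag_mem_center _))
      rcases D.cases u with ⟨c, d, rfl⟩ | ⟨c, d, rfl⟩
      · exact hbase c d hu
      · have e1 : D.e c d * D.t = D.e (c - (a + D.q)) (d - (b + D.q)) * r := by
          rw [hrdef, ← mul_assoc, D.e_mul, sub_add_cancel, sub_add_cancel]
        rw [e1] at hu ⊢
        exact mul_mem (hbase _ _ ((mul_mem_cancel_right hrX).1 hu))
          (mem_sup_left ⟨0, Or.inr (by rw [zpow_zero, one_mul])⟩)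
    · rintro u ⟨i, rfl | rfl⟩
      · exact zpow_mem hgX i
      · exact mul_mem (zpow_mem hgX i) hrX
    · intro u hu
      obtain ⟨w, rfl⟩ := D.center_mem_base hu
      exact hdiag w

theorem nonabelian_conj {X X' : Subgroup S} (hb : ∀ a b : ℤ, D.e a b ∈ X ↔ D.h ∣ a - b)
    (hb' : ∀ a b : ℤ, D.e a b ∈ X' ↔ D.h ∣ a - b) {a b c d : ℤ} (hab : a + b = 0) (hcd : c + d = 0)
    (hr : D.e a b * D.t ∈ X) (hr' : D.e c d * D.t ∈ X') :
    ∃ s : S, X.map (MulAut.conj s).toMonoidHom = X' := by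
  set s := D.e (c - a) 0 with hs
  have hconj : s * (D.e a b * D.t) * s⁻¹ = D.e c d * D.t := D.refl_isConj (by rw [hab, hcd]; simp)
  refine ⟨s, le_antisymm ?_ ?_⟩
  · rintro _ ⟨u, hu, rfl⟩
    show s * u * s⁻¹ ∈ X'
    rcases D.cases u with ⟨i, j, rfl⟩ | ⟨i, j, rfl⟩
    · rw [hs, D.base_comm (D.e_mem _ _) (D.e_mem i j), mul_inv_cancel_right, hb', ← hb]; exact hu
    · have e1 : D.e i j * D.t = D.e (i - a) (j - b) * (D.e a b * D.t) := by
        rw [← mul_assoc, D.e_mul, sub_add_cancel, sub_add_cancel]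
      rw [e1] at hu ⊢
      rw [← conj_mul, hconj, hs, D.base_comm (D.e_mem _ _) (D.e_mem (i - a) (j - b)), mul_inv_cancel_right]
      refine mul_mem ?_ hr'
      rw [hb', ← hb]; exact (mul_mem_cancel_right hr).1 hu
  · intro u hu
    rcases D.cases u with ⟨i, j, rfl⟩ | ⟨i, j, rfl⟩
    · refine ⟨D.e i j, (hb i j).2 ((hb' i j).1 hu), ?_⟩
      show s * D.e i j * s⁻¹ = _
      rw [hs, D.base_comm (D.e_mem _ _) (D.e_mem i j), mul_inv_cancel_right]
    · have e1 : D.e i j * D.t = D.e (i - c) (j - d) * (D.e c d * D.t) := by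
        rw [← mul_assoc, D.e_mul, sub_add_cancel, sub_add_cancel]
      rw [e1] at hu ⊢
      refine ⟨D.e (i - c) (j - d) * (D.e a b * D.t), mul_mem ?_ hr, ?_⟩
      · rw [hb, ← hb']; exact (mul_mem_cancel_right hr').1 hu
      · show s * _ * s⁻¹ = _
        rw [← conj_mul, hconj, hs, D.base_comm (D.e_mem _ _) (D.e_mem (i - c) (j - d)), mul_inv_cancel_right]

end Data

end CfsgLib.Wreath
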