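import Cfsg.Agent.Invol.CentralizerPattern
import Cfsg.Agent.Fusion.Invariant
import Cfsg.Agent.Fusion.GroupSystem
import Cfsg.Agent.S1202
import Cfsg.Agent.S3116

/-!
Simplicity of the 2-fusion system of a group without subgroups of index two whose Sylow
2-subgroups are quasi-dihedral or wreathed.
-/

set_option autoImplicit false
set_option linter.style.haveILetI false

namespace CfsgLib.InvolPattern

open Subgroup

variable {G : Type*} [Group G] [Finite G]

omit [Finite G] in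
/-- A strongly closed subgroup contains the conjugates, inside `S`, of its elements. -/
theorem conj_mem_of_stronglyClosed {S T : Subgroup G}
    (hT : (Cfsg.groupFusionSystem S).StronglyClosed T) {x g : G} (hx : x ∈ T) (h : g * x * g⁻¹ ∈ S) :
    g * x * g⁻¹ ∈ T := by
  refine hT.2 (zpowers x) (zpowers_le.2 hx) _
    (Fusion.conjHom_mem_groupFusion (zpowers_le.2 (hT.1 hx)) (g := g) fun y hy => ?_) ⟨x, mem_zpowers x⟩
  obtain ⟨i, rfl⟩ := mem_zpowers_iff.1 hy
  rw [← conj_zpow]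
  exact zpow_mem h i

theorem stronglyClosed_cases (hG : ∀ H : Subgroup G, H.index ≠ 2) (S : Sylow 2 G)
    (hS : Cfsg.IsQuasiDihedral (S : Subgroup G) ∨ Cfsg.IsWreathed (S : Subgroup G)) {T : Subgroup G}
    (hT : (Cfsg.groupFusionSystem (S : Subgroup G)).StronglyClosed T) : T = ⊥ ∨ T = (S : Subgroup G) := by
  haveI : Fact (Nat.Prime 2) := ⟨Nat.prime_two⟩
  rw [or_iff_not_imp_left]
  intro hne
  refine le_antisymm hT.1 ?_
  have hcl : ∀ {x y : G}, x ∈ T → IsConj x y → y ∈ (S : Subgroup G) → y ∈ T := fun {x y} hx hc hy => by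
    obtain ⟨g, rfl⟩ := isConj_iff.1 hc
    exact conj_mem_of_stronglyClosed hT hx hy
  obtain ⟨w, hwT, hw⟩ : ∃ w ∈ T, orderOf w = 2 := by
    haveI : Nontrivial T := (nontrivial_iff_ne_bot T).2 hne
    obtain ⟨w, hw⟩ := exists_prime_orderOf_dvd_card' (G := T) 2 (by
      obtain ⟨n, hn⟩ := IsPGroup.iff_card.1 (S.2.to_le hT.1)
      rw [hn]
      refine dvd_pow_self 2 fun h0 => ?_
      have := Finite.one_lt_card (α := T)
      rw [hn, h0] at this
      simp at this)
    exact ⟨w, w.2, by rw [Subgroup.orderOf_coe, hw]⟩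
  have hinv : ∀ {y : G}, y ∈ (S : Subgroup G) → orderOf y = 2 → y ∈ T := fun {y} hy ho => by
    have h1 : Nat.card {C : ConjClasses G // ∃ t : G, orderOf t = 2 ∧ ConjClasses.mk t = C} = 1 :=
      hS.elim (fun h => (qd_one_class hG S h).1) fun h => (wreath_one_class hG S h).1
    exact hcl hwT (isConj_of_one_class h1 hw ho) hy
  rcases hS with hS | hS
  · obtain ⟨D⟩ := CfsgLib.QD.exists_data hS
    obtain ⟨U, Q, hUS, hU, hQS, ⟨eQ⟩⟩ := qd_setup S D
    obtain ⟨hT6, hQ6⟩ := qd_simple_pattern hG S hS D hU hUS hQS eQ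
    have hfour := (D.case_six_six hU hUS hQS eQ hT6 hQ6).2.2
    have hy : ∀ i : ℤ, 2 ∣ i → D.gy i ∈ T := fun i hi => hinv (D.gy_mem i) (D.gy_order_two hi)
    have hy1 : ∀ i : ℤ, D.gy i ∈ T := by
      intro i
      by_cases hi : 2 ∣ i
      · exact hy i hi
      have hwT' : D.gw ∈ T := by
        rw [show D.gw = D.gr (2 * (D.q : ℤ)) from rfl, ← D.gy_mul_zero]
        exact mul_mem (hy _ (dvd_mul_right _ _)) (hy 0 (dvd_zero _))
      refine hcl hwT' (ConjClasses.mk_eq_mk_iff_isConj.1 (congrArg Subtype.val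
        ((Nat.card_eq_one_iff_unique.1 hfour).1.elim ⟨ConjClasses.mk D.gw, _, D.gw_order, rfl⟩
          ⟨ConjClasses.mk (D.gy i), _, D.gy_order_four hi, rfl⟩))) (D.gy_mem i)
    intro u hu
    rcases D.elem_cases hu with ⟨i, rfl⟩ | ⟨i, rfl⟩
    · rw [← D.gy_mul_zero]
      exact mul_mem (hy1 i) (hy1 0)
    · exact hy1 i
  · obtain ⟨D, X, a, hb, hr⟩ := wreath_setup S hS
    obtain ⟨hU, hV⟩ := wreath_simple_pattern hG S D hb hr
    have ht : ∀ c : ℤ, D.gref c (-c) ∈ T := fun c => hinv (D.gref_mem _ _) (by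
      rw [CfsgLib.Wreath.Data.gref, Subgroup.orderOf_coe, D.refl_invol_iff]; simp)
    have ht0 : D.gref 0 0 ∈ T := by simpa using ht 0
    have hanti : ∀ c : ℤ, D.ge c (-c) ∈ T := fun c => by
      have h : D.gref c (-c) = D.ge c (-c) * D.gref 0 0 :=
        congrArg Subtype.val (show D.e c (-c) * D.t = D.e c (-c) * (D.e 0 0 * D.t) by rw [D.e_zero, one_mul])
      have h1 := ht c
      rwa [h, mul_mem_cancel_right ht0] at h1
    obtain ⟨b, hbN, -, hbc⟩ := D.base_cycle hU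
    have himg : ∀ i j : ℤ, ∃ k l : ℤ, b * D.ge i j * b⁻¹ = D.ge k l := fun i j =>
      D.mem_gbase.1 ((mem_normalizer_iff.1 hbN _).1 (D.mem_gbase.2 ⟨i, j, rfl⟩))
    obtain ⟨k, l, hkl, hT'⟩ : ∃ k l : ℤ, ¬ 2 ∣ k + l ∧ D.ge k l ∈ T := by
      rcases hbc with ⟨-, i, j, e, hi, hj⟩ | ⟨-, i, j, e, hi, hj⟩
      · obtain ⟨r, s, hrs⟩ := himg 0 (-1)
        have h : b * D.ge 1 (-1) * b⁻¹ = D.ge (i + (r + r)) (j + (s + s)) := by
          rw [← D.ge_mul i j, ← D.ge_mul r s, ← e, ← hrs, conj_mul, conj_mul, D.ge_mul, D.ge_mul]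
          norm_num
        exact ⟨_, _, by omega, h ▸ conj_mem_of_stronglyClosed hT (hanti 1) (h ▸ D.ge_mem _ _)⟩
      · -- an element with odd coordinate sum mapped to one with both coordinates odd
        obtain ⟨m, rfl⟩ : ∃ m, i = 1 + (m + m) := ⟨(i - 1) / 2, by omega⟩
        obtain ⟨n, rfl⟩ : ∃ n, j = -1 + (n + n) := ⟨(j + 1) / 2, by omega⟩
        obtain ⟨r, s, hrs⟩ : ∃ r s : ℤ, b⁻¹ * D.ge (-m) (-n) * b = D.ge r s := by
          have h := (mem_normalizer_iff''.1 hbN _).1 (D.mem_gbase.2 ⟨-m, -n, rfl⟩)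
          exact D.mem_gbase.1 h
        refine ⟨1 + (r + r), 0 + (s + s), by omega, ?_⟩
        have h : b⁻¹ * D.ge 1 (-1) * b = D.ge (1 + (r + r)) (0 + (s + s)) := by
          have e' : b⁻¹ * D.ge (1 + (m + m)) (-1 + (n + n)) * b = D.ge 1 0 := by rw [← e]; group
          calc b⁻¹ * D.ge 1 (-1) * b
              = b⁻¹ * (D.ge (1 + (m + m)) (-1 + (n + n)) * (D.ge (-m) (-n) * D.ge (-m) (-n))) * b := by
                rw [D.ge_mul, D.ge_mul, show 1 + (m + m) + (-m + -m) = 1 by ring,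
                  show -1 + (n + n) + (-n + -n) = -1 by ring]
            _ = D.ge 1 0 * ((b⁻¹ * D.ge (-m) (-n) * b) * (b⁻¹ * D.ge (-m) (-n) * b)) := by rw [← e']; group
            _ = _ := by rw [hrs, D.ge_mul, D.ge_mul]
        rw [← h]
        have := conj_mem_of_stronglyClosed hT (hanti 1) (g := b⁻¹) (by rw [inv_inv, h]; exact D.ge_mem _ _)
        rwa [inv_inv] at this
    have hsum : D.ge (k + l) 0 ∈ T := by
      have h1 := mul_mem hT' (hanti l)
      rwa [D.ge_mul, add_neg_cancel] at h1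
    have hodd : Int.gcd (k + l) D.N = 1 := by
      have hN : D.N = 2 ^ (D.k + 2) := by rw [CfsgLib.Wreath.Data.N, D.hq]; push_cast; ring
      rw [hN]
      exact Int.isCoprime_iff_gcd_eq_one.1
        ((Int.prime_two.coprime_iff_not_dvd.2 hkl).symm.pow_right)
    have h10 : D.ge 1 0 ∈ T := by
      have h1 := Int.gcd_eq_gcd_ab (k + l) D.N
      rw [hodd] at h1
      have h2 : D.ge 1 0 = D.ge (k + l) 0 ^ Int.gcdA (k + l) D.N := by
        rw [D.ge_zpow, D.ge_eq_iff]
        exact ⟨⟨Int.gcdB (k + l) D.N, by push_cast at h1; linear_combination h1⟩, by simp⟩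
      rw [h2]; exact zpow_mem hsum _
    have h01 : D.ge 0 1 ∈ T := by
      have h1 := mul_mem h10 (inv_mem (hanti 1))
      have h2 : (D.ge 1 (-1))⁻¹ = D.ge (-1) 1 := inv_eq_of_mul_eq_one_right (by
        rw [D.ge_mul]; simp [CfsgLib.Wreath.Data.ge, D.e_zero])
      rwa [h2, D.ge_mul, add_neg_cancel, zero_add] at h1
    have hbase : ∀ i j, D.ge i j ∈ T := fun i j => by
      rw [show D.ge i j = D.ge 1 0 ^ i * D.ge 0 1 ^ j by rw [D.ge_zpow, D.ge_zpow, D.ge_mul]; simp]
      exact mul_mem (zpow_mem h10 i) (zpow_mem h01 j)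
    intro s hs
    rcases D.cases ⟨s, hs⟩ with ⟨i, j, e⟩ | ⟨i, j, e⟩
    · have h2 : s = D.ge i j := congrArg Subtype.val e
      exact h2 ▸ hbase i j
    · have h2 : s = D.ge i j * D.gref 0 0 := by
        refine (congrArg Subtype.val e).trans ?_
        exact congrArg Subtype.val (show D.e i j * D.t = D.e i j * (D.e 0 0 * D.t) by rw [D.e_zero, one_mul])
      exact h2 ▸ mul_mem (hbase i j) ht0

theorem isPGroup_mulAut_sylow {X : Type*} [Group X] [Finite X]
    (hX : Cfsg.IsQuasiDihedral X ∨ Cfsg.IsWreathed X) : IsPGroup 2 (MulAut X) := by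
  rcases hX with hX | hX
  · obtain ⟨D⟩ := CfsgLib.QD.exists_data hX
    exact Cfsg.Agent.S3116.result D.isPGroup (Or.inr hX)
  · by_contra h
    obtain ⟨n, -, hn, -⟩ := id hX
    have h1 := (Cfsg.Agent.S1202.result hX n hn ⊤ le_top fun hp =>
      h (hp.of_equiv (MulAut.congr Subgroup.topEquiv))).1
    simp at h1

theorem autGroup_eq_inn (S : Sylow 2 G)
    (hS : Cfsg.IsQuasiDihedral (S : Subgroup G) ∨ Cfsg.IsWreathed (S : Subgroup G)) :
    (Cfsg.groupFusionSystem (S : Subgroup G)).autGroup (S : Subgroup G) = Cfsg.Inn ↥(S : Subgroup G) := by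
  haveI : Fact (Nat.Prime 2) := ⟨Nat.prime_two⟩
  refine le_antisymm ?_ (Fusion.inn_le_autGroup le_rfl)
  rw [Fusion.autGroup_groupFusion le_rfl, Fusion.inn_eq_autInducedBy]
  intro α hα
  obtain ⟨g, -, hg⟩ := Fusion.mem_autInducedBy.1 hα
  obtain ⟨j, hj⟩ := (isPGroup_mulAut_sylow hS) α
  obtain ⟨r, m, hm, hgo⟩ := Nat.exists_eq_two_pow_mul_odd (orderOf_pos g).ne'
  have hgN : g ∈ normalizer ((S : Subgroup G) : Set G) := by
    rw [mem_normalizer_iff]
    intro x
    refine ⟨fun hx => hg ⟨x, hx⟩ ▸ (α ⟨x, hx⟩).2, fun hx => ?_⟩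
    have h := hg (α.symm ⟨_, hx⟩)
    rw [MulEquiv.apply_symm_apply] at h
    rw [mul_left_cancel (mul_right_cancel h)]
    exact (α.symm ⟨_, hx⟩).2
  have hgm : g ^ m ∈ (S : Subgroup G) := by
    have hp : IsPGroup 2 (zpowers (g ^ m)) := IsPGroup.of_card (n := r) (by
      rw [Nat.card_zpowers, orderOf_pow' g hm.pos.ne', hgo, Nat.gcd_mul_left_left, Nat.mul_div_cancel _ hm.pos])
    have hle : zpowers (g ^ m) ≤ normalizer ((S : Subgroup G) : Set G) :=
      zpowers_le.2 (pow_mem hgN m)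
    have hsup := hp.to_sup_of_normal_right' S.2 hle
    exact (S.3 hsup le_sup_right).le (mem_sup_left (mem_zpowers _))
  have hαm : α ^ m ∈ Cfsg.autInducedBy (S : Subgroup G) (S : Subgroup G) := by
    refine Fusion.mem_autInducedBy.2 ⟨g ^ m, hgm, ?_⟩
    have : ∀ (n : ℕ) (x : (S : Subgroup G)), (((α ^ n) x : (S : Subgroup G)) : G) = g ^ n * x * (g ^ n)⁻¹ := by
      intro n
      induction n with
      | zero => intro x; simp
      | succ n ih =>
        intro x
        rw [pow_succ', MulAut.mul_apply, hg, ih, pow_succ']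
        group
    exact this m
  obtain ⟨a, b, hab⟩ : ∃ a b : ℤ, (m : ℤ) * a + (2 ^ j : ℕ) * b = 1 := by
    obtain ⟨a, b, h⟩ := Int.isCoprime_iff_gcd_eq_one.2 (show Int.gcd (m : ℤ) ((2 ^ j : ℕ) : ℤ) = 1 by
      rw [Int.gcd_natCast_natCast]
      exact Nat.Coprime.pow_right j hm.coprime_two_right)
    exact ⟨a, b, by rw [mul_comm _ a, mul_comm _ b]; exact h⟩
  have : α = (α ^ m) ^ a := by
    conv_lhs => rw [← zpow_one α, ← hab, zpow_add, zpow_mul, zpow_mul, zpow_natCast, zpow_natCast, hj,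
      one_zpow, mul_one]
  rw [this]
  exact zpow_mem hαm a

/-- The 2-fusion system of a group without index two subgroups and with quasi-dihedral or
wreathed Sylow 2-subgroups is simple. -/
theorem isSimple_groupFusion (hG : ∀ H : Subgroup G, H.index ≠ 2) (S : Sylow 2 G)
    (hS : Cfsg.IsQuasiDihedral (S : Subgroup G) ∨ Cfsg.IsWreathed (S : Subgroup G)) :
    (Cfsg.groupFusionSystem (S : Subgroup G)).IsSimple 2 := by
  haveI : Fact (Nat.Prime 2) := ⟨Nat.prime_two⟩
  refine Fusion.isSimple_of_inn 2 (Fusion.groupFusion_saturated S) (fun h => ?_)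
    (fun T hT => stronglyClosed_cases hG S hS hT) (autGroup_eq_inn S hS)
  have h1 := Subgroup.card_eq_one.2 h
  rcases hS with hS | hS
  · obtain ⟨D⟩ := CfsgLib.QD.exists_data hS
    have h2 := D.card_eq
    omega
  · obtain ⟨D⟩ := CfsgLib.Wreath.exists_data hS
    have h2 := D.card_eq
    have := D.q_pos
    nlinarith

end CfsgLib.InvolPattern
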