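import Cfsg.Agent.Invol.IsolatedApps

/-!
Weakly closed 2-elements are central modulo the odd core.
-/

set_option autoImplicit false
set_option linter.unusedSectionVars false
set_option linter.deprecated false
set_option linter.style.haveILetI false

namespace CfsgLib.CentralWeak

open Subgroup

universe u

/-- `w` is the only one of its conjugates in `P`. -/
def Alone {X : Type u} [Group X] (P : Subgroup X) (w : X) : Prop :=
  ∀ g : X, g * w * g⁻¹ ∈ P → g * w * g⁻¹ = w

theorem exists_conj_sylow {X : Type u} [Group X] [Finite X] (S : Sylow 2 X) {H : Subgroup X}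
    (hH : IsPGroup 2 H) : ∃ x : X, ∀ h ∈ H, x * h * x⁻¹ ∈ (S : Subgroup X) := by
  haveI : Fact (Nat.Prime 2) := ⟨Nat.prime_two⟩
  obtain ⟨Q, hQ⟩ := hH.exists_le_sylow
  obtain ⟨x, hx⟩ := MulAction.exists_smul_eq X Q S
  refine ⟨x, fun h hh => ?_⟩
  rw [← hx, Sylow.coe_subgroup_smul]
  exact ⟨h, hQ hh, rfl⟩

/-- Images modulo a normal subgroup of odd order. -/
theorem alone_map {X Y : Type u} [Group X] [Finite X] [Group Y] (f : X →* Y) (hker : Odd (Nat.card f.ker))
    (S : Sylow 2 X) {w : X} (hwS : w ∈ (S : Subgroup X)) (h : Alone (S : Subgroup X) w) (hf : Function.Surjective f) :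
    Alone ((S : Subgroup X).map f) (f w) := by
  haveI : Fact (Nat.Prime 2) := ⟨Nat.prime_two⟩
  intro y hy
  obtain ⟨g, rfl⟩ := hf y
  rw [← map_inv, ← map_mul, ← map_mul] at hy ⊢
  obtain ⟨s, hs, hsv⟩ := hy
  set H := (S : Subgroup X) ⊔ f.ker with hH
  have hv : g * w * g⁻¹ ∈ H := by
    have hk : s⁻¹ * (g * w * g⁻¹) ∈ f.ker := by
      rw [MonoidHom.mem_ker, map_mul, map_inv, hsv, inv_mul_cancel]
    have e := mul_mem (mem_sup_left hs : s ∈ H) (mem_sup_right hk : s⁻¹ * (g * w * g⁻¹) ∈ H)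
    rwa [mul_inv_cancel_left] at e
  -- a Sylow subgroup of `S ⊔ ker f` is a conjugate of `S` by an element of the kernel
  obtain ⟨k, hk, hkv⟩ : ∃ k ∈ f.ker, k * (g * w * g⁻¹) * k⁻¹ ∈ (S : Subgroup X) := by
    let S₀ : Sylow 2 H := S.subtype le_sup_left
    obtain ⟨a, ha⟩ := IsPGroup.iff_orderOf.1 S.2 ⟨w, hwS⟩
    rw [Subgroup.orderOf_mk] at ha
    have hp : IsPGroup 2 (zpowers (⟨_, hv⟩ : H)) := IsPGroup.of_card (n := a) (by
      rw [Nat.card_zpowers, Subgroup.orderOf_mk, CfsgLib.Invol.orderOf_conj_eq, ha])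
    obtain ⟨x, hx⟩ := exists_conj_sylow S₀ hp
    obtain ⟨t, ht, k, hk, htk⟩ := mem_sup_of_normal_right.1 x.2
    refine ⟨k, hk, ?_⟩
    have h1 := hx _ (mem_zpowers _)
    change (x : X) * (g * w * g⁻¹) * (x : X)⁻¹ ∈ (S : Subgroup X) at h1
    rw [← htk] at h1
    have h2 := mul_mem (mul_mem (inv_mem ht) h1) ht
    rwa [show t⁻¹ * (t * k * (g * w * g⁻¹) * (t * k)⁻¹) * t = k * (g * w * g⁻¹) * k⁻¹ by group] at h2
  have := h (k * g) (by rwa [show k * g * w * (k * g)⁻¹ = k * (g * w * g⁻¹) * k⁻¹ by group])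
  have h2 := congrArg f this
  rw [map_mul, map_mul, map_inv, map_mul, MonoidHom.mem_ker.1 hk, one_mul] at h2
  rw [map_mul, map_mul, map_inv, h2]

/-- A 2-element all whose powers are weakly closed in a Sylow subgroup is central modulo the odd
core. -/
theorem comm_mem_oddCore : ∀ (k : ℕ) {X : Type u} [Group X] [Finite X] (S : Sylow 2 X) (w : X),
    w ∈ (S : Subgroup X) → w ^ 2 ^ k = 1 → (∀ i : ℕ, Alone (S : Subgroup X) (w ^ i)) →
    ∀ g : X, g * w * g⁻¹ * w⁻¹ ∈ Cfsg.oddCore X := by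
  intro k
  induction k with
  | zero =>
    intro X _ _ S w _ hk _ g
    rw [pow_zero, pow_one] at hk
    simp [hk, one_mem]
  | succ k ih =>
    intro X _ _ S w hw hk hal g
    haveI : Fact (Nat.Prime 2) := ⟨Nat.prime_two⟩
    have ih2 := ih S (w ^ 2) (pow_mem hw 2) (by rw [← pow_mul, ← pow_succ']; exact hk)
      fun i => by rw [← pow_mul]; exact hal _
    set O := Cfsg.oddCore X with hO
    haveI : O.Normal := by rw [hO]; infer_instance
    let π := QuotientGroup.mk' O
    have hπ : Function.Surjective π := QuotientGroup.mk'_surjective O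
    have hker : π.ker = O := QuotientGroup.ker_mk' O
    let T : Sylow 2 (X ⧸ O) := S.mapSurjective hπ
    have hT : (T : Subgroup (X ⧸ O)) = (S : Subgroup X).map π := rfl
    set wh := π w with hwh
    have hwT : wh ∈ (T : Subgroup (X ⧸ O)) := ⟨w, hw, rfl⟩
    have hA : Alone (T : Subgroup (X ⧸ O)) wh := by
      rw [hT]
      exact alone_map π (by rw [hker]; exact IsoApps.odd_oddCore) S hw (by simpa using hal 1) hπ
    have hc : ∀ y : X ⧸ O, Commute y (wh ^ 2) := by
      intro y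
      obtain ⟨x, rfl⟩ := hπ y
      have h1 : π (x * w ^ 2 * x⁻¹ * (w ^ 2)⁻¹) = 1 := (QuotientGroup.eq_one_iff _).2 (ih2 x)
      rw [map_mul, map_mul, map_mul, map_inv, map_inv, map_pow, mul_inv_eq_one] at h1
      exact mul_inv_eq_iff_eq_mul.1 h1
    suffices key : ∀ y : X ⧸ O, y * wh * y⁻¹ = wh by
      rw [← QuotientGroup.eq_one_iff]
      show π (g * w * g⁻¹ * w⁻¹) = 1
      rw [map_mul, map_mul, map_mul, map_inv, map_inv, key, mul_inv_cancel]
    have hcA : ∀ {a : X ⧸ O}, a ∈ zpowers (wh ^ 2) → ∀ y, Commute y a := fun ha y => by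
      obtain ⟨j, rfl⟩ := mem_zpowers_iff.1 ha
      exact (hc y).zpow_right j
    set A := zpowers (wh ^ 2) with hAdef
    haveI hAn : A.Normal := ⟨fun a ha y => by rw [(hcA ha y).eq, mul_inv_cancel_right]; exact ha⟩
    have hAT : ∀ {a}, a ∈ A → a * wh ∈ (T : Subgroup (X ⧸ O)) := fun ha =>
      mul_mem ((zpowers_le.2 (pow_mem hwT 2)) ha) hwT
    by_cases hwA : wh ∈ A
    · exact fun y => by rw [(hcA hwA y).eq, mul_inv_cancel_right]
    let τ := QuotientGroup.mk' A
    have hτ : ∀ x, τ x = 1 ↔ x ∈ A := fun x => QuotientGroup.eq_one_iff x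
    have hy2 : τ wh * τ wh = 1 := by rw [← map_mul, hτ, ← sq]; exact mem_zpowers _
    have hy : orderOf (τ wh) = 2 := CfsgLib.Invol.orderOf_eq_two hy2 (fun h => hwA ((hτ _).1 h))
    have hiso : Cfsg.IsIsolatedInvolution (τ wh) := by
      refine ⟨hy, fun h hcom => ?_⟩
      obtain ⟨h, rfl⟩ := QuotientGroup.mk'_surjective A h
      set v := h * wh * h⁻¹ with hv
      have hτv : τ v = τ h * τ wh * (τ h)⁻¹ := by rw [hv, map_mul, map_mul, map_inv]
      have hy' : orderOf (τ v) = 2 := by rw [hτv, CfsgLib.Invol.orderOf_conj_eq, hy]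
      change Commute (τ wh) (τ h * τ wh * (τ h)⁻¹) at hcom
      rw [← hτv] at hcom
      obtain ⟨a, ha⟩ := IsPGroup.iff_orderOf.1 T.2 ⟨wh, hwT⟩
      rw [Subgroup.orderOf_mk] at ha
      have hp : IsPGroup 2 (closure ({wh, v} : Set (X ⧸ O))) := by
        rintro ⟨x, hx⟩
        refine ⟨a + 1, Subtype.ext ?_⟩
        show x ^ 2 ^ (a + 1) = 1
        have hx' : τ x ∈ closure ({τ wh, τ v} : Set ((X ⧸ O) ⧸ A)) := by
          have := mem_map_of_mem τ hx
          rwa [MonoidHom.map_closure, Set.image_pair] at this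
        have hsq : (τ wh * τ v) ^ 2 = 1 := by
          rw [hcom.mul_pow, sq, sq, hy2, CfsgLib.Invol.mul_self_eq_one hy', one_mul]
        have hx2 : τ (x ^ 2) = 1 := by
          rw [map_pow]
          rcases (CfsgLib.Invol.mem_closure_pair_iff hy hy').mp hx' with ⟨j, e⟩ | ⟨j, e⟩ <;> rw [e]
          · rw [← zpow_natCast, ← zpow_mul, mul_comm j, zpow_mul, zpow_natCast, hsq, one_zpow]
          · rw [sq]
            exact CfsgLib.Invol.mul_zpow_mul_self hy2 (CfsgLib.Invol.conj_mul_inv hy hy') j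
        obtain ⟨j, hj⟩ := mem_zpowers_iff.1 ((hτ _).1 hx2)
        rw [pow_succ', pow_mul, ← hj, ← zpow_natCast, ← zpow_natCast wh, ← zpow_mul, ← zpow_mul,
          ← orderOf_dvd_iff_zpow_eq_one, ha]
        exact ⟨2 * j, by push_cast; ring⟩
      obtain ⟨x, hx⟩ := exists_conj_sylow T hp
      have e1 := hA x (hx _ (subset_closure (Set.mem_insert _ _)))
      have e2 := hA (x * h) (by
        have := hx v (subset_closure (Set.mem_insert_of_mem _ rfl))
        rwa [show x * h * wh * (x * h)⁻¹ = x * v * x⁻¹ by rw [hv]; group])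
      show τ h * τ wh * (τ h)⁻¹ = τ wh
      rw [← hτv]
      congr 1
      refine (MulAut.conj x).injective ?_
      show x * v * x⁻¹ = x * wh * x⁻¹
      rw [e1, hv, show x * (h * wh * h⁻¹) * x⁻¹ = x * h * wh * (x * h)⁻¹ by group, e2]
    obtain ⟨N, hN, hNodd, hNmem⟩ := ZStar.zstar hiso
    set M := N.comap τ with hM
    haveI hMn : M.Normal := Normal.comap hN τ
    have hMA : M ≤ A := by
      set n := Nat.card N with hn
      have hpow : ∀ x ∈ M, x ^ n ∈ A := fun x hx => by
        rw [← hτ, map_pow]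
        exact congrArg Subtype.val (pow_card_eq_one' (x := (⟨τ x, hx⟩ : N)))
      have hmul : ∀ x ∈ M, ∀ y ∈ M, (x * y) ^ n = x ^ n * y ^ n := by
        intro x hx y hy'
        have hAZ : A.subgroupOf M ≤ center M := fun a ha =>
          mem_center_iff.2 fun b => Subtype.ext ((hcA (mem_subgroupOf.1 ha) b).eq)
        have hdvd : (center M).index ∣ n := by
          refine (index_dvd_of_le hAZ).trans (dvd_of_eq ?_)
          rw [← relIndex, show A = τ.ker from (QuotientGroup.ker_mk' A).symm, relIndex_ker, hn, hM,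
            map_comap_eq_self_of_surjective (QuotientGroup.mk'_surjective A)]
        obtain ⟨c, hc'⟩ := hdvd
        have h1 := map_mul (MonoidHom.transferCenterPow M) ⟨x, hx⟩ ⟨y, hy'⟩
        have h2 := congrArg (fun u : center M => ((u : M) : X ⧸ O)) h1
        simp only [MonoidHom.transferCenterPow_apply, Subgroup.coe_mul, SubmonoidClass.coe_pow] at h2
        have h3 : Commute (x ^ (center M).index) (y ^ (center M).index) := by
          have hz := ((MonoidHom.transferCenterPow M) (⟨x, hx⟩ : M)).2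
          have := congrArg Subtype.val (mem_center_iff.1 hz ⟨y ^ (center M).index, pow_mem hy' _⟩)
          simpa [MonoidHom.transferCenterPow_apply, Commute, SemiconjBy] using this.symm
        rw [hc', pow_mul, pow_mul, pow_mul, h2, h3.mul_pow]
      let K : Subgroup (X ⧸ O) :=
        { carrier := {x | x ∈ M ∧ x ^ n = 1}
          one_mem' := ⟨one_mem M, one_pow n⟩
          mul_mem' := fun {x y} hx hy' => ⟨mul_mem hx.1 hy'.1, by rw [hmul x hx.1 y hy'.1, hx.2, hy'.2, one_mul]⟩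
          inv_mem' := fun {x} hx => ⟨inv_mem hx.1, by rw [inv_pow, hx.2, inv_one]⟩ }
      haveI hKn : K.Normal := ⟨fun x hx y => ⟨hMn.conj_mem x hx.1 y, by rw [conj_pow, hx.2, mul_one, mul_inv_cancel]⟩⟩
      have hK : Nat.Coprime (Nat.card K) 2 := by
        rw [Nat.coprime_two_right]
        by_contra hev
        obtain ⟨x, hx⟩ := exists_prime_orderOf_dvd_card' (G := K) 2 (Nat.not_odd_iff_even.1 hev).two_dvd
        refine Nat.not_even_iff_odd.2 hNodd (even_iff_two_dvd.2 ?_)
        rw [← hx, ← Subgroup.orderOf_coe]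
        exact orderOf_dvd_of_pow_eq_one x.2.2
      have hK1 : K ≤ ⊥ := by
        have := CfsgLib.Solvable.le_pPrimeCore 2 hKn hK
        rwa [show Cfsg.pPrimeCore 2 (X ⧸ O) = ⊥ from CfsgLib.Fitting.pPrimeCore_quotient_eq_bot 2] at this
      intro x hx
      obtain ⟨a, ha⟩ := IsPGroup.iff_card.1 (T.2.to_le (zpowers_le.2 (pow_mem hwT 2)) : IsPGroup 2 A)
      have hcop : (Nat.card A).Coprime n := ha ▸ (Nat.coprime_two_left.2 hNodd).pow_left a
      obtain ⟨b, hb⟩ := (powCoprime hcop).surjective ⟨x ^ n, hpow x hx⟩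
      have hb' : (b : X ⧸ O) ^ n = x ^ n := congrArg Subtype.val hb
      have h1 : x * (b : X ⧸ O)⁻¹ ∈ K := by
        refine ⟨mul_mem hx (inv_mem ?_), ?_⟩
        · show τ b ∈ N
          rw [(hτ _).2 b.2]; exact one_mem N
        · rw [(hcA b.2 x).inv_right.mul_pow, inv_pow, hb', mul_inv_cancel]
      rw [mul_inv_eq_one.1 (mem_bot.1 (hK1 h1))]
      exact b.2
    intro y
    have h1 : wh * y * wh⁻¹ * y⁻¹ ∈ A := hMA (by
      show τ (wh * y * wh⁻¹ * y⁻¹) ∈ N
      rw [map_mul, map_mul, map_mul, map_inv, map_inv]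
      exact hNmem (τ y))
    refine hA y ?_
    have h2 := hAT (inv_mem h1)
    rwa [show (wh * y * wh⁻¹ * y⁻¹)⁻¹ * wh = y * wh * y⁻¹ by group] at h2

end CfsgLib.CentralWeak
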