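import Cfsg.Agent.Invol.FocalTransfer
import Cfsg.Agent.Invol.CentralWeak
import Cfsg.Agent.Invol.ThompsonTransfer

/-!
Normal subgroups of index two and fusion in a Sylow 2-subgroup.
-/

set_option autoImplicit false
set_option linter.unusedSectionVars false
set_option linter.deprecated false
set_option linter.style.haveILetI false

namespace CfsgLib.SylowKernel

open Subgroup

variable {G : Type*} [Group G] [Finite G]

theorem mem_of_odd {L : Subgroup G} (hL : L.index = 2) {g : G} (hg : Odd (orderOf g)) : g ∈ L := by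
  obtain ⟨m, hm⟩ := hg
  have h1 : g ^ (2 * m + 1) ∈ L := by rw [← hm, pow_orderOf_eq_one]; exact one_mem L
  rw [pow_succ, pow_mul] at h1
  exact (mul_mem_cancel_left (pow_mem (by rw [sq]; exact mul_self_mem_of_index_two hL g) m)).1 h1

theorem conj_mem_iff {L : Subgroup G} [L.Normal] (g v : G) : g * v * g⁻¹ ∈ L ↔ v ∈ L := by
  refine ⟨fun h => ?_, fun h => Normal.conj_mem inferInstance v h g⟩
  have := Normal.conj_mem inferInstance _ h g⁻¹
  rwa [show g⁻¹ * (g * v * g⁻¹) * g⁻¹⁻¹ = v by group] at this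

theorem not_sylow_le {K : Subgroup G} (S : Sylow 2 G) (hK : K.index = 2) : ¬ (S : Subgroup G) ≤ K := by
  haveI : Fact (Nat.Prime 2) := ⟨Nat.prime_two⟩
  exact fun h => S.not_dvd_index ((dvd_of_eq hK.symm).trans (index_dvd_of_le h))

/-- The kernel of the transfer into `S/M`: it misses the elements outside `M` which do not fuse
into `M`. -/
theorem exists_kernel (S : Sylow 2 G) (M : Subgroup G) (hMi : M.relIndex (S : Subgroup G) = 2) {u : G}
    (hu : u ∈ (S : Subgroup G)) (huM : u ∉ M)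
    (key : ∀ (k : ℕ) (g : G), g * u ^ k * g⁻¹ ∈ (S : Subgroup G) → (g * u ^ k * g⁻¹ ∈ M ↔ u ^ k ∈ M)) :
    ∃ K : Subgroup G, K.Normal ∧ K.index = 2 ∧ u ∉ K ∧ ∀ v ∈ (S : Subgroup G), v ∉ M →
      (∀ (k : ℕ) (g : G), g * v ^ k * g⁻¹ ∈ (S : Subgroup G) → (g * v ^ k * g⁻¹ ∈ M ↔ v ^ k ∈ M)) → v ∉ K := by
  haveI : Fact (Nat.Prime 2) := ⟨Nat.prime_two⟩
  set φ := ThompsonTransfer.parity (M.subgroupOf (S : Subgroup G)) hMi
  set V := MonoidHom.transfer φ
  have hne : ∀ v ∈ (S : Subgroup G), v ∉ M →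
      (∀ (k : ℕ) (g : G), g * v ^ k * g⁻¹ ∈ (S : Subgroup G) → (g * v ^ k * g⁻¹ ∈ M ↔ v ^ k ∈ M)) → V v ≠ 1 := by
    intro v hv hvM hkey
    obtain ⟨a, ha⟩ := IsPGroup.iff_orderOf.1 S.2 ⟨v, hv⟩
    rw [Subgroup.orderOf_mk] at ha
    refine FocalTransfer.transfer_ne_one φ
      ((Nat.Prime.coprime_iff_not_dvd Nat.prime_two).2 S.not_dvd_index) hv ⟨a, ha⟩ ?_ (fun k g₀ h => ?_)
    · rw [ThompsonTransfer.parity_apply_not_mem hMi (fun h => hvM (mem_subgroupOf.1 h))]
      exact fun h => absurd (Multiplicative.ofAdd.injective (h : Multiplicative.ofAdd (1 : ZMod 2) = Multiplicative.ofAdd 0)) one_ne_zero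
    · have h' := hkey k g₀⁻¹ (by rwa [inv_inv])
      rw [inv_inv] at h'
      rw [← map_pow]
      by_cases hm : v ^ k ∈ M
      · rw [ThompsonTransfer.parity_apply_mem hMi (mem_subgroupOf.2 (h'.2 hm)),
          ThompsonTransfer.parity_apply_mem hMi (mem_subgroupOf.2 hm)]
      · rw [ThompsonTransfer.parity_apply_not_mem hMi (fun h'' => hm (h'.1 (mem_subgroupOf.1 h''))),
          ThompsonTransfer.parity_apply_not_mem hMi (fun h'' => hm (mem_subgroupOf.1 h''))]
  refine ⟨V.ker, inferInstance, ?_, fun h => hne u hu huM key (MonoidHom.mem_ker.1 h),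
    fun v hv hvM hk h => hne v hv hvM hk (MonoidHom.mem_ker.1 h)⟩
  rw [index_ker]
  have h2 : Nat.card V.range ∣ 2 := by
    have : Nat.card (Multiplicative (ZMod 2)) = 2 := by simp
    exact (card_subgroup_dvd_card _).trans (dvd_of_eq this)
  refine ((Nat.dvd_prime Nat.prime_two).1 h2).resolve_left fun h1 => hne u hu huM key ?_
  exact mem_bot.1 (card_eq_one.1 h1 ▸ (⟨u, rfl⟩ : V u ∈ V.range))

theorem inf_sylow_eq (S : Sylow 2 G) {K M : Subgroup G} (hK : K.index = 2) (hMS : M ≤ (S : Subgroup G))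
    (hMi : M.relIndex (S : Subgroup G) = 2) (hMK : M ≤ K) : K ⊓ (S : Subgroup G) = M := by
  refine le_antisymm (relIndex_eq_one.1 ?_) (le_inf hMK hMS)
  have h1 := relIndex_mul_relIndex M (K ⊓ (S : Subgroup G)) S (le_inf hMK hMS) inf_le_right
  have h2 : (K ⊓ (S : Subgroup G)).relIndex (S : Subgroup G) ≠ 1 := fun h =>
    not_sylow_le S hK ((relIndex_eq_one.1 h).trans inf_le_left)
  rw [hMi] at h1
  rcases (Nat.dvd_prime Nat.prime_two).1 (Dvd.intro_left _ h1) with h | h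
  · exact absurd h h2
  · rw [h] at h1; omega

theorem sylow_equiv (S : Sylow 2 G) {K M : Subgroup G} (hK : K.index = 2) (hMS : M ≤ (S : Subgroup G))
    (hMi : M.relIndex (S : Subgroup G) = 2) (hMK : M ≤ K) (P : Sylow 2 K) :
    Nonempty ((P : Subgroup K) ≃* M) := by
  haveI : Fact (Nat.Prime 2) := ⟨Nat.prime_two⟩
  have hW : IsPGroup 2 (M.subgroupOf K) := (S.2.to_le hMS).comap_subtype
  have hidx : ¬ 2 ∣ (M.subgroupOf K).index := fun h => by
    have e1 := relIndex_mul_index hMK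
    have e2 := relIndex_mul_index hMS
    rw [hK] at e1
    rw [hMi] at e2
    have : M.relIndex K = (S : Subgroup G).index := by omega
    exact S.not_dvd_index (this ▸ h)
  exact ⟨((P.equiv (hW.toSylow hidx)).trans (MulEquiv.subgroupCongr rfl)).trans (subgroupOfEquivOfLe hMK)⟩

theorem complement_of_cyclic (S : Sylow 2 G) {K M : Subgroup G} [K.Normal] (hK : K.index = 2)
    (hMS : M ≤ (S : Subgroup G)) (hMi : M.relIndex (S : Subgroup G) = 2) (hMK : M ≤ K) (hMc : IsCyclic M)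
    (hM1 : M ≠ ⊥) : Cfsg.HasNormalPComplement 2 G := by
  haveI : Fact (Nat.Prime 2) := ⟨Nat.prime_two⟩
  obtain ⟨P⟩ : Nonempty (Sylow 2 K) := inferInstance
  obtain ⟨e⟩ := sylow_equiv S hK hMS hMi hMK P
  have hcyc : IsCyclic (P : Subgroup K) := e.isCyclic.2 hMc
  have heven : 2 ∣ Nat.card K := by
    refine dvd_trans ?_ (P : Subgroup K).card_subgroup_dvd_card
    rw [Nat.card_congr e.toEquiv]
    obtain ⟨j, hj⟩ := IsPGroup.iff_card.1 (S.2.to_le hMS)
    rw [hj]
    refine dvd_pow_self 2 fun h => hM1 (card_eq_one.1 (by rw [hj, h, pow_zero]))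
  have hp : (Nat.card K).minFac = 2 := (Nat.minFac_eq_two_iff _).2 heven
  have hKc : Cfsg.HasNormalPComplement 2 K := ⟨P, _, inferInstance, IsCyclic.isComplement' hp hcyc⟩
  rw [CfsgLib.PResidual.hasNormalPComplement_iff] at hKc ⊢
  refine Nat.Coprime.coprime_dvd_left ?_ hKc
  have hle : Cfsg.pResidual 2 G ≤ (Cfsg.pResidual 2 K).map K.subtype := (closure_le _).2 fun g hg =>
    ⟨⟨g, mem_of_odd hK (Nat.coprime_two_right.1 hg)⟩,
      CfsgLib.PResidual.mem_pResidual 2 (by rw [Subgroup.orderOf_mk]; exact hg), rfl⟩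
  exact (card_dvd_of_le hle).trans (dvd_of_eq (card_map_of_injective K.subtype_injective))

/-- An element of odd order inducing an automorphism of order three. -/
theorem odd_cycle {H N : Subgroup G} (hH : (H.subgroupOf N).Normal) (h3 : 3 ∣ H.relIndex N) :
    ∃ b ∈ N, b ∉ H ∧ b * (b * b) ∈ H ∧ Odd (orderOf b) := by
  haveI := hH
  haveI : Fact (Nat.Prime 3) := ⟨Nat.prime_three⟩
  obtain ⟨q, hq⟩ := exists_prime_orderOf_dvd_card' (G := N ⧸ H.subgroupOf N) 3 h3
  obtain ⟨g, rfl⟩ := QuotientGroup.mk'_surjective (H.subgroupOf N) q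
  set π := QuotientGroup.mk' (H.subgroupOf N)
  obtain ⟨a, b, hab, ⟨i, hi⟩, -, ⟨j, hj⟩, hb⟩ := FGSBSmall.exists_prime_split Nat.prime_two g
  simp only at hi
  have ha : π a = 1 := by
    refine orderOf_eq_one_iff.1 (Nat.eq_one_of_dvd_coprimes (((Nat.coprime_primes Nat.prime_two Nat.prime_three).2
      (by norm_num)).pow_left j) (hj ▸ orderOf_map_dvd π a) ?_)
    rw [← hq, ← hi, map_zpow]
    exact orderOf_dvd_of_mem_zpowers (zpow_mem (mem_zpowers (π g)) i)
  have hgb : π g = π b := by rw [← hab, map_mul, ha, one_mul]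
  rw [hgb] at hq
  refine ⟨b, b.2, fun h => ?_, ?_, ?_⟩
  · rw [(QuotientGroup.eq_one_iff b).2 (mem_subgroupOf.2 h) |> fun e => show π b = 1 from e, orderOf_one] at hq
    omega
  · have h1 : b * (b * b) ∈ H.subgroupOf N := by
      rw [← QuotientGroup.eq_one_iff]
      show π (b * (b * b)) = 1
      rw [map_mul, map_mul, ← pow_two, ← pow_succ', ← pow_orderOf_eq_one (π b), hq]
    exact mem_subgroupOf.1 h1
  · rw [Subgroup.orderOf_coe]
    exact Nat.coprime_two_right.1 hb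

theorem le_of_relIndex_two {H N W : Subgroup G} (h2 : H.relIndex N = 2) (hHW : H ≤ W) {n : G} (hn : n ∈ N)
    (hnH : n ∉ H) (hnW : n ∈ W) : N ≤ W := fun m hm => by
  by_cases hmH : m ∈ H
  · exact hHW hmH
  have h : (⟨n, hn⟩ : N) * ⟨m, hm⟩ ∈ H.subgroupOf N :=
    (mul_mem_iff_of_index_two h2).2 (iff_of_false (fun h => hnH (mem_subgroupOf.1 h)) (fun h => hmH (mem_subgroupOf.1 h)))
  exact (mul_mem_cancel_left hnW).1 (hHW (mem_subgroupOf.1 h))

theorem three_points {α : Type*} {σ : α → α} {a b c : α} (hab : a ≠ b) (hac : a ≠ c) (hbc : b ≠ c)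
    (ha : σ a = a ∨ σ a = b ∨ σ a = c) (hb : σ b = a ∨ σ b = b ∨ σ b = c) (hc : σ c = a ∨ σ c = b ∨ σ c = c)
    (h3a : σ (σ (σ a)) = a) (h3b : σ (σ (σ b)) = b) (h3c : σ (σ (σ c)) = c)
    (hne : ¬ (σ a = a ∧ σ b = b ∧ σ c = c)) :
    (σ a = b ∧ σ b = c ∧ σ c = a) ∨ (σ a = c ∧ σ c = b ∧ σ b = a) := by
  rcases ha with h1 | h1 | h1 <;> rcases hb with h2 | h2 | h2 <;> rcases hc with h4 | h4 | h4 <;> simp_all

/-- Inside an overgroup of `S`, every 2-subgroup is conjugate into `S`. -/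
theorem conj_into (S : Sylow 2 G) {C H : Subgroup G} (hSC : (S : Subgroup G) ≤ C) (hHC : H ≤ C)
    (hH : IsPGroup 2 H) : ∃ c ∈ C, ∀ h ∈ H, c * h * c⁻¹ ∈ (S : Subgroup G) := by
  obtain ⟨c, hc⟩ := CentralWeak.exists_conj_sylow (S.subtype hSC) (hH.comap_subtype (K := C))
  exact ⟨c, c.2, fun h hh => mem_subgroupOf.1 (hc ⟨h, hHC hh⟩ (mem_subgroupOf.2 hh))⟩

end CfsgLib.SylowKernel
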