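import Cfsg.Agent.Invol.Dihedral
import Cfsg.Agent.Comp.Basic

/-!
Counting products of two involutions (Brauer–Fowler).
-/

set_option autoImplicit false
set_option linter.unusedSectionVars false
set_option linter.deprecated false
set_option linter.style.haveILetI false

namespace CfsgLib.BrauerFowler

open Subgroup CfsgLib.Invol

variable {G : Type*} [Group G] [Finite G]

/-- The ordered pairs of involutions with product `x`. -/
abbrev Pairs (x : G) : Type _ :=
  {q : G × G // orderOf q.1 = 2 ∧ orderOf q.2 = 2 ∧ q.1 * q.2 = x}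

theorem conj_eq_inv {x : G} (q : Pairs x) : q.1.1 * x * q.1.1⁻¹ = x⁻¹ := by
  obtain ⟨⟨u, v⟩, hu, hv, rfl⟩ := q
  exact conj_mul_inv hu hv

theorem pairs_eq_zero {x : G} (h : ¬ IsConj x x⁻¹) : Nat.card (Pairs x) = 0 := by
  haveI : IsEmpty (Pairs x) := ⟨fun q => h (isConj_iff.2 ⟨_, conj_eq_inv q⟩)⟩
  exact Nat.card_of_isEmpty

theorem pairs_fst_inj {x : G} {q r : Pairs x} (h : q.1.1 = r.1.1) : q = r := by
  obtain ⟨⟨u, v⟩, hu, hv, huv⟩ := q
  obtain ⟨⟨u', v'⟩, hu', hv', huv'⟩ := r
  obtain rfl : u = u' := h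
  obtain rfl : v = v' := mul_left_cancel (huv.trans huv'.symm)
  rfl

theorem pairs_le_centralizer (x : G) :
    Nat.card (Pairs x) ≤ Nat.card (centralizer ({x} : Set G)) := by
  by_cases h : IsConj x x⁻¹
  · obtain ⟨g₀, hg₀⟩ := isConj_iff.1 h
    refine Nat.card_le_card_of_injective (fun q => (⟨g₀⁻¹ * q.1.1, ?_⟩ : centralizer ({x} : Set G))) ?_
    · rw [mem_centralizer_singleton_iff]
      have hu : q.1.1 * x = x⁻¹ * q.1.1 := by rw [← conj_eq_inv q, inv_mul_cancel_right]
      calc g₀⁻¹ * q.1.1 * x = g₀⁻¹ * (g₀ * x * g₀⁻¹) * q.1.1 := by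
            rw [mul_assoc, hu, ← mul_assoc, hg₀]
        _ = x * (g₀⁻¹ * q.1.1) := by group
    · exact fun q r hqr => pairs_fst_inj (mul_left_cancel (congrArg Subtype.val hqr))
  · simp [pairs_eq_zero h]

theorem pairs_invol_le {x : G} (hx : orderOf x = 2) :
    Nat.card (Pairs x) + 2 ≤ Nat.card (centralizer ({x} : Set G)) := by
  classical
  have hmem : ∀ q : Pairs x, q.1.1 ∈ centralizer ({x} : Set G) := fun q => by
    have h := conj_eq_inv q
    rw [Invol.inv_eq_self hx] at h
    exact mem_centralizer_singleton_iff.2 (mul_inv_eq_iff_eq_mul.1 h)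
  let C := centralizer ({x} : Set G)
  let f : Pairs x ⊕ Fin 2 → C := Sum.elim (fun q => ⟨q.1.1, hmem q⟩)
    (fun i => if i = 0 then 1 else ⟨x, mem_centralizer_singleton_iff.2 rfl⟩)
  have hf : Function.Injective f := by
    have h1 : ∀ q : Pairs x, ∀ i : Fin 2, f (Sum.inl q) ≠ f (Sum.inr i) := by
      intro q i h
      fin_cases i
      · exact Invol.ne_one q.2.1 (by simpa [f] using congrArg Subtype.val h)
      · have hux : q.1.1 = x := by simpa [f] using congrArg Subtype.val h
        refine Invol.ne_one q.2.2.1 (mul_left_cancel (a := q.1.1) ?_)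
        rw [q.2.2.2, mul_one, hux]
    rintro (q | i) (r | j) h
    · exact congrArg Sum.inl (pairs_fst_inj (congrArg Subtype.val h :))
    · exact absurd h (h1 q j)
    · exact absurd h.symm (h1 r i)
    · fin_cases i <;> fin_cases j <;> first | rfl | exfalso
      · exact Invol.ne_one hx (by simpa [f] using (congrArg Subtype.val h).symm)
      · exact Invol.ne_one hx (by simpa [f] using congrArg Subtype.val h)
  simpa [Nat.card_sum] using Nat.card_le_card_of_injective f hf

/-- Pairs of involutions are counted by their products. -/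
theorem sq_card_involutions [Fintype G] :
    Nat.card {t : G // orderOf t = 2} * Nat.card {t : G // orderOf t = 2} =
      ∑ x : G, Nat.card (Pairs x) := by
  rw [← Nat.card_prod, ← Nat.card_sigma]
  exact Nat.card_congr
    { toFun := fun q => ⟨q.1.1 * q.2.1, ⟨(q.1.1, q.2.1), q.1.2, q.2.2, rfl⟩⟩
      invFun := fun s => (⟨s.2.1.1, s.2.2.1⟩, ⟨s.2.1.2, s.2.2.2.1⟩)
      left_inv := fun q => rfl
      right_inv := fun s => by
        obtain ⟨x, ⟨⟨u, v⟩, hu, hv, rfl⟩⟩ := s
        rfl }

theorem pairs_one : Nat.card (Pairs (1 : G)) = Nat.card {t : G // orderOf t = 2} :=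
  Nat.card_congr
    { toFun := fun q => ⟨q.1.1, q.2.1⟩
      invFun := fun t => ⟨(t.1, t.1), t.2, t.2, Invol.mul_self_eq_one t.2⟩
      left_inv := fun q => pairs_fst_inj rfl
      right_inv := fun t => rfl }

theorem card_class_mul (a : G) :
    Nat.card {b : G // IsConj a b} * Nat.card (centralizer ({a} : Set G)) = Nat.card G := by
  rw [← Nat.card_congr (ConjAct.toConjAct (G := G)).symm.toEquiv,
    ← Nat.card_congr (MulAction.orbitProdStabilizerEquivGroup (ConjAct G) a), Nat.card_prod]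
  refine congrArg₂ _ (Nat.card_congr (Equiv.subtypeEquivRight fun b =>
    ⟨fun h => ConjAct.mem_orbit_conjAct.2 h.symm, fun h => (ConjAct.mem_orbit_conjAct.1 h).symm⟩)) ?_
  exact Nat.card_congr (Equiv.subtypeEquiv (ConjAct.toConjAct (G := G)).toEquiv fun b => by
    rw [MulAction.mem_stabilizer_iff, mem_centralizer_singleton_iff]
    show b * a = a * b ↔ b * a * b⁻¹ = a
    exact mul_inv_eq_iff_eq_mul.symm)

theorem card_le_invol_mul {t : G} (ht : orderOf t = 2) :
    Nat.card G ≤ Nat.card {u : G // orderOf u = 2} * Nat.card (centralizer ({t} : Set G)) := by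
  rw [← card_class_mul t]
  refine Nat.mul_le_mul_right _ (Nat.card_le_card_of_injective
    (fun b => (⟨b.1, ?_⟩ : {u : G // orderOf u = 2})) fun b b' h => Subtype.ext (congrArg Subtype.val h :))
  obtain ⟨g, hg⟩ := isConj_iff.1 b.2
  rw [← hg, orderOf_conj_eq, ht]

/-- The extended centralizer. -/
def extCentralizer (x : G) : Subgroup G where
  carrier := {g | g * x * g⁻¹ = x ∨ g * x * g⁻¹ = x⁻¹}
  mul_mem' := by
    intro a b ha hb
    have e : a * b * x * (a * b)⁻¹ = a * (b * x * b⁻¹) * a⁻¹ := by group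
    rcases hb with hb | hb <;> rcases ha with ha | ha <;>
      simp only [Set.mem_setOf_eq, e, hb, ← conj_inv, ha, inv_inv] <;> simp
  one_mem' := by simp
  inv_mem' := by
    intro a ha
    rcases ha with ha | ha
    · left
      calc a⁻¹ * x * a⁻¹⁻¹ = a⁻¹ * (a * x * a⁻¹) * a⁻¹⁻¹ := by rw [ha]
        _ = x := by group
    · right
      calc a⁻¹ * x * a⁻¹⁻¹ = (a⁻¹ * x⁻¹ * a⁻¹⁻¹)⁻¹ := by group
        _ = (a⁻¹ * (a * x * a⁻¹) * a⁻¹⁻¹)⁻¹ := by rw [ha]
        _ = x⁻¹ := by group

theorem relIndex_extCentralizer {x g : G} (hg : g * x * g⁻¹ = x⁻¹) (hx : x⁻¹ ≠ x) :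
    (centralizer ({x} : Set G)).relIndex (extCentralizer x) = 2 := by
  have hle : centralizer ({x} : Set G) ≤ extCentralizer x := fun c hc =>
    Or.inl (mul_inv_eq_iff_eq_mul.2 (mem_centralizer_singleton_iff.1 hc))
  rw [relIndex, index_eq_two_iff]
  refine ⟨⟨g, Or.inr hg⟩, fun ⟨b, hb⟩ => ?_⟩
  have hC : ∀ c : G, c ∈ centralizer ({x} : Set G) ↔ c * x * c⁻¹ = x := fun c =>
    mem_centralizer_singleton_iff.trans mul_inv_eq_iff_eq_mul.symm
  rw [mem_subgroupOf, mem_subgroupOf, hC, hC]
  simp only [Subgroup.coe_mul]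
  have e : b * g * x * (b * g)⁻¹ = (b * x * b⁻¹)⁻¹ := by
    rw [mul_inv_rev, show b * g * x * (g⁻¹ * b⁻¹) = b * (g * x * g⁻¹) * b⁻¹ by group, hg, conj_inv]
  rw [e]
  rcases hb with hb | hb
  · exact Or.inr ⟨hb, by rw [hb]; exact hx⟩
  · exact Or.inl ⟨by rw [hb, inv_inv], by rw [hb]; exact hx⟩

theorem exists_max_proper [Nontrivial G] :
    ∃ H : Subgroup G, H ≠ ⊤ ∧ ∀ K : Subgroup G, K ≠ ⊤ → Nat.card K ≤ Nat.card H := by
  classical
  haveI := Fintype.ofFinite (Subgroup G)
  obtain ⟨H, hH, hmax⟩ := Finset.exists_max_image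
    (Finset.univ.filter fun H : Subgroup G => H ≠ ⊤) (fun H => Nat.card H) ⟨⊥, by simp⟩
  exact ⟨H, (Finset.mem_filter.1 hH).2, fun K hK => hmax K (by simp [hK])⟩

/-- The main estimate: with `h` the largest order of a proper subgroup and no central involution,
either there is a subgroup of index 2, or `2 n² < h (|G| + n)`. -/
theorem main_estimate (heven : Even (Nat.card G))
    (hZ : ∀ z : G, orderOf z = 2 → z ∉ center G) {H : Subgroup G}
    (hmax : ∀ K : Subgroup G, K ≠ ⊤ → Nat.card K ≤ Nat.card H) :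
    (∃ K : Subgroup G, K.index = 2) ∨ 2 * (Nat.card {t : G // orderOf t = 2}) ^ 2 <
      Nat.card H * (Nat.card G + Nat.card {t : G // orderOf t = 2}) := by
  classical
  haveI := Fintype.ofFinite G
  refine or_iff_not_imp_left.2 fun hno => ?_
  push Not at hno
  set n := Nat.card {t : G // orderOf t = 2} with hn
  set h := Nat.card H with hh
  have hC : ∀ x : G, orderOf x = 2 → Nat.card (centralizer ({x} : Set G)) ≤ h := by
    intro x hx
    refine hmax _ fun htop => hZ x hx (mem_center_iff.2 fun y => ?_)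
    exact mem_centralizer_singleton_iff.1 (htop ▸ mem_top y : y ∈ centralizer ({x} : Set G))
  set I := Finset.univ.filter fun x : G => orderOf x = 2 with hI
  have hIc : I.card = n := by rw [hn, Nat.card_eq_fintype_card, Fintype.card_subtype]
  have hn1 : 1 ≤ n := by
    obtain ⟨t, ht⟩ := exists_prime_orderOf_dvd_card' (G := G) 2 heven.two_dvd
    exact Nat.card_pos_iff.2 ⟨⟨⟨t, ht⟩⟩, inferInstance⟩
  -- elements of order greater than two
  have hR : ∀ x : G, x ≠ 1 → x ∉ I → 2 * Nat.card (Pairs x) ≤ h := by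
    intro x hx1 hxI
    by_cases hr : IsConj x x⁻¹
    swap
    · rw [pairs_eq_zero hr]; omega
    obtain ⟨g, hg⟩ := isConj_iff.1 hr
    have hxx : x⁻¹ ≠ x := fun e => hxI (Finset.mem_filter.2
      ⟨Finset.mem_univ _, Invol.orderOf_eq_two (by rw [← inv_eq_iff_mul_eq_one, e]) hx1⟩)
    have hi := relIndex_extCentralizer hg hxx
    have hne : extCentralizer x ≠ ⊤ := fun e => hno (centralizer ({x} : Set G)) (by
      rw [e, relIndex_top_right] at hi; exact hi)
    have h1 := relIndex_mul_relIndex ⊥ (centralizer ({x} : Set G)) (extCentralizer x) bot_le (by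
      intro c hc
      exact Or.inl (mul_inv_eq_iff_eq_mul.2 (mem_centralizer_singleton_iff.1 hc)))
    rw [relIndex_bot_left, relIndex_bot_left, hi] at h1
    have h2 := hmax _ hne
    have h3 := pairs_le_centralizer x
    omega
  have hI1 : (1 : G) ∉ I := by simp [hI]
  set J := (Finset.univ : Finset G) \ insert 1 I with hJ
  have hJc : J.card + (n + 1) = Nat.card G := by
    rw [hJ, ← hIc, ← Finset.card_insert_of_notMem hI1, Finset.card_sdiff_add_card_eq_card (Finset.subset_univ _),
      Finset.card_univ, Nat.card_eq_fintype_card]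
  have hsum : n * n = n + ∑ x ∈ I, Nat.card (Pairs x) + ∑ x ∈ J, Nat.card (Pairs x) := by
    rw [hn, sq_card_involutions, ← Finset.sum_sdiff (Finset.subset_univ (insert 1 I)),
      Finset.sum_insert hI1, pairs_one, hJ]
    ring
  have hIb : ∑ x ∈ I, Nat.card (Pairs x) + n * 2 ≤ n * h := by
    rw [← hIc, ← smul_eq_mul, ← Finset.sum_const, ← Finset.sum_add_distrib]
    refine (Finset.sum_le_card_nsmul _ _ h fun x hx => ?_).trans (le_of_eq (smul_eq_mul _ _))
    have hx2 := (Finset.mem_filter.1 hx).2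
    exact (pairs_invol_le hx2).trans (hC x hx2)
  have hJb : 2 * ∑ x ∈ J, Nat.card (Pairs x) ≤ J.card * h := by
    rw [Finset.mul_sum]
    refine (Finset.sum_le_card_nsmul _ _ h fun x hx => ?_).trans (le_of_eq (smul_eq_mul _ _))
    have hx' := (Finset.mem_sdiff.1 hx).2
    exact hR x (fun e => hx' (by simp [e])) fun e => hx' (Finset.mem_insert_of_mem e)
  have hpos : 0 < h := Nat.card_pos
  rw [← hJc]
  nlinarith

/-- Every nonempty group of even order larger than two has a proper subgroup of order cube-rootish. -/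
theorem exists_subgroup_cube : ∀ (n : ℕ) (G : Type*) [Group G] [Finite G], Nat.card G = n →
    Even n → 2 < n → ∃ H : Subgroup G, H ≠ ⊤ ∧ Nat.card G < (Nat.card H) ^ 3 := by
  intro n
  induction n using Nat.strongRecOn with | ind n ih => ?_
  intro G _ _ hn heven hgt
  subst hn
  haveI : Nontrivial G := Finite.one_lt_card_iff_nontrivial.1 (by omega)
  by_cases hz : ∃ z : G, orderOf z = 2 ∧ z ∈ center G
  · obtain ⟨z, hz2, hzc⟩ := hz
    haveI hN : (zpowers z).Normal := ⟨fun a ha g => by
      rw [(mem_center_iff.1 (zpowers_le.2 hzc ha) g), mul_inv_cancel_right]; exact ha⟩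
    have hc := card_eq_card_quotient_mul_card_subgroup (zpowers z)
    rw [Nat.card_zpowers, hz2] at hc
    set m := Nat.card (G ⧸ zpowers z) with hm
    rcases Nat.even_or_odd m with he | ho
    · rcases Nat.lt_or_ge 2 m with h2 | h2
      · obtain ⟨K, hK, hKc⟩ := ih m (by omega) (G ⧸ zpowers z) hm.symm he h2
        refine ⟨K.comap (QuotientGroup.mk' _), fun e => hK ?_, ?_⟩
        · rw [← map_comap_eq_self_of_surjective (QuotientGroup.mk'_surjective (zpowers z)) K, e,
            map_top_of_surjective _ (QuotientGroup.mk'_surjective _)]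
        · have h3 : Nat.card K * 2 = Nat.card (K.comap (QuotientGroup.mk' (zpowers z))) := by
            have h4 := relIndex_mul_relIndex ⊥ (zpowers z) (K.comap (QuotientGroup.mk' (zpowers z))) bot_le
              ((QuotientGroup.ker_mk' (zpowers z)).ge.trans (MonoidHom.ker_le_comap _ _))
            rw [relIndex_bot_left, relIndex_bot_left, Nat.card_zpowers, hz2] at h4
            rw [← h4, mul_comm]
            congr 1
            conv_lhs => rw [← map_comap_eq_self_of_surjective (QuotientGroup.mk'_surjective (zpowers z)) K,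
              ← relIndex_ker, QuotientGroup.ker_mk']
          rw [← h3, hc, mul_pow]
          have := Nat.card_pos (α := K)
          omega
      · refine ⟨zpowers z, fun e => ?_, ?_⟩
        · have := congrArg (fun K : Subgroup G => Nat.card K) e
          simp only [Nat.card_zpowers, hz2, card_top] at this
          omega
        · rw [Nat.card_zpowers, hz2, hc]; omega
    · obtain ⟨K, hK⟩ := exists_right_complement'_of_coprime (N := zpowers z) (by
        rw [Nat.card_zpowers, hz2, index_eq_card, ← hm]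
        exact (Nat.coprime_two_left.2 ho))
      have hKc := hK.card_mul_card
      rw [Nat.card_zpowers, hz2] at hKc
      have hm3 : 2 ≤ Nat.card K := by omega
      refine ⟨K, fun e => ?_, ?_⟩
      · rw [e, card_top] at hKc; omega
      · rw [← hKc, pow_succ]
        exact Nat.mul_lt_mul_of_pos_right (by nlinarith) (by omega)
  · push Not at hz
    obtain ⟨H, hH, hmax⟩ := exists_max_proper (G := G)
    obtain ⟨t, ht⟩ := exists_prime_orderOf_dvd_card' (G := G) 2 heven.two_dvd
    have hth : 2 ≤ Nat.card H := by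
      refine le_trans (le_of_eq ?_) (hmax (zpowers t) fun e => ?_)
      · rw [Nat.card_zpowers, ht]
      · have := congrArg (fun K : Subgroup G => Nat.card K) e
        simp only [Nat.card_zpowers, ht, card_top] at this
        omega
    refine ⟨H, hH, ?_⟩
    rcases main_estimate heven hz hmax with ⟨K, hK⟩ | hlt
    · have h1 := K.card_mul_index
      rw [hK] at h1
      have h2 := hmax K fun e => by rw [e, index_top] at hK; omega
      nlinarith [Nat.mul_le_mul_left (Nat.card H) (Nat.mul_le_mul hth hth)]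
    · have h1 := card_le_invol_mul ht
      have h2 := hmax (centralizer ({t} : Set G)) fun e => hz t ht (mem_center_iff.2 fun y =>
        mem_centralizer_singleton_iff.1 (e ▸ mem_top y : y ∈ centralizer ({t} : Set G)))
      set n := Nat.card {u : G // orderOf u = 2}
      set h := Nat.card H
      have h3 : Nat.card G ≤ n * h := h1.trans (Nat.mul_le_mul_left _ h2)
      have h4 : 2 * n < h * (h + 1) := by nlinarith
      nlinarith

/-- Thompson's order formula, two classes. -/
theorem order_formula {x₁ x₂ : G} (h₁ : orderOf x₁ = 2) (h₂ : orderOf x₂ = 2)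
    (hnc : ¬ IsConj x₁ x₂) (hall : ∀ t : G, orderOf t = 2 → IsConj x₁ t ∨ IsConj x₂ t) :
    Nat.card G = Nat.card (centralizer ({x₂} : Set G)) *
        Nat.card {q : G × G // IsConj x₁ q.1 ∧ IsConj x₂ q.2 ∧ x₁ ∈ zpowers (q.1 * q.2)} +
      Nat.card (centralizer ({x₁} : Set G)) *
        Nat.card {q : G × G // IsConj x₁ q.1 ∧ IsConj x₂ q.2 ∧ x₂ ∈ zpowers (q.1 * q.2)} := by
  classical
  haveI := Fintype.ofFinite G
  have hord : ∀ {a b : G}, IsConj a b → orderOf b = orderOf a := fun {a b} h => by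
    obtain ⟨g, hg⟩ := isConj_iff.1 h
    rw [← hg, orderOf_conj_eq]
  have huniq : ∀ a j j' : G, orderOf j = 2 → orderOf j' = 2 → j ∈ zpowers a → j' ∈ zpowers a → j = j' := by
    intro a j j' hj hj' hja hj'a
    suffices h2 : ∀ b : G, orderOf b = 2 → b ∈ zpowers a → b = a ^ (orderOf a / 2) from
      (h2 j hj hja).trans (h2 j' hj' hj'a).symm
    intro b hb hba
    have hd : 2 ∣ orderOf a := hb ▸ orderOf_dvd_of_mem_zpowers hba
    obtain ⟨k, rfl⟩ := (mem_powers_iff_mem_zpowers.2 hba : b ∈ Submonoid.powers a)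
    obtain ⟨m, hm⟩ := hd
    have h0 : orderOf a ∣ k * 2 :=
      orderOf_dvd_of_pow_eq_one (by rw [pow_mul, sq]; exact Invol.mul_self_eq_one hb)
    rw [hm, mul_comm 2 m] at h0
    obtain ⟨c, rfl⟩ := Nat.dvd_of_mul_dvd_mul_right two_pos h0
    rcases Nat.even_or_odd c with ⟨d, rfl⟩ | ⟨d, rfl⟩
    · exfalso
      refine Invol.ne_one hb ?_
      show a ^ (m * (d + d)) = 1
      rw [show m * (d + d) = orderOf a * d by rw [hm]; ring, pow_mul, pow_orderOf_eq_one, one_pow]
    · show a ^ (m * (2 * d + 1)) = a ^ (orderOf a / 2)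
      rw [show m * (2 * d + 1) = orderOf a * d + orderOf a / 2 by
          rw [hm, Nat.mul_div_cancel_left _ two_pos]; ring,
        pow_add, pow_mul, pow_orderOf_eq_one, one_pow, one_mul]
  let N : G → Type _ := fun j => {q : G × G // IsConj x₁ q.1 ∧ IsConj x₂ q.2 ∧ j ∈ zpowers (q.1 * q.2)}
  have hN : ∀ {a b : G}, IsConj a b → Nat.card (N b) = Nat.card (N a) := by
    intro a b hab
    obtain ⟨g, rfl⟩ := isConj_iff.1 hab
    refine (Nat.card_congr (Equiv.subtypeEquiv ((MulAut.conj g).toEquiv.prodCongr (MulAut.conj g).toEquiv) fun q => ?_)).symm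
    have hc : ∀ x y : G, IsConj x (MulAut.conj g y) ↔ IsConj x y := fun x y =>
      ⟨fun h => h.trans (isConj_iff.2 ⟨g, by simp⟩).symm, fun h => h.trans (isConj_iff.2 ⟨g, by simp⟩)⟩
    show _ ↔ IsConj x₁ (MulAut.conj g q.1) ∧ IsConj x₂ (MulAut.conj g q.2) ∧
      MulAut.conj g a ∈ zpowers (MulAut.conj g q.1 * MulAut.conj g q.2)
    rw [hc, hc, ← map_mul, show zpowers (MulAut.conj g (q.1 * q.2)) =
      (zpowers (q.1 * q.2)).map (MulAut.conj g).toMonoidHom from (MonoidHom.map_zpowers (MulAut.conj g).toMonoidHom _).symm]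
    exact and_congr_right fun _ => and_congr_right fun _ =>
      (mem_map_iff_mem (f := (MulAut.conj g).toMonoidHom) (MulAut.conj g).injective).symm
  let K : G → Type _ := fun x => {b : G // IsConj x b}
  have hsum : Nat.card (K x₁) * Nat.card (K x₂) =
      Nat.card (K x₁) * Nat.card (N x₁) + Nat.card (K x₂) * Nat.card (N x₂) := by
    have hj : ∀ q : K x₁ × K x₂, ∃ j : G, orderOf j = 2 ∧ j ∈ zpowers (q.1.1 * q.2.1) := fun q => by
      have hu := (hord q.1.2).trans h₁
      have hv := (hord q.2.2).trans h₂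
      have hne : ¬ IsConj q.1.1 q.2.1 := fun h => hnc (q.1.2.trans (h.trans q.2.2.symm))
      exact ⟨_, (half_props hu hv (even_orderOf_mul_of_not_isConj hu hv hne)).1, pow_mem (mem_zpowers _) _⟩
    choose j hj2 hjm using hj
    let e : K x₁ × K x₂ ≃ (Σ a : K x₁, N a.1) ⊕ (Σ a : K x₂, N a.1) :=
      { toFun := fun q => if h : IsConj x₁ (j q) then .inl ⟨⟨j q, h⟩, ⟨(q.1.1, q.2.1), q.1.2, q.2.2, hjm q⟩⟩
          else .inr ⟨⟨j q, (hall _ (hj2 q)).resolve_left h⟩, ⟨(q.1.1, q.2.1), q.1.2, q.2.2, hjm q⟩⟩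
        invFun := fun s => match s with
          | .inl s => (⟨s.2.1.1, s.2.2.1⟩, ⟨s.2.1.2, s.2.2.2.1⟩)
          | .inr s => (⟨s.2.1.1, s.2.2.1⟩, ⟨s.2.1.2, s.2.2.2.1⟩)
        left_inv := fun q => by
          by_cases h : IsConj x₁ (j q)
          · simp only [dif_pos h]; rfl
          · simp only [dif_neg h]; rfl
        right_inv := fun s => by
          rcases s with ⟨⟨a, ha⟩, ⟨⟨u, v⟩, hu, hv, hm⟩⟩ | ⟨⟨a, ha⟩, ⟨⟨u, v⟩, hu, hv, hm⟩⟩
          · obtain rfl : j (⟨u, hu⟩, ⟨v, hv⟩) = a := huniq _ _ _ (hj2 _) ((hord ha).trans h₁) (hjm _) hm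
            simp only [dif_pos ha]
          · obtain rfl : j (⟨u, hu⟩, ⟨v, hv⟩) = a := huniq _ _ _ (hj2 _) ((hord ha).trans h₂) (hjm _) hm
            have : ¬ IsConj x₁ (j (⟨u, hu⟩, ⟨v, hv⟩)) := fun h => hnc (h.trans ha.symm)
            simp only [dif_neg this] }
    rw [← Nat.card_prod, Nat.card_congr e, Nat.card_sum, Nat.card_sigma, Nat.card_sigma,
      Finset.sum_congr rfl (fun (a : K x₁) _ => hN a.2), Finset.sum_congr rfl (fun (a : K x₂) _ => hN a.2)]
    simp
  have c₁ : Nat.card (K x₁) * Nat.card (centralizer ({x₁} : Set G)) = Nat.card G := card_class_mul x₁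
  have c₂ : Nat.card (K x₂) * Nat.card (centralizer ({x₂} : Set G)) = Nat.card G := card_class_mul x₂
  refine Nat.eq_of_mul_eq_mul_left (Nat.card_pos (α := G)) ?_
  set k₁ := Nat.card (K x₁)
  set k₂ := Nat.card (K x₂)
  set d₁ := Nat.card (centralizer ({x₁} : Set G))
  set d₂ := Nat.card (centralizer ({x₂} : Set G))
  calc Nat.card G * Nat.card G = (k₁ * d₁) * (k₂ * d₂) := by rw [c₁, c₂]
    _ = (k₁ * k₂) * (d₁ * d₂) := by ring
    _ = (k₁ * Nat.card (N x₁) + k₂ * Nat.card (N x₂)) * (d₁ * d₂) := by rw [hsum]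
    _ = (k₁ * d₁) * (d₂ * Nat.card (N x₁)) + (k₂ * d₂) * (d₁ * Nat.card (N x₂)) := by ring
    _ = _ := by rw [c₁, c₂]; ring

end CfsgLib.BrauerFowler
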