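import Cfsg.Agent.Invol.CharTwoPTypeFrame
import Cfsg.Prelude.Def_LocalEven
import Cfsg.Prelude.Def_Local

/-!
A group of characteristic `2` type and of local characteristic `p` (`p` odd) has `2`-local `p`-rank at
most `2` (Klinger–Mason).
-/

set_option autoImplicit false
set_option linter.unusedSectionVars false
set_option linter.style.haveILetI false

namespace CfsgLib.CharTwoPType

open Subgroup
open scoped commutatorElement

variable {G : Type*} [Group G] [Finite G] {p : ℕ} [Fact p.Prime]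

theorem mem_zpowers_two {z t : G} (hz : orderOf z = 2) (ht : t ∈ zpowers z) : t = 1 ∨ t = z := by
  obtain ⟨k, rfl⟩ := mem_zpowers_iff.1 ht
  have hzz : z ^ (2 : ℤ) = 1 := by rw [zpow_ofNat, ← hz, pow_orderOf_eq_one]
  rcases Int.even_or_odd k with ⟨j, rfl⟩ | ⟨j, rfl⟩
  · left; rw [← two_mul, zpow_mul, hzz, one_zpow]
  · right; rw [zpow_add, zpow_mul, hzz, one_zpow, one_mul, zpow_one]

theorem elementary_zpowers {x : G} (hx : x * x = 1) : Cfsg.IsElementaryAbelian 2 (zpowers x) :=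
  ⟨inferInstance, fun a ha => by
    obtain ⟨k, rfl⟩ := mem_zpowers_iff.1 ha
    rw [← zpow_natCast, ← zpow_mul, mul_comm, zpow_mul, zpow_natCast, sq, hx, one_zpow]⟩

variable {l : ℕ} {E A₁ A₂ R : Subgroup G} {z : G}

namespace Frame

variable (F : Frame p l E A₁ A₂ R z)

include F

theorem symm : Frame p l E A₂ A₁ R z where
  two := F.two
  norm := F.norm
  cent := inf_comm A₁ A₂ ▸ F.cent
  le₁ := F.le₂
  card₁ := F.card₂
  le₂ := F.le₁
  card₂ := F.card₁
  ne := F.ne.symm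
  gen := F.gen
  zR := F.zR
  zord := F.zord
  zE := F.zE
  zC := F.zC
  comm := F.comm
  sq := F.sq
  fixed := F.fixed
  move₁ := F.move₂
  move₂ := F.move₁

theorem z_sq : z * z = 1 := by rw [← pow_two, ← F.zord, pow_orderOf_eq_one]

theorem z_ne : z ≠ 1 := fun h => by
  have := F.zord
  rw [h, orderOf_one] at this
  omega

theorem tC {t : G} (ht : t ∈ zpowers z) {r : G} (hr : r ∈ R) : Commute r t :=
  (commute_zpowers (F.zC r hr).symm ht).symm

theorem tE {t : G} (ht : t ∈ zpowers z) {e : G} (he : e ∈ E) : Commute e t :=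
  (commute_zpowers (F.zE e he).symm ht).symm

theorem tR {t : G} (ht : t ∈ zpowers z) : t ∈ R := zpowers_le.2 F.zR ht

theorem eq_z {x y : G} (hx : x ∈ R) (hy : y ∈ R) (h : ¬ Commute x y) : ⁅x, y⁆ = z :=
  (mem_zpowers_two F.zord (F.comm x hx y hy)).resolve_left
    fun h' => h (commutatorElement_eq_one_iff_commute.1 h')

theorem z_mem_cent {A : Subgroup G} (hA : A ≤ E) : z ∈ R ⊓ centralizer (A : Set G) :=
  ⟨F.zR, mem_centralizer_of_commute fun a ha => F.zE a (hA ha)⟩

end Frame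

namespace Hyp

variable (H : Hyp p l G) (hE : Cfsg.IsElementaryAbelian p E) (hEn : Nat.card E = p ^ (l + 2))
  (F : Frame p l E A₁ A₂ R z)

include H hE hEn F

/-- An element of `R` centralizing a hyperplane and an element outside it lies in `⟨z⟩`. -/
theorem mem_zpowers_of_fixed {A : Subgroup G} (hA : A ≤ E) (hAn : Nat.card A = p ^ (l + 1)) {w b : G}
    (hw : w ∈ R ⊓ centralizer (A : Set G)) (hb : b ∈ E) (hbA : b ∉ A) (h : Commute b w) :
    w ∈ zpowers z :=
  F.fixed w hw.1 fun e he => by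
    rw [← H.sup_zpowers_eq hE hEn hA hAn hb hbA] at he
    exact sup_le_centralizer_singleton (fun a ha => commute_zpowers h ha)
      (fun a ha => commute_of_mem_centralizer hw.2 ha) e he

theorem mem_zpowers_of_mem_both {w : G} (hw : w ∈ R) (h₁ : w ∈ centralizer (A₁ : Set G))
    (h₂ : w ∈ centralizer (A₂ : Set G)) : w ∈ zpowers z :=
  F.fixed w hw fun e he => by
    rw [← (H.sup_eq hE hEn F.le₁ F.le₂ F.card₁ F.card₂ F.ne).1] at he
    exact sup_le_centralizer_singleton (fun a ha => commute_of_mem_centralizer h₁ ha)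
      (fun a ha => commute_of_mem_centralizer h₂ ha) e he

theorem cross {r s : G} (hr : r ∈ R ⊓ centralizer (A₁ : Set G))
    (hs : s ∈ R ⊓ centralizer (A₂ : Set G)) : Commute r s := by
  obtain ⟨h, hh, hhA₂⟩ : ∃ h ∈ A₁, h ∉ A₂ := by
    by_contra hh
    push Not at hh
    exact F.ne (eq_of_le_of_card_ge hh (by rw [F.card₁, F.card₂]))
  have hhE : h ∈ E := F.le₁ hh
  set K := R ⊓ centralizer (A₂ : Set G) with hK
  have hEK : E ≤ normalizer (K : Set G) := Signalizer.le_normalizer_inf_centralizer hE F.norm F.le₂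
  have hzE : zpowers h ≤ E := zpowers_le.2 hhE
  obtain ⟨x, hx, c, hc, rfl⟩ := CoprimeAct.exists_mul_of_mem (A := zpowers h) (K := K)
    (hzE.trans hEK)
    (Signalizer.coprime_card_of_le hE hzE (not_dvd_card H.odd (F.two.to_le inf_le_left)))
    (Or.inl (Signalizer.isSolvable (Signalizer.of_le hE hzE))) hs
  have hle : ⁅K, zpowers h⁆ ≤ centralizer ({r} : Set G) := commutator_le.2 fun a ha e he =>
    mem_centralizer_singleton_iff.2 (commute_comm (F.tC (F.comm r hr.1 a ha.1) ha.1).symm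
      (F.tE (F.comm r hr.1 a ha.1) (hzE he)).symm
      (commute_zpowers (commute_of_mem_centralizer hr.2 hh) he).symm).symm.eq
  have hcz := H.mem_zpowers_of_fixed hE hEn F F.le₂ F.card₂ hc.1 hhE hhA₂
    (commute_of_mem_centralizer hc.2 (mem_zpowers h))
  exact (show Commute x r from mem_centralizer_singleton_iff.1 (hle hx)).symm.mul_right
    (F.tC hcz hr.1)

/-- If `p ≥ 5`, the centralizer of a hyperplane in `R` contains a noncentral involution commuting with an
element with square `z`. -/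
theorem inv_pair {A : Subgroup G} (hA : A ≤ E) (hAn : Nat.card A = p ^ (l + 1))
    (hm : ¬ R ⊓ centralizer (A : Set G) ≤ centralizer (E : Set G)) (hp5 : 5 ≤ p) :
    ∃ g ∈ R ⊓ centralizer (A : Set G), ∃ i ∈ R ⊓ centralizer (A : Set G),
      g * g = 1 ∧ g ∉ zpowers z ∧ i * i = z ∧ Commute g i := by
  haveI : Fact (Nat.Prime 2) := ⟨Nat.prime_two⟩
  set X := R ⊓ centralizer (A : Set G) with hX
  obtain ⟨w, hw, hwE⟩ := SetLike.not_le_iff_exists.1 hm
  obtain ⟨b, hb, hbA⟩ : ∃ b ∈ E, b ∉ A := by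
    by_contra h
    push Not at h
    exact hwE (centralizer_le h hw.2)
  have hwz : w ∉ zpowers z := fun h => hwE (mem_centralizer_of_commute fun e he => F.tE h he)
  have hbw : ¬ Commute b w := fun h => hwz (H.mem_zpowers_of_fixed hE hEn F hA hAn hw hb hbA h)
  have hEX : E ≤ normalizer (X : Set G) := Signalizer.le_normalizer_inf_centralizer hE F.norm hA
  have hzX : z ∈ X := F.z_mem_cent hA
  -- more than eight elements
  have hbig : 8 < Nat.card X := by
    let elt : Option (Fin p) → X := fun o => o.elim 1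
      fun i => ⟨b ^ (i : ℕ) * w * (b ^ (i : ℕ))⁻¹, conj_of_norm hEX _ (pow_mem hb _) _ hw⟩
    have hne : ∀ (i : Fin p) (t : G), t ∈ zpowers z → b ^ (i : ℕ) * w * (b ^ (i : ℕ))⁻¹ ≠ t := by
      intro i t ht h
      refine hwz ?_
      have h1 : w = (b ^ (i : ℕ))⁻¹ * t * b ^ (i : ℕ) := by rw [← h]; group
      rw [h1, mul_assoc, ← (F.tE ht (pow_mem hb (i : ℕ))).eq, inv_mul_cancel_left]
      exact ht
    have hshift : ∀ i j : Fin p, b ^ (i : ℕ) * w * (b ^ (i : ℕ))⁻¹
        ≠ b ^ (j : ℕ) * w * (b ^ (j : ℕ))⁻¹ * z := by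
      intro i j h
      have hbi : (b ^ (j : ℕ))⁻¹ * b ^ (i : ℕ) ∈ E := mul_mem (inv_mem (pow_mem hb _)) (pow_mem hb _)
      have h1 : ((b ^ (j : ℕ))⁻¹ * b ^ (i : ℕ)) * w * ((b ^ (j : ℕ))⁻¹ * b ^ (i : ℕ))⁻¹ = w * z := by
        calc _ = (b ^ (j : ℕ))⁻¹ * (b ^ (i : ℕ) * w * (b ^ (i : ℕ))⁻¹) * b ^ (j : ℕ) := by group
          _ = w * ((b ^ (j : ℕ))⁻¹ * z * b ^ (j : ℕ)) := by rw [h]; group
          _ = w * z := by
              rw [mul_assoc ((b ^ (j : ℕ))⁻¹), ← (F.zE _ (pow_mem hb (j : ℕ))).eq, inv_mul_cancel_left]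
      exact F.z_ne (shift_eq_one (hE.2 _ hbi) h1 (F.zE _ hbi) (coprime_of_mem H.odd F.two F.zR))
    let f : Option (Fin p) × Bool → X := fun o => elt o.1 * if o.2 then ⟨z, hzX⟩ else 1
    have hinj : Function.Injective f := by
      rintro ⟨a, s⟩ ⟨a', s'⟩ h
      have h' := congrArg Subtype.val h
      rcases a with _ | i <;> rcases a' with _ | j <;> rcases s <;> rcases s' <;>
        simp only [f, elt, Option.elim, Subgroup.coe_mul, Subgroup.coe_one, one_mul, mul_one, if_true,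
          Bool.false_eq_true, if_false] at h'
      all_goals
        first
        | rfl
        | exact absurd h' F.z_ne
        | exact absurd h'.symm F.z_ne
        | exact absurd h' (hne _ _ (one_mem _))
        | exact absurd h'.symm (hne _ _ (one_mem _))
        | exact absurd h' (hne _ _ (mem_zpowers z))
        | exact absurd h'.symm (hne _ _ (mem_zpowers z))
        | exact absurd h' (hshift _ _)
        | exact absurd h'.symm (hshift _ _)
        | exact absurd (eq_mul_inv_of_mul_eq h') (hne _ _ (inv_mem (mem_zpowers z)) ∘ (by simp))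
        | (rw [conj_pow_inj (hE.2 b hb) hbw h'])
        | (rw [conj_pow_inj (hE.2 b hb) hbw (mul_right_cancel h')])
        | skip
      all_goals
        first
        | (exact absurd (eq_mul_inv_of_mul_eq h') fun e => hne _ _ (inv_mem (mem_zpowers z)) (e.trans (one_mul _)))
        | (exact absurd (eq_mul_inv_of_mul_eq h'.symm) fun e => hne _ _ (inv_mem (mem_zpowers z)) (e.trans (one_mul _)))
        | (exact absurd (mul_right_cancel (h'.trans (one_mul z).symm)) (hne _ _ (one_mem _)))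
        | (exact absurd (mul_right_cancel (h'.symm.trans (one_mul z).symm)) (hne _ _ (one_mem _)))
    have hc := Nat.card_le_card_of_injective f hinj
    rw [Nat.card_prod, Finite.card_option, Nat.card_fin, Nat.card_eq_two_iff.2 ⟨false, true, by simp, by
      ext b; cases b <;> simp⟩] at hc
    omega
  -- an element outside `⟨z⟩`
  set x := w with hx
  set K := X ⊓ centralizer ({x} : Set G) with hK
  have hcase : ∀ y : G, y ∈ X → y * y = 1 ∨ y * y = z := fun y hy =>
    mem_zpowers_two F.zord (F.sq y hy.1)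
  have hzx : Commute z x := (F.zC x hw.1).symm
  have hWK : zpowers x ⊔ zpowers z ≤ K := sup_le
    (zpowers_le.2 ⟨hw, mem_centralizer_singleton_iff.2 rfl⟩)
    (zpowers_le.2 ⟨hzX, mem_centralizer_singleton_iff.2 hzx.eq⟩)
  have hK4 : 4 < Nat.card K := by
    by_cases hall : ∀ r ∈ X, r ∈ K
    · rw [show K = X from le_antisymm inf_le_left hall]; omega
    · push Not at hall
      obtain ⟨r₀, hr₀, hr₀K⟩ := hall
      have hmk : ∀ r ∈ X, r ∉ K → r₀⁻¹ * r ∈ K := by
        intro r hr hrK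
        have hnc : ∀ r ∈ X, r ∉ K → r * x * r⁻¹ = z * x := by
          intro r hr hrK
          have hnc : ¬ Commute r x := fun h => hrK ⟨hr, mem_centralizer_singleton_iff.2 h.eq⟩
          rw [show r * x * r⁻¹ = ⁅r, x⁆ * x by simp [commutatorElement_def], F.eq_z hr.1 hw.1 hnc]
        refine mem_inf.2 ⟨mul_mem (inv_mem hr₀) hr, mem_centralizer_singleton_iff.2 (commute_of_conj ?_).eq⟩
        calc r₀⁻¹ * r * x * (r₀⁻¹ * r)⁻¹ = r₀⁻¹ * (r * x * r⁻¹) * r₀ := by group
          _ = r₀⁻¹ * (r₀ * x * r₀⁻¹) * r₀ := by rw [hnc r hr hrK, hnc r₀ hr₀ hr₀K]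
          _ = x := by group
      classical
      let f : X → K × Bool := fun r =>
        if h : (r : G) ∈ K then (⟨r, h⟩, false) else (⟨r₀⁻¹ * r, hmk r r.2 h⟩, true)
      have hinj : Function.Injective f := by
        intro r s h
        simp only [f] at h
        split_ifs at h with h1 h2 h2
        · exact Subtype.ext (congrArg (fun t : K × Bool => (t.1 : G)) h)
        · exact absurd (congrArg Prod.snd h) (by simp)
        · exact absurd (congrArg Prod.snd h) (by simp)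
        · exact Subtype.ext (mul_left_cancel (congrArg (fun t : K × Bool => (t.1 : G)) h))
      have hc := Nat.card_le_card_of_injective f hinj
      rw [Nat.card_prod, Nat.card_eq_two_iff.2 ⟨false, true, by simp, by
        ext b; cases b <;> simp⟩] at hc
      omega
  have hW4 : Nat.card ↥(zpowers x ⊔ zpowers z) ≤ 4 := by
    have hn : zpowers x ≤ normalizer (zpowers z : Set G) := norm_of_conj fun a ha c hc => by
      rw [conj_of_commute (F.tC hc (zpowers_le.2 hw.1 ha))]; exact hc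
    have hm := CfsgLib.Solvable.card_sup_mul_card_inf hn
    rw [Nat.card_zpowers z, F.zord, Nat.card_zpowers x] at hm
    have h4 : x ^ 4 = 1 := by
      rw [show 4 = 2 * 2 from rfl, pow_mul, sq x, sq]
      rcases hcase x hw with e | e
      · rw [e, one_mul]
      · rw [e, F.z_sq]
    have hord : orderOf x ≤ 4 := Nat.le_of_dvd (by norm_num) (orderOf_dvd_of_pow_eq_one h4)
    have hpos : 0 < Nat.card ↥(zpowers x ⊓ zpowers z) := Nat.card_pos
    rcases hcase x hw with e | e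
    · have hord2 : orderOf x ≤ 2 :=
        Nat.le_of_dvd (by norm_num) (orderOf_dvd_of_pow_eq_one (by rw [sq]; exact e))
      nlinarith
    · have h2 : 2 ≤ Nat.card ↥(zpowers x ⊓ zpowers z) := by
        have := Subgroup.card_le_of_le (show zpowers z ≤ zpowers x ⊓ zpowers z from
          zpowers_le.2 ⟨e ▸ mul_mem (mem_zpowers x) (mem_zpowers x), mem_zpowers z⟩)
        rwa [Nat.card_zpowers, F.zord] at this
      nlinarith
  obtain ⟨y, hy, hyW⟩ : ∃ y ∈ K, y ∉ zpowers x ⊔ zpowers z := by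
    by_contra h
    push Not at h
    have := Subgroup.card_le_of_le h
    omega
  have hxy : Commute x y := (mem_centralizer_singleton_iff.1 hy.2 : Commute y x).symm
  have hyz : y ∉ zpowers z := fun h => hyW (mem_sup_right h)
  rcases hcase x hw with hx2 | hx2 <;> rcases hcase y hy.1 with hy2 | hy2
  · exfalso
    have he := SymplecticHyp.elementary_sup_zpowers (elementary_zpowers F.z_sq) (x := x)
      (by rw [sq]; exact hx2) fun a ha => (F.tC ha hw.1).symm.eq
    have he' := SymplecticHyp.elementary_sup_zpowers he (x := y) (by rw [sq]; exact hy2) fun a ha =>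
      (sup_le_centralizer_singleton (fun a ha => commute_zpowers hxy ha)
        (fun a ha => (F.tC ha hy.1.1).symm) a ha).eq
    have h4 := H.card_le_four (Signalizer.of_le hE hA) hAn he'
      (sup_le (zpowers_le.2 hy.1.2) (sup_le (zpowers_le.2 hw.2) (zpowers_le.2 hzX.2)))
    rw [Signalizer.card_sup_zpowers he' le_sup_right (mem_sup_left (mem_zpowers y)) hyW,
      Signalizer.card_sup_zpowers he le_sup_right (mem_sup_left (mem_zpowers x)) hwz,
      Nat.card_zpowers, F.zord] at h4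
    omega
  · exact ⟨x, hw, y, hy.1, hx2, hwz, hy2, hxy⟩
  · exact ⟨y, hy.1, x, hw, hy2, hyz, hx2, hxy.symm⟩
  · refine ⟨x * y, mul_mem hw hy.1, x, hw, ?_, fun h => hyW ?_, hx2, (Commute.refl x).mul_left hxy.symm⟩
    · rw [mul_assoc, ← mul_assoc y, ← hxy.eq, mul_assoc, ← mul_assoc x x, hx2, hy2, F.z_sq]
    · rw [show y = x⁻¹ * (x * y) by group]
      exact mul_mem (inv_mem (mem_sup_left (mem_zpowers x))) (mem_sup_right h)

theorem lt_five : p < 5 := by
  haveI : Fact (Nat.Prime 2) := ⟨Nat.prime_two⟩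
  by_contra hp5
  push Not at hp5
  obtain ⟨g₁, hg₁, i₁, hi₁, hg₁2, hg₁z, hi₁2, hc₁⟩ :=
    H.inv_pair hE hEn F F.le₁ F.card₁ F.move₁ hp5
  obtain ⟨g₂, hg₂, i₂, hi₂, hg₂2, hg₂z, hi₂2, hc₂⟩ :=
    H.inv_pair hE hEn F F.le₂ F.card₂ F.move₂ hp5
  have hcr : ∀ {r s : G}, r ∈ R ⊓ centralizer (A₁ : Set G) → s ∈ R ⊓ centralizer (A₂ : Set G) →
      Commute r s := fun hr hs => H.cross hE hEn F hr hs
  set a := i₁ * i₂ with ha
  have ha2 : a * a = 1 := by
    rw [ha, mul_assoc, ← mul_assoc i₂, ← (hcr hi₁ hi₂).eq, mul_assoc, ← mul_assoc i₁ i₁, hi₁2, hi₂2,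
      F.z_sq]
  have e₁ := SymplecticHyp.elementary_sup_zpowers (elementary_zpowers F.z_sq) (x := g₁)
    (by rw [sq]; exact hg₁2) fun a ha => (F.tC ha hg₁.1).symm.eq
  have hP : zpowers g₁ ⊔ zpowers z ≤ R ⊓ centralizer (A₁ : Set G) :=
    sup_le (zpowers_le.2 hg₁) (zpowers_le.2 (F.z_mem_cent F.le₁))
  have e₂ := SymplecticHyp.elementary_sup_zpowers e₁ (x := g₂) (by rw [sq]; exact hg₂2)
    fun a ha => (hcr (hP ha) hg₂).eq
  have e₃ := SymplecticHyp.elementary_sup_zpowers e₂ (x := a) (by rw [sq]; exact ha2) fun s hs =>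
    (sup_le_centralizer_singleton
      (fun t ht => commute_zpowers ((hcr hi₁ hg₂).symm.mul_right hc₂) ht)
      (fun t ht => sup_le_centralizer_singleton
        (fun t ht => commute_zpowers (hc₁.mul_right (hcr hg₁ hi₂)) ht)
        (fun t ht => ((F.tC ht hi₁.1).mul_left (F.tC ht hi₂.1)).symm) t ht) s hs).eq
  have hg₂n : g₂ ∉ zpowers g₁ ⊔ zpowers z := fun h =>
    hg₂z (H.mem_zpowers_of_mem_both hE hEn F hg₂.1 (hP h).2 hg₂.2)
  have han : a ∉ zpowers g₂ ⊔ (zpowers g₁ ⊔ zpowers z) := by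
    intro h
    have hn : zpowers g₂ ≤ normalizer ((zpowers g₁ ⊔ zpowers z : Subgroup G) : Set G) :=
      norm_of_conj fun u hu v hv => by
        rw [conj_of_commute (commute_zpowers (hcr (hP hv) hg₂).symm hu)]; exact hv
    obtain ⟨u, hu, v, hv, huv⟩ := (CfsgLib.Solvable.mem_sup_of_le_normalizer hn).1 h
    have hu2 : u ∈ R ⊓ centralizer (A₂ : Set G) := zpowers_le.2 hg₂ hu
    have huu : u * u = 1 := by
      rw [← sq]; exact (elementary_zpowers hg₂2).2 u hu
    have h1 : i₂ * u⁻¹ = i₁⁻¹ * v := by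
      have h2 : i₁ * i₂ = v * u := by rw [← ha, ← huv]; exact (hcr (hP hv) hu2).symm.eq
      calc i₂ * u⁻¹ = i₁⁻¹ * (i₁ * i₂) * u⁻¹ := by group
        _ = i₁⁻¹ * v := by rw [h2]; group
    have hmem₂ : i₂ * u⁻¹ ∈ R ⊓ centralizer (A₂ : Set G) := mul_mem hi₂ (inv_mem hu2)
    have hmem₁ : i₁⁻¹ * v ∈ R ⊓ centralizer (A₁ : Set G) := mul_mem (inv_mem hi₁) (hP hv)
    have ht := H.mem_zpowers_of_mem_both hE hEn F hmem₂.1 (h1 ▸ hmem₁.2) hmem₂.2
    have htt : (i₂ * u⁻¹) * (i₂ * u⁻¹) = 1 := by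
      rw [← sq]; exact (elementary_zpowers F.z_sq).2 _ ht
    refine F.z_ne ?_
    have hcu : Commute (i₂ * u⁻¹) u := (F.tC ht hu2.1).symm
    calc z = i₂ * i₂ := hi₂2.symm
      _ = (i₂ * u⁻¹ * u) * (i₂ * u⁻¹ * u) := by group
      _ = (i₂ * u⁻¹) * (i₂ * u⁻¹) * (u * u) := hcu.symm.mul_mul_mul_comm _ _
      _ = 1 := by rw [htt, huu, mul_one]
  obtain ⟨-, hB⟩ := H.sup_eq hE hEn F.le₁ F.le₂ F.card₁ F.card₂ F.ne
  have h16 := H.card_lt_sixteen (Signalizer.of_le hE (inf_le_left.trans F.le₁ : A₁ ⊓ A₂ ≤ E)) hB e₃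
    (sup_le (zpowers_le.2 (F.cent (mul_mem hi₁.1 hi₂.1))) (sup_le (zpowers_le.2 (F.cent hg₂.1))
      (sup_le (zpowers_le.2 (F.cent hg₁.1)) (zpowers_le.2 (F.cent F.zR)))))
  rw [Signalizer.card_sup_zpowers e₃ le_sup_right (mem_sup_left (mem_zpowers a)) han,
    Signalizer.card_sup_zpowers e₂ le_sup_right (mem_sup_left (mem_zpowers g₂)) hg₂n,
    Signalizer.card_sup_zpowers e₁ le_sup_right (mem_sup_left (mem_zpowers g₁)) hg₁z,
    Nat.card_zpowers, F.zord] at h16
  omega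

/-- The orbit of order `3` inside the centralizer of a hyperplane. -/
theorem triple {A : Subgroup G} (hA : A ≤ E) (hAn : Nat.card A = p ^ (l + 1))
    (hm : ¬ R ⊓ centralizer (A : Set G) ≤ centralizer (E : Set G)) {d : G} (hd : d ∈ E) (hdA : d ∉ A)
    (hd3 : d ^ 3 = 1) :
    ∃ x y : G, x ∈ R ⊓ centralizer (A : Set G) ∧ y ∈ R ⊓ centralizer (A : Set G) ∧
      d * x * d⁻¹ = y ∧ d * y * d⁻¹ = (x * y)⁻¹ ∧ ⁅x, y⁆ = z ∧ x * x = z ∧ y * y = z := by
  haveI : Fact (Nat.Prime 2) := ⟨Nat.prime_two⟩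
  obtain ⟨w, hw, hwE⟩ := SetLike.not_le_iff_exists.1 hm
  set X := R ⊓ centralizer (A : Set G) with hX
  have hEX : E ≤ normalizer (X : Set G) := Signalizer.le_normalizer_inf_centralizer hE F.norm hA
  have hwz : w ∉ zpowers z := fun h => hwE (mem_centralizer_of_commute fun e he => F.tE h he)
  set x := w⁻¹ * (d * w * d⁻¹) with hx
  set y := d * x * d⁻¹ with hy
  have hxX : x ∈ X := mul_mem (inv_mem hw) (conj_of_norm hEX d hd w hw)
  have hyX : y ∈ X := conj_of_norm hEX d hd x hxX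
  have hprod : x * y * (d * y * d⁻¹) = 1 := by
    calc x * y * (d * y * d⁻¹) = w⁻¹ * (d ^ 3 * w * (d ^ 3)⁻¹) := by
          rw [hy, hx, pow_succ, pow_succ, pow_one]; group
      _ = 1 := by rw [hd3]; group
  have hu : d * y * d⁻¹ = (x * y)⁻¹ := eq_inv_of_mul_eq_one_right hprod
  have hxz : x ∉ zpowers z := fun h => by
    have hc : Commute d w := commute_of_shift (hE.2 d hd) (c := x) (by rw [hx]; group) (F.tE h hd)
      (coprime_of_mem H.odd F.two hxX.1)
    exact hwz (H.mem_zpowers_of_fixed hE hEn F hA hAn hw hd hdA hc)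
  have hnc : ¬ Commute x y := by
    intro hc
    set T := closure ({x, y} : Set G) with hT
    have hTX : T ≤ X := (closure_le _).2 (by
      rintro s (rfl | rfl)
      · exact hxX
      · exact hyX)
    have hTc := closure_comm (S := ({x, y} : Set G)) (by
      rintro s (rfl | rfl) t (rfl | rfl)
      · exact Commute.refl _
      · exact hc
      · exact hc.symm
      · exact Commute.refl _)
    have hET : E ≤ normalizer (T : Set G) := by
      rw [← H.sup_zpowers_eq hE hEn hA hAn hd hdA]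
      refine sup_le (zpowers_le.2 (LocalB.mem_normalizer_of_conj_le fun s hs => ?_))
        (closure_norm fun a ha s hs => ?_)
      · refine ((closure_le (K := T.comap (MulAut.conj d).toMonoidHom)).2 ?_) hs
        rintro t (rfl | rfl)
        · show d * x * d⁻¹ ∈ T
          exact subset_closure (Set.mem_insert_of_mem _ rfl)
        · show d * y * d⁻¹ ∈ T
          rw [hu]
          exact inv_mem (mul_mem (subset_closure (Set.mem_insert _ _))
            (subset_closure (Set.mem_insert_of_mem _ rfl)))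
      · rw [conj_of_commute (commute_of_mem_centralizer (hTX (subset_closure hs)).2 ha)]
        exact subset_closure hs
    have hle := H.centralizes hE hEn (F.two.to_le (hTX.trans inf_le_left)) hTc hET
    exact hxz (H.mem_zpowers_of_fixed hE hEn F hA hAn hxX hd hdA
      (commute_of_mem_centralizer (hle (subset_closure (Set.mem_insert _ _))) hd))
  have hxy : ⁅x, y⁆ = z := F.eq_z hxX.1 hyX.1 hnc
  have hσ := F.sq x hxX.1
  have hy2 : y * y = x * x := by
    rw [show y * y = d * (x * x) * d⁻¹ by rw [hy]; group]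
    exact conj_of_commute (F.tE hσ hd)
  have hu2 : (x * y)⁻¹ * (x * y)⁻¹ = x * x := by
    rw [← hu, show d * y * d⁻¹ * (d * y * d⁻¹) = d * (y * y) * d⁻¹ by group, hy2]
    exact conj_of_commute (F.tE hσ hd)
  have hxy' : ⁅x⁻¹, y⁆ = z := F.eq_z (inv_mem hxX.1) hyX.1 fun h => hnc (by simpa using h.inv_left)
  have hσ2 : x * x * (x * x) = 1 := by rw [← sq]; exact (elementary_zpowers F.z_sq).2 _ hσ
  have h1 : (x * y) * (x * y) = z := by
    calc (x * y) * (x * y) = (x * x) * ⁅x⁻¹, y⁆ * (y * y) := by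
          simp only [commutatorElement_def]; group
      _ = z * ((x * x) * (x * x)) := by
          rw [hxy', hy2, (F.zC _ (mul_mem hxX.1 hxX.1)).eq, mul_assoc]
      _ = z := by rw [hσ2, mul_one]
  have hxx : x * x = z := by
    rw [← hu2, ← mul_inv_rev, h1, inv_eq_of_mul_eq_one_right F.z_sq]
  exact ⟨x, y, hxX, hyX, rfl, hu, hxy, hxx, hy2.trans hxx⟩

theorem no_frame : False := by
  haveI : Fact (Nat.Prime 2) := ⟨Nat.prime_two⟩
  have hp3 : p = 3 := by
    have h5 := H.lt_five hE hEn F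
    have h2 := (Fact.out : p.Prime).two_le
    have h4 : p ≠ 4 := fun h => by
      have : Nat.Prime 4 := h ▸ Fact.out
      norm_num at this
    have := H.odd
    omega
  obtain ⟨d, hd, hd₁, hd₂⟩ : ∃ d ∈ E, d ∉ A₁ ∧ d ∉ A₂ := by
    obtain ⟨a, ha, ha'⟩ : ∃ a ∈ A₁, a ∉ A₂ := by
      by_contra h
      push Not at h
      exact F.ne (eq_of_le_of_card_ge h (by rw [F.card₁, F.card₂]))
    obtain ⟨b, hb, hb'⟩ : ∃ b ∈ A₂, b ∉ A₁ := by
      by_contra h
      push Not at h
      exact F.ne (eq_of_le_of_card_ge h (by rw [F.card₁, F.card₂])).symm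
    exact ⟨a * b, mul_mem (F.le₁ ha) (F.le₂ hb), fun h => hb' ((mul_mem_cancel_left ha).1 h),
      fun h => ha' ((mul_mem_cancel_right hb).1 h)⟩
  have hd3 : d ^ 3 = 1 := hp3 ▸ hE.2 d hd
  obtain ⟨x₁, y₁, hx₁, hy₁, hdx₁, hdy₁, hc₁, hxx₁, hyy₁⟩ :=
    H.triple hE hEn F F.le₁ F.card₁ F.move₁ hd hd₁ hd3
  obtain ⟨x₂, y₂, hx₂, hy₂, hdx₂, hdy₂, hc₂, hxx₂, hyy₂⟩ :=
    H.triple hE hEn F F.le₂ F.card₂ F.move₂ hd hd₂ hd3
  have hcr : ∀ {r s : G}, r ∈ R ⊓ centralizer (A₁ : Set G) → s ∈ R ⊓ centralizer (A₂ : Set G) →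
      Commute r s := fun hr hs => H.cross hE hEn F hr hs
  have swap : ∀ u v : G, ⁅u, v⁆ = z → u * v = z * (v * u) := fun u v h => by
    rw [← h]; simp only [commutatorElement_def]; group
  set a := x₁ * x₂ with ha
  set b := y₁ * y₂ with hb
  have haa : a * a = 1 := by
    rw [ha, (hcr hx₁ hx₂).symm.mul_mul_mul_comm, hxx₁, hxx₂, F.z_sq]
  have hbb : b * b = 1 := by
    rw [hb, (hcr hy₁ hy₂).symm.mul_mul_mul_comm, hyy₁, hyy₂, F.z_sq]
  have haR : a ∈ R := mul_mem hx₁.1 hx₂.1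
  have hbR : b ∈ R := mul_mem hy₁.1 hy₂.1
  have hab' : a * b = (x₁ * y₁) * (x₂ * y₂) := by
    rw [ha, hb, (hcr hy₁ hx₂).symm.mul_mul_mul_comm]
  have hab : Commute a b := by
    show a * b = b * a
    have h1 : (z * (y₁ * x₁)) * (z * (y₂ * x₂)) = (z * z) * ((y₁ * x₁) * (y₂ * x₂)) :=
      (F.zC _ (mul_mem hy₁.1 hx₁.1)).mul_mul_mul_comm _ _
    rw [hab', swap _ _ hc₁, swap _ _ hc₂, h1, F.z_sq, one_mul,
      hb, ha, (hcr hx₁ hy₂).symm.mul_mul_mul_comm]
  have hdb : d * b * d⁻¹ = a * b := by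
    have h1 : d * b * d⁻¹ = (x₁ * y₁)⁻¹ * (x₂ * y₂)⁻¹ := by
      rw [← hdy₁, ← hdy₂, hb]; group
    have h2 : (x₁ * y₁) * (x₂ * y₂) = (x₂ * y₂) * (x₁ * y₁) :=
      (hcr (mul_mem hx₁ hy₁) (mul_mem hx₂ hy₂)).eq
    rw [h1, ← mul_inv_rev, ← h2, ← hab']
    refine inv_eq_of_mul_eq_one_right ?_
    rw [hab.symm.mul_mul_mul_comm, haa, hbb, one_mul]
  have hda : d * a * d⁻¹ = b := by rw [ha, hb, ← hdx₁, ← hdx₂]; group
  set V := zpowers a ⊔ zpowers b with hV
  have hVR : V ≤ R := sup_le (zpowers_le.2 haR) (zpowers_le.2 hbR)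
  have hVe : Cfsg.IsElementaryAbelian 2 V := SymplecticHyp.elementary_sup_zpowers (elementary_zpowers hbb)
    (by rw [sq]; exact haa) fun t ht => (commute_zpowers hab.symm ht).eq
  have hW := SymplecticHyp.elementary_sup_zpowers hVe (x := z) (by rw [sq]; exact F.z_sq)
    fun t ht => (F.zC t (hVR ht)).eq
  -- the `p`-group
  obtain ⟨-, hB⟩ := H.sup_eq hE hEn F.le₁ F.le₂ F.card₁ F.card₂ F.ne
  set B := A₁ ⊓ A₂ with hBdef
  have hBE : B ≤ E := inf_le_left.trans F.le₁
  have hBe := Signalizer.of_le hE hBE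
  set U := CharP.opIn p (centralizer (B : Set G)) with hU
  have hUp : IsPGroup p U := CharP.isPGroup_opIn _
  have hRU : R ≤ normalizer (U : Set G) := F.cent.trans (CharP.le_normalizer_opIn _)
  have hzo : (orderOf z).Coprime p := coprime_of_mem H.odd F.two F.zR
  have hmove : ¬ ∀ u ∈ U, u * z = z * u := fun h =>
    F.z_ne ((H.charC hBe hB H.pos).eq_one_subgroup hzo (F.cent F.zR) (mem_centralizer_iff.2 h))
  obtain ⟨K, -, -, hzK, y, hy, hy1, hyK, hyinv⟩ := SymplecticHyp.exists_inverted H.odd hW hUp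
    ((sup_le (zpowers_le.2 F.zR) hVR).trans hRU) (mem_sup_left (mem_zpowers z)) hmove
  have hfix : ∀ t ∈ zpowers z ⊔ V, Commute t y ∨ Commute (z * t) y := by
    intro t ht
    by_cases htK : t ∈ K
    · exact Or.inl (hyK t htK)
    · refine Or.inr (commute_of_conj ?_)
      calc z * t * y * (z * t)⁻¹ = z * (t * y * t⁻¹) * z⁻¹ := by group
        _ = (z * y * z⁻¹)⁻¹ := by rw [hyinv t ht htK]; group
        _ = y := by rw [hyinv z (mem_sup_left (mem_zpowers z)) hzK, inv_inv]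
  have hzy : z * y * z⁻¹ = y⁻¹ := hyinv z (mem_sup_left (mem_zpowers z)) hzK
  have hconj : ∀ r ∈ R, ∀ v : G, v ∈ U → z * v * z⁻¹ = v⁻¹ →
      r * v * r⁻¹ ∈ U ∧ z * (r * v * r⁻¹) * z⁻¹ = (r * v * r⁻¹)⁻¹ := by
    intro r hr v hv hzv
    refine ⟨conj_of_norm hRU r hr v hv, ?_⟩
    calc z * (r * v * r⁻¹) * z⁻¹ = (z * r) * v * (z * r)⁻¹ := by group
      _ = r * (z * v * z⁻¹) * r⁻¹ := by rw [← (F.zC r hr).eq]; group
      _ = (r * v * r⁻¹)⁻¹ := by rw [hzv]; group
  have cmap : ∀ r t t' v : G, Commute t v → r * t * r⁻¹ = t' → Commute t' (r * v * r⁻¹) := by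
    intro r t t' v h e
    rw [← e]; exact h.map (MulAut.conj r).toMonoidHom
  have hzz' : ∀ t : G, z * (z * t) = t := fun t => by rw [← mul_assoc, F.z_sq, one_mul]
  have hy₁a : y₁ * a * y₁⁻¹ = z * a := by
    rw [ha, show y₁ * (x₁ * x₂) * y₁⁻¹ = (y₁ * x₁ * y₁⁻¹) * (y₁ * x₂ * y₁⁻¹) by group,
      conj_of_commute (hcr hy₁ hx₂)]
    have h1 : y₁ * x₁ * y₁⁻¹ = z * x₁ := by
      have h2 := F.eq_z hy₁.1 hx₁.1 (fun h => F.z_ne (by
        rw [← hc₁]; exact commutatorElement_eq_one_iff_commute.2 h.symm))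
      rw [← h2]; simp only [commutatorElement_def]; group
    rw [h1, mul_assoc]
  have hy₁b : y₁ * b * y₁⁻¹ = b := conj_of_commute ((Commute.refl y₁).mul_right (hcr hy₁ hy₂))
  have hx₁a : x₁ * a * x₁⁻¹ = a := conj_of_commute ((Commute.refl x₁).mul_right (hcr hx₁ hx₂))
  have hx₁b : x₁ * b * x₁⁻¹ = z * b := by
    rw [hb, show x₁ * (y₁ * y₂) * x₁⁻¹ = (x₁ * y₁ * x₁⁻¹) * (x₁ * y₂ * x₁⁻¹) by group,
      conj_of_commute (hcr hx₁ hy₂), ← hc₁]
    simp only [commutatorElement_def]; group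
  have hy₁z : y₁ * z * y₁⁻¹ = z := conj_of_commute (F.zC _ hy₁.1)
  have hx₁z : x₁ * z * x₁⁻¹ = z := conj_of_commute (F.zC _ hx₁.1)
  -- fix `a`
  obtain ⟨v, hv, hv1, hvz, hva, hvb⟩ : ∃ v ∈ U, v ≠ 1 ∧ z * v * z⁻¹ = v⁻¹ ∧ Commute a v ∧
      (Commute b v ∨ Commute (z * b) v) := by
    rcases hfix a (mem_sup_right (mem_sup_left (mem_zpowers a))) with h | h
    · exact ⟨y, hy, hy1, hzy, h, hfix b (mem_sup_right (mem_sup_right (mem_zpowers b)))⟩
    · obtain ⟨h1, h2⟩ := hconj y₁ hy₁.1 y hy hzy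
      refine ⟨_, h1, fun e => hy1 (conj_eq_one_iff.1 e), h2, cmap y₁ _ _ y h ?_, ?_⟩
      · rw [show y₁ * (z * a) * y₁⁻¹ = (y₁ * z * y₁⁻¹) * (y₁ * a * y₁⁻¹) by group, hy₁z, hy₁a, hzz']
      · rcases hfix b (mem_sup_right (mem_sup_right (mem_zpowers b))) with h' | h'
        · exact Or.inl (cmap y₁ _ _ y h' hy₁b)
        · refine Or.inr (cmap y₁ _ _ y h' ?_)
          rw [show y₁ * (z * b) * y₁⁻¹ = (y₁ * z * y₁⁻¹) * (y₁ * b * y₁⁻¹) by group, hy₁z, hy₁b]
  -- fix `b`
  obtain ⟨v', hv', hv1', hvz', hva', hvb'⟩ : ∃ v' ∈ U, v' ≠ 1 ∧ z * v' * z⁻¹ = v'⁻¹ ∧ Commute a v' ∧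
      Commute b v' := by
    rcases hvb with h | h
    · exact ⟨v, hv, hv1, hvz, hva, h⟩
    · obtain ⟨h1, h2⟩ := hconj x₁ hx₁.1 v hv hvz
      refine ⟨_, h1, fun e => hv1 (conj_eq_one_iff.1 e), h2, cmap x₁ _ _ v hva hx₁a, cmap x₁ _ _ v h ?_⟩
      rw [show x₁ * (z * b) * x₁⁻¹ = (x₁ * z * x₁⁻¹) * (x₁ * b * x₁⁻¹) by group, hx₁z, hx₁b, hzz']
  -- the fixed part
  set W' := U ⊓ centralizer (V : Set G) with hW'
  have hdV : d ∈ normalizer (V : Set G) := LocalB.mem_normalizer_of_conj_le fun t ht => by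
    refine (sup_le (c := V.comap (MulAut.conj d).toMonoidHom) (zpowers_le.2 ?_) (zpowers_le.2 ?_)) ht
    · show d * a * d⁻¹ ∈ V
      rw [hda]; exact mem_sup_right (mem_zpowers b)
    · show d * b * d⁻¹ ∈ V
      rw [hdb]; exact mul_mem (mem_sup_left (mem_zpowers a)) (mem_sup_right (mem_zpowers b))
  have hdU : d ∈ normalizer (U : Set G) :=
    CharP.le_normalizer_opIn _ (Signalizer.le_centralizer_of_le hE hBE hd)
  have hd' : zpowers d ≤ normalizer (W' : Set G) := zpowers_le.2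
    (LocalB.mem_normalizer_of_conj_le fun t ht =>
      ⟨(mem_normalizer_iff.1 hdU t).1 ht.1, mem_centralizer_of_commute fun s hs => by
        have h1 : d⁻¹ * s * d ∈ V := by simpa using (mem_normalizer_iff.1 (inv_mem hdV) s).1 hs
        have h2 := (commute_of_mem_centralizer ht.2 h1).map (MulAut.conj d).toMonoidHom
        simpa [mul_assoc] using h2⟩)
  have hzW' : z ∈ normalizer (W' : Set G) := LocalB.mem_normalizer_of_conj_le fun t ht =>
    ⟨conj_of_norm hRU z F.zR t ht.1, mem_centralizer_of_commute fun s hs =>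
      (((F.zC s (hVR hs)).mul_right (commute_of_mem_centralizer ht.2 hs)).mul_right
        (F.zC s (hVR hs)).inv_right)⟩
  have hv'W : v' ∈ W' := ⟨hv', mem_centralizer_of_commute fun s hs => sup_le_centralizer_singleton
    (fun t ht => commute_zpowers hva' ht) (fun t ht => commute_zpowers hvb' ht) s hs⟩
  set X := W' ⊓ centralizer ({d} : Set G) with hX
  have hmoveX : ¬ ∀ u ∈ X, u * z = z * u := by
    intro hall
    have hdz : ∀ π ∈ zpowers d, Commute π z := fun π hπ => commute_zpowers (F.zE d hd) hπ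
    have := LocalB.commute_of_pxq (p := p) (P := zpowers d) (R := W')
      ((Signalizer.isPGroup hE).to_le (zpowers_le.2 hd)) (hUp.to_le inf_le_left) hd' hzo hzW' hdz
      (fun r hr hrd => (hall r ⟨hr, mem_centralizer_singleton_iff.2 (hrd d (mem_zpowers d)).symm⟩).symm)
      v' hv'W
    rw [conj_of_commute this] at hvz'
    exact hv1' (eq_one_of_inv_eq H.odd hUp hv' hvz')
  have hzX : zpowers z ≤ normalizer (X : Set G) := zpowers_le.2
    (LocalB.mem_normalizer_of_conj_le fun t ht =>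
      ⟨(mem_normalizer_iff.1 hzW' t).1 ht.1, mem_centralizer_singleton_iff.2
        ((((F.zE d hd).symm.mul_left (show Commute t d from mem_centralizer_singleton_iff.1 ht.2))).mul_left
          (F.zE d hd).symm.inv_left).eq⟩)
  obtain ⟨K', -, -, hzK', s, hs, hs1, -, hsinv⟩ := SymplecticHyp.exists_inverted H.odd
    (elementary_zpowers F.z_sq) (hUp.to_le (inf_le_left.trans inf_le_left)) hzX (mem_zpowers z) hmoveX
  obtain ⟨n, hn1, hnp⟩ := exists_pow_orderp hUp hs.1.1 hs1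
  set s' := s ^ n
  have hs' : s' ∈ X := pow_mem hs n
  have hzs : z * s' * z⁻¹ = s'⁻¹ := by rw [← conj_pow, hsinv z (mem_zpowers z) hzK', inv_pow]
  have hs'B : s' ∉ B := fun h => by
    rw [conj_of_commute (F.zE s' (hBE h)).symm] at hzs
    exact hn1 (eq_one_of_inv_eq H.odd hUp hs'.1.1 hzs)
  have hS₁ := SymplecticHyp.elementary_sup_zpowers hBe hnp
    fun t ht => mem_centralizer_iff.1 (CharP.opIn_le _ hs'.1.1) t ht
  have hS₁a : ∀ t ∈ zpowers s' ⊔ B, ∀ u ∈ V, Commute t u := fun t ht u hu =>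
    sup_le_centralizer_singleton
      (fun c hc => commute_zpowers (commute_of_mem_centralizer hs'.1.2 hu).symm hc)
      (fun c hc => commute_of_mem_centralizer (F.cent (hVR hu)) hc) t ht
  have hnd : ¬ Commute d a := by
    intro h
    have hba : b = a := hda ▸ conj_of_commute h
    have h1 : x₁⁻¹ * y₁ = x₂ * y₂⁻¹ := by
      calc x₁⁻¹ * y₁ = x₁⁻¹ * (y₁ * y₂) * y₂⁻¹ := by group
        _ = x₂ * y₂⁻¹ := by rw [← hb, hba, ha]; group
    have h₁ : x₁⁻¹ * y₁ ∈ R ⊓ centralizer (A₁ : Set G) := mul_mem (inv_mem hx₁) hy₁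
    have h₂ : x₂ * y₂⁻¹ ∈ R ⊓ centralizer (A₂ : Set G) := mul_mem hx₂ (inv_mem hy₂)
    have ht := H.mem_zpowers_of_mem_both hE hEn F h₁.1 h₁.2 (h1 ▸ h₂.2)
    refine F.z_ne (hc₁ ▸ commutatorElement_eq_one_iff_commute.2 ?_)
    rw [show y₁ = x₁ * (x₁⁻¹ * y₁) by group]
    exact (Commute.refl x₁).mul_right (F.tC ht hx₁.1)
  have hdS₁ : d ∉ zpowers s' ⊔ B := fun h =>
    hnd (hS₁a d h a (mem_sup_left (mem_zpowers a)))
  have hS := SymplecticHyp.elementary_sup_zpowers hS₁ (hE.2 d hd) fun t ht =>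
    (sup_le_centralizer_singleton
      (fun c hc => commute_zpowers (mem_centralizer_singleton_iff.1 hs'.2 : Commute s' d) hc)
      (fun c hc => Signalizer.commute hE (hBE hc) hd) t ht).eq
  have hSn : Nat.card ↥(zpowers d ⊔ (zpowers s' ⊔ B)) = p ^ (l + 2) := by
    rw [Signalizer.card_sup_zpowers hS le_sup_right (mem_sup_left (mem_zpowers d)) hdS₁,
      Signalizer.card_sup_zpowers hS₁ le_sup_right (mem_sup_left (mem_zpowers s')) hs'B, hB,
      pow_succ', pow_succ']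
  have hSV : zpowers d ⊔ (zpowers s' ⊔ B) ≤ normalizer (V : Set G) :=
    sup_le (zpowers_le.2 hdV) (norm_of_conj fun t ht u hu => by
      rw [conj_of_commute (hS₁a t ht u hu)]; exact hu)
  have hle := H.centralizes hS hSn (F.two.to_le hVR)
    (fun u hu u' hu' => Signalizer.commute hVe hu hu') hSV
  exact hnd (commute_of_mem_centralizer (hle (mem_sup_left (mem_zpowers a))) (mem_sup_left (mem_zpowers d)))

end Hyp

/-- **Klinger–Mason**: characteristic `2` type and local characteristic `p` bound the `2`-local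
`p`-rank by `2`. -/
theorem twoLocalPRankLE (hp : p ≠ 2) (hGp : Cfsg.IsOfLocalCharacteristic p G)
    (hG2 : Cfsg.IsCharacteristicTwoType G) : Cfsg.TwoLocalPRankLE p 2 G := by
  classical
  rintro M ⟨T, hT, hT1, rfl⟩ A hAc hAp
  by_contra hA
  push Not at hA
  let P : ℕ → Prop := fun k => ∃ T S : Subgroup G, IsPGroup 2 T ∧ T ≠ ⊥ ∧
    Cfsg.IsElementaryAbelian p S ∧ S ≤ normalizer (T : Set G) ∧ Nat.card S = p ^ k
  have hbound : ∀ k, P k → k ≤ Nat.card G := fun k ⟨_, S, _, _, _, _, hS⟩ => by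
    have h1 := Nat.le_of_dvd Nat.card_pos (hS ▸ card_subgroup_dvd_card S)
    exact (Nat.lt_pow_self (Fact.out : p.Prime).one_lt).le.trans h1
  have hA' : Cfsg.IsElementaryAbelian p (A.map (normalizer (T : Set G)).subtype) := by
    refine ⟨⟨⟨fun x y => Subtype.ext ?_⟩⟩, ?_⟩
    · obtain ⟨_, a, ha, rfl⟩ := x
      obtain ⟨_, b, hb, rfl⟩ := y
      exact congrArg (fun t : A => ((t : normalizer (T : Set G)) : G)) (hAc.is_comm.comm (⟨a, ha⟩ : A) ⟨b, hb⟩)
    · rintro _ ⟨a, ha, rfl⟩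
      exact congrArg Subtype.val (hAp a ha)
  obtain ⟨k₀, hk₀⟩ := IsPGroup.iff_card.1 (Signalizer.isPGroup hA')
  have hk3 : 3 ≤ k₀ := by
    rw [← card_map_of_injective (normalizer (T : Set G)).subtype_injective, hk₀] at hA
    exact (Nat.pow_lt_pow_iff_right (Fact.out : p.Prime).one_lt).1 hA
  have hP₀ : P k₀ := ⟨T, _, hT, hT1, hA', map_subtype_le _, hk₀⟩
  set m := Nat.findGreatest P (Nat.card G) with hm
  have hm0 : k₀ ≤ m := Nat.le_findGreatest (hbound _ hP₀) hP₀
  obtain ⟨T', E, hT', hT'1, hE, hET, hEn⟩ : P m := Nat.findGreatest_spec (hbound _ hP₀) hP₀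
  obtain ⟨l, hl⟩ : ∃ l, m = l + 2 := ⟨m - 2, by omega⟩
  have H : Hyp p l G :=
    { odd := hp
      pos := by omega
      charP := fun U hU hU1 => hGp.2 U hU hU1
      charTwo := fun U hU hU1 => hG2.2 U hU hU1
      rank := fun U hU hU1 S hS hSU => by
        obtain ⟨j, hj⟩ := IsPGroup.iff_card.1 (Signalizer.isPGroup hS)
        rw [hj]
        refine Nat.pow_le_pow_right (Fact.out : p.Prime).pos (hl ▸ ?_)
        exact Nat.le_findGreatest (hbound _ ⟨U, S, hU, hU1, hS, hSU, hj⟩) ⟨U, S, hU, hU1, hS, hSU, hj⟩ }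
  rw [hl] at hEn
  obtain ⟨A₁, A₂, R, z, F⟩ := H.exists_frame hE hEn hT' hT'1 hET
  exact H.no_frame hE hEn F

end CfsgLib.CharTwoPType
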