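import Mathlib
import Cfsg.Agent.Invol.ThompsonTransfer

/-!
Normal four-groups in 2-groups containing an elementary abelian subgroup of order 8.
-/

set_option autoImplicit false
set_option linter.unusedSectionVars false
set_option linter.deprecated false
set_option linter.style.haveILetI false
set_option linter.style.multiGoal false

namespace CfsgLib.NormalFourPair

open Subgroup

/-- `z` and `u` span a normal four-group with `z` central. -/
def IsPair {G : Type*} [Group G] (z u : G) : Prop :=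
  z * z = 1 ∧ z ≠ 1 ∧ (∀ g, g * z = z * g) ∧ u * u = 1 ∧ u ≠ 1 ∧ u ≠ z ∧
    ∀ g, g * u * g⁻¹ = u ∨ g * u * g⁻¹ = u * z

variable {G : Type*} [Group G] {M : Subgroup G}

/-- An involution whose `M`-conjugates differ by `z`, commuting with its conjugate under `s ∉ M`,
gives a pair. -/
theorem pair_of_commute (hM : M.index = 2) {z : G} (hz2 : z * z = 1) (hz1 : z ≠ 1)
    (hzc : ∀ g, g * z = z * g) {s : G} (hs : s ∉ M) {d : G} (hd2 : d * d = 1) (hd1 : d ≠ 1)
    (hdz : d ≠ z) (hR : ∀ m ∈ M, m * d * m⁻¹ = d ∨ m * d * m⁻¹ = d * z)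
    (hc : d * (s * d * s⁻¹) = s * d * s⁻¹ * d) :
    ∃ z u : G, IsPair z u := by
  obtain ⟨v, hv⟩ : ∃ v, s * d * s⁻¹ = v := ⟨_, rfl⟩
  rw [hv] at hc
  have hsM : s * s ∈ M := mul_self_mem_of_index_two hM s
  have hext : ∀ {e : G}, (∀ m ∈ M, m * e * m⁻¹ = e ∨ m * e * m⁻¹ = e * z) →
      (s * e * s⁻¹ = e ∨ s * e * s⁻¹ = e * z) →
      ∀ g, g * e * g⁻¹ = e ∨ g * e * g⁻¹ = e * z := by
    intro e hRe hse g
    by_cases hg : g ∈ M
    · exact hRe g hg
    have hgs : g * s ∈ M := (mul_mem_iff_of_index_two hM).2 (iff_of_false hg hs)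
    have hg' : g * s⁻¹ ∈ M := by
      rw [show g * s⁻¹ = g * s * (s * s)⁻¹ by group]
      exact mul_mem hgs (inv_mem hsM)
    have e1 : g * e * g⁻¹ = g * s⁻¹ * (s * e * s⁻¹) * (g * s⁻¹)⁻¹ := by group
    rw [e1]
    rcases hse with h | h <;> rw [h]
    · exact hRe _ hg'
    · rw [← conj_mul (b := g * s⁻¹) (a := e) (c := z),
        show g * s⁻¹ * z * (g * s⁻¹)⁻¹ = z by rw [hzc]; group]
      rcases hRe _ hg' with h' | h' <;> rw [h']
      · exact Or.inr rfl
      · exact Or.inl (by rw [mul_assoc, hz2, mul_one])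
  by_cases hvd : v = d ∨ v = d * z
  · refine ⟨z, d, hz2, hz1, hzc, hd2, hd1, hdz, hext hR ?_⟩
    rw [hv]; exact hvd
  push Not at hvd
  have hv2 : v * v = 1 := by rw [← hv, conj_mul, hd2]; group
  have hRv : ∀ m ∈ M, m * v * m⁻¹ = v ∨ m * v * m⁻¹ = v * z := by
    intro m hm
    have hm' : s⁻¹ * m * s ∈ M := by
      haveI := normal_of_index_eq_two hM
      simpa using (inferInstance : M.Normal).conj_mem m hm s⁻¹
    have e : m * v * m⁻¹ = s * (s⁻¹ * m * s * d * (s⁻¹ * m * s)⁻¹) * s⁻¹ := by rw [← hv]; group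
    rw [e]
    rcases hR _ hm' with h | h <;> rw [h]
    · exact Or.inl hv
    · rw [← conj_mul, hv, hzc s, mul_inv_cancel_right]
      exact Or.inr rfl
  refine ⟨z, d * v, hz2, hz1, hzc, ?_, ?_, ?_, hext (fun m hm => ?_) ?_⟩
  · calc d * v * (d * v) = d * (v * d) * v := by group
      _ = d * (d * v) * v := by rw [hc]
      _ = 1 := by rw [← mul_assoc d d v, hd2, one_mul, hv2]
  · intro h
    exact hvd.1 (by rw [← mul_left_cancel_iff (a := d), h, hd2])
  · intro h
    exact hvd.2 (by rw [← mul_left_cancel_iff (a := d), h, ← mul_assoc, hd2, one_mul])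
  · rw [← conj_mul]
    rcases hR m hm with h | h <;> rcases hRv m hm with h' | h' <;> rw [h, h']
    · exact Or.inl rfl
    · exact Or.inr (mul_assoc _ _ _).symm
    · exact Or.inr (by rw [mul_assoc, ← hzc v, ← mul_assoc])
    · exact Or.inl (by rw [show d * z * (v * z) = d * (z * v) * z by group, ← hzc v,
        show d * (v * z) * z = d * v * (z * z) by group, hz2, mul_one])
  · rw [← conj_mul, hv]
    have h2 : s * v * s⁻¹ = d ∨ s * v * s⁻¹ = d * z := by
      rw [← hv, show s * (s * d * s⁻¹) * s⁻¹ = s * s * d * (s * s)⁻¹ by group]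
      exact hR _ hsM
    rcases h2 with h | h <;> rw [h]
    · exact Or.inl hc.symm
    · exact Or.inr (by rw [← mul_assoc, ← hc])

/-- A 2-group with an elementary abelian subgroup of order 8 has a normal four-group. -/
theorem exists_pair : ∀ (n : ℕ) (G : Type*) [Group G] [Finite G], Nat.card G = n → IsPGroup 2 G →
    ∀ E : Subgroup G, Nat.card E = 8 → (∀ e ∈ E, e * e = 1) → ∃ z u : G, IsPair z u := by
  intro n
  induction n using Nat.strongRecOn with | ind n ih => ?_
  intro G _ _ hn hG E hE8 hE2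
  subst hn
  haveI := hG.isNilpotent
  by_cases htop : E = ⊤
  · subst htop
    haveI : Nontrivial G := Finite.one_lt_card_iff_nontrivial.1 (by rw [← card_top, hE8]; norm_num)
    obtain ⟨z, hz1⟩ := exists_ne (1 : G)
    obtain ⟨u, hu1, huz⟩ : ∃ u : G, u ≠ 1 ∧ u ≠ z := by
      by_contra hcon
      push Not at hcon
      have h : Nat.card G ≤ 2 := by
        refine le_trans (Nat.card_le_card_of_surjective (fun i : Fin 2 => if i = 0 then (1 : G) else z) ?_)
          (Nat.card_fin 2).le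
        intro g
        by_cases hg : g = 1
        · exact ⟨0, by simp [hg]⟩
        · exact ⟨1, by simp [hcon g hg]⟩
      rw [← card_top, hE8] at h
      omega
    have hcomm : ∀ a b : G, a * b = b * a := fun a b => by
      have h := hE2 (a * b) (mem_top _)
      rw [← inv_eq_iff_mul_eq_one, mul_inv_rev] at h
      rw [← h, inv_eq_of_mul_eq_one_right (hE2 a (mem_top _)), inv_eq_of_mul_eq_one_right (hE2 b (mem_top _))]
    exact ⟨z, u, hE2 z (mem_top _), hz1, fun g => hcomm g z, hE2 u (mem_top _), hu1, huz,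
      fun g => Or.inl (by rw [hcomm g u, mul_inv_cancel_right])⟩
  obtain ⟨M, hEM, hM⟩ : ∃ M : Subgroup G, E ≤ M ∧ M.index = 2 := by
    obtain ⟨M, hEM, hM1, hMmax⟩ := exists_maximal_ge_of_wellFoundedGT (fun M : Subgroup G => M ≠ ⊤) E htop
    have hco : IsCoatom M := ⟨hM1, fun K hK => by
      by_contra h; exact hK.not_ge (hMmax h hK.le)⟩
    haveI : M.Normal := NormalizerCondition.normal_of_coatom M normalizerCondition_of_isNilpotent hco
    haveI : Fact (Nat.Prime 2) := ⟨Nat.prime_two⟩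
    refine ⟨M, hEM, ?_⟩
    obtain ⟨k, hk⟩ := IsPGroup.iff_card.1 (hG.to_quotient M)
    rcases k with _ | k
    · exact absurd (index_eq_one.1 (by rw [index_eq_card, hk, pow_zero])) hM1
    obtain ⟨x, hx⟩ := exists_prime_orderOf_dvd_card' (G := G ⧸ M) 2 (hk ▸ dvd_pow_self 2 k.succ_ne_zero)
    have hK : M < (zpowers x).comap (QuotientGroup.mk' M) := by
      refine lt_of_le_of_ne ((QuotientGroup.ker_mk' M).ge.trans (MonoidHom.ker_le_comap _ _)) fun e => ?_
      obtain ⟨g, hg⟩ := QuotientGroup.mk'_surjective M x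
      have h : g ∈ M := e ▸ (show g ∈ (zpowers x).comap (QuotientGroup.mk' M) by
        rw [mem_comap, hg]; exact mem_zpowers x)
      have h' : x = 1 := by rw [← hg]; exact (QuotientGroup.eq_one_iff g).2 h
      rw [h', orderOf_one] at hx
      omega
    have h := congrArg (Subgroup.map (QuotientGroup.mk' M)) (hco.2 _ hK)
    rw [map_comap_eq_self_of_surjective (QuotientGroup.mk'_surjective M),
      map_top_of_surjective _ (QuotientGroup.mk'_surjective M)] at h
    rw [index_eq_card, ← card_top, ← h, Nat.card_zpowers, hx]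
  haveI := normal_of_index_eq_two hM
  obtain ⟨s, hs⟩ : ∃ s, s ∉ M := by
    by_contra h
    push Not at h
    rw [(eq_top_iff.2 fun g _ => h g : M = ⊤), index_top] at hM
    omega
  have hext : ∀ a : G, (∀ m ∈ M, m * a = a * m) → s * a * s⁻¹ = a → ∀ g, g * a = a * g := by
    intro a ha hsa g
    by_cases hg : g ∈ M
    · exact ha g hg
    have hgs : g * s⁻¹ ∈ M := (mul_mem_iff_of_index_two hM).2 (iff_of_false hg (fun h => hs (inv_mem_iff.1 h)))
    calc g * a = g * s⁻¹ * (s * a * s⁻¹) * s := by group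
      _ = (g * s⁻¹ * a) * s := by rw [hsa]
      _ = (a * (g * s⁻¹)) * s := by rw [ha _ hgs]
      _ = a * g := by group
  have hconjM : ∀ a : G, (∀ m ∈ M, m * a = a * m) → ∀ m ∈ M, m * (s * a * s⁻¹) = s * a * s⁻¹ * m := by
    intro a ha m hm
    have h := ha _ (by simpa using (inferInstance : M.Normal).conj_mem m hm s⁻¹ : s⁻¹ * m * s ∈ M)
    calc m * (s * a * s⁻¹) = s * (s⁻¹ * m * s * a) * s⁻¹ := by group
      _ = s * (a * (s⁻¹ * m * s)) * s⁻¹ := by rw [h]
      _ = _ := by group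
  obtain ⟨z₀, u₀, hz02, hz01, hz0c, hu02, hu01, hu0z, hu0R⟩ := ih (Nat.card M) (by
    have := M.card_mul_index
    rw [hM] at this
    have := Nat.card_pos (α := M)
    omega) M rfl (hG.to_subgroup M) (E.subgroupOf M)
    ((Nat.card_congr (subgroupOfEquivOfLe hEM).toEquiv).trans hE8)
    (fun e he => Subtype.ext (hE2 e he))
  have hzM : ∀ m ∈ M, m * (z₀ : G) = z₀ * m := fun m hm => congrArg Subtype.val (hz0c ⟨m, hm⟩)
  have hz₂ : (z₀ : G) * z₀ = 1 := congrArg Subtype.val hz02
  have hu₂ : (u₀ : G) * u₀ = 1 := congrArg Subtype.val hu02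
  have hz₁ : (z₀ : G) ≠ 1 := fun h => hz01 (Subtype.ext h)
  have hu₁ : (u₀ : G) ≠ 1 := fun h => hu01 (Subtype.ext h)
  -- a central involution of `G` in the centre of `M`, and whether there is a second one there
  by_cases hA : ∃ y ∈ M, y * y = 1 ∧ y ≠ 1 ∧ y ≠ z₀ ∧ ∀ m ∈ M, m * y = y * m
  · have hfix : ∀ a : G, a ∈ M → a * a = 1 → (∀ m ∈ M, m * a = a * m) →
        s * (a * (s * a * s⁻¹)) * s⁻¹ = a * (s * a * s⁻¹) ∧
        (a * (s * a * s⁻¹)) * (a * (s * a * s⁻¹)) = 1 ∧
        ∀ m ∈ M, m * (a * (s * a * s⁻¹)) = a * (s * a * s⁻¹) * m := by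
      intro a haM ha2 ha
      have hcv := hconjM a ha a haM
      have hv2 : s * a * s⁻¹ * (s * a * s⁻¹) = 1 := by rw [conj_mul, ha2]; group
      refine ⟨?_, ?_, fun m hm => ?_⟩
      · calc s * (a * (s * a * s⁻¹)) * s⁻¹ = s * a * s⁻¹ * (s * s * a * (s * s)⁻¹) := by group
          _ = s * a * s⁻¹ * a := by rw [ha _ (mul_self_mem_of_index_two hM s), mul_inv_cancel_right]
          _ = _ := hcv.symm
      · calc _ = a * (s * a * s⁻¹ * a) * (s * a * s⁻¹) := by group
          _ = a * (a * (s * a * s⁻¹)) * (s * a * s⁻¹) := by rw [hcv]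
          _ = 1 := by rw [← mul_assoc a a, ha2, one_mul, hv2]
      · rw [← mul_assoc, ha m hm, mul_assoc, hconjM a ha m hm, ← mul_assoc]
    obtain ⟨z, hzM', hz2, hz1, hzc⟩ : ∃ z ∈ M, z * z = 1 ∧ z ≠ 1 ∧ ∀ g, g * z = z * g := by
      by_cases hfz : s * (z₀ : G) * s⁻¹ = z₀
      · exact ⟨z₀, z₀.2, hz₂, hz₁, hext _ hzM hfz⟩
      · obtain ⟨h1, h2, h3⟩ := hfix z₀ z₀.2 hz₂ hzM
        refine ⟨_, mul_mem z₀.2 ((inferInstance : M.Normal).conj_mem _ z₀.2 s), h2, fun h => hfz ?_,
          hext _ h3 h1⟩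
        rw [← mul_left_cancel_iff (a := (z₀ : G)), h, hz₂]
    obtain ⟨w, hwM, hw2, hw1, hwz, hwc⟩ : ∃ w ∈ M, w * w = 1 ∧ w ≠ 1 ∧ w ≠ z ∧ ∀ m ∈ M, m * w = w * m := by
      obtain ⟨y, hyM, hy2, hy1, hyz, hyc⟩ := hA
      by_cases h : y = z
      · exact ⟨z₀, z₀.2, hz₂, hz₁, fun e => hyz (h.trans e.symm), hzM⟩
      · exact ⟨y, hyM, hy2, hy1, h, hyc⟩
    exact pair_of_commute hM hz2 hz1 hzc hs hw2 hw1 hwz
      (fun m hm => Or.inl (by rw [hwc m hm, mul_inv_cancel_right])) (hconjM w hwc w hwM)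
  push Not at hA
  have huniq : ∀ y ∈ M, y * y = 1 → y ≠ 1 → (∀ m ∈ M, m * y = y * m) → y = z₀ := by
    intro y hy h2 h1 hc
    by_contra h
    obtain ⟨m, hm, hne⟩ := hA y hy h2 h1 h
    exact hne (hc m hm)
  obtain ⟨z, hz⟩ : ∃ z, (z₀ : G) = z := ⟨_, rfl⟩
  rw [hz] at hzM hz₂ hz₁ huniq
  have hzc : ∀ g, g * z = z * g := hext z hzM (huniq _ ((inferInstance : M.Normal).conj_mem _ (hz ▸ z₀.2) s)
    (by rw [conj_mul, hz₂]; group) (fun h => hz₁ (conj_eq_one_iff.1 h)) (hconjM z hzM))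
  obtain ⟨u, hu⟩ : ∃ u, (u₀ : G) = u := ⟨_, rfl⟩
  rw [hu] at hu₂ hu₁
  have huM : u ∈ M := hu ▸ u₀.2
  have huz : u ≠ z := fun h => hu0z (Subtype.ext (by rw [hu, hz, h]))
  have huR : ∀ m ∈ M, m * u * m⁻¹ = u ∨ m * u * m⁻¹ = u * z := fun m hm => by
    rw [← hu, ← hz]
    exact (hu0R ⟨m, hm⟩).imp (congrArg Subtype.val) (congrArg Subtype.val)
  obtain ⟨v, hv⟩ : ∃ v, s * u * s⁻¹ = v := ⟨_, rfl⟩
  by_cases hcomm : u * v = v * u
  · exact pair_of_commute hM hz₂ hz₁ hzc hs hu₂ hu₁ huz huR (by rw [hv]; exact hcomm)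
  -- `u` and `v` generate a dihedral group of order 8
  have hvM : v ∈ M := hv ▸ (inferInstance : M.Normal).conj_mem _ huM s
  have hv2 : v * v = 1 := by rw [← hv, conj_mul, hu₂]; group
  have hvR : ∀ m ∈ M, m * v * m⁻¹ = v ∨ m * v * m⁻¹ = v * z := by
    intro m hm
    have hm' : s⁻¹ * m * s ∈ M := by simpa using (inferInstance : M.Normal).conj_mem m hm s⁻¹
    rw [show m * v * m⁻¹ = s * (s⁻¹ * m * s * u * (s⁻¹ * m * s)⁻¹) * s⁻¹ by rw [← hv]; group]
    rcases huR _ hm' with h | h <;> rw [h]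
    · exact Or.inl hv
    · rw [← conj_mul, hv, hzc s, mul_inv_cancel_right]; exact Or.inr rfl
  have hvu : v * u = u * v * z := by
    have h := (huR v hvM).resolve_left fun h => hcomm (mul_inv_eq_iff_eq_mul.1 h).symm
    rw [mul_inv_eq_iff_eq_mul.1 h, mul_assoc, ← hzc v, ← mul_assoc]
  have huv : u * v = v * u * z := by rw [hvu, mul_assoc, hz₂, mul_one]
  have hflip : ∀ {m x : G}, (m * x * m⁻¹ = x ∨ m * x * m⁻¹ = x * z) → m * x = x * m ∨ m * x = x * m * z := by
    intro m x h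
    rcases h with h | h
    · exact Or.inl (mul_inv_eq_iff_eq_mul.1 h)
    · exact Or.inr (by rw [mul_inv_eq_iff_eq_mul.1 h, mul_assoc, ← hzc m, ← mul_assoc])
  set C := M ⊓ centralizer ({u} : Set G) ⊓ centralizer ({v} : Set G)
  have hCmem : ∀ {c}, c ∈ C ↔ c ∈ M ∧ c * u = u * c ∧ c * v = v * c := by
    intro c
    simp only [C, mem_inf, mem_centralizer_singleton_iff, and_assoc]
  have hdec : ∀ m ∈ M, ∃ w ∈ ({1, u, v, v * u} : Set G), m * w ∈ C := by
    intro m hm
    rcases hflip (huR m hm) with h1 | h1 <;> rcases hflip (hvR m hm) with h2 | h2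
    · exact ⟨1, by simp, hCmem.2 ⟨by simpa using hm, by simpa using h1, by simpa using h2⟩⟩
    · refine ⟨u, by simp, hCmem.2 ⟨mul_mem hm huM, ?_, ?_⟩⟩
      · rw [← mul_assoc u m u, ← h1]
      · calc m * u * v = m * (u * v) := mul_assoc _ _ _
          _ = (m * v) * u * z := by rw [huv]; group
          _ = v * m * (z * u) * z := by rw [h2]; group
          _ = v * m * u * (z * z) := by rw [← hzc u]; group
          _ = v * (m * u) := by rw [hz₂, mul_one, mul_assoc]
    · refine ⟨v, by simp, hCmem.2 ⟨mul_mem hm hvM, ?_, ?_⟩⟩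
      · calc m * v * u = m * (v * u) := mul_assoc _ _ _
          _ = (m * u) * v * z := by rw [hvu]; group
          _ = u * m * (z * v) * z := by rw [h1]; group
          _ = u * m * v * (z * z) := by rw [← hzc v]; group
          _ = u * (m * v) := by rw [hz₂, mul_one, mul_assoc]
      · rw [← mul_assoc v m v, ← h2]
    · refine ⟨v * u, by simp, hCmem.2 ⟨mul_mem hm (mul_mem hvM huM), ?_, ?_⟩⟩
      · have h3 : u * (m * (v * u)) = m * (v * u) * u := by
          have e : m * u * z = u * m := by rw [h1, mul_assoc, hz₂, mul_one]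
          calc u * (m * (v * u)) = (u * m) * (v * u) := by group
            _ = m * u * (z * v) * u := by rw [← e]; group
            _ = m * (u * v * z) * u := by rw [← hzc v]; group
            _ = m * (v * u) * u := by rw [← hvu]
        exact h3.symm
      · calc m * (v * u) * v = m * v * (u * v) := by group
          _ = v * m * z * (v * u * z) := by rw [h2, huv]
          _ = v * m * (z * (v * u)) * z := by group
          _ = v * m * (v * u) * (z * z) := by rw [← hzc]; group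
          _ = v * (m * (v * u)) := by rw [hz₂, mul_one, mul_assoc]
  have hzC : z ∈ C := hCmem.2 ⟨hz ▸ z₀.2, (hzc u).symm, (hzc v).symm⟩
  -- some element of `C` outside `⟨z⟩` is central modulo `z` with square in `⟨z⟩`
  obtain ⟨n, hnC, hn1, hnz, hn2, hnR⟩ : ∃ n ∈ C, n ≠ 1 ∧ n ≠ z ∧ (n * n = 1 ∨ n * n = z) ∧
      ∀ c ∈ C, c * n = n * c ∨ c * n = n * c * z := by
    set zC : C := ⟨z, hzC⟩
    haveI : (zpowers zC).Normal := ⟨fun a ha g => by
      obtain ⟨i, rfl⟩ := mem_zpowers_iff.1 ha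
      have : Commute g zC := Subtype.ext (hzc g)
      rw [(this.zpow_right i).eq, mul_inv_cancel_right]
      exact zpow_mem (mem_zpowers zC) i⟩
    have hzp : ∀ c : C, c ∈ zpowers zC → (c : G) = 1 ∨ (c : G) = z := by
      intro c hc
      obtain ⟨i, rfl⟩ := mem_zpowers_iff.1 hc
      rw [Subgroup.coe_zpow]
      rcases Int.even_or_odd i with ⟨j, rfl⟩ | ⟨j, rfl⟩
      · left
        rw [← two_mul, zpow_mul, show z ^ (2 : ℤ) = 1 by rw [zpow_two]; exact hz₂, one_zpow]
      · right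
        rw [zpow_add, zpow_mul, show z ^ (2 : ℤ) = 1 by rw [zpow_two]; exact hz₂, one_zpow, one_mul, zpow_one]
    haveI : Fact (Nat.Prime 2) := ⟨Nat.prime_two⟩
    have hQ : IsPGroup 2 (C ⧸ zpowers zC) := (hG.to_subgroup C).to_quotient _
    haveI : Nontrivial (C ⧸ zpowers zC) := by
      refine QuotientGroup.nontrivial_iff.2 fun htop' => ?_
      -- otherwise `M` has order 8 and contains `E`, so it is commutative
      have hsmall : ∀ m ∈ M, ∃ w ∈ ({1, u, v, v * u} : Set G), m * w = 1 ∨ m * w = z := by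
        intro m hm
        obtain ⟨w, hw, hwC⟩ := hdec m hm
        exact ⟨w, hw, hzp ⟨_, hwC⟩ (htop' ▸ mem_top _)⟩
      have hMcard : Nat.card M ≤ 8 := by
        have hsurj : Function.Surjective (fun i : Fin 2 × Fin 4 =>
            (⟨(if i.1 = 0 then 1 else z) * (![1, u, v, v * u] i.2)⁻¹, by
              refine mul_mem ?_ (inv_mem ?_)
              · split_ifs <;> [exact one_mem M; exact hz ▸ z₀.2]
              · obtain ⟨i1, i2⟩ := i
                fin_cases i2 <;> simp [huM, hvM, mul_mem]⟩ : M)) := by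
          rintro ⟨m, hm⟩
          obtain ⟨w, hw, h⟩ := hsmall m hm
          obtain ⟨j, rfl⟩ : ∃ j : Fin 4, ![1, u, v, v * u] j = w := by
            rcases hw with rfl | rfl | rfl | rfl
            exacts [⟨0, rfl⟩, ⟨1, rfl⟩, ⟨2, rfl⟩, ⟨3, rfl⟩]
          rcases h with h | h
          · exact ⟨(0, j), Subtype.ext (by simp [eq_mul_inv_of_mul_eq h])⟩
          · exact ⟨(1, j), Subtype.ext (by simp [eq_mul_inv_of_mul_eq h])⟩
        simpa using Nat.card_le_card_of_surjective _ hsurj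
      have hEM' : E = M := Subgroup.eq_of_le_of_card_ge hEM (hE8.symm ▸ hMcard)
      subst hEM'
      refine hcomm ?_
      have h := hE2 _ (mul_mem huM hvM)
      rw [← inv_eq_iff_mul_eq_one, mul_inv_rev, inv_eq_of_mul_eq_one_right hu₂,
        inv_eq_of_mul_eq_one_right hv2] at h
      exact h.symm
    haveI := hQ.center_nontrivial
    obtain ⟨k, hk⟩ := IsPGroup.iff_card.1 (hQ.to_subgroup (center (C ⧸ zpowers zC)))
    obtain ⟨x, hx⟩ := exists_prime_orderOf_dvd_card' (G := center (C ⧸ zpowers zC)) 2 (by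
      rw [hk]
      rcases k with _ | k
      · exact absurd (Finite.one_lt_card (α := center (C ⧸ zpowers zC))) (by rw [hk]; simp)
      · exact dvd_pow_self 2 k.succ_ne_zero)
    obtain ⟨c, hc⟩ := QuotientGroup.mk'_surjective (zpowers zC) x.1
    have hcne : c ∉ zpowers zC := fun h => by
      have h1 : x = 1 := Subtype.ext (hc ▸ (QuotientGroup.eq_one_iff c).2 h)
      rw [h1, orderOf_one] at hx; omega
    refine ⟨c, c.2, fun h => hcne (by rw [show c = 1 from Subtype.ext h]; exact one_mem _),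
      fun h => hcne (by rw [show c = zC from Subtype.ext h]; exact mem_zpowers _), ?_, fun b hb => ?_⟩
    · refine hzp (c * c) ((QuotientGroup.eq_one_iff _).1 ?_)
      show QuotientGroup.mk' (zpowers zC) (c * c) = 1
      rw [map_mul, hc, ← Subgroup.coe_mul, ← sq, ← hx, pow_orderOf_eq_one]; rfl
    · have h1 : (c⁻¹ * ⟨b, hb⟩⁻¹ * c * ⟨b, hb⟩ : C) ∈ zpowers zC := by
        refine (QuotientGroup.eq_one_iff _).1 ?_
        show QuotientGroup.mk' (zpowers zC) _ = 1
        simp only [map_mul, map_inv, hc]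
        rw [mul_assoc, ← mem_center_iff.1 x.2 _]
        group
      rcases hzp _ h1 with h | h
      · left
        simp only [Subgroup.coe_mul, Subgroup.coe_inv] at h
        calc b * (c : G) = b * c * ((c : G)⁻¹ * b⁻¹ * c * b) := by rw [h, mul_one]
          _ = c * b := by group
      · right
        simp only [Subgroup.coe_mul, Subgroup.coe_inv] at h
        have e : (c : G) * b = b * c * z := by rw [← h]; group
        rw [e, mul_assoc, hz₂, mul_one]
  obtain ⟨hnM, hnu, hnv⟩ := hCmem.1 hnC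
  obtain ⟨n', hn'⟩ : ∃ n', s * n * s⁻¹ = n' := ⟨_, rfl⟩
  have hn'M : n' ∈ M := hn' ▸ (inferInstance : M.Normal).conj_mem _ hnM s
  -- `M`-conjugates of `n` differ by `z`
  have hnRM : ∀ m ∈ M, m * n * m⁻¹ = n ∨ m * n * m⁻¹ = n * z := by
    intro m hm
    obtain ⟨w, hw, hwC⟩ := hdec m hm
    have hwn : w * n = n * w := by
      rcases hw with rfl | rfl | rfl | rfl
      · simp
      · exact hnu.symm
      · exact hnv.symm
      · rw [mul_assoc, ← hnu, ← mul_assoc, ← hnv, mul_assoc]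
    have hmn : m * n * m⁻¹ = m * w * n * (m * w)⁻¹ := by
      rw [mul_assoc m w n, hwn]; group
    rw [hmn]
    rcases hnR _ hwC with h | h
    · exact Or.inl (by rw [h, mul_inv_cancel_right])
    · exact Or.inr (by rw [h, mul_assoc n, ← mul_assoc, mul_assoc (n * (m * w)), ← hzc]; group)
  have hconj : ∀ {a b : G}, (∀ m ∈ M, m * a * m⁻¹ = a ∨ m * a * m⁻¹ = a * z) →
      (∀ m ∈ M, m * b * m⁻¹ = b ∨ m * b * m⁻¹ = b * z) →
      ∀ m ∈ M, m * (a * b) * m⁻¹ = a * b ∨ m * (a * b) * m⁻¹ = a * b * z := by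
    intro a b ha hb m hm
    rw [← conj_mul]
    rcases ha m hm with h | h <;> rcases hb m hm with h' | h' <;> rw [h, h']
    · exact Or.inl rfl
    · exact Or.inr (mul_assoc _ _ _).symm
    · exact Or.inr (by rw [mul_assoc, ← hzc b, ← mul_assoc])
    · exact Or.inl (by rw [show a * z * (b * z) = a * (z * b) * z by group, ← hzc b,
        show a * (b * z) * z = a * b * (z * z) by group, hz₂, mul_one])
  have hsC : ∀ c ∈ C, s * c * s⁻¹ ∈ C := by
    intro c hc
    obtain ⟨hcM, hcu, hcv⟩ := hCmem.1 hc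
    have h2 : s⁻¹ * u * s = v ∨ s⁻¹ * u * s = v * z := by
      have hsM := mul_self_mem_of_index_two hM s
      rw [show s⁻¹ * u * s = s * ((s * s)⁻¹ * u * (s * s)⁻¹⁻¹) * s⁻¹ by group]
      rcases huR _ (inv_mem hsM) with h | h <;> rw [h]
      · exact Or.inl hv
      · rw [← conj_mul, hv, hzc s, mul_inv_cancel_right]; exact Or.inr rfl
    refine hCmem.2 ⟨(inferInstance : M.Normal).conj_mem _ hcM s, ?_, ?_⟩
    · have hc' : c * (s⁻¹ * u * s) = s⁻¹ * u * s * c := by
        rcases h2 with h | h <;> rw [h]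
        · exact hcv
        · rw [← mul_assoc, hcv, mul_assoc, hzc c, ← mul_assoc]
      calc s * c * s⁻¹ * u = s * (c * (s⁻¹ * u * s)) * s⁻¹ := by group
        _ = s * (s⁻¹ * u * s * c) * s⁻¹ := by rw [hc']
        _ = _ := by group
    · calc s * c * s⁻¹ * v = s * (c * u) * s⁻¹ := by rw [← hv]; group
        _ = s * (u * c) * s⁻¹ := by rw [hcu]
        _ = _ := by rw [← hv]; group
  obtain ⟨-, hn'u, hn'v⟩ := hCmem.1 (hn' ▸ hsC n hnC : n' ∈ C)
  have hsu : ∀ {d d' : G}, s * d * s⁻¹ = d' → d * d' = d' * d → d * (s * d * s⁻¹) = s * d * s⁻¹ * d :=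
    fun h h' => by rw [h]; exact h'
  -- elements outside `C`
  have huC : u ∉ C := fun h => hcomm ((hCmem.1 h).2.2)
  rcases hn2 with hn2 | hn2
  · by_cases hnn : n * n' = n' * n
    · exact pair_of_commute hM hz₂ hz₁ hzc hs hn2 hn1 hnz hnRM (hsu hn' hnn)
    · have hnn' : n' * n = n * n' * z := by
        rcases hnR n' (hn' ▸ hsC n hnC) with h | h
        · exact absurd h.symm hnn
        · exact h
      refine pair_of_commute hM hz₂ hz₁ hzc hs (d := u * n) ?_ (fun h => huC ?_) (fun h => huC ?_)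
        (hconj huR hnRM) (hsu (d' := v * n') (by rw [← conj_mul, hv, hn']) ?_)
      · rw [show u * n * (u * n) = u * (n * u) * n by group, hnu, ← mul_assoc u u n, hu₂, one_mul, hn2]
      · rw [eq_inv_of_mul_eq_one_left h]; exact inv_mem hnC
      · rw [eq_mul_inv_of_mul_eq h]; exact mul_mem hzC (inv_mem hnC)
      · calc u * n * (v * n') = u * (n * v) * n' := by group
          _ = (u * v) * (n * n') := by rw [hnv]; group
          _ = v * u * (z * (n * n')) := by rw [huv]; group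
          _ = v * u * (n * n' * z) := by rw [← hzc]
          _ = v * (u * n') * n := by rw [← hnn']; group
          _ = v * n' * (u * n) := by rw [← hn'u]; group
  · -- `n` has order 4
    have ha2 : u * v * (u * v) = z := by
      rw [show u * v * (u * v) = u * (v * u) * v by group, hvu,
        show u * (u * v * z) * v = (u * u) * v * (z * v) by group, hu₂, one_mul, ← hzc v, ← mul_assoc,
        hv2, one_mul]
    have haC : u * v ∉ C := fun h => by
      obtain ⟨-, h1, -⟩ := hCmem.1 h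
      refine hcomm ?_
      calc u * v = u * v * (u * u) := by rw [hu₂, mul_one]
        _ = (u * v * u) * u := by group
        _ = u * (u * v) * u := by rw [h1]
        _ = v * u := by rw [← mul_assoc u u v, hu₂, one_mul]
    have haR := hconj huR hvR
    have hsa : ∃ e, (e = 1 ∨ e = z) ∧ s * (u * v) * s⁻¹ = v * u * e := by
      rw [← conj_mul, hv, ← hv, show s * (s * u * s⁻¹) * s⁻¹ = s * s * u * (s * s)⁻¹ by group]
      rcases huR _ (mul_self_mem_of_index_two hM s) with h | h <;> rw [h]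
      · exact ⟨1, Or.inl rfl, by rw [mul_one]⟩
      · exact ⟨z, Or.inr rfl, by group⟩
    obtain ⟨e, he, hsa⟩ := hsa
    have hec : ∀ g, g * e = e * g := by
      rcases he with rfl | rfl
      · simp
      · exact hzc
    -- a candidate commuting with `n` and `n'`
    have hfin : ∀ x ∈ C, x * x = z → (∀ m ∈ M, m * x * m⁻¹ = x ∨ m * x * m⁻¹ = x * z) →
        x * (s * x * s⁻¹) = s * x * s⁻¹ * x → ∃ z u : G, IsPair z u := by
      intro x hxC hx2 hxR hxc
      obtain ⟨-, hxu, hxv⟩ := hCmem.1 hxC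
      have hcx : ∀ c ∈ C, Commute c (u * v) := fun c hc =>
        Commute.mul_right (hCmem.1 hc).2.1 (hCmem.1 hc).2.2
      obtain ⟨y, hy⟩ : ∃ y, s * x * s⁻¹ = y := ⟨_, rfl⟩
      have hyC : y ∈ C := hy ▸ hsC x hxC
      rw [hy] at hxc
      refine pair_of_commute hM hz₂ hz₁ hzc hs (d := u * v * x) ?_ (fun h => haC ?_) (fun h => haC ?_)
        (hconj haR hxR) ?_
      · rw [show u * v * x * (u * v * x) = u * v * (x * (u * v)) * x by group, (hcx x hxC).eq,
          show u * v * (u * v * x) * x = u * v * (u * v) * (x * x) by group, ha2, hx2, hz₂]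
      · rw [eq_inv_of_mul_eq_one_left h]; exact inv_mem hxC
      · rw [eq_mul_inv_of_mul_eq h]; exact mul_mem hzC (inv_mem hxC)
      · rw [← conj_mul (b := s) (a := u * v) (c := x), hsa, hy]
        have c1 : Commute (u * v) (v * u * e) := by
          rw [hvu]
          exact ((Commute.refl _).mul_right (hzc _)).mul_right (hec _)
        have c2 : Commute x (v * u * e) := (Commute.mul_right hxv hxu).mul_right (hec x)
        have c3 : Commute (u * v) y := (hcx y hyC).symm
        exact ((c1.mul_left c2).mul_right (c3.mul_left hxc)).eq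
    by_cases hnn : n * n' = n' * n
    · exact hfin n hnC hn2 hnRM (hsu hn' hnn)
    · have hnn' : n' * n = n * n' * z := by
        rcases hnR n' (hn' ▸ hsC n hnC) with h | h
        · exact absurd h.symm hnn
        · exact h
      have hn'2 : n' * n' = z := by
        rw [← hn', conj_mul, hn2, hzc s, mul_inv_cancel_right]
      have hn'R : ∀ m ∈ M, m * n' * m⁻¹ = n' ∨ m * n' * m⁻¹ = n' * z := by
        intro m hm
        have hm' : s⁻¹ * m * s ∈ M := by simpa using (inferInstance : M.Normal).conj_mem m hm s⁻¹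
        rw [show m * n' * m⁻¹ = s * (s⁻¹ * m * s * n * (s⁻¹ * m * s)⁻¹) * s⁻¹ by rw [← hn']; group]
        rcases hnRM _ hm' with h | h <;> rw [h]
        · exact Or.inl hn'
        · rw [← conj_mul, hn', hzc s, mul_inv_cancel_right]; exact Or.inr rfl
      refine hfin (n * n') (mul_mem hnC (hn' ▸ hsC n hnC)) ?_ (hconj hnRM hn'R) ?_
      · rw [show n * n' * (n * n') = n * (n' * n) * n' by group, hnn',
          show n * (n * n' * z) * n' = (n * n) * n' * (z * n') by group, hn2, ← hzc n',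
          show n' * z * (n' * z) = n' * (z * n') * z by group, ← hzc n', ← mul_assoc n' n' z, hn'2, hz₂, one_mul]
      · have e2 : s * (n * n') * s⁻¹ = n' * n ∨ s * (n * n') * s⁻¹ = n' * (n * z) := by
          rw [← conj_mul, hn', ← hn', show s * (s * n * s⁻¹) * s⁻¹ = s * s * n * (s * s)⁻¹ by group]
          rcases hnRM _ (mul_self_mem_of_index_two hM s) with h | h <;> rw [h]
          · exact Or.inl rfl
          · exact Or.inr rfl
        have c : Commute (n * n') (n' * n) := by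
          rw [hnn']; exact (Commute.refl _).mul_right (hzc _)
        rcases e2 with h | h <;> rw [h]
        · exact c.eq
        · rw [← mul_assoc n' n z]; exact (c.mul_right (hzc _)).eq

/-- Adjoining a commuting involution to an elementary abelian 2-group. -/
theorem exists_adjoin {G : Type*} [Group G] [Finite G] (K : Subgroup G) (hK : ∀ k ∈ K, k * k = 1)
    {f : G} (hf : f * f = 1) (hfK : ∀ k ∈ K, Commute f k) (hfn : f ∉ K) :
    ∃ L : Subgroup G, Nat.card L = 2 * Nat.card K ∧ (∀ l ∈ L, l * l = 1) ∧ f ∈ L ∧ K ≤ L ∧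
      ∀ g : G, (∀ k ∈ K, Commute g k) → Commute g f → ∀ l ∈ L, Commute g l := by
  classical
  let L : Subgroup G :=
    { carrier := {g | g ∈ K ∨ ∃ k ∈ K, g = f * k}
      one_mem' := Or.inl K.one_mem
      mul_mem' := by
        rintro a b (ha | ⟨k, hk, rfl⟩) (hb | ⟨l, hl, rfl⟩)
        · exact Or.inl (mul_mem ha hb)
        · exact Or.inr ⟨a * l, mul_mem ha hl, by rw [← mul_assoc, ← (hfK a ha).eq, mul_assoc]⟩
        · exact Or.inr ⟨k * b, mul_mem hk hb, mul_assoc _ _ _⟩
        · refine Or.inl ?_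
          rw [show f * k * (f * l) = f * (k * f) * l by group, ← (hfK k hk).eq, ← mul_assoc f f k, hf,
            one_mul]
          exact mul_mem hk hl
      inv_mem' := by
        rintro a (ha | ⟨k, hk, rfl⟩)
        · exact Or.inl (inv_mem ha)
        · exact Or.inr ⟨k⁻¹, inv_mem hk, by rw [mul_inv_rev, inv_eq_of_mul_eq_one_right hf, (hfK _ (inv_mem hk)).eq]⟩ }
  have hL : ∀ l : L, l.1 ∈ K ∨ ∃ k ∈ K, l.1 = f * k := fun l => l.2
  refine ⟨L, ?_, ?_, Or.inr ⟨1, K.one_mem, (mul_one f).symm⟩, fun k hk => Or.inl hk, ?_⟩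
  · rw [two_mul, ← Nat.card_sum]
    symm
    refine Nat.card_congr (Equiv.ofBijective
      (Sum.elim (fun k => (⟨k.1, Or.inl k.2⟩ : L)) (fun k => ⟨f * k.1, Or.inr ⟨k.1, k.2, rfl⟩⟩)) ⟨?_, ?_⟩)
    · rintro (a | a) (b | b) h
      · exact congrArg Sum.inl (Subtype.ext (congrArg Subtype.val h :))
      · have e : (a : G) = f * b := congrArg Subtype.val h
        exact absurd (by rw [eq_mul_inv_of_mul_eq e.symm]; exact mul_mem a.2 (inv_mem b.2)) hfn
      · have e : f * (a : G) = b := congrArg Subtype.val h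
        exact absurd (by rw [eq_mul_inv_of_mul_eq e]; exact mul_mem b.2 (inv_mem a.2)) hfn
      · exact congrArg Sum.inr (Subtype.ext (mul_left_cancel (congrArg Subtype.val h :)))
    · rintro ⟨l, hl | ⟨k, hk, rfl⟩⟩
      · exact ⟨Sum.inl ⟨l, hl⟩, rfl⟩
      · exact ⟨Sum.inr ⟨k, hk⟩, rfl⟩
  · rintro l (hl | ⟨k, hk, rfl⟩)
    · exact hK l hl
    · rw [show f * k * (f * k) = f * (k * f) * k by group, ← (hfK k hk).eq, ← mul_assoc f f k, hf,
        one_mul, hK k hk]
  · rintro g hg hgf l (hl | ⟨k, hk, rfl⟩)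
    · exact hg l hl
    · exact hgf.mul_right (hg k hk)

/-- If `G` has no subgroup of index 2 and 2-rank at least 3, every involution centralizes an
elementary abelian subgroup of order 8. -/
theorem exists_eight_le_centralizer {G : Type*} [Group G] [Finite G]
    (hno : ∀ H : Subgroup G, H.index ≠ 2)
    (hrank : ∃ E : Subgroup G, Nat.card E = 8 ∧ ∀ e ∈ E, e ^ 2 = 1) {x : G} (hx : orderOf x = 2) :
    ∃ E : Subgroup G, E ≤ centralizer ({x} : Set G) ∧ Nat.card E = 8 ∧ ∀ e ∈ E, e ^ 2 = 1 := by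
  classical
  haveI : Fact (Nat.Prime 2) := ⟨Nat.prime_two⟩
  obtain ⟨E, hE8, hE2⟩ := hrank
  replace hE2 : ∀ e ∈ E, e * e = 1 := fun e he => by rw [← sq]; exact hE2 e he
  obtain ⟨P, hEP⟩ := (IsPGroup.of_card (n := 3) hE8 : IsPGroup 2 E).exists_le_sylow
  obtain ⟨z', u', hz2', hz1', hzc', hu2', hu1', huz', huR'⟩ := exists_pair _ (P : Subgroup G) rfl P.2
    (E.subgroupOf P) ((Nat.card_congr (subgroupOfEquivOfLe hEP).toEquiv).trans hE8)
    (fun e he => Subtype.ext (hE2 e he))
  obtain ⟨z, hz⟩ : ∃ z, (z' : G) = z := ⟨_, rfl⟩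
  obtain ⟨u, hu⟩ : ∃ u, (u' : G) = u := ⟨_, rfl⟩
  have hz2 : z * z = 1 := hz ▸ congrArg Subtype.val hz2'
  have hu2 : u * u = 1 := hu ▸ congrArg Subtype.val hu2'
  have hz1 : z ≠ 1 := fun h => hz1' (Subtype.ext (hz.trans h))
  have huz : u ≠ z := fun h => huz' (Subtype.ext (by rw [hu, hz, h]))
  have hu1 : u ≠ 1 := fun h => hu1' (Subtype.ext (hu.trans h))
  have hzP : ∀ g ∈ (P : Subgroup G), Commute g z := fun g hg =>
    hz ▸ congrArg Subtype.val (hzc' ⟨g, hg⟩)
  have huR : ∀ g ∈ (P : Subgroup G), g * u * g⁻¹ = u ∨ g * u * g⁻¹ = u * z := fun g hg => by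
    rw [← hu, ← hz]
    exact (huR' ⟨g, hg⟩).imp (congrArg Subtype.val) (congrArg Subtype.val)
  set Q := (P : Subgroup G) ⊓ centralizer ({u} : Set G) with hQ
  have hQP : Q ≤ (P : Subgroup G) := inf_le_left
  have hQi : Q = (P : Subgroup G) ∨ Q.relIndex (P : Subgroup G) = 2 := by
    refine or_iff_not_imp_left.2 fun hne => ?_
    obtain ⟨s, hs, hsQ⟩ := SetLike.exists_of_lt (lt_of_le_of_ne hQP hne)
    rw [relIndex, index_eq_two_iff]
    refine ⟨⟨s, hs⟩, fun ⟨b, hb⟩ => ?_⟩
    have hmem : ∀ c : G, c ∈ (P : Subgroup G) → (c ∈ Q ↔ c * u * c⁻¹ = u) := fun c hc => by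
      rw [hQ, mem_inf, mem_centralizer_singleton_iff, mul_inv_eq_iff_eq_mul, and_iff_right hc]
    simp only [mem_subgroupOf, Subgroup.coe_mul, hmem _ (mul_mem hb hs), hmem _ hb]
    have hsu : s * u * s⁻¹ = u * z := (huR s hs).resolve_left fun h => hsQ ((hmem s hs).2 h)
    have e : b * s * u * (b * s)⁻¹ = b * u * b⁻¹ * z := by
      calc b * s * u * (b * s)⁻¹ = b * (s * u * s⁻¹) * b⁻¹ := by group
        _ = b * u * (z * b⁻¹) := by rw [hsu]; group
        _ = b * u * (b⁻¹ * z) := by rw [(hzP _ (inv_mem hb)).eq]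
        _ = _ := by group
    show Xor (b * s * u * (b * s)⁻¹ = u) (b * u * b⁻¹ = u)
    rw [e]
    rcases huR b hb with h | h <;> rw [h]
    · exact Or.inr ⟨rfl, fun h' => hz1 (mul_eq_left.1 h')⟩
    · exact Or.inl ⟨by rw [mul_assoc, hz2, mul_one], fun h' => hz1 (mul_eq_left.1 h')⟩
  -- `x` is conjugate into `Q`
  obtain ⟨g, hg⟩ : ∃ g : G, g * x * g⁻¹ ∈ Q := by
    obtain ⟨R, hR⟩ := (IsPGroup.of_card (n := 1) (by rw [Nat.card_zpowers, hx, pow_one]) :
      IsPGroup 2 (zpowers x)).exists_le_sylow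
    obtain ⟨a, ha⟩ := MulAction.exists_smul_eq G R P
    have hxa : a * x * a⁻¹ ∈ (P : Subgroup G) := by
      rw [← ha]
      exact smul_mem_pointwise_smul x (MulAut.conj a) (R : Subgroup G) (hR (mem_zpowers x))
    rcases hQi with hQe | hQ2
    · exact ⟨a, hQe ▸ hxa⟩
    have hodd : Odd (P : Subgroup G).index := Nat.not_even_iff_odd.1 fun h => P.not_dvd_index h.two_dvd
    rcases ThompsonTransfer.thompson_transfer (P : Subgroup G) Q hodd hQ2 (u := a * x * a⁻¹) (by
        rw [conj_mul, ← sq, ← hx, pow_orderOf_eq_one]; group) with ⟨M, -, hM, -⟩ | ⟨b, hb⟩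
    · exact absurd hM (hno M)
    · exact ⟨b * a, by rwa [show b * a * x * (b * a)⁻¹ = b * (a * x * a⁻¹) * b⁻¹ by group]⟩
  obtain ⟨x', hx'⟩ : ∃ x', g * x * g⁻¹ = x' := ⟨_, rfl⟩
  rw [hx'] at hg
  have hx'P : x' ∈ (P : Subgroup G) := hg.1
  have hx'u : Commute x' u := mem_centralizer_singleton_iff.1 hg.2
  have huzc : Commute z u := (hzP u (hu ▸ u'.2)).symm
  -- the four-group
  obtain ⟨Z, hZc, hZ2, hzZ, -, hZcomm⟩ := exists_adjoin (⊥ : Subgroup G) (fun k hk => by simp [mem_bot.1 hk])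
    hz2 (fun k hk => by simp [mem_bot.1 hk]) (by simpa using hz1)
  rw [card_bot, mul_one] at hZc
  have huZ : u ∉ Z := by
    intro h
    haveI : Fact (Nat.Prime 2) := ⟨Nat.prime_two⟩
    obtain ⟨w, -, hw⟩ := (Nat.card_eq_two_iff' (1 : Z)).1 hZc
    exact huz (congrArg Subtype.val ((hw ⟨u, h⟩ fun e => hu1 (congrArg Subtype.val e)).trans
      (hw ⟨z, hzZ⟩ fun e => hz1 (congrArg Subtype.val e)).symm))
  obtain ⟨U, hUc, hU2, huU, hZU, hUcomm⟩ := exists_adjoin Z hZ2 hu2
    (hZcomm u (fun k hk => by simp [mem_bot.1 hk]) huzc.symm) huZ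
  rw [hZc] at hUc
  have hcU : ∀ c ∈ Q, ∀ l ∈ U, Commute c l := fun c hc =>
    hUcomm c (hZcomm c (fun k hk => by simp [mem_bot.1 hk]) (hzP c hc.1)) (mem_centralizer_singleton_iff.1 hc.2)
  obtain ⟨f, hfQ, hf2, hfU, hxf⟩ : ∃ f ∈ Q, f * f = 1 ∧ f ∉ U ∧ Commute x' f := by
    by_cases hxU : x' ∈ U
    · by_contra hcon
      push Not at hcon
      have hle : E ⊓ Q ≤ U := fun e he => by
        by_contra heU
        exact hcon e he.2 (hE2 e he.1) heU (hcU e he.2 x' hxU).symm
      have hmul := relIndex_mul_relIndex ⊥ (E ⊓ Q) E bot_le inf_le_left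
      rw [relIndex_bot_left, relIndex_bot_left, hE8, inf_relIndex_left] at hmul
      have hd : Q.relIndex E ≤ 2 := by
        rcases hQi with hQe | hQ2
        · rw [hQe, relIndex_eq_one.2 hEP]; omega
        · rw [← hQ2]; exact relIndex_le_of_le_right hEP (by rw [hQ2]; norm_num)
      have h4 : Nat.card ↥(E ⊓ Q) ≤ 4 := (Subgroup.card_le_of_le hle).trans_eq (by rw [hUc])
      have h4' : Nat.card ↥(E ⊓ Q) = 4 := by nlinarith
      have hEU : E ⊓ Q = U := Subgroup.eq_of_le_of_card_ge hle (by rw [hUc, h4'])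
      have huE : u ∈ E := (hEU.ge huU).1
      have : E ≤ Q := fun e he => ⟨hEP he, mem_centralizer_singleton_iff.2 (by
        have h := hE2 (e * u) (mul_mem he huE)
        rw [← inv_eq_iff_mul_eq_one, mul_inv_rev, inv_eq_of_mul_eq_one_right (hE2 e he),
          inv_eq_of_mul_eq_one_right hu2] at h
        exact h.symm)⟩
      rw [inf_eq_left.2 this, hE8] at h4'
      omega
    · exact ⟨x', hg, by rw [← hx', conj_mul, ← sq, ← hx, pow_orderOf_eq_one]; group, hxU, Commute.refl x'⟩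
  obtain ⟨F, hFc, hF2, -, -, hFcomm⟩ := exists_adjoin U hU2 hf2 (hcU f hfQ) hfU
  rw [hUc] at hFc
  refine ⟨F.map (MulAut.conj g⁻¹).toMonoidHom, ?_, ?_, ?_⟩
  · rintro _ ⟨l, hl, rfl⟩
    rw [mem_centralizer_singleton_iff]
    have h := hFcomm x' (hcU x' hg) hxf l hl
    show g⁻¹ * l * g⁻¹⁻¹ * x = x * (g⁻¹ * l * g⁻¹⁻¹)
    calc g⁻¹ * l * g⁻¹⁻¹ * x = g⁻¹ * (l * (g * x * g⁻¹)) * g := by group
      _ = g⁻¹ * (g * x * g⁻¹ * l) * g := by rw [hx', h.eq]
      _ = _ := by group
  · rw [card_map_of_injective (f := (MulAut.conj g⁻¹).toMonoidHom) (MulAut.conj g⁻¹).injective, hFc]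
  · rintro _ ⟨l, hl, rfl⟩
    rw [← map_pow, sq, hF2 l hl, map_one]

end CfsgLib.NormalFourPair
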