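import Cfsg.Agent.Solvable.PGroupRank
import Cfsg.Agent.InvChar.UniqueInvolution
import Cfsg.Agent.Signalizer.Basic

/-!
A `p`-group of rank at least three has a normal elementary abelian subgroup of order `p ^ 2`, and a
criterion for being joined to it by commuting elementary abelian subgroups.
-/

set_option autoImplicit false
set_option linter.unusedSectionVars false
set_option linter.deprecated false
set_option linter.style.haveILetI false

namespace CfsgLib.NormalFour

open Subgroup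

variable {P : Type*} [Group P] [Finite P] {p : ℕ} [Fact p.Prime]

omit [Finite P] in
theorem of_gens {s : Set P} (hc : ∀ x ∈ s, ∀ y ∈ s, x * y = y * x) (hp : ∀ x ∈ s, x ^ p = 1) :
    Cfsg.IsElementaryAbelian p (closure s) := by
  haveI hcm := Subgroup.isMulCommutative_closure hc
  refine ⟨hcm, fun u hu => ?_⟩
  induction hu using closure_induction with
  | mem z hz => exact hp z hz
  | one => exact one_pow p
  | mul u v hu hv hu1 hv1 =>
    have hc' : Commute u v :=
      congrArg Subtype.val (hcm.is_comm.comm ⟨u, hu⟩ ⟨v, hv⟩)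
    rw [hc'.mul_pow, hu1, hv1, one_mul]
  | inv u _ hu1 => rw [inv_pow, hu1, inv_one]

theorem two_le_of_pair (hP : IsPGroup p P) {B : Subgroup P} {x y : P} (hx : x ∈ B) (hy : y ∈ B)
    (hx1 : orderOf x = p) (hy1 : y ∉ zpowers x) : p ^ 2 ≤ Nat.card B := by
  obtain ⟨k, hk⟩ := IsPGroup.iff_card.1 (hP.to_subgroup B)
  rw [hk]
  by_contra hlt
  push Not at hlt
  have h1 : k < 2 := (Nat.pow_lt_pow_iff_right (Fact.out : p.Prime).one_lt).1 hlt
  refine hy1 ?_
  rw [eq_of_le_of_card_ge (zpowers_le.2 hx) ?_]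
  · exact hy
  · rw [Nat.card_zpowers, hx1, hk]
    exact le_of_le_of_eq (Nat.pow_le_pow_right (Fact.out : p.Prime).pos (by omega)) (pow_one p)

/-- A normal abelian subgroup with two independent elements of order `p` gives a normal `E(p ^ 2)`. -/
theorem exists_of_abelian (hP : IsPGroup p P) {A : Subgroup P} [A.Normal]
    (hc : ∀ x ∈ A, ∀ y ∈ A, x * y = y * x) {x y : P} (hxA : x ∈ A) (hyA : y ∈ A)
    (hx : orderOf x = p) (hy : orderOf y = p) (hxy : y ∉ zpowers x) :
    ∃ U : Subgroup P, U.Normal ∧ Cfsg.IsElementaryAbelian p U ∧ Nat.card U = p ^ 2 := by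
  set s : Set P := {u | u ∈ A ∧ u ^ p = 1}
  have hE : Cfsg.IsElementaryAbelian p (closure s) :=
    of_gens (fun u hu v hv => hc u hu.1 v hv.1) fun u hu => hu.2
  haveI : (closure s).Normal := by
    rw [show s = Group.conjugatesOfSet s from (subset_antisymm Group.subset_conjugatesOfSet
      fun u hu => by
        obtain ⟨v, hv, hvu⟩ := Group.mem_conjugatesOfSet_iff.1 hu
        obtain ⟨c, rfl⟩ := isConj_iff.1 hvu
        exact ⟨(inferInstance : A.Normal).conj_mem v hv.1 c, by rw [conj_pow, hv.2]; group⟩)]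
    exact Subgroup.normalClosure_normal
  obtain ⟨k, hk⟩ := IsPGroup.iff_card.1 (hP.to_subgroup (closure s))
  have h2 : 2 ≤ k := by
    have hm : ∀ u ∈ A, orderOf u = p → u ∈ closure s := fun u hu ho =>
      subset_closure ⟨hu, ho ▸ pow_orderOf_eq_one u⟩
    have h := two_le_of_pair hP (hm x hxA hx) (hm y hyA hy) hx hxy
    rw [hk] at h
    exact (Nat.pow_le_pow_iff_right (Fact.out : p.Prime).one_lt).1 h
  obtain ⟨B, hBn, hBE, h1, h1', -⟩ := PGroupRank.exists_normal_le hP _ hk 2 h2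
  exact ⟨B, hBn, Signalizer.of_le hE hBE, le_antisymm h1' h1⟩

/-- The case `p = 2`, with a cyclic self-centralizing normal subgroup. -/
theorem exists_of_cyclic {P : Type*} [Group P] [Finite P] (hP : IsPGroup 2 P) {a : P}
    [(zpowers a).Normal] (hC : centralizer ((zpowers a : Subgroup P) : Set P) ≤ zpowers a)
    {Y : Subgroup P} (hY : Cfsg.IsElementaryAbelian 2 Y) (hY8 : 8 ≤ Nat.card Y) :
    ∃ U : Subgroup P, U.Normal ∧ Cfsg.IsElementaryAbelian 2 U ∧ Nat.card U = 2 ^ 2 := by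
  obtain ⟨n, hn⟩ := IsPGroup.iff_orderOf.1 hP a
  have hpow : ∀ g : P, ∃ m : ℕ, g * a * g⁻¹ = a ^ m := fun g => by
    obtain ⟨m, hm⟩ := (mem_powers_iff_mem_zpowers).2
      ((inferInstance : (zpowers a).Normal).conj_mem a (mem_zpowers a) g)
    exact ⟨m, hm.symm⟩
  have hCmem : ∀ c : P, c * a = a * c → c ∈ zpowers a := fun c hc => hC (by
    rw [zpowers_eq_closure, centralizer_closure]
    exact mem_centralizer_singleton_iff.2 hc)
  have hquot : ∀ g h : P, g * h * g⁻¹ * h⁻¹ ∈ zpowers a := fun g h => by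
    obtain ⟨i, hi⟩ := hpow g
    obtain ⟨j, hj⟩ := hpow h
    have e : (g * h) * a * (g * h)⁻¹ = (h * g) * a * (h * g)⁻¹ := by
      rw [show (g * h) * a * (g * h)⁻¹ = g * (h * a * h⁻¹) * g⁻¹ by group,
        show (h * g) * a * (h * g)⁻¹ = h * (g * a * g⁻¹) * h⁻¹ by group, hi, hj, ← conj_pow,
        ← conj_pow, hi, hj, ← pow_mul, ← pow_mul, mul_comm]
    have h1 : (h * g)⁻¹ * (g * h) ∈ zpowers a := hCmem _ (by
      calc (h * g)⁻¹ * (g * h) * a = (h * g)⁻¹ * ((g * h) * a * (g * h)⁻¹) * (g * h) := by group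
        _ = (h * g)⁻¹ * ((h * g) * a * (h * g)⁻¹) * (g * h) := by rw [e]
        _ = a * ((h * g)⁻¹ * (g * h)) := by group)
    rw [show g * h * g⁻¹ * h⁻¹ = (h * g) * ((h * g)⁻¹ * (g * h)) * (h * g)⁻¹ by group]
    exact (inferInstance : (zpowers a).Normal).conj_mem _ h1 _
  have hY2 : ∀ y ∈ Y, y * y = 1 := fun y hy => by rw [← pow_two]; exact hY.2 y hy
  have hYA : Nat.card ↥(Y ⊓ zpowers a) ≤ 2 := by
    haveI : IsCyclic ↥(Y ⊓ zpowers a) :=
      isCyclic_of_injective (inclusion (inf_le_right : Y ⊓ zpowers a ≤ zpowers a))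
        (inclusion_injective _)
    obtain ⟨c, hc⟩ := IsCyclic.exists_ofOrder_eq_natCard (α := ↥(Y ⊓ zpowers a))
    rw [← hc]
    exact orderOf_le_of_pow_eq_one two_pos (Subtype.ext (by simpa using hY.2 (c : P) c.2.1))
  -- the subgroup of `Y` centralizing `a ^ 2`
  set Y₂ := Y ⊓ centralizer ({a ^ 2} : Set P)
  have hsign : ∀ y ∈ Y, y * a ^ 2 * y⁻¹ = a ^ 2 ∨ y * a ^ 2 * y⁻¹ = (a ^ 2)⁻¹ := fun y hy => by
    obtain ⟨m, hm⟩ := hpow y
    have hyy : a ^ (m * m) = a := by
      rw [pow_mul, ← hm, conj_pow, ← hm, show y * (y * a * y⁻¹) * y⁻¹ = (y * y) * a * (y * y)⁻¹ by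
        group, hY2 y hy, one_mul, inv_one, mul_one]
    have hdvd : (2 : ℤ) ^ n ∣ ((m : ℤ) - 1) * ((m : ℤ) + 1) := by
      have : (orderOf a : ℤ) ∣ ((m * m : ℕ) : ℤ) - 1 :=
        orderOf_dvd_iff_zpow_eq_one.2 (by rw [zpow_sub, zpow_natCast, hyy, zpow_one, mul_inv_cancel])
      rw [hn] at this
      rw [show ((m : ℤ) - 1) * ((m : ℤ) + 1) = ((m * m : ℕ) : ℤ) - 1 by push_cast; ring]
      exact_mod_cast this
    rcases Nat.eq_zero_or_pos n with rfl | hn1
    · left
      have : a = 1 := orderOf_eq_one_iff.1 (by simpa using hn)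
      rw [this]; group
    have hodd : ¬ (2 : ℤ) ∣ m := fun h2 => by
      have h3 : (2 : ℤ) ∣ ((m : ℤ) - 1) * ((m : ℤ) + 1) := (dvd_pow_self 2 hn1.ne').trans hdvd
      obtain ⟨k, hk⟩ := h2
      rw [hk] at h3
      obtain ⟨l, hl⟩ := h3
      have h4 : 4 * (k * k) - 1 = 2 * l := by linarith
      omega
    obtain ⟨k, hk⟩ : ∃ k : ℤ, (m : ℤ) = 2 * k + 1 := ⟨(m : ℤ) / 2, by omega⟩
    have hco : IsCoprime ((2 : ℤ) ^ n) k ∨ IsCoprime ((2 : ℤ) ^ n) (k + 1) := by
      rcases Int.emod_two_eq_zero_or_one k with h | h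
      · exact Or.inr (IsCoprime.pow_left ((Prime.coprime_iff_not_dvd Int.prime_two).2 (by omega)))
      · exact Or.inl (IsCoprime.pow_left ((Prime.coprime_iff_not_dvd Int.prime_two).2 (by omega)))
    rw [hk, show (2 * k + 1 - 1) * (2 * k + 1 + 1) = 4 * (k * (k + 1)) by ring] at hdvd
    have hval : ∀ e : ℤ, (2 : ℤ) ^ n ∣ 4 * e → (a ^ 2) ^ (2 * e) = 1 := fun e he => by
      rw [← zpow_natCast a 2, ← zpow_mul, ← orderOf_dvd_iff_zpow_eq_one, hn]
      push_cast
      rw [show (2 : ℤ) * (2 * e) = 4 * e by ring]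
      exact he
    have hcm : y * a ^ 2 * y⁻¹ = (a ^ 2) ^ (2 * k + 1) := by
      rw [← conj_pow, hm, ← pow_mul, mul_comm, pow_mul, ← zpow_natCast (a ^ 2) m, hk]
    rcases hco with hco | hco
    · right
      have h1 := hval (k + 1) (hco.dvd_of_dvd_mul_left
        (show (2 : ℤ) ^ n ∣ k * (4 * (k + 1)) by rwa [show k * (4 * (k + 1)) = 4 * (k * (k + 1)) by ring]))
      rw [hcm, show 2 * k + 1 = 2 * (k + 1) + (-1) by ring, zpow_add, h1, one_mul, zpow_neg_one]
    · left
      have h1 := hval k (hco.dvd_of_dvd_mul_left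
        (show (2 : ℤ) ^ n ∣ (k + 1) * (4 * k) by rwa [show (k + 1) * (4 * k) = 4 * (k * (k + 1)) by ring]))
      rw [hcm, zpow_add, h1, one_mul, zpow_one]
  have hY₂ : Nat.card Y ≤ Nat.card Y₂ * 2 := by
    rcases eq_or_ne Y₂ Y with h | h
    · rw [h]; omega
    obtain ⟨y₀, hy₀, hy₀'⟩ := SetLike.exists_of_lt (lt_of_le_of_ne inf_le_left h)
    have hinv : y₀ * a ^ 2 * y₀⁻¹ = (a ^ 2)⁻¹ := (hsign y₀ hy₀).resolve_left fun e =>
      hy₀' ⟨hy₀, mem_centralizer_singleton_iff.2 (mul_inv_eq_iff_eq_mul.1 e)⟩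
    have hidx : (Y₂.subgroupOf Y).index ≤ 2 := by
      by_cases hall : ∀ y : Y, y ∈ Y₂.subgroupOf Y
      · rw [(eq_top_iff' _).2 hall, index_top]; omega
      · refine le_of_eq (index_eq_two_iff.2 ⟨⟨y₀, hy₀⟩, fun y => ?_⟩)
        have hmem : ∀ z : P, z ∈ Y → (z ∈ Y₂ ↔ z * a ^ 2 * z⁻¹ = a ^ 2) := fun z hz =>
          ⟨fun h => mul_inv_eq_iff_eq_mul.2 (mem_centralizer_singleton_iff.1 h.2),
            fun h => ⟨hz, mem_centralizer_singleton_iff.2 (mul_inv_eq_iff_eq_mul.1 h)⟩⟩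
        have hprod : ((y : P) * y₀) * a ^ 2 * ((y : P) * y₀)⁻¹ =
            ((y : P) * a ^ 2 * (y : P)⁻¹)⁻¹ := by
          rw [show ((y : P) * y₀) * a ^ 2 * ((y : P) * y₀)⁻¹ =
            (y : P) * (y₀ * a ^ 2 * y₀⁻¹) * (y : P)⁻¹ by group, hinv]
          group
        rw [mem_subgroupOf, mem_subgroupOf]
        by_cases hy : (y : P) ∈ Y₂
        · refine Or.inr ⟨hy, fun h => hy₀' ?_⟩
          have := mul_mem (inv_mem hy) h
          rwa [Subgroup.coe_mul, inv_mul_cancel_left] at this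
        · refine Or.inl ⟨?_, hy⟩
          rw [Subgroup.coe_mul, hmem _ (mul_mem y.2 hy₀), hprod]
          rw [(hsign y y.2).resolve_left fun e => hy ((hmem _ y.2).2 e), inv_inv]
    rw [← Nat.card_congr (subgroupOfEquivOfLe (inf_le_left : Y₂ ≤ Y)).toEquiv,
      ← card_mul_index (Y₂.subgroupOf Y)]
    exact Nat.mul_le_mul_left _ hidx
  obtain ⟨y, hyY₂, hyA⟩ : ∃ y ∈ Y₂, y ∉ zpowers a := by
    by_contra hcon
    push Not at hcon
    have : Nat.card Y₂ ≤ 2 := (card_le_of_le (le_inf inf_le_left hcon)).trans hYA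
    omega
  have hy1 : y ≠ 1 := fun h => hyA (h ▸ one_mem _)
  have hyy : y * y = 1 := hY2 y hyY₂.1
  set w := a⁻¹ * (y * a * y⁻¹) with hw
  have hwA : w ∈ zpowers a :=
    mul_mem (inv_mem (mem_zpowers a)) ((inferInstance : (zpowers a).Normal).conj_mem _ (mem_zpowers a) y)
  have hwc : Commute a w := by
    obtain ⟨i, hi⟩ := mem_zpowers_iff.1 hwA
    rw [← hi]; exact Commute.self_zpow a i
  have hwy : y * a * y⁻¹ = a * w := by rw [hw, mul_inv_cancel_left]
  have hww : w * w = 1 := by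
    have h1 : y * a ^ 2 * y⁻¹ = a ^ 2 :=
      mul_inv_eq_iff_eq_mul.2 (mem_centralizer_singleton_iff.1 hyY₂.2)
    rw [← conj_pow, hwy, hwc.mul_pow, mul_eq_left, pow_two] at h1
    exact h1
  have hw1 : w ≠ 1 := fun h => hyA (hCmem y (by
    rw [h, mul_one, mul_inv_eq_iff_eq_mul] at hwy
    exact hwy))
  have hn3 : 3 ≤ n := by
    by_contra hlt
    have ha4 : a ^ 4 = 1 := orderOf_dvd_iff_pow_eq_one.1
      (hn ▸ (Nat.pow_dvd_pow 2 (show n ≤ 2 by omega) : 2 ^ n ∣ 2 ^ 2))
    have ha3 : a ^ 3 = a⁻¹ := eq_inv_of_mul_eq_one_left (by rw [← pow_succ, ha4])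
    -- every element of `Y` maps `a` to `a` or `a⁻¹`
    have hcase : ∀ z ∈ Y, z ∈ zpowers a ∨ z * a * z⁻¹ = a⁻¹ := fun z hz => by
      obtain ⟨m, hm⟩ := hpow z
      have hmod : a ^ m = a ^ (m % 4) := by
        conv_lhs => rw [← Nat.mod_add_div m 4, pow_add, pow_mul, ha4, one_pow, mul_one]
      rw [hmod] at hm
      have h4 : m % 4 < 4 := Nat.mod_lt _ (by omega)
      obtain ⟨r, hr⟩ : ∃ r, m % 4 = r := ⟨_, rfl⟩
      rw [hr] at hm h4
      interval_cases r
      · refine Or.inl (hCmem z ?_)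
        rw [pow_zero] at hm
        have : a = 1 := by
          rw [mul_inv_eq_one] at hm
          exact mul_eq_left.1 hm
        rw [this]; group
      · rw [pow_one, mul_inv_eq_iff_eq_mul] at hm
        exact Or.inl (hCmem z hm)
      · refine Or.inl (hCmem z ?_)
        have h2 : a ^ 2 = 1 := by
          have := congrArg (fun t => t ^ 2) hm
          rw [conj_pow, ← pow_mul, show 2 * 2 = 4 by rfl, ha4, mul_inv_eq_one] at this
          exact mul_eq_left.1 this
        rw [h2, mul_inv_eq_one] at hm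
        have : a = 1 := mul_eq_left.1 hm
        rw [this]; group
      · exact Or.inr (hm.trans ha3)
    have hbig : ∀ u ∈ Y, ∀ v ∈ Y, u ∉ zpowers a → v ∉ zpowers a → u * v ∈ zpowers a := by
      intro u hu v hv hua hva
      refine hCmem _ (mul_inv_eq_iff_eq_mul.1 ?_)
      rw [show u * v * a * (u * v)⁻¹ = u * (v * a * v⁻¹) * u⁻¹ by group,
        (hcase v hv).resolve_left hva, show u * a⁻¹ * u⁻¹ = (u * a * u⁻¹)⁻¹ by group,
        (hcase u hu).resolve_left hua, inv_inv]
    have hidx : ((zpowers a).subgroupOf Y).index ≤ 2 := by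
      by_cases hall : ∀ z : Y, z ∈ (zpowers a).subgroupOf Y
      · rw [(eq_top_iff' _).2 hall, index_top]; omega
      · refine le_of_eq (index_eq_two_iff.2 ⟨⟨y, hyY₂.1⟩, fun z => ?_⟩)
        rw [mem_subgroupOf, mem_subgroupOf]
        by_cases hz : (z : P) ∈ zpowers a
        · refine Or.inr ⟨hz, fun h => hyA ?_⟩
          have := mul_mem (inv_mem hz) h
          simpa using this
        · exact Or.inl ⟨hbig _ z.2 _ hyY₂.1 hz hyA, hz⟩
    have h1 : Nat.card ↥((zpowers a).subgroupOf Y) ≤ 2 := by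
      rw [← card_map_of_injective Y.subtype_injective, subgroupOf_map_subtype, inf_comm]
      exact hYA
    have := card_mul_index ((zpowers a).subgroupOf Y)
    have := Nat.mul_le_mul h1 hidx
    omega
  set z := a ^ (2 ^ (n - 1)) with hz
  have hzz : z * z = 1 := by
    rw [hz, ← pow_add, ← two_mul, ← pow_succ', show n - 1 + 1 = n by omega, ← hn, pow_orderOf_eq_one]
  have hinvA : ∀ u ∈ zpowers a, u * u = 1 → u = 1 ∨ u = z := by
    intro u hu hu2
    obtain ⟨i, rfl⟩ := (mem_powers_iff_mem_zpowers).2 hu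
    have h1 : a ^ (i + i) = 1 := by rw [pow_add]; exact hu2
    rw [← orderOf_dvd_iff_pow_eq_one, hn, show n = n - 1 + 1 by omega, pow_succ', ← two_mul,
      mul_dvd_mul_iff_left two_ne_zero] at h1
    obtain ⟨c, rfl⟩ := h1
    show a ^ (2 ^ (n - 1) * c) = 1 ∨ a ^ (2 ^ (n - 1) * c) = z
    rw [pow_mul, ← hz, ← Nat.mod_add_div c 2, pow_add, pow_mul z 2, pow_two z, hzz, one_pow, mul_one]
    rcases Nat.mod_two_eq_zero_or_one c with h | h <;> simp [h]
  have hz1 : z ≠ 1 := fun h => by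
    have h2 := orderOf_dvd_of_pow_eq_one h
    rw [hn, Nat.pow_dvd_pow_iff_le_right (by omega)] at h2
    omega
  have hzc : z ∈ center P := by
    refine mem_center_iff.2 fun g => ?_
    have h1 : g * z * g⁻¹ = z := by
      refine (hinvA _ ((inferInstance : (zpowers a).Normal).conj_mem _ (pow_mem (mem_zpowers a) _) g)
        ?_).resolve_left fun h => hz1 ?_
      · rw [show g * z * g⁻¹ * (g * z * g⁻¹) = g * (z * z) * g⁻¹ by group, hzz]; group
      · rw [mul_inv_eq_one] at h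
        exact mul_eq_left.1 h
    exact mul_inv_eq_iff_eq_mul.1 h1
  have hset : ∀ g : P, g * y * g⁻¹ = y ∨ g * y * g⁻¹ = z * y := by
    intro g
    obtain ⟨i, hi⟩ := (mem_powers_iff_mem_zpowers).2 (hquot g y)
    have hgy : g * y * g⁻¹ = a ^ i * y := by
      rw [show a ^ i = g * y * g⁻¹ * y⁻¹ from hi]; group
    have hsq : a ^ i * y * (a ^ i * y) = 1 := by
      rw [← hgy, show g * y * g⁻¹ * (g * y * g⁻¹) = g * (y * y) * g⁻¹ by group, hyy]; group
    have hyi : y⁻¹ = y := inv_eq_of_mul_eq_one_right hyy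
    have h1 : a ^ (2 * i) * w ^ i = 1 := by
      have e : y * a ^ i * y = (a * w) ^ i := by
        rw [← hwy, conj_pow, hyi]
      rw [hwc.mul_pow] at e
      calc a ^ (2 * i) * w ^ i = a ^ i * (a ^ i * w ^ i) := by rw [two_mul, pow_add, mul_assoc]
        _ = a ^ i * y * (a ^ i * y) := by rw [← e]; group
        _ = 1 := hsq
    have hw2 : w ^ 2 = 1 := by rw [pow_two]; exact hww
    rw [hgy]
    rcases Nat.mod_two_eq_zero_or_one i with hi2 | hi2
    · have h2 : a ^ i * a ^ i = 1 := by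
        rw [← pow_add, ← two_mul]
        rw [show w ^ i = 1 by rw [← Nat.mod_add_div i 2, hi2, zero_add, pow_mul, hw2, one_pow],
          mul_one] at h1
        exact h1
      rcases hinvA _ (pow_mem (mem_zpowers a) i) h2 with h | h <;> rw [h]
      · exact Or.inl (one_mul y)
      · exact Or.inr rfl
    · exfalso
      have h2 : a ^ (4 * i) = 1 := by
        have := congrArg (fun t => t ^ 2) h1
        simp only [(hwc.pow_pow (2 * i) i).mul_pow, ← pow_mul, one_pow] at this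
        rw [show w ^ (i * 2) = 1 by rw [mul_comm, pow_mul, hw2, one_pow], mul_one] at this
        rw [show 4 * i = 2 * i * 2 by ring]
        exact this
      rw [← orderOf_dvd_iff_pow_eq_one, hn] at h2
      have h8 : (2 ^ 3 : ℕ) ∣ 4 * i := (Nat.pow_dvd_pow 2 hn3).trans h2
      omega
  have hyz : ∀ u ∈ ({z, y} : Set P), ∀ v ∈ ({z, y} : Set P), u * v = v * u := by
    have hc := mem_center_iff.1 hzc
    rintro u (rfl | rfl) v (rfl | rfl)
    · rfl
    · exact (hc v).symm
    · exact hc u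
    · rfl
  set U := closure ({z, y} : Set P)
  have hUel : Cfsg.IsElementaryAbelian 2 U := of_gens hyz (by
    rintro u (rfl | rfl)
    · rw [pow_two]; exact hzz
    · rw [pow_two]; exact hyy)
  have hUn : U.Normal := by
    refine ⟨fun u hu g => ?_⟩
    induction hu using closure_induction with
    | mem v hv =>
      rcases hv with rfl | rfl
      · rw [mem_center_iff.1 hzc g, mul_inv_cancel_right]
        exact subset_closure (Or.inl rfl)
      · rcases hset g with h | h <;> rw [h]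
        · exact subset_closure (Or.inr rfl)
        · exact mul_mem (subset_closure (Or.inl rfl)) (subset_closure (Or.inr rfl))
    | one => simp
    | mul u v _ _ hu hv => rw [show g * (u * v) * g⁻¹ = g * u * g⁻¹ * (g * v * g⁻¹) by group]; exact mul_mem hu hv
    | inv u _ hu => rw [show g * u⁻¹ * g⁻¹ = (g * u * g⁻¹)⁻¹ by group]; exact inv_mem hu
  haveI := hUn
  obtain ⟨k, hk⟩ := IsPGroup.iff_card.1 (hP.to_subgroup U)
  have hk2 : 2 ≤ k := by
    have h := two_le_of_pair (p := 2) hP (B := U) (subset_closure (Or.inl rfl)) (subset_closure (Or.inr rfl))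
      (orderOf_eq_prime (by rw [pow_two]; exact hzz) hz1)
      (fun h => hyA ((zpowers_le.2 (pow_mem (mem_zpowers a) _)) h))
    rw [hk] at h
    exact (Nat.pow_le_pow_iff_right Nat.one_lt_two).1 h
  obtain ⟨B, hBn, hBE, hb, hb', -⟩ := PGroupRank.exists_normal_le hP U hk 2 hk2
  exact ⟨B, hBn, Signalizer.of_le hUel hBE, le_antisymm hb' hb⟩

/-- A `p`-group of rank at least three has a normal elementary abelian subgroup of order `p ^ 2`. -/
theorem exists_normal_sq (hP : IsPGroup p P) {Y : Subgroup P} (hY : Cfsg.IsElementaryAbelian p Y)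
    (hY3 : p ^ 3 ≤ Nat.card Y) :
    ∃ U : Subgroup P, U.Normal ∧ Cfsg.IsElementaryAbelian p U ∧ Nat.card U = p ^ 2 := by
  have hp := (Fact.out : p.Prime)
  have h23 : p ^ 2 ≤ Nat.card Y := (Nat.pow_le_pow_right hp.pos (by omega)).trans hY3
  rcases eq_or_ne p 2 with rfl | hp2
  swap
  · refine PGroupRank.exists_normal_sq hp2 hP fun hcyc => ?_
    haveI := hcyc
    exact Signalizer.not_isCyclic hY h23 inferInstance
  obtain ⟨A, hAn, hAc, hAC⟩ := UniqueInvol.exists_self_centralizing hP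
  haveI := hAn
  by_cases hu : ∃ x ∈ A, ∃ y ∈ A, orderOf x = 2 ∧ orderOf y = 2 ∧ y ∉ zpowers x
  · obtain ⟨x, hx, y, hy, hox, hoy, hxy⟩ := hu
    exact exists_of_abelian hP hAc hx hy hox hoy hxy
  push Not at hu
  obtain ⟨a, ha⟩ : ∃ a : P, A = zpowers a := by
    haveI : IsMulCommutative A := ⟨⟨fun u v => Subtype.ext (hAc u u.2 v v.2)⟩⟩
    obtain ⟨a', ha'⟩ := UniqueInvol.exists_generator_of_comm (G := A) (hP.to_subgroup A)
      (A := ⊤) (fun u _ v _ => mul_comm' u v) fun u v hou hov => by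
        have h := hu u u.2 v v.2 (by rwa [orderOf_coe]) (by rwa [orderOf_coe])
        obtain ⟨i, hi⟩ := mem_zpowers_iff.1 h
        exact mem_zpowers_iff.2 ⟨i, Subtype.ext (by simpa using hi)⟩
    refine ⟨a', le_antisymm (fun v hv => ?_) (zpowers_le.2 a'.2)⟩
    obtain ⟨i, hi⟩ := mem_zpowers_iff.1 (ha' ▸ mem_top (⟨v, hv⟩ : A) : (⟨v, hv⟩ : A) ∈ zpowers a')
    exact mem_zpowers_iff.2 ⟨i, by simpa using congrArg Subtype.val hi⟩
  subst ha
  exact exists_of_cyclic hP hAC hY (by simpa using hY3)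

/-- A `p`-group of rank three meets the centralizer of a normal `E(p ^ 2)` in order at least `p ^ 2`. -/
theorem sq_le_card_inf_centralizer (hP : IsPGroup p P) {U : Subgroup P} [U.Normal]
    (hU : Nat.card U = p ^ 2) {Y : Subgroup P} (hY3 : p ^ 3 ≤ Nat.card Y) :
    p ^ 2 ≤ Nat.card ↥(Y ⊓ centralizer (U : Set P)) := by
  set C := centralizer (U : Set P)
  have hC : C.index ≤ p := by simpa using PGroupRank.index_centralizer_le hP U hU
  have h1 : (C.subgroupOf Y).index ≤ p := by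
    refine le_trans (Nat.le_of_dvd (Nat.pos_of_ne_zero C.index_ne_zero_of_finite) ?_) hC
    exact Subgroup.relIndex_dvd_index_of_normal C Y
  have h2 : Nat.card Y ≤ Nat.card ↥(Y ⊓ C) * p := by
    rw [← card_mul_index (C.subgroupOf Y), inf_comm, ← subgroupOf_map_subtype C Y,
      card_map_of_injective Y.subtype_injective]
    exact Nat.mul_le_mul_left _ h1
  refine Nat.le_of_mul_le_mul_right ?_ (Fact.out : p.Prime).pos
  exact le_of_eq_of_le (pow_succ p 2).symm (hY3.trans h2)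

end CfsgLib.NormalFour
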