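import Cfsg.Prelude.Def_CaseTheorems
import Cfsg.Agent.Comp.Basic

/-!
The involution diag(-1, 1, …, 1) of GL(m+1, F) and the SL(m, F) in its centralizer.
-/

set_option autoImplicit false

namespace CfsgLib.GLStd

open Matrix

theorem isQuasisimple_image {A B : Type*} [Group A] [Group B] (f : A →* B)
    (hf : Function.Surjective f) (hker : f.ker ≤ Subgroup.center A)
    (hA : Cfsg.IsQuasisimple A) : Cfsg.IsQuasisimple B := by
  obtain ⟨hp, hs⟩ := id hA
  haveI := hp
  haveI := hs
  refine ⟨Group.IsPerfect.ofSurjective (f := f) hf, ?_⟩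
  have hc : (Subgroup.center B).comap f = Subgroup.center A := by
    refine le_antisymm ?_ (fun x hx => Subgroup.mem_center_iff.2 fun b => ?_)
    · rcases Comp.quasisimple_normal hA
        (Subgroup.Normal.comap (inferInstance : (Subgroup.center B).Normal) f) with h | h
      · exfalso
        apply Comp.quasisimple_center_ne_top hA
        rw [eq_top_iff, ← hp.commutator_eq_top, commutator_def, Subgroup.commutator_le]
        intro u _ v _
        refine hker ?_
        have hu : f u ∈ Subgroup.center B := Subgroup.mem_comap.1 (h ▸ Subgroup.mem_top u)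
        rw [MonoidHom.mem_ker, map_commutatorElement, commutatorElement_eq_one_iff_mul_comm]
        exact ((Subgroup.mem_center_iff.1 hu) (f v)).symm
      · exact h
    · obtain ⟨a, rfl⟩ := hf b
      rw [← map_mul, ← map_mul, Subgroup.mem_center_iff.1 hx a]
  have hk : Subgroup.center A = ((QuotientGroup.mk' (Subgroup.center B)).comp f).ker := by
    rw [← MonoidHom.comap_ker, QuotientGroup.ker_mk', hc]
  exact ((QuotientGroup.quotientMulEquivOfEq hk).trans
    (QuotientGroup.quotientKerEquivOfSurjective _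
      ((QuotientGroup.mk'_surjective _).comp hf))).symm.isSimpleGroup

variable {F : Type*} [Field F]

/-- The block matrix diag(1, A). -/
def blk {m : ℕ} (A : Matrix (Fin m) (Fin m) F) : Matrix (Fin (m + 1)) (Fin (m + 1)) F :=
  Matrix.of fun i j => Fin.cases (Fin.cases (1 : F) (fun _ => 0) j)
    (fun i' => Fin.cases 0 (A i') j) i

theorem blk_mul {m : ℕ} (A B : Matrix (Fin m) (Fin m) F) : blk (A * B) = blk A * blk B := by
  ext i j
  refine Fin.cases ?_ (fun i => ?_) i <;> refine Fin.cases ?_ (fun j => ?_) j <;>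
    simp [blk, Matrix.mul_apply, Fin.sum_univ_succ]

theorem blk_one {m : ℕ} : blk (1 : Matrix (Fin m) (Fin m) F) = 1 := by
  ext i j
  refine Fin.cases ?_ (fun i => ?_) i <;> refine Fin.cases ?_ (fun j => ?_) j <;>
    simp [blk, Matrix.one_apply, Fin.succ_ne_zero, (Fin.succ_ne_zero _).symm, Fin.succ_inj]

theorem det_blk {m : ℕ} (A : Matrix (Fin m) (Fin m) F) : (blk A).det = A.det := by
  rw [Matrix.det_succ_row_zero, Fin.sum_univ_succ]
  simp [blk, Matrix.submatrix]
  rfl

theorem exists_involution (hpar : (2 : F) ≠ 0) (m : ℕ) (hm : 2 ≤ m) :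
    ∃ a : Matrix.SpecialLinearGroup (Fin m) F, orderOf a = 2 := by
  classical
  let S : Finset (Fin m) := {⟨0, by omega⟩, ⟨1, by omega⟩}
  have hd : (Matrix.diagonal fun i => if i ∈ S then (-1 : F) else 1).det = 1 := by
    rw [Matrix.det_diagonal, Finset.prod_ite_mem, Finset.univ_inter, Finset.prod_const,
      Finset.card_pair (by simp [Fin.ext_iff])]
    norm_num
  let a : Matrix.SpecialLinearGroup (Fin m) F := ⟨_, hd⟩
  refine ⟨a, orderOf_eq_prime ?_ ?_⟩
  · rw [pow_two]
    apply Subtype.ext
    show (Matrix.diagonal _ : Matrix (Fin m) (Fin m) F) * Matrix.diagonal _ = _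
    rw [ Matrix.diagonal_mul_diagonal,
      Matrix.SpecialLinearGroup.coe_one, ← Matrix.diagonal_one]
    congr 1
    funext i
    split_ifs <;> simp
  · intro h
    have := congrArg (fun a : Matrix.SpecialLinearGroup (Fin m) F =>
      (a : Matrix (Fin m) (Fin m) F) ⟨0, by omega⟩ ⟨0, by omega⟩) h
    simp [a, S] at this
    exact hpar (by linear_combination -this)

theorem split (hpar : (2 : F) ≠ 0) (m : ℕ) (hm : 1 ≤ m) :
    ∃ t : Matrix.GeneralLinearGroup (Fin (m + 1)) F, orderOf t = 2 ∧
      t ∉ Subgroup.center (Matrix.GeneralLinearGroup (Fin (m + 1)) F) ∧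
      ∃ K : Subgroup (Subgroup.centralizer ({t} : Set (Matrix.GeneralLinearGroup (Fin (m + 1)) F))),
        K.Normal ∧ Nonempty (Matrix.SpecialLinearGroup (Fin m) F ≃* K) := by
  classical
  let d : Fin (m + 1) → F := Fin.cases (-1) (fun _ => 1)
  have hd : Matrix.diagonal d * Matrix.diagonal d = 1 := by
    rw [Matrix.diagonal_mul_diagonal, ← Matrix.diagonal_one]
    congr 1
    funext i
    refine Fin.cases ?_ (fun i => ?_) i <;> simp [d]
  let t : Matrix.GeneralLinearGroup (Fin (m + 1)) F := ⟨_, _, hd, hd⟩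
  have hne : (-1 : F) ≠ 1 := fun h => hpar (by linear_combination -h)
  have hmem : ∀ g : Matrix.GeneralLinearGroup (Fin (m + 1)) F,
      g ∈ Subgroup.centralizer ({t} : Set (Matrix.GeneralLinearGroup (Fin (m + 1)) F)) →
      ∀ j : Fin m, (g : Matrix (Fin (m + 1)) (Fin (m + 1)) F) 0 j.succ = 0 ∧ (g : Matrix (Fin (m + 1)) (Fin (m + 1)) F) j.succ 0 = 0 := by
    intro g hg j
    have h : (Matrix.diagonal d * (g : Matrix (Fin (m + 1)) (Fin (m + 1)) F)) = (g : Matrix (Fin (m + 1)) (Fin (m + 1)) F) * Matrix.diagonal d :=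
      congrArg Units.val (Subgroup.mem_centralizer_singleton_iff.1 hg).symm
    have h1 := congrFun (congrFun h 0) j.succ
    have h2 := congrFun (congrFun h j.succ) 0
    rw [Matrix.diagonal_mul, Matrix.mul_diagonal] at h1 h2
    simp only [d, Fin.cases_zero, Fin.cases_succ] at h1 h2
    constructor
    · exact (mul_eq_zero.1 (show (-2 : F) * _ = 0 by linear_combination h1)).resolve_left (by simpa using hpar)
    · exact (mul_eq_zero.1 (show (2 : F) * _ = 0 by linear_combination h2)).resolve_left hpar
  let e : Matrix.SpecialLinearGroup (Fin m) F →*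
      Subgroup.centralizer ({t} : Set (Matrix.GeneralLinearGroup (Fin (m + 1)) F)) :=
    { toFun := fun A => ⟨⟨blk A.1, blk (A⁻¹).1,
          by rw [← blk_mul, ← Matrix.SpecialLinearGroup.coe_mul, mul_inv_cancel,
            Matrix.SpecialLinearGroup.coe_one, blk_one],
          by rw [← blk_mul, ← Matrix.SpecialLinearGroup.coe_mul, inv_mul_cancel,
            Matrix.SpecialLinearGroup.coe_one, blk_one]⟩, by
          rw [Subgroup.mem_centralizer_singleton_iff]
          apply Units.ext
          ext i j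
          show (blk A.1 * Matrix.diagonal d) i j = (Matrix.diagonal d * blk A.1) i j
          rw [Matrix.diagonal_mul, Matrix.mul_diagonal]
          refine Fin.cases ?_ (fun i => ?_) i <;> refine Fin.cases ?_ (fun j => ?_) j <;>
            simp [blk, d]⟩
      map_one' := Subtype.ext (Units.ext blk_one)
      map_mul' := fun A B => Subtype.ext (Units.ext (blk_mul A.1 B.1)) }
  have he : Function.Injective e := by
    intro A B h
    ext i j
    have := congrArg (fun x : Subgroup.centralizer ({t} : Set (Matrix.GeneralLinearGroup (Fin (m + 1)) F)) =>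
      ((x : Matrix.GeneralLinearGroup (Fin (m + 1)) F) : Matrix (Fin (m + 1)) (Fin (m + 1)) F) i.succ j.succ) h
    simpa [e, blk] using this
  refine ⟨t, ?_, ?_, e.range, ⟨?_⟩, ⟨MonoidHom.ofInjective he⟩⟩
  · refine orderOf_eq_prime ?_ ?_
    · exact Units.ext (by rw [pow_two]; exact hd)
    · intro h
      have := congrArg (fun x : Matrix.GeneralLinearGroup (Fin (m + 1)) F =>
        (x : Matrix (Fin (m + 1)) (Fin (m + 1)) F) 0 0) h
      simp [t, d] at this
      exact hne this
  · intro hc
    have hne0 : (0 : Fin (m + 1)) ≠ (⟨0, hm⟩ : Fin m).succ := (Fin.succ_ne_zero _).symm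
    let g : Matrix.GeneralLinearGroup (Fin (m + 1)) F :=
      ⟨Matrix.transvection 0 (⟨0, hm⟩ : Fin m).succ 1, Matrix.transvection 0 (⟨0, hm⟩ : Fin m).succ (-1),
        by rw [Matrix.transvection_mul_transvection_same _ _ hne0]; simp,
        by rw [Matrix.transvection_mul_transvection_same _ _ hne0]; simp⟩
    have hg := (hmem g (Subgroup.mem_centralizer_singleton_iff.2 (Subgroup.mem_center_iff.1 hc g)) ⟨0, hm⟩).1
    simp [g, Matrix.transvection, Matrix.one_apply_ne hne0] at hg
  · rintro _ ⟨A, rfl⟩ g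
    have hg := hmem g.1 g.2
    have hg' := hmem g.1⁻¹ (inv_mem g.2)
    set X : Matrix (Fin (m + 1)) (Fin (m + 1)) F :=
      (g.1 : Matrix (Fin (m + 1)) (Fin (m + 1)) F) * blk A.1 * ((g.1⁻¹ : Matrix.GeneralLinearGroup (Fin (m + 1)) F) : Matrix (Fin (m + 1)) (Fin (m + 1)) F)
      with hX
    have hinv : (g.1 : Matrix (Fin (m + 1)) (Fin (m + 1)) F) * ((g.1⁻¹ : Matrix.GeneralLinearGroup (Fin (m + 1)) F) : Matrix (Fin (m + 1)) (Fin (m + 1)) F) = 1 :=
      Units.mul_inv g.1
    let B : Matrix (Fin m) (Fin m) F := Matrix.of fun i j => X i.succ j.succ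
    have hb : blk B = X := by
      have h00 := congrFun (congrFun hinv 0) 0
      simp only [B, hX]
      revert hg' h00
      generalize ((g.1⁻¹ : Matrix.GeneralLinearGroup (Fin (m + 1)) F) :
        Matrix (Fin (m + 1)) (Fin (m + 1)) F) = Y
      intro hg' h00
      simp [Matrix.mul_apply, Fin.sum_univ_succ, hg, hg'] at h00
      ext i j
      refine Fin.cases ?_ (fun i => ?_) i <;> refine Fin.cases ?_ (fun j => ?_) j <;>
        simp [blk, Matrix.mul_apply, Fin.sum_univ_succ, hg, hg', h00]
    have hdet : B.det = 1 := by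
      rw [← det_blk, hb, hX, Matrix.det_mul, Matrix.det_mul, det_blk, A.2, mul_one, ← Matrix.det_mul, hinv,
        Matrix.det_one]
    exact ⟨⟨B, hdet⟩, Subtype.ext (Units.ext hb)⟩

end CfsgLib.GLStd
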