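import Mathlib.GroupTheory.Transfer
import Mathlib.GroupTheory.PGroup
import Mathlib.GroupTheory.Sylow
import Cfsg.Agent.Involutions2.EigenBasis
import Mathlib.LinearAlgebra.Matrix.GeneralLinearGroup.Defs
import Mathlib.GroupTheory.Abelianization.Defs

/-!
Transfer of a central involution of a Sylow 2-subgroup, and elementary abelian groups of order
eight in `GL₃`.
-/

set_option autoImplicit false
set_option linter.unusedSectionVars false
set_option linter.style.haveILetI false

namespace CfsgLib.CentralTransfer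

open Subgroup MulAction Matrix

variable {G : Type*} [Group G] [Finite G]

/-- A product over a set acted on by a `p`-group of a function invariant under it, with values of
order dividing `p`, is the product over the fixed points. -/
theorem prod_eq_of_invariant {P α A : Type*} [Group P] [Finite P] [CommGroup A]
    [MulAction P α] [Fintype α] (hP : IsPGroup 2 P) (f : α → A) (h2 : ∀ a, f a ^ 2 = 1)
    (hf : ∀ (x : P) a, f (x • a) = f a) {c : A} (hodd : Odd (Fintype.card α))
    (hfix : ∀ a, (∀ x : P, x • a = a) → f a = c) :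
    ∏ a, f a = c := by
  classical
  haveI : Fact (Nat.Prime 2) := ⟨Nat.prime_two⟩
  have hfin : ∀ v : A, v ≠ c → Even (Finset.univ.filter fun a => f a = v).card := by
    intro v hv
    let s : SubMulAction P α :=
      { carrier := {a | f a = v}
        smul_mem' := fun x a ha => (hf x a).trans ha }
    have hm := hP.card_modEq_card_fixedPoints s
    have he : MulAction.fixedPoints P s = ∅ := by
      ext ⟨a, ha⟩
      simp only [MulAction.mem_fixedPoints, Set.mem_empty_iff_false, iff_false]
      intro h
      exact hv (ha.symm.trans (hfix a fun x => congrArg Subtype.val (h x)))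
    rw [he, Nat.card_coe_set_eq (∅ : Set _), Set.ncard_empty] at hm
    have hc : Nat.card s = (Finset.univ.filter fun a => f a = v).card := by
      rw [← Fintype.card_subtype, ← Nat.card_eq_fintype_card]
      exact Nat.card_congr (Equiv.refl _)
    rw [hc] at hm
    exact Nat.even_iff.2 hm
  have hc2 : c ^ 2 = 1 := by
    have hne : (MulAction.fixedPoints P α).Nonempty := by
      by_contra h
      have hm := hP.card_modEq_card_fixedPoints α
      rw [Set.not_nonempty_iff_eq_empty.1 h, Nat.card_coe_set_eq (∅ : Set _), Set.ncard_empty,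
        Nat.card_eq_fintype_card] at hm
      exact Nat.not_even_iff_odd.2 hodd (Nat.even_iff.2 hm)
    obtain ⟨a, ha⟩ := hne
    rw [← hfix a fun x => ha x]
    exact h2 a
  rw [← Finset.prod_fiberwise_of_maps_to (g := f) (t := insert c (Finset.univ.image f))
    (fun a _ => Finset.mem_insert_of_mem (Finset.mem_image_of_mem f (Finset.mem_univ a)))]
  rw [Finset.prod_eq_single_of_mem c (Finset.mem_insert_self _ _) fun v _ hv => ?_]
  · rw [Finset.prod_congr rfl fun a ha => (Finset.mem_filter.1 ha).2, Finset.prod_const]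
    have hsum : Odd (Finset.univ.filter fun a => f a = c).card := by
      by_contra h
      refine Nat.not_even_iff_odd.2 hodd ?_
      rw [← Finset.card_univ, Finset.card_eq_sum_card_fiberwise (f := f)
        (t := insert c (Finset.univ.image f))
        (fun a _ => Finset.mem_insert_of_mem (Finset.mem_image_of_mem f (Finset.mem_univ a)))]
      refine Finset.even_sum _ fun v _ => ?_
      by_cases hv : v = c
      · subst hv; exact Nat.not_odd_iff_even.1 h
      · exact hfin v hv
    obtain ⟨k, hk⟩ := hsum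
    rw [hk, pow_succ, pow_mul, hc2, one_pow, one_mul]
  · rw [Finset.prod_congr rfl fun a ha => (Finset.mem_filter.1 ha).2, Finset.prod_const]
    obtain ⟨k, hk⟩ := hfin v hv
    rcases Finset.eq_empty_or_nonempty (Finset.univ.filter fun a => f a = v) with h | ⟨a, ha⟩
    · rw [h, Finset.card_empty, pow_zero]
    · rw [hk, ← two_mul, pow_mul, ← (Finset.mem_filter.1 ha).2, h2, one_pow]

/-- The transfer of a central involution of a Sylow 2-subgroup. -/
theorem transfer_central_involution {X : Sylow 2 G} {A : Type*} [CommGroup A]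
    (φ : (X : Subgroup G) →* A) {s : G} (hsX : s ∈ (X : Subgroup G)) (hs2 : s ^ 2 = 1)
    (hsc : ∀ x ∈ (X : Subgroup G), x * s = s * x)
    (hN : ∀ n : G, n ∈ normalizer ((X : Subgroup G) : Set G) → ∀ h : n⁻¹ * s * n ∈ (X : Subgroup G),
      φ ⟨_, h⟩ = φ ⟨s, hsX⟩) :
    MonoidHom.transfer φ s = φ ⟨s, hsX⟩ := by
  classical
  haveI : Fact (Nat.Prime 2) := ⟨Nat.prime_two⟩
  letI := Fintype.ofFinite (G ⧸ (X : Subgroup G))
  haveI : Fintype (Quotient (orbitRel (zpowers s) (G ⧸ (X : Subgroup G)))) := Fintype.ofFinite _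
  have hper : ∀ q : G ⧸ (X : Subgroup G), Function.minimalPeriod (s • ·) q = 1 ∨
      Function.minimalPeriod (s • ·) q = 2 := by
    intro q
    refine (Nat.dvd_prime Nat.prime_two).1 (Function.IsPeriodicPt.minimalPeriod_dvd ?_)
    show (s • ·)^[2] q = q
    rw [Function.iterate_succ_apply', Function.iterate_one, smul_smul, ← sq, hs2, one_smul]
  rw [MonoidHom.transfer_eq_prod_quotient_orbitRel_zpowers_quot φ s,
    ← Finset.prod_filter_of_ne (p := fun q => Function.minimalPeriod (s • ·) q.out = 1)]
  swap
  · intro q _ hq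
    refine (hper q.out).resolve_right fun h => hq ?_
    convert map_one φ using 2
    refine Subtype.ext ?_
    simp [h, hs2]
  let Fix := {q : G ⧸ (X : Subgroup G) // s • q = q}
  have hmem : ∀ q : Fix, q.1.out⁻¹ * s * q.1.out ∈ (X : Subgroup G) := by
    intro q
    have h : ((s * q.1.out : G) : G ⧸ (X : Subgroup G)) = (q.1.out : G ⧸ (X : Subgroup G)) := by
      rw [← smul_eq_mul, MulAction.Quotient.coe_smul_out, q.2, QuotientGroup.out_eq']
    have h' := QuotientGroup.eq.1 h.symm
    rwa [← mul_assoc] at h'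
  let f : Fix → A := fun q => φ ⟨_, hmem q⟩
  letI : MulAction (X : Subgroup G) Fix :=
    { smul := fun x q => ⟨(x : G) • q.1, by rw [smul_smul, ← hsc _ x.2, ← smul_smul, q.2]⟩
      one_smul := fun q => Subtype.ext (one_smul _ q.1)
      mul_smul := fun x y q => Subtype.ext (mul_smul (x : G) (y : G) q.1) }
  have hfix1 : ∀ q : G ⧸ (X : Subgroup G), Function.minimalPeriod (s • ·) q = 1 ↔ s • q = q :=
    fun q => Function.minimalPeriod_eq_one_iff_isFixedPt
  -- fixed points correspond to orbits of length one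
  have hbij : (∏ q ∈ Finset.univ.filter (fun q : Quotient (orbitRel (zpowers s) (G ⧸ (X : Subgroup G))) =>
      Function.minimalPeriod (s • ·) q.out = 1), φ ⟨q.out.out⁻¹ * s ^ Function.minimalPeriod (s • ·) q.out * q.out.out,
        QuotientGroup.out_conj_pow_minimalPeriod_mem _ s q.out⟩) = ∏ q : Fix, f q := by
    refine Finset.prod_bij (fun q hq => (⟨q.out, (hfix1 _).1 (Finset.mem_filter.1 hq).2⟩ : Fix))
      (fun _ _ => Finset.mem_univ _) (fun q _ q' _ h => ?_) (fun q _ => ?_) (fun q hq => ?_)
    · rw [← Quotient.out_eq q, ← Quotient.out_eq q']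
      exact congrArg _ (congrArg Subtype.val h)
    · have he : (Quotient.mk (orbitRel (zpowers s) (G ⧸ (X : Subgroup G))) q.1).out = q.1 := by
        obtain ⟨⟨z, k, rfl⟩, hz⟩ :=
          (Quotient.mk_out (s := orbitRel (zpowers s) (G ⧸ (X : Subgroup G))) q.1)
        rw [← hz]
        show (s ^ k) • q.1 = q.1
        have hst : s ∈ MulAction.stabilizer G q.1 := q.2
        exact (zpow_mem hst k : s ^ k ∈ MulAction.stabilizer G q.1)
      exact ⟨Quotient.mk _ q.1, Finset.mem_filter.2 ⟨Finset.mem_univ _, (hfix1 _).2 (by rw [he]; exact q.2)⟩,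
        Subtype.ext he⟩
    · refine congrArg φ (Subtype.ext ?_)
      show _ = q.out.out⁻¹ * s * q.out.out
      simp [(Finset.mem_filter.1 hq).2]
  rw [hbij]
  refine prod_eq_of_invariant (P := (X : Subgroup G)) X.2 f (fun q => ?_) (fun x q => ?_) ?_ (fun q hq => ?_)
  · rw [← map_pow]
    convert map_one φ using 2
    refine Subtype.ext ?_
    show (q.1.out⁻¹ * s * q.1.out) ^ 2 = 1
    rw [show q.1.out⁻¹ * s * q.1.out = q.1.out⁻¹ * s * (q.1.out⁻¹)⁻¹ by rw [inv_inv], conj_pow, hs2,
      mul_one, mul_inv_cancel]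
  · -- independence of the representative
    obtain ⟨h, hh⟩ : ∃ h : (X : Subgroup G), (x : G) * q.1.out = (x • q).1.out * (h : G) := by
      refine ⟨⟨(x • q).1.out⁻¹ * ((x : G) * q.1.out), QuotientGroup.eq.1 ?_⟩, by simp⟩
      rw [QuotientGroup.out_eq', ← smul_eq_mul, MulAction.Quotient.coe_smul_out]
      rfl
    have e : (⟨_, hmem (x • q)⟩ : (X : Subgroup G)) = h * ⟨_, hmem q⟩ * h⁻¹ := by
      refine Subtype.ext ?_
      show (x • q).1.out⁻¹ * s * (x • q).1.out = (h : G) * (q.1.out⁻¹ * s * q.1.out) * (h : G)⁻¹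
      have e1 : (x • q).1.out = (x : G) * q.1.out * (h : G)⁻¹ := eq_mul_inv_of_mul_eq hh.symm
      have e2 : (x : G)⁻¹ * s * (x : G) = s := by rw [mul_assoc, ← hsc _ x.2, inv_mul_cancel_left]
      rw [e1, _root_.mul_inv_rev, _root_.mul_inv_rev, inv_inv]
      calc (h : G) * (q.1.out⁻¹ * (x : G)⁻¹) * s * ((x : G) * q.1.out * (h : G)⁻¹)
          = (h : G) * (q.1.out⁻¹ * ((x : G)⁻¹ * s * x) * q.1.out) * (h : G)⁻¹ := by group
        _ = _ := by rw [e2]
    show φ _ = φ _
    rw [e, map_mul, map_mul, map_inv, mul_comm (φ h), mul_inv_cancel_right]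
  · -- the number of fixed points is odd
    rw [← Nat.card_eq_fintype_card, Nat.odd_iff]
    have hp : IsPGroup 2 (zpowers s) := by
      rintro ⟨z, k, rfl⟩
      refine ⟨1, Subtype.ext ?_⟩
      show (s ^ k) ^ (2 ^ 1) = 1
      rw [pow_one, ← zpow_natCast, ← zpow_mul, mul_comm, zpow_mul, zpow_natCast, hs2, one_zpow]
    have hm := hp.card_modEq_card_fixedPoints (G ⧸ (X : Subgroup G))
    have hodd : Nat.card (G ⧸ (X : Subgroup G)) % 2 = 1 :=
      (Nat.mod_two_ne_zero).1 fun h => X.not_dvd_index (Nat.dvd_of_mod_eq_zero h)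
    rw [← hodd]
    refine (hm.trans ?_).symm
    refine congrArg (· % 2) (Nat.card_congr (Equiv.subtypeEquivRight fun q => ?_))
    refine ⟨fun h => h ⟨s, mem_zpowers s⟩, fun h z => ?_⟩
    obtain ⟨k, hk⟩ := z.2
    show (z : G) • q = q
    rw [← hk]
    have hst : s ∈ MulAction.stabilizer G q := h
    exact (zpow_mem hst k : s ^ k ∈ MulAction.stabilizer G q)
  · -- points fixed by the whole Sylow subgroup
    have hn : q.1.out ∈ normalizer ((X : Subgroup G) : Set G) := by
      have hle : ∀ x ∈ (X : Subgroup G), q.1.out⁻¹ * x * q.1.out ∈ (X : Subgroup G) := by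
        intro x hx
        have h : ((x * q.1.out : G) : G ⧸ (X : Subgroup G)) = (q.1.out : G ⧸ (X : Subgroup G)) := by
          rw [← smul_eq_mul, MulAction.Quotient.coe_smul_out, QuotientGroup.out_eq']
          exact congrArg Subtype.val (hq ⟨x, hx⟩)
        have h' := QuotientGroup.eq.1 h.symm
        rwa [← mul_assoc] at h'
      have hinv : q.1.out⁻¹ ∈ normalizer ((X : Subgroup G) : Set G) := by
        rw [Subgroup.mem_normalizer_iff]
        intro x
        rw [inv_inv]
        refine ⟨hle x, fun hx => ?_⟩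
        have heq : (X : Subgroup G).map (MulAut.conj q.1.out⁻¹).toMonoidHom = (X : Subgroup G) := by
          refine eq_of_le_of_card_ge (fun y hy => ?_) (le_of_eq (card_map_of_injective (MulAut.conj q.1.out⁻¹).injective).symm)
          obtain ⟨x, hx, rfl⟩ := hy
          simpa [MulAut.conj_apply] using hle x hx
        have hx' : q.1.out⁻¹ * x * q.1.out ∈ (X : Subgroup G).map (MulAut.conj q.1.out⁻¹).toMonoidHom := by
          rw [heq]; exact hx
        obtain ⟨y, hy, hy'⟩ := hx'
        simp only [MulEquiv.toMonoidHom_eq_coe, MonoidHom.coe_coe, MulAut.conj_apply, inv_inv] at hy'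
        exact mul_left_cancel (mul_right_cancel hy') ▸ hy
      exact inv_inv q.1.out ▸ inv_mem hinv
    exact hN _ hn _

/-- Commuting involutive `3 × 3` matrices: at most eight, and if there are eight the centralizer
is abelian and `-1` is among them. -/
theorem three_dim {F : Type*} [Field F] (h2 : (2 : F) ≠ 0) {X : Type*} [Group X] [Finite X]
    (f : X →* GL (Fin 3) F) (hf : Function.Injective f) (E : Subgroup X) (hc : IsMulCommutative E)
    (hsq : ∀ e ∈ E, e ^ 2 = 1) :
    Nat.card E ≤ 8 ∧ (Nat.card E = 8 →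
      (∃ e ∈ E, (f e).1 = -1) ∧ ((∀ e ∈ E, ∀ x : X, x * e = e * x) → ∀ x y : X, x * y = y * x)) := by
  classical
  let ρ : E → Matrix (Fin 3) (Fin 3) F := fun e => (f e).1
  obtain ⟨b, χ, hχ, hb⟩ := CfsgLib.Inv2.exists_eigenBasis ρ h2
    (fun e => by
      show (f e).1 * (f e).1 = 1
      rw [← Units.val_mul, ← map_mul, ← sq, hsq _ e.2, map_one, Units.val_one])
    (fun e e' => by
      show (f e).1 * (f e').1 = (f e').1 * (f e).1
      rw [← Units.val_mul, ← Units.val_mul, ← map_mul, ← map_mul,
        show ((e : X) * e' : X) = e' * e from congrArg Subtype.val (hc.is_comm.comm e e')])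
  have hne : (-1 : F) ≠ 1 := fun h => h2 (by rw [← one_add_one_eq_two]; nth_rw 1 [← h]; ring)
  let Φ : E → Fin 3 → Bool := fun e i => decide (χ i e = 1)
  have hΦ : Function.Injective Φ := by
    intro e e' h
    refine Subtype.ext (hf (Units.ext ?_))
    refine CfsgLib.Inv2.eq_of_eigen b (c := fun i => χ i e) (fun i => hb i e) fun i => ?_
    have hi : χ i e = χ i e' := by
      have h1 := decide_eq_decide.1 (congrFun h i)
      rcases hχ i e with a | a <;> rcases hχ i e' with a' | a' <;> simp_all
    show ρ e' *ᵥ b i = χ i e • b i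
    rw [hi]
    exact hb i e'
  have h8 : Nat.card (Fin 3 → Bool) = 8 := by simp
  refine ⟨h8 ▸ Nat.card_le_card_of_injective Φ hΦ, fun hE => ?_⟩
  have hsurj : Function.Surjective Φ :=
    ((Nat.bijective_iff_injective_and_card Φ).2 ⟨hΦ, hE.trans h8.symm⟩).2
  have hval : ∀ {e : E} {i : Fin 3}, Φ e i = false → χ i e = -1 := fun {e i} h =>
    (hχ i e).resolve_left (of_decide_eq_false h)
  refine ⟨?_, fun hcen => ?_⟩
  · obtain ⟨e, he⟩ := hsurj fun _ => false
    refine ⟨e, e.2, CfsgLib.Inv2.eq_of_eigen b (c := fun _ => (-1 : F)) (fun i => ?_) fun i => ?_⟩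
    · rw [← hval (congrFun he i)]
      exact hb i e
    · rw [neg_mulVec, one_mulVec, neg_one_smul]
  · -- everything is diagonal in the eigenbasis
    have hdiag : ∀ (x : X) (i : Fin 3), (f x).1 *ᵥ b i = (b.repr ((f x).1 *ᵥ b i) i) • b i := by
      intro x i
      obtain ⟨e, he⟩ := hsurj fun j => decide (j ≠ i)
      have hei : χ i e = -1 := hval (by simpa using congrFun he i)
      have hej : ∀ j, j ≠ i → χ j e = 1 := fun j hj => by simpa [Φ, hj] using congrFun he j
      set v := (f x).1 *ᵥ b i with hv
      have h1 : ρ e *ᵥ v = -v := by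
        rw [hv, mulVec_mulVec]
        show ((f e).1 * (f x).1) *ᵥ b i = _
        rw [← Units.val_mul, ← map_mul, ← hcen e e.2 x, map_mul, Units.val_mul, ← mulVec_mulVec]
        show (f x).1 *ᵥ (ρ e *ᵥ b i) = _
        rw [hb, hei, neg_one_smul, mulVec_neg]
      refine b.repr.injective (Finsupp.ext fun j => ?_)
      by_cases hj : j = i
      · subst hj; simp
      · have h3 : b.repr (ρ e *ᵥ v) j = b.repr v j := by
          conv_lhs => rw [← b.sum_repr v]
          rw [mulVec_sum, map_sum, Finsupp.finsetSum_apply, Finset.sum_eq_single j]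
          · rw [mulVec_smul, hb, hej j hj, one_smul, map_smul]; simp
          · intro k _ hk
            rw [mulVec_smul, hb, map_smul, map_smul]
            simp [hk]
          · simp
        rw [h1, map_neg, Finsupp.neg_apply] at h3
        have h4 : b.repr v j = 0 := by
          have : (2 : F) * b.repr v j = 0 := by rw [two_mul]; nth_rw 1 [← h3]; rw [neg_add_cancel]
          exact (mul_eq_zero.1 this).resolve_left h2
        rw [h4, map_smul]
        simp [Ne.symm hj]
    intro x y
    refine hf (Units.ext ?_)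
    rw [map_mul, map_mul, Units.val_mul, Units.val_mul]
    refine CfsgLib.Inv2.eq_of_eigen b
      (c := fun i => b.repr ((f x).1 *ᵥ b i) i * b.repr ((f y).1 *ᵥ b i) i) (fun i => ?_) fun i => ?_
    · rw [← mulVec_mulVec, hdiag y i, mulVec_smul, hdiag x i, smul_smul, mul_comm]
      congr 1
      simp [mul_comm]
    · rw [← mulVec_mulVec, hdiag x i, mulVec_smul, hdiag y i, smul_smul]
      congr 1
      simp [mul_comm]

end CfsgLib.CentralTransfer
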