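import Cfsg.Agent.Transfer.Alperin
import Cfsg.Agent.Invol.SylowKernel

/-!
Fusion is generated by self-centralizing subgroups with automorphisms of odd order.
-/

set_option autoImplicit false
set_option linter.unusedSectionVars false
set_option linter.deprecated false
set_option linter.style.haveILetI false

namespace CfsgLib.CentricFusion

open Subgroup
open scoped Pointwise

variable {G : Type*} [Group G] [Finite G] {β : Type*}

theorem relIndex_dvd_index' (H C : Subgroup G) [C.Normal] : H.relIndex C ∣ H.index := by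
  have e : (H ⊓ C).relIndex C * C.index = (H ⊓ C).relIndex H * H.index := by
    rw [relIndex_mul_index inf_le_right, relIndex_mul_index inf_le_left]
  rw [inf_relIndex_right, inf_relIndex_left] at e
  obtain ⟨c, hc⟩ : C.relIndex H ∣ C.index := relIndex_dvd_index_of_normal C H
  rw [hc, mul_left_comm] at e
  refine Dvd.intro c (Nat.eq_of_mul_eq_mul_left (Nat.pos_of_ne_zero fun h => ?_) e)
  exact Subgroup.index_ne_zero_of_finite (H := C) (by rw [hc, h, zero_mul])

theorem conj_mem_of_normalizer {D : Subgroup G} {x u : G} (hx : x ∈ normalizer (D : Set G)) (hu : u ∈ D) :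
    x * u * x⁻¹ ∈ D :=
  (mem_normalizer_iff.1 hx u).1 hu

/-- If the automizer is a 2-group, the normalizer acts as the Sylow subgroup does. -/
theorem inner_of_pGroup_aut (S : Sylow 2 G) {D : Subgroup G}
    (hodd : ¬ 2 ∣ ((S : Subgroup G) ⊓ normalizer (D : Set G)).relIndex (normalizer (D : Set G)))
    (hA : IsPGroup 2 (MulAut D)) {x : G} (hx : x ∈ normalizer (D : Set G)) :
    ∃ s ∈ (S : Subgroup G), s ∈ normalizer (D : Set G) ∧ ∀ u ∈ D, x * u * x⁻¹ = s * u * s⁻¹ := by
  haveI : Fact (Nat.Prime 2) := ⟨Nat.prime_two⟩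
  set N := normalizer (D : Set G)
  set π := D.normalizerMonoidHom
  set T := ((S : Subgroup G) ⊓ N).subgroupOf N
  have htop : π.range ≤ T.map π := by
    rw [← relIndex_eq_one]
    have h1 : (T.map π).relIndex π.range ∣ T.index := by
      rw [MonoidHom.range_eq_map, relIndex_map_map, relIndex, ← relIndex]
      rw [top_sup_eq, relIndex_top_right]
      exact index_dvd_of_le le_sup_left
    obtain ⟨k, hk⟩ := (hA.to_subgroup π.range).index ((T.map π).subgroupOf π.range)
    have hk' : (T.map π).relIndex π.range = 2 ^ k := hk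
    rw [hk'] at h1 ⊢
    rcases Nat.eq_zero_or_pos k with h | h
    · rw [h, pow_zero]
    · exact absurd ((dvd_pow_self 2 h.ne').trans h1) hodd
  obtain ⟨s, hs, hsx⟩ := htop ⟨⟨x, hx⟩, rfl⟩
  refine ⟨s, (mem_subgroupOf.1 hs).1, s.2, fun u hu => ?_⟩
  exact (congrArg Subtype.val (DFunLike.congr_fun hsx ⟨u, hu⟩ : π s ⟨u, hu⟩ = π ⟨x, hx⟩ ⟨u, hu⟩)).symm

/-- A function on `S` invariant under `S` and under the normalizers of the self-centralizing subgroups
whose automorphism group is not a 2-group is invariant under fusion. -/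
theorem invariant_of_local (S : Sylow 2 G) (f : G → β)
    (hS : ∀ s ∈ (S : Subgroup G), ∀ u ∈ (S : Subgroup G), f (s * u * s⁻¹) = f u)
    (hloc : ∀ D : Subgroup G, D ≤ (S : Subgroup G) → (S : Subgroup G) ⊓ centralizer (D : Set G) ≤ D →
      ¬ IsPGroup 2 (MulAut D) → ∀ x ∈ normalizer (D : Set G), ∀ u ∈ D, f (x * u * x⁻¹) = f u)
    {u g : G} (hu : u ∈ (S : Subgroup G)) (hg : g * u * g⁻¹ ∈ (S : Subgroup G)) :
    f (g * u * g⁻¹) = f u := by
  haveI : Fact (Nat.Prime 2) := ⟨Nat.prime_two⟩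
  let Key : Subgroup G → Prop := fun D =>
    ¬ 2 ∣ ((S : Subgroup G) ⊓ normalizer (D : Set G)).relIndex (normalizer (D : Set G)) →
      ∀ x ∈ normalizer (D : Set G), ∀ u ∈ D, f (x * u * x⁻¹) = f u
  -- along a chain of tame intersections
  have along : ∀ m : ℕ, (∀ D : Subgroup G, D ≤ (S : Subgroup G) → m ≤ Nat.card D → Key D) →
      ∀ (A : Subgroup G) (g : G), A ≤ (S : Subgroup G) → m ≤ Nat.card A → Fusion.Conn S A g →
        ∀ u ∈ A, f (g⁻¹ * u * g) = f u := by
    intro m hm A g hA hmA hconn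
    induction hconn with
    | one A => intro u _; rw [inv_one, one_mul, mul_one]
    | step A Q x g hQ hAD hx _ ih =>
      intro u hu
      have hD : (S : Subgroup G) ⊓ Q ≤ S := inf_le_left
      have h1 := hm _ hD (hmA.trans (Subgroup.card_le_of_le hAD)) hQ.1 x⁻¹ (inv_mem hx) u (hAD hu)
      rw [inv_inv] at h1
      have hu' : x⁻¹ * u * x ∈ MulAut.conj x⁻¹ • A := ⟨u, hu, by simp⟩
      have hle : MulAut.conj x⁻¹ • A ≤ (S : Subgroup G) := by
        rintro _ ⟨a, ha, rfl⟩
        exact hD (conj_mem_of_normalizer (inv_mem hx) (hAD ha))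
      have hc : Nat.card ↥(MulAut.conj x⁻¹ • A) = Nat.card A :=
        card_map_of_injective (f := (MulAut.conj x⁻¹).toMonoidHom) (MulAut.conj x⁻¹).injective
      rw [show (x * g)⁻¹ * u * (x * g) = g⁻¹ * (x⁻¹ * u * x) * g by group,
        ih hle (hc ▸ hmA) _ hu', h1]
  have hkey : ∀ n : ℕ, ∀ D : Subgroup G, D ≤ (S : Subgroup G) → Nat.card S - Nat.card D = n → Key D := by
    intro n
    induction n using Nat.strongRecOn with | ind n ih => ?_
    intro D hDS hn hodd x hx u hu
    by_cases hC : (S : Subgroup G) ⊓ centralizer (D : Set G) ≤ D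
    · by_cases hA : IsPGroup 2 (MulAut D)
      · obtain ⟨s, hs, -, hact⟩ := inner_of_pGroup_aut S hodd hA hx
        rw [hact u hu, hS s hs u (hDS hu)]
      · exact hloc D hDS hC hA x hx u hu
    set N := normalizer (D : Set G)
    set C := centralizer (D : Set G)
    set CT := (S : Subgroup G) ⊓ C with hCT
    have hCN : C ≤ N := centralizer_le_normalizer _
    have hidx : ¬ 2 ∣ CT.relIndex C := by
      haveI : (C.subgroupOf N).Normal := by rw [← normalizerMonoidHom_ker]; infer_instance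
      have e1 : (CT.subgroupOf N).relIndex (C.subgroupOf N) = CT.relIndex C := relIndex_subgroupOf hCN
      have e2 : CT.subgroupOf N = ((S : Subgroup G) ⊓ N).subgroupOf N ⊓ C.subgroupOf N := by
        ext a
        simp only [mem_subgroupOf, mem_inf, hCT]
        exact ⟨fun h => ⟨⟨h.1, a.2⟩, h.2⟩, fun h => ⟨h.1.1, h.2⟩⟩
      intro hd
      refine hodd (hd.trans ?_)
      rw [← e1, e2, inf_relIndex_right]
      exact relIndex_dvd_index' _ _
    obtain ⟨m, hm, hmle⟩ := Fusion.exists_conj_le_of_sylow_relIndex (p := 2) (H := C) (T := CT)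
      (U := CT.map (MulAut.conj x).toMonoidHom) inf_le_right (S.2.to_le inf_le_left) hidx
      ((S.2.to_le inf_le_left).map _) (by
        rintro _ ⟨a, ha, rfl⟩
        refine mem_centralizer_iff.2 fun d hd => ?_
        have hd' : x⁻¹ * d * x ∈ D := by simpa using conj_mem_of_normalizer (inv_mem hx) hd
        have h1 := mem_centralizer_iff.1 ha.2 _ hd'
        show d * (x * a * x⁻¹) = x * a * x⁻¹ * d
        calc d * (x * a * x⁻¹) = x * ((x⁻¹ * d * x) * a) * x⁻¹ := by group
          _ = x * (a * (x⁻¹ * d * x)) * x⁻¹ := by rw [h1]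
          _ = x * a * x⁻¹ * d := by group)
    set y := m * x with hy
    have hmD : ∀ d ∈ D, m * d * m⁻¹ = d := fun d hd =>
      mul_inv_eq_iff_eq_mul.2 (mem_centralizer_iff.1 hm d hd).symm
    set D' := D ⊔ CT with hD'
    have hD'S : D' ≤ (S : Subgroup G) := sup_le hDS inf_le_left
    have hlt : Nat.card D < Nat.card D' :=
      lt_of_not_ge fun hge => hC (le_sup_right.trans (Subgroup.eq_of_le_of_card_ge (le_sup_left : D ≤ D') hge).ge)
    have hyD' : D'.map (MulAut.conj y).toMonoidHom ≤ D' := by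
      rw [hD', Subgroup.map_sup]
      refine sup_le_sup ?_ ?_
      · rintro _ ⟨d, hd, rfl⟩
        show y * d * y⁻¹ ∈ D
        rw [hy, show m * x * d * (m * x)⁻¹ = m * (x * d * x⁻¹) * m⁻¹ by group,
          hmD _ (conj_mem_of_normalizer hx hd)]
        exact conj_mem_of_normalizer hx hd
      · rintro _ ⟨a, ha, rfl⟩
        refine hmle ?_
        refine ⟨_, ⟨a, ha, rfl⟩, ?_⟩
        show m * (x * a * x⁻¹) * m⁻¹ = y * a * y⁻¹
        rw [hy]; group
    have hconn := Fusion.alperin (P := S) (g := y⁻¹) hD'S (by rw [inv_inv]; exact hyD'.trans hD'S)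
    have h1 := along (Nat.card D') (fun E hE hcard => ih _ (by have := Subgroup.card_le_of_le hE; omega) E hE rfl)
      D' y⁻¹ hD'S le_rfl hconn u (mem_sup_left hu)
    rw [inv_inv] at h1
    have h2 : x * u * x⁻¹ = y * u * y⁻¹ := by
      rw [hy, show m * x * u * (m * x)⁻¹ = m * (x * u * x⁻¹) * m⁻¹ by group, hmD _ (conj_mem_of_normalizer hx hu)]
    rw [h2, h1]
  have hconn := Fusion.alperin (P := S) (g := g⁻¹) (A := zpowers u) (zpowers_le.2 hu) (by
    rw [inv_inv]
    rintro _ ⟨a, ha, rfl⟩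
    obtain ⟨j, rfl⟩ := mem_zpowers_iff.1 ha
    show g * u ^ j * g⁻¹ ∈ _
    rw [← conj_zpow]; exact zpow_mem hg j)
  have := along 0 (fun D hD _ => hkey _ D hD rfl) _ _ (zpowers_le.2 hu) (Nat.zero_le _) hconn u (mem_zpowers u)
  rwa [inv_inv] at this

/-- A homomorphism on `S` invariant under fusion extends to a quotient of `G`. -/
theorem exists_kernel_hom (S : Sylow 2 G) {A : Type*} [CommGroup A] (φ : (S : Subgroup G) →* A)
    (hinv : ∀ (u : (S : Subgroup G)) (g : G) (h : g * u * g⁻¹ ∈ (S : Subgroup G)), φ ⟨_, h⟩ = φ u) :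
    ∃ K : Subgroup G, K.Normal ∧ K.index = φ.ker.index ∧ K.subgroupOf (S : Subgroup G) = φ.ker := by
  haveI : Fact (Nat.Prime 2) := ⟨Nat.prime_two⟩
  set ψ := φ.rangeRestrict
  haveI : Finite φ.range := Finite.of_surjective ψ φ.rangeRestrict_surjective
  set V := MonoidHom.transfer ψ
  have hcop : (Nat.card φ.range).Coprime (S : Subgroup G).index := by
    obtain ⟨k, hk⟩ := IsPGroup.iff_card.1 ((S.2).of_surjective ψ φ.rangeRestrict_surjective)
    rw [hk]
    exact ((Nat.Prime.coprime_iff_not_dvd Nat.prime_two).2 S.not_dvd_index).pow_left k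
  have hV : ∀ u : (S : Subgroup G), V u = ψ u ^ (S : Subgroup G).index := fun u => by
    refine FocalTransfer.transfer_eq_of_fusion ψ u.2 fun k g₀ h => ?_
    rw [← map_pow]
    refine Subtype.ext ?_
    show φ ⟨_, h⟩ = φ (u ^ k)
    have h' : g₀⁻¹ * ((u ^ k : (S : Subgroup G)) : G) * g₀⁻¹⁻¹ ∈ (S : Subgroup G) := by simpa using h
    exact (congrArg φ (Subtype.ext (by simp) : (⟨_, h⟩ : (S : Subgroup G)) = ⟨_, h'⟩)).trans (hinv _ _ h')
  have hsurj : Function.Surjective V := fun a => by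
    obtain ⟨b, rfl⟩ := (powCoprime hcop).surjective a
    obtain ⟨u, rfl⟩ := φ.rangeRestrict_surjective b
    exact ⟨u, hV u⟩
  refine ⟨V.ker, inferInstance, ?_, ?_⟩
  · rw [index_ker, index_ker, MonoidHom.range_eq_top.2 hsurj, card_top]
  · ext u
    rw [mem_subgroupOf, MonoidHom.mem_ker, hV, ← MonoidHom.ker_rangeRestrict φ, MonoidHom.mem_ker]
    exact ⟨fun h => (powCoprime hcop).injective (by show ψ u ^ _ = (1 : φ.range) ^ _; rw [h, one_pow]),
      fun h => by rw [h, one_pow]⟩

/-- The Sylow subgroup of such a kernel. -/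
theorem kernel_sylow_equiv (S : Sylow 2 G) {K M : Subgroup G} [K.Normal] (hM : K ⊓ (S : Subgroup G) = M)
    (P : Sylow 2 K) : Nonempty ((P : Subgroup K) ≃* M) := by
  haveI : Fact (Nat.Prime 2) := ⟨Nat.prime_two⟩
  have hMK : M ≤ K := hM ▸ inf_le_left
  have hW : IsPGroup 2 (M.subgroupOf K) := (S.2.to_le (hM ▸ inf_le_right : M ≤ _)).comap_subtype
  have hidx : ¬ 2 ∣ (M.subgroupOf K).index := fun h => by
    refine S.not_dvd_index (h.trans ?_)
    show M.relIndex K ∣ _
    rw [← hM, inf_comm, inf_relIndex_right]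
    exact relIndex_dvd_index' _ _
  exact ⟨((P.equiv (hW.toSylow hidx)).trans (MulEquiv.subgroupCongr rfl)).trans (subgroupOfEquivOfLe hMK)⟩

theorem complement_of_cyclic (S : Sylow 2 G) {K M : Subgroup G} [K.Normal] {a : ℕ} (hKi : K.index = 2 ^ a)
    (hM : K ⊓ (S : Subgroup G) = M) (hMc : IsCyclic M) (hM1 : M ≠ ⊥) : Cfsg.HasNormalPComplement 2 G := by
  haveI : Fact (Nat.Prime 2) := ⟨Nat.prime_two⟩
  obtain ⟨P⟩ : Nonempty (Sylow 2 K) := inferInstance
  obtain ⟨e⟩ := kernel_sylow_equiv S hM P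
  have hcyc : IsCyclic (P : Subgroup K) := e.isCyclic.2 hMc
  have heven : 2 ∣ Nat.card K := by
    refine dvd_trans ?_ (P : Subgroup K).card_subgroup_dvd_card
    rw [Nat.card_congr e.toEquiv]
    obtain ⟨j, hj⟩ := IsPGroup.iff_card.1 (S.2.to_le (hM ▸ inf_le_right : M ≤ _))
    rw [hj]
    refine dvd_pow_self 2 fun h => hM1 (card_eq_one.1 (by rw [hj, h, pow_zero]))
  have hp : (Nat.card K).minFac = 2 := (Nat.minFac_eq_two_iff _).2 heven
  have hKc : Cfsg.HasNormalPComplement 2 K := ⟨P, _, inferInstance, IsCyclic.isComplement' hp hcyc⟩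
  rw [CfsgLib.PResidual.hasNormalPComplement_iff] at hKc ⊢
  refine Nat.Coprime.coprime_dvd_left ?_ hKc
  have hle : Cfsg.pResidual 2 G ≤ (Cfsg.pResidual 2 K).map K.subtype := (closure_le _).2 fun g hg =>
    ⟨⟨g, CfsgLib.PResidual.pResidual_le hKi (CfsgLib.PResidual.mem_pResidual 2 hg)⟩,
      CfsgLib.PResidual.mem_pResidual 2 (by rw [Subgroup.orderOf_mk]; exact hg), rfl⟩
  exact (card_dvd_of_le hle).trans (dvd_of_eq (card_map_of_injective K.subtype_injective))

end CfsgLib.CentricFusion
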