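import Cfsg.Prelude.Def_CaseTheorems
import Cfsg.Agent.Invol.CentricFusion
import Cfsg.Agent.Invol.SmallSylow
import Cfsg.Agent.Invol.Dihedral

/-!
# Abelian Sylow 2-subgroups: involutions meet large subgroups up to fusion
-/

set_option autoImplicit false

namespace CfsgLib.AbelianFocal

open Subgroup
open scoped IsMulCommutative

variable {G : Type*} [Group G] [Finite G]

/-- The Sylow-normalizer average of a commutative Sylow 2-subgroup is trivial. -/
theorem average_trivial (hG : ∀ H : Subgroup G, H.index ≠ 2) (S : Sylow 2 G) [hS : IsMulCommutative (S : Subgroup G)]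
    [Fintype (normalizer ((S : Subgroup G) : Set G) ⧸ (S : Subgroup G).subgroupOf (normalizer ((S : Subgroup G) : Set G)))]
    (act : (normalizer ((S : Subgroup G) : Set G) ⧸ (S : Subgroup G).subgroupOf (normalizer ((S : Subgroup G) : Set G))) →
      (S : Subgroup G) →* (S : Subgroup G))
    (hact : ∀ q (s : (S : Subgroup G)), ((act q s : (S : Subgroup G)) : G) = (q.out : G) * s * ((q.out : G))⁻¹) :
    ∀ s : (S : Subgroup G), ∏ q, act q s = 1 := by
  haveI : Fact (Nat.Prime 2) := ⟨Nat.prime_two⟩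
  let φ : (S : Subgroup G) →* (S : Subgroup G) := MonoidHom.mk' (fun s => ∏ q, act q s) fun a b => by
    simp [Finset.prod_mul_distrib]
  have hSN : (S : Subgroup G) ≤ (normalizer ((S : Subgroup G) : Set G)) := le_normalizer
  have hinvN : ∀ (n : (normalizer ((S : Subgroup G) : Set G))) (s s' : (S : Subgroup G)), (s' : G) = (n : G) * s * (n : G)⁻¹ → φ s' = φ s := by
    intro n s s' h
    haveI : ((S : Subgroup G).subgroupOf (normalizer ((S : Subgroup G) : Set G))).Normal := normal_in_normalizer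
    show ∏ q, act q s' = ∏ q, act q s
    refine Fintype.prod_equiv (Equiv.mulRight (QuotientGroup.mk n : (normalizer ((S : Subgroup G) : Set G)) ⧸ (S : Subgroup G).subgroupOf (normalizer ((S : Subgroup G) : Set G)))) _ _ fun q => Subtype.ext ?_
    rw [hact, hact, h]
    obtain ⟨w, hw⟩ := QuotientGroup.mk_out_eq_mul ((S : Subgroup G).subgroupOf (normalizer ((S : Subgroup G) : Set G))) (q.out * n)
    have e : (Equiv.mulRight (QuotientGroup.mk n : (normalizer ((S : Subgroup G) : Set G)) ⧸ (S : Subgroup G).subgroupOf (normalizer ((S : Subgroup G) : Set G)))) q =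
        ((q.out * n : (normalizer ((S : Subgroup G) : Set G))) : (normalizer ((S : Subgroup G) : Set G)) ⧸ (S : Subgroup G).subgroupOf (normalizer ((S : Subgroup G) : Set G))) := by
      rw [QuotientGroup.mk_mul, QuotientGroup.out_eq']; rfl
    rw [e, hw]
    have hws : ((w : (normalizer ((S : Subgroup G) : Set G))) : G) * s = s * ((w : (normalizer ((S : Subgroup G) : Set G))) : G) :=
      congrArg Subtype.val (hS.is_comm.comm (⟨_, mem_subgroupOf.1 w.2⟩ : (S : Subgroup G)) s)
    calc (q.out : G) * ((n : G) * s * (n : G)⁻¹) * (q.out : G)⁻¹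
        = (q.out : G) * (n : G) * (((w : (normalizer ((S : Subgroup G) : Set G))) : G) * s * ((w : (normalizer ((S : Subgroup G) : Set G))) : G)⁻¹) * ((q.out : G) * (n : G))⁻¹ := by
          rw [hws, mul_inv_cancel_right]; group
      _ = ((q.out * n * (w : (normalizer ((S : Subgroup G) : Set G))) : (normalizer ((S : Subgroup G) : Set G))) : G) * s * ((q.out * n * (w : (normalizer ((S : Subgroup G) : Set G))) : (normalizer ((S : Subgroup G) : Set G))) : G)⁻¹ := by push_cast; group
  obtain ⟨K, hKn, hKi, -⟩ := CentricFusion.exists_kernel_hom S φ (fun u g hg => by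
    have h1 : g⁻¹⁻¹ * (u : G) * g⁻¹ ∈ (S : Subgroup G) := by rwa [inv_inv]
    obtain ⟨n, hn, e⟩ := S.conj_eq_normalizer_conj_of_mem u g⁻¹ u.2 h1
    rw [inv_inv] at e
    exact hinvN ⟨n⁻¹, inv_mem hn⟩ u ⟨_, hg⟩ (by rw [inv_inv]; exact e))
  haveI := hKn
  obtain ⟨a, ha⟩ := S.2.index φ.ker
  have ha0 : a = 0 := by
    by_contra h0
    obtain ⟨H, hH⟩ : ∃ H : Subgroup G, H.index = 2 := by
      obtain ⟨H, hH⟩ := SmallSylow.exists_index_two_of_isPGroup (X := G ⧸ K)
        (IsPGroup.of_card (n := a) (by rw [← index_eq_card, hKi, ha]))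
        (by rw [← index_eq_card, hKi, ha]; exact (Nat.one_lt_pow h0 one_lt_two).ne')
      exact ⟨H.comap (QuotientGroup.mk' K), by
        rw [index_comap_of_surjective _ (QuotientGroup.mk'_surjective K), hH]⟩
    exact hG H hH
  intro s
  have : φ.ker = ⊤ := index_eq_one.1 (by rw [ha, ha0, pow_zero])
  exact MonoidHom.mem_ker.1 (this ▸ mem_top s)

theorem main (hG : ∀ H : Subgroup G, H.index ≠ 2) (S : Sylow 2 G) (hS : IsMulCommutative (S : Subgroup G)) (r : ℕ)
    (hr1 : 1 ≤ r) (hSr : Cfsg.PRankLE 2 r (S : Subgroup G) ∧ ¬ Cfsg.PRankLE 2 (r - 1) (S : Subgroup G))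
    (R : Subgroup G) (hRS : R ≤ (S : Subgroup G))
    (hRr : Cfsg.PRankLE 2 (r - 1) R ∧ (r = 1 ∨ ¬ Cfsg.PRankLE 2 (r - 2) R))
    (t : G) (ht : orderOf t = 2) (htS : t ∈ (S : Subgroup G)) :
    ∃ n ∈ normalizer ((S : Subgroup G) : Set G), n * t * n⁻¹ ∈ R := by
  classical
  haveI : Fact (Nat.Prime 2) := ⟨Nat.prime_two⟩
  set N := normalizer ((S : Subgroup G) : Set G)
  haveI : ((S : Subgroup G).subgroupOf N).Normal := normal_in_normalizer
  haveI := Fintype.ofFinite (N ⧸ (S : Subgroup G).subgroupOf N)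
  let act : (N ⧸ (S : Subgroup G).subgroupOf N) → (S : Subgroup G) →* (S : Subgroup G) := fun q =>
    ((S : Subgroup G).normalizerMonoidHom q.out).toMonoidHom
  have hact : ∀ q (s : (S : Subgroup G)), ((act q s : (S : Subgroup G)) : G) = (q.out : G) * s * ((q.out : G))⁻¹ :=
    fun q s => rfl
  have htriv := average_trivial hG S act hact
  by_contra hno
  push Not at hno
  -- the elementary parts
  let Ω : Subgroup (S : Subgroup G) :=
    { carrier := {x | x ^ 2 = 1}
      one_mem' := one_pow 2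
      mul_mem' := fun {x y} hx hy => show (x * y) ^ 2 = 1 by
        rw [(show Commute x y from hS.is_comm.comm x y).mul_pow, hx, hy, one_mul]
      inv_mem' := fun {x} hx => show x⁻¹ ^ 2 = 1 by rw [inv_pow, hx, inv_one] }
  have hΩe : ∀ x ∈ Ω, x ^ 2 = 1 := fun x hx => hx
  have hΩc : IsMulCommutative Ω := ⟨⟨fun x y => Subtype.ext (hS.is_comm.comm _ _)⟩⟩
  set H0 := R.subgroupOf (S : Subgroup G) ⊓ Ω
  obtain ⟨a, haΩ⟩ := IsPGroup.iff_card.1 (S.2.to_subgroup Ω)
  obtain ⟨b, hb0⟩ := IsPGroup.iff_card.1 (S.2.to_subgroup H0)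
  have ha : a = r := by
    have h1 : 2 ^ a ≤ 2 ^ r := haΩ ▸ hSr.1 Ω hΩc hΩe
    have h2 : 2 ^ (r - 1) < 2 ^ a := by
      by_contra h2
      refine hSr.2 fun A _ hA => ?_
      calc Nat.card A ≤ Nat.card Ω := card_le_of_le fun x hx => hA x hx
        _ ≤ _ := by rw [haΩ]; omega
    have h3 := (Nat.pow_le_pow_iff_right one_lt_two).1 h1
    have h4 := (Nat.pow_lt_pow_iff_right one_lt_two).1 h2
    omega
  have hb : b = r - 1 := by
    let e := subgroupOfEquivOfLe hRS
    have h1 : 2 ^ b ≤ 2 ^ (r - 1) := by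
      rw [← hb0]
      refine le_trans ?_ (hRr.1 ((H0.subgroupOf (R.subgroupOf (S : Subgroup G))).map e.toMonoidHom) ?_ ?_)
      · rw [card_map_of_injective (f := e.toMonoidHom) e.injective, Nat.card_congr (subgroupOfEquivOfLe inf_le_left).toEquiv]
      · exact ⟨⟨fun x y => Subtype.ext (Subtype.ext
          (show ((x : R) : G) * (y : R) = (y : R) * (x : R) from
            congrArg Subtype.val (hS.is_comm.comm ⟨_, hRS (x : R).2⟩ ⟨_, hRS (y : R).2⟩)))⟩⟩
      · rintro _ ⟨y, hy, rfl⟩
        exact Subtype.ext (congrArg Subtype.val ((mem_subgroupOf.1 hy).2 : ((y : (S : Subgroup G))) ^ 2 = 1) : _)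
    have h3 := (Nat.pow_le_pow_iff_right one_lt_two).1 h1
    rcases hRr.2 with h | h
    · omega
    · have h2 : 2 ^ (r - 2) < 2 ^ b := by
        by_contra h2
        refine h fun A _ hA => ?_
        calc Nat.card A = Nat.card ((A.map R.subtype).subgroupOf (S : Subgroup G)) := by
              rw [Nat.card_congr (subgroupOfEquivOfLe ((map_subtype_le A).trans hRS)).toEquiv,
                card_map_of_injective R.subtype_injective]
          _ ≤ Nat.card H0 := card_le_of_le fun x hx => by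
              obtain ⟨y, hy, e⟩ := mem_subgroupOf.1 hx
              refine ⟨mem_subgroupOf.2 (e ▸ y.2), Subtype.ext ?_⟩
              show ((x : G)) ^ 2 = 1
              rw [← e]
              exact congrArg Subtype.val (hA y hy)
          _ ≤ _ := by rw [hb0]; omega
      have h4 := (Nat.pow_lt_pow_iff_right one_lt_two).1 h2
      omega
  have hidx : (H0.subgroupOf Ω).index = 2 := by
    have h := (H0.subgroupOf Ω).index_mul_card
    rw [Nat.card_congr (subgroupOfEquivOfLe (inf_le_right : H0 ≤ Ω)).toEquiv, hb0, haΩ, ha, hb] at h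
    refine Nat.eq_of_mul_eq_mul_right (pow_pos two_pos (r - 1)) (h.trans ?_)
    rw [← pow_succ', Nat.sub_add_cancel hr1]
  -- conjugates of `t` lie outside `H0`
  have htΩ : ∀ q, act q ⟨t, htS⟩ ∈ Ω := fun q => by
    show (act q ⟨t, htS⟩) ^ 2 = 1
    rw [← map_pow, show (⟨t, htS⟩ : (S : Subgroup G)) ^ 2 = 1 from Subtype.ext (by
      push_cast; rw [sq]; exact CfsgLib.Invol.mul_self_eq_one ht), map_one]
  have hout : ∀ q, (⟨_, htΩ q⟩ : Ω) ∉ H0.subgroupOf Ω := fun q hq => by
    have h1 : ((act q ⟨t, htS⟩ : (S : Subgroup G)) : G) ∈ R := (mem_subgroupOf.1 hq).1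
    rw [hact] at h1
    exact hno _ (q.out).2 h1
  -- an odd product of elements outside a subgroup of index two is outside
  have hkey : ∀ s : Finset (N ⧸ (S : Subgroup G).subgroupOf N),
      ∃ hm : ∏ q ∈ s, act q ⟨t, htS⟩ ∈ Ω, ((⟨_, hm⟩ : Ω) ∈ H0.subgroupOf Ω ↔ Even s.card) := by
    intro s
    induction s using Finset.induction_on with
    | empty => exact ⟨by simp [one_mem], iff_of_true (by simp [one_mem, mem_subgroupOf]) (by simp)⟩
    | insert q s hq ih =>
      obtain ⟨hm, hiff⟩ := ih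
      have hm' : ∏ x ∈ insert q s, act x ⟨t, htS⟩ ∈ Ω := by rw [Finset.prod_insert hq]; exact mul_mem (htΩ q) hm
      refine ⟨hm', ?_⟩
      rw [show (⟨_, hm'⟩ : Ω) = ⟨_, htΩ q⟩ * ⟨_, hm⟩ from Subtype.ext (Finset.prod_insert hq),
        mul_mem_iff_of_index_two hidx, hiff, Finset.card_insert_of_notMem hq, Nat.even_add_one]
      have := hout q
      tauto
  obtain ⟨hm, hiff⟩ := hkey Finset.univ
  have h1 : Even (Finset.univ : Finset (N ⧸ (S : Subgroup G).subgroupOf N)).card := hiff.1 (by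
    rw [show (⟨_, hm⟩ : Ω) = 1 from Subtype.ext (htriv _)]
    exact one_mem _)
  rw [Finset.card_univ, ← Nat.card_eq_fintype_card, ← index_eq_card] at h1
  exact S.not_dvd_index (h1.two_dvd.trans (relIndex_dvd_index_of_le le_normalizer))

end CfsgLib.AbelianFocal
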