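import Cfsg.Prelude.Def_Local
import Cfsg.Agent.Comp.Basic
import Mathlib.GroupTheory.SpecificGroups.Alternating.Simple

/-!
Alternating subgroups on subsets of the points, and standard subgroups among them.
-/

set_option autoImplicit false

namespace CfsgLib.AltStd

open Equiv Subgroup
open scoped Pointwise

variable {α : Type*} [Fintype α] [DecidableEq α]

/-- The alternating group on the points of `s`, inside the alternating group on `α`. -/
def R (s : Finset α) : Subgroup (alternatingGroup α) := (alternatingGroup.ofSubtype s).range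

theorem mem_R {s : Finset α} {g : alternatingGroup α} :
    g ∈ R s ↔ ∀ x, x ∉ s → (g : Perm α) x = x := by
  constructor
  · rintro ⟨k, rfl⟩ x hx
    exact Perm.ofSubtype_apply_of_not_mem _ hx
  · intro h
    have hiff : ∀ x, (g : Perm α) x ∈ s ↔ x ∈ s := by
      intro x
      refine ⟨fun hx => by_contra fun hx' => hx' (h x hx' ▸ hx), fun hx => by_contra fun hx' => ?_⟩
      have := (g : Perm α).injective (h _ hx')
      exact hx' (by rw [this]; exact hx)
    have ho : Perm.ofSubtype ((g : Perm α).subtypePerm hiff) = (g : Perm α) :=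
      Perm.ofSubtype_subtypePerm _ (fun x hx => by_contra fun hx' => hx (h x hx'))
    refine ⟨⟨(g : Perm α).subtypePerm hiff, ?_⟩, Subtype.ext ho⟩
    have := Perm.sign_ofSubtype ((g : Perm α).subtypePerm hiff)
    rw [ho, Perm.mem_alternatingGroup.mp g.2] at this
    exact Perm.mem_alternatingGroup.mpr this.symm

/-- A 3-cycle. -/
def cyc (a b c : α) (hab : a ≠ b) (hbc : b ≠ c) : alternatingGroup α :=
  ⟨swap a b * swap b c, by
    rw [Perm.mem_alternatingGroup, map_mul, Perm.sign_swap hab, Perm.sign_swap hbc]; rfl⟩

theorem cyc_mem {s : Finset α} {a b c : α} (hab : a ≠ b) (hbc : b ≠ c)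
    (ha : a ∈ s) (hb : b ∈ s) (hc : c ∈ s) : cyc a b c hab hbc ∈ R s := by
  rw [mem_R]
  intro x hx
  show swap a b (swap b c x) = x
  rw [swap_apply_of_ne_of_ne (ne_of_mem_of_not_mem hb hx).symm (ne_of_mem_of_not_mem hc hx).symm,
    swap_apply_of_ne_of_ne (ne_of_mem_of_not_mem ha hx).symm (ne_of_mem_of_not_mem hb hx).symm]

theorem cyc_move {a b c : α} (hab : a ≠ b) (hbc : b ≠ c) (hac : a ≠ c) :
    ((cyc a b c hab hbc : alternatingGroup α) : Perm α) a = b := by
  show swap a b (swap b c a) = b
  rw [swap_apply_of_ne_of_ne hab hac, swap_apply_left]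

theorem exists_two {s : Finset α} (x : α) (hs : 3 ≤ s.card) :
    ∃ a ∈ s, ∃ b ∈ s, a ≠ b ∧ a ≠ x ∧ b ≠ x := by
  have : 1 < (s.erase x).card := by
    have := Finset.pred_card_le_card_erase (s := s) (a := x); omega
  obtain ⟨a, ha, b, hb, hab⟩ := Finset.one_lt_card.1 this
  exact ⟨a, Finset.mem_of_mem_erase ha, b, Finset.mem_of_mem_erase hb, hab,
    Finset.ne_of_mem_erase ha, Finset.ne_of_mem_erase hb⟩

theorem subset_of_le {s t : Finset α} (hs : 3 ≤ s.card) (h : R s ≤ R t) : s ⊆ t := by
  intro x hx
  by_contra hx'
  obtain ⟨a, ha, b, hb, hab, hax, hbx⟩ := exists_two x hs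
  have := (mem_R.1 (h (cyc_mem hax.symm hab hx ha hb))) x hx'
  rw [cyc_move hax.symm hab hbx.symm] at this
  exact hax this

theorem eq_of_R_eq {s t : Finset α} (hs : 3 ≤ s.card) (ht : 3 ≤ t.card) (h : R s = R t) : s = t :=
  Finset.Subset.antisymm (subset_of_le hs h.le) (subset_of_le ht h.ge)

theorem R_inf (s t : Finset α) : R s ⊓ R t = R (s ∩ t) := by
  ext g
  simp only [Subgroup.mem_inf, mem_R, Finset.mem_inter, not_and_or]
  exact ⟨fun h x hx => hx.elim (h.1 x) (h.2 x),
    fun h => ⟨fun x hx => h x (Or.inl hx), fun x hx => h x (Or.inr hx)⟩⟩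

theorem map_conj (g : alternatingGroup α) (s : Finset α) :
    (R s).map (MulAut.conj g).toMonoidHom = R (s.map (g : Perm α).toEmbedding) := by
  ext h
  rw [Subgroup.mem_map_equiv, mem_R, mem_R]
  constructor
  · intro H x hx
    have := H ((g : Perm α).symm x) (fun hc => hx (Finset.mem_map.2 ⟨_, hc, by simp⟩))
    simp [Equiv.symm_apply_eq] at this
    exact this
  · intro H x hx
    have := H ((g : Perm α) x) (fun hc => hx (by simpa using hc))
    simp [this]

theorem mem_normalizer {s : Finset α} (hs : 3 ≤ s.card) (g : alternatingGroup α) :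
    g ∈ normalizer (R s : Set (alternatingGroup α)) ↔ s.map (g : Perm α).toEmbedding = s := by
  rw [Subgroup.mem_normalizer_iff_map_conj_eq]
  constructor
  · intro h
    exact eq_of_R_eq (by rwa [Finset.card_map]) hs ((map_conj g s).symm.trans h)
  · intro h
    exact (map_conj g s).trans (by rw [h])

theorem centralizer_R {s : Finset α} (hs : 4 ≤ s.card) :
    centralizer (R s : Set (alternatingGroup α)) = R sᶜ := by
  ext g
  rw [Subgroup.mem_centralizer_iff, mem_R]
  constructor
  · intro H x hx
    rw [Finset.mem_compl, not_not] at hx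
    by_contra hne
    set y := (g : Perm α) x with hy
    have key : ∀ σ ∈ R s, (g : Perm α) ((σ : Perm α) x) = (σ : Perm α) y := fun σ hσ => by
      have := congrArg (fun u : alternatingGroup α => (u : Perm α) x) (H σ hσ)
      simpa [hy] using this.symm
    by_cases hys : y ∈ s
    · obtain ⟨a, ha, b, hb, hab, hay, hby⟩ := exists_two (s := s.erase x) y
        (by rw [Finset.card_erase_of_mem hx]; omega)
      have ha' := Finset.mem_of_mem_erase ha
      have hb' := Finset.mem_of_mem_erase hb
      have h1 := key _ (cyc_mem hay.symm hab hys ha' hb')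
      rw [cyc_move hay.symm hab hby.symm] at h1
      have h2 : ((cyc y a b hay.symm hab : alternatingGroup α) : Perm α) x = x := by
        show swap y a (swap a b x) = x
        rw [swap_apply_of_ne_of_ne (Finset.ne_of_mem_erase ha).symm (Finset.ne_of_mem_erase hb).symm,
          swap_apply_of_ne_of_ne (Ne.symm hne) (Finset.ne_of_mem_erase ha).symm]
      rw [h2] at h1
      exact hay h1.symm
    · obtain ⟨a, ha, b, hb, hab, hax, hbx⟩ := exists_two x (show 3 ≤ s.card by omega)
      have h1 := key _ (cyc_mem hax.symm hab hx ha hb)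
      rw [cyc_move hax.symm hab hbx.symm] at h1
      have h2 : ((cyc x a b hax.symm hab : alternatingGroup α) : Perm α) y = y :=
        mem_R.1 (cyc_mem hax.symm hab hx ha hb) y hys
      rw [h2, hy] at h1
      exact hax ((g : Perm α).injective h1)
  · intro H k hk
    apply Subtype.ext
    apply Equiv.ext
    intro x
    rw [SetLike.mem_coe, mem_R] at hk
    show (k : Perm α) ((g : Perm α) x) = (g : Perm α) ((k : Perm α) x)
    by_cases hx : x ∈ s
    · rw [H x (by simpa using hx)]
      by_cases hk' : (k : Perm α) x ∈ s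
      · rw [H _ (by simpa using hk')]
      · have := (k : Perm α).injective (hk _ hk')
        exact absurd (by rw [this]; exact hx) hk'
    · rw [hk x hx]
      by_cases hg : (g : Perm α) x ∈ s
      · have := (g : Perm α).injective (H _ (by simpa using hg))
        exact absurd (by rw [← this]; exact hg) hx
      · rw [hk _ hg]

theorem odd_card {u : Finset α} (hu : u.card ≤ 3) : Odd (Nat.card (R u)) := by
  rw [R, ← Nat.card_congr (MonoidHom.ofInjective alternatingGroup.ofSubtype_injective).toEquiv]
  rcases Nat.lt_or_ge u.card 2 with h | h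
  · haveI : Subsingleton u := Fintype.card_le_one_iff_subsingleton.1 (by rw [Fintype.card_coe]; omega)
    rw [Nat.card_eq_one_iff_unique.2 ⟨inferInstance, inferInstance⟩]
    exact odd_one
  · haveI : Nontrivial u := Fintype.one_lt_card_iff_nontrivial.1 (by rw [Fintype.card_coe]; omega)
    have h1 := two_mul_card_alternatingGroup (α := u)
    rw [← Nat.card_eq_fintype_card, Fintype.card_perm, Fintype.card_coe] at h1
    rw [Nat.odd_iff]
    rcases (show u.card = 2 ∨ u.card = 3 by omega) with h2 | h2 <;> rw [h2] at h1 <;>
      simp only [show Nat.factorial 2 = 2 from rfl, show Nat.factorial 3 = 6 from rfl] at h1 <;> omega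

theorem isStandard {W : Finset α} (hW : 5 ≤ W.card) (hc : Wᶜ.card = 4) :
    Cfsg.IsStandardSubgroup (R W) := by
  classical
  haveI hs : IsSimpleGroup (alternatingGroup W) :=
    alternatingGroup.isSimpleGroup (by rw [Nat.card_eq_fintype_card, Fintype.card_coe]; exact hW)
  let e : alternatingGroup W ≃* R W := MonoidHom.ofInjective alternatingGroup.ofSubtype_injective
  obtain ⟨a, ha, b, hb, hab⟩ := Finset.one_lt_card.1 (show 1 < W.card by omega)
  obtain ⟨c, hcW, d, hd, hcd, hca, hda⟩ := exists_two a (show 3 ≤ W.card by omega)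
  have hnab : center (alternatingGroup W) = ⊥ := by
    rcases (inferInstance : (center (alternatingGroup W)).Normal).eq_bot_or_eq_top with h | h
    · exact h
    · exfalso
      have hall : ∀ g k : R W, g * k = k * g := fun g k => e.symm.injective (by
        rw [map_mul, map_mul]
        exact Subgroup.mem_center_iff.1 (h ▸ mem_top (e.symm k)) (e.symm g))
      have hle : R W ≤ centralizer (R W : Set (alternatingGroup α)) := fun g hg k hk =>
        congrArg Subtype.val (hall ⟨k, hk⟩ ⟨g, hg⟩)
      rw [centralizer_R (by omega)] at hle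
      exact Finset.mem_compl.1 (subset_of_le (by omega) hle ha) ha
  have hq : Cfsg.IsQuasisimple (alternatingGroup W) := by
    refine ⟨⟨?_⟩, ?_⟩
    · rcases (inferInstance : (commutator (alternatingGroup W)).Normal).eq_bot_or_eq_top with h | h
      · exfalso
        have hle : (⊤ : Subgroup (alternatingGroup W)) ≤ center (alternatingGroup W) := by
          rw [commutator_def, commutator_eq_bot_iff_le_centralizer, coe_top, centralizer_univ] at h
          exact h
        rw [hnab] at hle
        exact top_ne_bot (le_bot_iff.1 hle)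
      · exact h
    · exact (QuotientGroup.quotientMulEquivOfEq hnab).trans
        QuotientGroup.quotientBot |>.isSimpleGroup
  refine ⟨Comp.isQuasisimple_of_equiv e hq, ⟨?_, ?_⟩, ?_, ?_⟩
  · rw [centralizer_R (by omega)]
    obtain ⟨p, q, r, s, hpq, hpr, hps, hqr, hqs, hrs, hS⟩ : ∃ p q r s : α, p ≠ q ∧ p ≠ r ∧ p ≠ s ∧
        q ≠ r ∧ q ≠ s ∧ r ≠ s ∧ Wᶜ = {p, q, r, s} := Finset.card_eq_four.1 hc
    let x : alternatingGroup α := ⟨swap p q * swap r s, by
      rw [Perm.mem_alternatingGroup, map_mul, Perm.sign_swap hpq, Perm.sign_swap hrs]; rfl⟩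
    have hx : x ∈ R Wᶜ := by
      rw [mem_R]
      intro y hy
      rw [hS] at hy
      simp only [Finset.mem_insert, Finset.mem_singleton, not_or] at hy
      show swap p q (swap r s y) = y
      rw [swap_apply_of_ne_of_ne hy.2.2.1 hy.2.2.2, swap_apply_of_ne_of_ne hy.1 hy.2.1]
    have h2 : orderOf (⟨x, hx⟩ : R Wᶜ) = 2 := by
      rw [← Subgroup.orderOf_coe]
      refine orderOf_eq_prime ?_ ?_
      · apply Subtype.ext
        show (swap p q * swap r s) ^ 2 = 1
        have hcm : Commute (swap p q) (swap r s) :=
          (Perm.disjoint_swap_swap (by simp [hpq, hpr, hps, hqr, hqs, hrs])).commute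
        rw [hcm.mul_pow, pow_two, pow_two, swap_mul_self, swap_mul_self, one_mul]
      · intro h
        have := congrArg (fun u : alternatingGroup α => (u : Perm α) p) h
        simp [x, swap_apply_of_ne_of_ne hpr hps] at this
        exact hpq this.symm
    exact even_iff_two_dvd.2 (h2 ▸ orderOf_dvd_natCard _)
  · intro g hg
    rw [centralizer_R (by omega)] at hg ⊢
    rw [map_conj, R_inf]
    refine odd_card ?_
    by_contra h
    apply hg
    rw [mem_normalizer (by omega)]
    have h1 : Wᶜ ∩ Wᶜ.map (g : Perm α).toEmbedding = Wᶜ.map (g : Perm α).toEmbedding :=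
      Finset.eq_of_subset_of_card_le Finset.inter_subset_right (by rw [Finset.card_map]; omega)
    refine Finset.eq_of_subset_of_card_le ?_ (by rw [Finset.card_map])
    rw [← h1]
    exact Finset.inter_subset_left
  · intro g _ h
    rw [commutator_eq_bot_iff_le_centralizer, map_conj, le_centralizer_iff,
      centralizer_R (by omega)] at h
    have := Finset.card_le_card (subset_of_le (by rw [Finset.card_map]; omega) h)
    rw [Finset.card_map] at this
    omega
  · rw [centralizer_R (by omega)]
    ext g
    rw [mem_normalizer (by omega), mem_normalizer (by omega)]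
    constructor
    · intro h
      ext y
      simp only [Finset.mem_map_equiv, Finset.mem_compl]
      have := Finset.ext_iff.1 h y
      simp only [Finset.mem_map_equiv] at this
      rw [this]
    · intro h
      ext y
      have := Finset.ext_iff.1 h y
      simp only [Finset.mem_map_equiv, Finset.mem_compl] at this ⊢
      exact not_iff_not.1 this

end CfsgLib.AltStd
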