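import Mathlib
import Cfsg.Agent.Solvable.PGroupBasic

/-!
Sylow 2-subgroups of an overgroup of index 4 of the alternating group of degree 6 meet nontrivially.
-/

set_option autoImplicit false

open scoped Pointwise
open Equiv

namespace CfsgLib.AutAltSix

/-- A fixed double transposition. -/
def z0 : Perm (Fin 6) := swap 0 1 * swap 2 3

theorem count_three : (Finset.univ.filter fun g : Perm (Fin 6) =>
    g * g = 1 ∧ Perm.sign g = 1 ∧ (z0 * g) ^ 3 = 1).card < 32 := by decide +kernel

theorem count_five : (Finset.univ.filter fun g : Perm (Fin 6) =>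
    g * g = 1 ∧ Perm.sign g = 1 ∧ (z0 * g) ^ 5 = 1).card < 32 := by decide +kernel

theorem count_centralizer : (Finset.univ.filter fun g : Perm (Fin 6) =>
    z0 * g = g * z0 ∧ Perm.sign g = 1).card ≤ 8 := by decide +kernel

theorem product_cases : ∀ g : Perm (Fin 6), g * g = 1 → Perm.sign g = 1 →
    (z0 * g) ^ 4 = 1 ∨ (z0 * g) ^ 3 = 1 ∨ (z0 * g) ^ 5 = 1 := by decide +kernel

theorem cycleType_invol : ∀ g : Perm (Fin 6), g * g = 1 → Perm.sign g = 1 → g ≠ 1 →
    g.cycleType = z0.cycleType := by decide +kernel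

/-- The counts hold at every involution of the alternating group. -/
theorem alt_counts {a : alternatingGroup (Fin 6)} (ha : a * a = 1) (ha1 : a ≠ 1) :
    Nat.card {g : alternatingGroup (Fin 6) // g * g = 1 ∧ (a * g) ^ 3 = 1} < 32 ∧
    Nat.card {g : alternatingGroup (Fin 6) // g * g = 1 ∧ (a * g) ^ 5 = 1} < 32 ∧
    Nat.card {g : alternatingGroup (Fin 6) // a * g = g * a} ≤ 8 ∧
    ∀ g : alternatingGroup (Fin 6), g * g = 1 → (a * g) ^ 4 = 1 ∨ (a * g) ^ 3 = 1 ∨ (a * g) ^ 5 = 1 := by
  classical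
  have hc : IsConj (a : Perm (Fin 6)) z0 := Perm.isConj_iff_cycleType_eq.2
    (cycleType_invol _ (congrArg Subtype.val ha) (Perm.mem_alternatingGroup.1 a.2)
      (fun h => ha1 (Subtype.ext h)))
  obtain ⟨c, hc⟩ := isConj_iff.1 hc
  let φ := MulAut.conj c
  have hφ : φ (a : Perm (Fin 6)) = z0 := hc
  have hs : ∀ g : alternatingGroup (Fin 6), Perm.sign (φ (g : Perm (Fin 6))) = 1 := fun g => by
    rw [MulAut.conj_apply, map_mul, map_mul, Perm.mem_alternatingGroup.1 g.2, mul_one, map_inv, mul_inv_cancel]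
  have hsq : ∀ g : alternatingGroup (Fin 6), g * g = 1 → φ (g : Perm (Fin 6)) * φ (g : Perm (Fin 6)) = 1 := by
    intro g hg
    rw [← map_mul, show (g : Perm (Fin 6)) * g = 1 from congrArg Subtype.val hg, map_one]
  have hpow : ∀ (g : alternatingGroup (Fin 6)) (k : ℕ), (a * g) ^ k = 1 ↔ (z0 * φ (g : Perm (Fin 6))) ^ k = 1 := by
    intro g k
    rw [← hφ, ← map_mul, ← map_pow, MulEquiv.map_eq_one_iff]
    exact Subtype.ext_iff
  have hinj : ∀ {g g' : alternatingGroup (Fin 6)}, φ (g : Perm (Fin 6)) = φ (g' : Perm (Fin 6)) → g = g' :=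
    fun h => Subtype.ext (φ.injective h)
  refine ⟨?_, ?_, ?_, fun g hg => ?_⟩
  · refine lt_of_le_of_lt ?_ count_three
    rw [← Fintype.card_coe, ← Nat.card_eq_fintype_card]
    exact Nat.card_le_card_of_injective
      (fun g => ⟨φ (g.1 : Perm (Fin 6)), Finset.mem_filter.2
        ⟨Finset.mem_univ _, hsq _ g.2.1, hs _, (hpow _ 3).1 g.2.2⟩⟩)
      (fun g g' h => Subtype.ext (hinj (congrArg Subtype.val h)))
  · refine lt_of_le_of_lt ?_ count_five
    rw [← Fintype.card_coe, ← Nat.card_eq_fintype_card]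
    exact Nat.card_le_card_of_injective
      (fun g => ⟨φ (g.1 : Perm (Fin 6)), Finset.mem_filter.2
        ⟨Finset.mem_univ _, hsq _ g.2.1, hs _, (hpow _ 5).1 g.2.2⟩⟩)
      (fun g g' h => Subtype.ext (hinj (congrArg Subtype.val h)))
  · refine le_trans ?_ count_centralizer
    rw [← Fintype.card_coe, ← Nat.card_eq_fintype_card]
    refine Nat.card_le_card_of_injective
      (fun g => ⟨φ (g.1 : Perm (Fin 6)), Finset.mem_filter.2 ⟨Finset.mem_univ _, ?_, hs _⟩⟩)
      (fun g g' h => Subtype.ext (hinj (congrArg Subtype.val h)))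
    rw [← hφ, ← map_mul, ← map_mul, show (a : Perm (Fin 6)) * g.1 = g.1 * a from congrArg Subtype.val g.2]
  · rcases product_cases _ (hsq g hg) (hs g) with h | h | h
    · exact Or.inl ((hpow g 4).2 h)
    · exact Or.inr (Or.inl ((hpow g 3).2 h))
    · exact Or.inr (Or.inr ((hpow g 5).2 h))

theorem sylow_inf {G : Type*} [Group G] [Finite G] (N : Subgroup G) [N.Normal]
    (e : N ≃* alternatingGroup (Fin 6)) (hidx : N.index = 4) (H : Sylow 2 G) (x : G) :
    (H : Subgroup G) ⊓ MulAut.conj x • (H : Subgroup G) ≠ ⊥ := by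
  classical
  haveI : Fact (Nat.Prime 2) := ⟨Nat.prime_two⟩
  have hN : Nat.card N = 360 := by
    rw [Nat.card_congr e.toEquiv, nat_card_alternatingGroup, Nat.card_fin]; decide
  have hG : Nat.card G = 1440 := by rw [← Subgroup.card_mul_index N, hN, hidx]
  have hH : Nat.card (H : Subgroup G) = 32 := by
    rw [H.card_eq_multiplicity, hG, show (1440 : ℕ) = 2 ^ 5 * 45 by norm_num,
      Nat.factorization_mul_apply_of_coprime (by norm_num), Nat.Prime.factorization_pow Nat.prime_two,
      Finsupp.single_eq_same, Nat.factorization_eq_zero_of_not_dvd (by norm_num)]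
    norm_num
  -- a central involution of `H` inside `N`
  have hM : N.subgroupOf (H : Subgroup G) ≠ ⊥ := by
    intro h
    rw [Subgroup.subgroupOf_eq_bot, disjoint_iff] at h
    have := Nat.le_of_dvd Nat.card_pos ((Subgroup.card_dvd_of_le (show N ⊔ (H : Subgroup G) ≤ ⊤ from le_top)).trans
      (dvd_of_eq Subgroup.card_top))
    have h2 : Nat.card ↥(N ⊔ (H : Subgroup G)) = Nat.card N * Nat.card (H : Subgroup G) := by
      rw [← Nat.card_prod]
      refine (Nat.card_eq_of_bijective (fun y : N × (H : Subgroup G) =>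
        (⟨y.1.1 * y.2.1, Subgroup.mul_mem_sup y.1.2 y.2.2⟩ : ↥(N ⊔ (H : Subgroup G)))) ⟨?_, ?_⟩).symm
      · intro y y' hy
        exact Subgroup.mul_injective_of_disjoint (disjoint_iff.2 h) (congrArg Subtype.val hy)
      · intro y
        have hy : (y : G) ∈ ((N ⊔ (H : Subgroup G) : Subgroup G) : Set G) := y.2
        rw [Subgroup.normal_mul] at hy
        obtain ⟨a, ha, b, hb, hab⟩ := hy
        exact ⟨(⟨a, ha⟩, ⟨b, hb⟩), Subtype.ext hab⟩
    rw [h2, hN, hH, hG] at this
    omega
  haveI : (N.subgroupOf (H : Subgroup G)).Normal := Subgroup.Normal.subgroupOf (inferInstance : N.Normal) _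
  haveI : Group.IsNilpotent (H : Subgroup G) := H.isPGroup'.isNilpotent
  have hZ := CfsgLib.PGroupBasic.inf_center_ne_bot (N.subgroupOf (H : Subgroup G)) hM
  obtain ⟨y, hy, hord⟩ : ∃ y ∈ N.subgroupOf (H : Subgroup G) ⊓ Subgroup.center (H : Subgroup G), orderOf y = 2 := by
    set I := N.subgroupOf (H : Subgroup G) ⊓ Subgroup.center (H : Subgroup G)
    have hI : 2 ∣ Nat.card I := by
      obtain ⟨k, hk⟩ := (H.isPGroup'.to_subgroup I).exists_card_eq
      have : Nontrivial I := (Subgroup.nontrivial_iff_ne_bot I).2 hZ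
      rcases k with _ | k
      · exact absurd hk (by have := Finite.one_lt_card (α := I); simp; omega)
      · rw [hk]; exact dvd_pow_self 2 k.succ_ne_zero
    obtain ⟨y, hy⟩ := exists_prime_orderOf_dvd_card' (G := I) 2 hI
    exact ⟨y, y.2, by rw [Subgroup.orderOf_coe]; exact hy⟩
  obtain ⟨hyN, hyZ⟩ := hy
  set z : G := ((y : (H : Subgroup G)) : G) with hz
  have hzN : z ∈ N := hyN
  have hord' : orderOf z = 2 := by rw [hz, Subgroup.orderOf_coe, hord]
  have hz2 : z * z = 1 := by rw [← pow_two, ← hord', pow_orderOf_eq_one]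
  have hz1 : z ≠ 1 := fun h => by rw [h, orderOf_one] at hord'; omega
  have hHz : (H : Subgroup G) ≤ Subgroup.centralizer {z} := by
    intro h hh
    rw [Subgroup.mem_centralizer_singleton_iff]
    exact congrArg Subtype.val (Subgroup.mem_center_iff.1 hyZ ⟨h, hh⟩)
  let ez : N := ⟨z, hzN⟩
  have hez2 : e ez * e ez = 1 := by rw [← map_mul, show ez * ez = 1 from Subtype.ext hz2, map_one]
  have hez1 : e ez ≠ 1 := by rw [Ne, MulEquiv.map_eq_one_iff]; exact fun h => hz1 (congrArg Subtype.val h)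
  obtain ⟨h3, h5, hC, hcases⟩ := alt_counts hez2 hez1
  -- `H` is the whole centralizer of `z`
  have hCz : Subgroup.centralizer {z} = (H : Subgroup G) := by
    refine (Subgroup.eq_of_le_of_card_ge hHz ?_).symm
    rw [hH]
    have hCN : Nat.card ↥(Subgroup.centralizer {z} ⊓ N) ≤ 8 := by
      refine le_trans (Nat.card_le_card_of_injective (fun c => (⟨e ⟨c.1, c.2.2⟩, ?_⟩ :
        {g : alternatingGroup (Fin 6) // e ez * g = g * e ez})) ?_) hC
      · rw [← map_mul, ← map_mul]
        exact congrArg e (Subtype.ext (Subgroup.mem_centralizer_singleton_iff.1 c.2.1).symm)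
      · intro c c' h
        have := congrArg Subtype.val (e.injective (congrArg Subtype.val h))
        exact Subtype.ext this
    have hrel : (N.relIndex (Subgroup.centralizer {z})) ≤ 4 := by
      rw [← hidx]
      exact Nat.le_of_dvd (by omega) (Subgroup.relIndex_dvd_index_of_normal _ _)
    have hmul : Nat.card ↥(Subgroup.centralizer {z} ⊓ N) * N.relIndex (Subgroup.centralizer {z}) =
        Nat.card (Subgroup.centralizer {z}) := by
      rw [← Subgroup.card_mul_index (N.subgroupOf (Subgroup.centralizer {z}))]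
      congr 1
      refine Nat.card_congr ((Equiv.subtypeSubtypeEquivSubtypeInter (· ∈ Subgroup.centralizer {z}) (· ∈ N)).symm)
    rw [← hmul]
    exact Nat.mul_le_mul hCN hrel
  set w : G := x * z * x⁻¹ with hw
  have hwN : w ∈ N := ‹N.Normal›.conj_mem z hzN x
  have hw2 : w * w = 1 := by rw [hw]; calc _ = x * (z * z) * x⁻¹ := by group
                                     _ = 1 := by rw [hz2]; group
  have hkey : ∀ t : G, t ≠ 1 → t * z = z * t → t * w = w * t → (H : Subgroup G) ⊓ MulAut.conj x • (H : Subgroup G) ≠ ⊥ := by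
    intro t ht htz htw hbot
    refine ht ((Subgroup.eq_bot_iff_forall _).1 hbot t ⟨?_, ?_⟩)
    · rw [← hCz]; exact Subgroup.mem_centralizer_singleton_iff.2 htz
    · rw [← hCz]
      refine (Subgroup.mem_smul_pointwise_iff_exists _ _ _).2 ⟨x⁻¹ * t * x, ?_, by simp [MulAut.smul_def, mul_assoc]⟩
      refine Subgroup.mem_centralizer_singleton_iff.2 ?_
      calc x⁻¹ * t * x * z = x⁻¹ * (t * w) * x := by rw [hw]; group
        _ = x⁻¹ * (w * t) * x := by rw [htw]
        _ = z * (x⁻¹ * t * x) := by rw [hw]; group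
  let ew : N := ⟨w, hwN⟩
  have hew2 : e ew * e ew = 1 := by rw [← map_mul, show ew * ew = 1 from Subtype.ext hw2, map_one]
  have hback : ∀ k : ℕ, (e ez * e ew) ^ k = 1 ↔ (z * w) ^ k = 1 := fun k => by
    rw [← map_mul, ← map_pow, MulEquiv.map_eq_one_iff, Subtype.ext_iff]
    rfl
  have hzi : z⁻¹ = z := inv_eq_of_mul_eq_one_right hz2
  have hwi : w⁻¹ = w := inv_eq_of_mul_eq_one_right hw2
  -- a regular orbit of `H` would be too large
  have hbig : ∀ k : ℕ, Nat.card {g : alternatingGroup (Fin 6) // g * g = 1 ∧ (e ez * g) ^ k = 1} < 32 →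
      (z * w) ^ k = 1 → (H : Subgroup G) ⊓ MulAut.conj x • (H : Subgroup G) ≠ ⊥ := by
    intro k hk hkw
    have hmap : ∀ h : (H : Subgroup G), e (⟨(h : G) * w * (h : G)⁻¹, ‹N.Normal›.conj_mem w hwN h⟩) *
        e (⟨(h : G) * w * (h : G)⁻¹, ‹N.Normal›.conj_mem w hwN h⟩) = 1 ∧
        (e ez * e (⟨(h : G) * w * (h : G)⁻¹, ‹N.Normal›.conj_mem w hwN h⟩)) ^ k = 1 := by
      intro h
      refine ⟨?_, ?_⟩
      · rw [← map_mul, MulEquiv.map_eq_one_iff]
        apply Subtype.ext
        show (h : G) * w * (h : G)⁻¹ * ((h : G) * w * (h : G)⁻¹) = 1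
        calc _ = (h : G) * (w * w) * (h : G)⁻¹ := by group
          _ = 1 := by rw [hw2]; group
      · rw [← map_mul, ← map_pow, MulEquiv.map_eq_one_iff]
        apply Subtype.ext
        show (z * ((h : G) * w * (h : G)⁻¹)) ^ k = 1
        have hh : (h : G) * z = z * h := Subgroup.mem_centralizer_singleton_iff.1 (hHz h.2)
        have heq : z * ((h : G) * w * (h : G)⁻¹) = (h : G) * (z * w) * (h : G)⁻¹ := by
          calc _ = (z * h) * w * (h : G)⁻¹ := by group
            _ = _ := by rw [← hh]; group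
        rw [heq, conj_pow, hkw, mul_one, mul_inv_cancel]
    let f : ↥(H : Subgroup G) → {g : alternatingGroup (Fin 6) // g * g = 1 ∧ (e ez * g) ^ k = 1} :=
      fun h => ⟨_, hmap h⟩
    have hnf : ¬ Function.Injective f := fun hf => by
      have := Nat.card_le_card_of_injective f hf
      omega
    obtain ⟨h, h', hf, hne⟩ := Function.not_injective_iff.1 hnf
    have hf' : (h : G) * w * (h : G)⁻¹ = (h' : G) * w * (h' : G)⁻¹ :=
      congrArg Subtype.val (e.injective (congrArg Subtype.val hf))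
    refine hkey ((h' : G)⁻¹ * h) (fun h0 => hne (Subtype.ext (inv_mul_eq_one.1 h0).symm)) ?_ ?_
    · exact Subgroup.mem_centralizer_singleton_iff.1 (hHz (mul_mem (inv_mem h'.2) h.2))
    · calc (h' : G)⁻¹ * h * w = (h' : G)⁻¹ * ((h : G) * w * (h : G)⁻¹) * h := by group
        _ = (h' : G)⁻¹ * ((h' : G) * w * (h' : G)⁻¹) * h := by rw [hf']
        _ = w * ((h' : G)⁻¹ * h) := by group
  rcases hcases (e ew) hew2 with h | h | h
  · -- even product order
    have hu4 : (z * w) ^ 4 = 1 := (hback 4).1 h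
    by_cases h2 : (z * w) ^ 2 = 1
    · have hcw : z * w = w * z := by
        have : z * w * (z * w) = 1 := by rw [← pow_two, h2]
        calc z * w = (z * w)⁻¹ := eq_inv_of_mul_eq_one_left this
          _ = w * z := by rw [mul_inv_rev, hzi, hwi]
      exact hkey z hz1 rfl hcw
    · refine hkey ((z * w) ^ 2) h2 ?_ ?_
      · have hinv : ((z * w) ^ 2)⁻¹ = (z * w) ^ 2 :=
          inv_eq_of_mul_eq_one_right (by rw [← pow_add]; exact hu4)
        calc (z * w) ^ 2 * z = z * (w * z * (w * z)) := by rw [pow_two]; group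
          _ = z * ((z * w) ^ 2)⁻¹ := by rw [pow_two, mul_inv_rev, mul_inv_rev, hzi, hwi]
          _ = z * (z * w) ^ 2 := by rw [hinv]
      · have hinv : ((z * w) ^ 2)⁻¹ = (z * w) ^ 2 :=
          inv_eq_of_mul_eq_one_right (by rw [← pow_add]; exact hu4)
        calc (z * w) ^ 2 * w = z * w * z * (w * w) := by rw [pow_two]; group
          _ = (w * w) * (z * w * z) := by rw [hw2, one_mul, mul_one]
          _ = w * (w * z * (w * z)) := by group
          _ = w * ((z * w) ^ 2)⁻¹ := by rw [pow_two, mul_inv_rev, mul_inv_rev, hzi, hwi]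
          _ = w * (z * w) ^ 2 := by rw [hinv]
  · exact hbig 3 h3 ((hback 3).1 h)
  · exact hbig 5 h5 ((hback 5).1 h)

end CfsgLib.AutAltSix
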