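import Cfsg.Agent.Kinf.LocalBalance
import Cfsg.Agent.Solvable.CoprimeAbelian
import Cfsg.Agent.Comp.Basic

/-!
The `k`-balanced functor attached to an elementary abelian `p`-group is a signalizer functor as soon
as the `p'`-cores involved are solvable.
-/

set_option autoImplicit false
set_option linter.unusedSectionVars false
set_option linter.deprecated false
set_option linter.style.haveILetI false

namespace CfsgLib.BalancedFunctor

open Subgroup
open scoped commutatorElement Pointwise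

variable {G : Type*} [Group G] [Finite G] {p : ℕ} [Fact p.Prime]

/-- A solvable `p'`-group `X` normalized by `A`, with `A`-invariant pieces `P D`, `D ≤ A` of order at
least `p ^ k`, subject to the rules of a `k`-balanced family. -/
structure Setting (p k : ℕ) (A X : Subgroup G) (P : Subgroup G → Subgroup G) : Prop where
  elem : Cfsg.IsElementaryAbelian p A
  large : p ^ (k + 2) ≤ Nat.card A
  cop : ¬ p ∣ Nat.card X
  solv : Group.IsSolvable X
  invX : A ≤ normalizer (X : Set G)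
  le_X : ∀ D, D ≤ A → p ^ k ≤ Nat.card D → P D ≤ X
  le_cent : ∀ D, D ≤ A → p ^ k ≤ Nat.card D → P D ≤ centralizer (D : Set G)
  invP : ∀ D, D ≤ A → p ^ k ≤ Nat.card D → A ≤ normalizer (P D : Set G)
  normP : ∀ D, D ≤ A → p ^ k ≤ Nat.card D → X ⊓ centralizer (D : Set G) ≤ normalizer (P D : Set G)
  bal : ∀ D E, D ≤ A → E ≤ A → p ^ k ≤ Nat.card D → p ^ k ≤ Nat.card E →
    P D ⊓ centralizer (E : Set G) ≤ P E
  gen : ∀ E, E ≤ A → p ^ (k + 1) ≤ Nat.card E →
    X ≤ ⨆ D : {D : Subgroup G // D ≤ E ∧ p ^ k ≤ Nat.card D}, P D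

variable {k : ℕ} {A X : Subgroup G} {P : Subgroup G → Subgroup G}

omit [Finite G] [Fact p.Prime] in
theorem comm_eq (a b : G) : ⁅a, b⁆ = a * b * a⁻¹ * b⁻¹ := commutatorElement_def a b

namespace Setting

variable (S : Setting p k A X P) {E : Subgroup G} (hEA : E ≤ A) (hE : p ^ (k + 1) ≤ Nat.card E)
include S hEA hE

omit [Finite G] in
theorem card_k : p ^ k ≤ Nat.card E :=
  (Nat.pow_le_pow_right (Fact.out : p.Prime).pos (by omega)).trans hE

theorem coprime_E {U : Subgroup G} (hU : U ≤ X) : (Nat.card E).Coprime (Nat.card U) :=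
  (Signalizer.coprime_card_of_le S.elem hEA S.cop).coprime_dvd_right (card_dvd_of_le hU)

theorem solvable_of_le {U : Subgroup G} (hU : U ≤ X) : Group.IsSolvable U := by
  haveI := S.solv
  exact Group.isSolvable_of_isSolvable_injective (f := inclusion hU) (inclusion_injective hU)

theorem split {U : Subgroup G} (hU : U ≤ X) (hUA : E ≤ normalizer (U : Set G)) :
    ⁅U, E⁆ ⊔ (U ⊓ centralizer (E : Set G)) = U :=
  CoprimeAct.commutator_sup_centralizer hUA (coprime_E S hEA hE hU)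
    (Or.inr (solvable_of_le S hEA hE hU))

/-- The piece `L ∩ P D` lies in `(L ∩ P E)[L, E]`. -/
theorem piece_le {L D : Subgroup G} (hLA : A ≤ normalizer (L : Set G)) (hLX : L ≤ X) (hDA : D ≤ A)
    (hD : p ^ k ≤ Nat.card D) : L ⊓ P D ≤ (L ⊓ P E) ⊔ ⁅L, E⁆ := by
  have hinv : E ≤ normalizer ((L ⊓ P D : Subgroup G) : Set G) := fun e he =>
    inf_normalizer_le_normalizer_inf (mem_inf.2 ⟨hLA (hEA he), S.invP D hDA hD (hEA he)⟩)
  rw [← split S hEA hE (U := L ⊓ P D) (inf_le_left.trans hLX) hinv]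
  refine sup_le (le_sup_of_le_right (commutator_mono inf_le_left le_rfl)) (le_sup_of_le_left ?_)
  exact fun x hx => ⟨hx.1.1, S.bal D E hDA hEA hD (card_k S hEA hE) ⟨hx.1.2, hx.2⟩⟩

/-- Fixed points in an abelian layer. -/
theorem layer {L M : Subgroup G} (hLX : L ≤ X) (hLA : A ≤ normalizer (L : Set G))
    (hMA : A ≤ normalizer (M : Set G)) (hML : M ≤ L) (hLL : ⁅L, L⁆ ≤ M)
    (h : L ≤ M ⊔ (L ⊓ P E) ⊔ ⁅L, E⁆) :
    L ⊓ centralizer (E : Set G) ≤ M ⊔ (L ⊓ P E) := by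
  set W := M ⊔ (L ⊓ P E)
  have hWL : W ≤ L := sup_le hML inf_le_left
  have hLW : L ≤ normalizer (W : Set G) := le_normalizer_iff_commutator_le_left.2
    ((commutator_mono hWL le_rfl).trans (hLL.trans le_sup_left))
  have hEW : E ≤ normalizer (W : Set G) := fun e he => by
    refine mem_normalizer_iff_map_conj_eq.2 ?_
    rw [Subgroup.map_sup, mem_normalizer_iff_map_conj_eq.1 (hMA (hEA he)),
      mem_normalizer_iff_map_conj_eq.1 (inf_normalizer_le_normalizer_inf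
        (mem_inf.2 ⟨hLA (hEA he), S.invP E hEA (card_k S hEA hE) (hEA he)⟩))]
  set H := L ⊔ E
  have hLH : L ≤ H := le_sup_left
  have hEH : E ≤ H := le_sup_right
  have hWH : H ≤ normalizer (W : Set G) := sup_le hLW hEW
  haveI : (W.subgroupOf H).Normal :=
    ⟨fun x hx g => (mem_normalizer_iff.1 (hWH g.2) (x : G)).1 hx⟩
  set π := QuotientGroup.mk' (W.subgroupOf H)
  set V := (L.subgroupOf H).map π
  set E' := (E.subgroupOf H).map π
  haveI : IsMulCommutative V := ⟨⟨by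
    rintro ⟨_, x, hx, rfl⟩ ⟨_, y, hy, rfl⟩
    refine Subtype.ext ?_
    show π x * π y = π y * π x
    rw [← commutatorElement_eq_one_iff_mul_comm, ← map_commutatorElement]
    exact (QuotientGroup.eq_one_iff _).2
      (show ((⁅x, y⁆ : H) : G) ∈ W from mem_sup_left (hLL (commutator_mem_commutator hx hy)))⟩⟩
  have hEV : E' ≤ normalizer (V : Set (↥H ⧸ W.subgroupOf H)) := by
    rintro _ ⟨e, he, rfl⟩
    refine le_normalizer_map π (mem_map_of_mem π ?_)
    refine mem_normalizer_iff.2 fun v => ?_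
    simpa [mem_subgroupOf] using mem_normalizer_iff.1 (hLA (hEA he)) (v : G)
  have hcop : (Nat.card E').Coprime (Nat.card V) := by
    refine Nat.Coprime.coprime_dvd_left ?_ (Nat.Coprime.coprime_dvd_right ?_ (coprime_E S hEA hE hLX))
    · exact (card_map_dvd _ π).trans (Nat.card_congr (subgroupOfEquivOfLe hEH).toEquiv).dvd
    · exact (card_map_dvd _ π).trans (Nat.card_congr (subgroupOfEquivOfLe hLH).toEquiv).dvd
  have hbot := CoprimeAct.fixed_inf_commutator_abelian hEV hcop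
  have hVle : V ≤ ⁅V, E'⁆ := by
    rintro _ ⟨x, hx, rfl⟩
    have hle : ∀ u : G, ∀ hu : u ∈ W ⊔ ⁅L, E⁆, ∀ huH : u ∈ H, π ⟨u, huH⟩ ∈ ⁅V, E'⁆ := by
      intro u hu huH
      set T := (⁅V, E'⁆.comap π).map H.subtype
      have hT : W ⊔ ⁅L, E⁆ ≤ T := by
        refine sup_le (fun w hw => ⟨⟨w, hLH (hWL hw)⟩, ?_, rfl⟩) (commutator_le.2 fun l hl e he => ?_)
        · show π ⟨w, hLH (hWL hw)⟩ ∈ ⁅V, E'⁆
          rw [show π ⟨w, hLH (hWL hw)⟩ = 1 from (QuotientGroup.eq_one_iff _).2 hw]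
          exact one_mem _
        · refine ⟨⁅(⟨l, hLH hl⟩ : H), ⟨e, hEH he⟩⁆, ?_, rfl⟩
          show π ⁅(⟨l, hLH hl⟩ : H), ⟨e, hEH he⟩⁆ ∈ ⁅V, E'⁆
          rw [map_commutatorElement]
          exact commutator_mem_commutator (mem_map_of_mem π hl) (mem_map_of_mem π he)
      obtain ⟨u', hu', he⟩ := hT hu
      exact (Subtype.ext he : u' = ⟨u, huH⟩) ▸ hu'
    exact hle x (h hx) x.2
  intro x hx
  have h1 : π ⟨x, hLH hx.1⟩ ∈ (V ⊓ centralizer (E' : Set (↥H ⧸ W.subgroupOf H))) ⊓ ⁅V, E'⁆ := by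
    have hV : π ⟨x, hLH hx.1⟩ ∈ V := mem_map_of_mem π (show x ∈ L from hx.1)
    refine ⟨⟨hV, mem_centralizer_iff.2 ?_⟩, hVle hV⟩
    rintro _ ⟨e, he, rfl⟩
    rw [← map_mul, ← map_mul]
    exact congrArg π (Subtype.ext (mem_centralizer_iff.1 hx.2 _ he))
  rw [hbot, mem_bot] at h1
  exact (QuotientGroup.eq_one_iff (N := W.subgroupOf H) _).1 h1

/-- A layer `L / M` with `L = [N, Y] M`. -/
theorem commutator_layer {N M Y K L : Subgroup G} (hNX : N ≤ X) (hYX : Y ≤ X)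
    (hNA : A ≤ normalizer (N : Set G)) (hMA : A ≤ normalizer (M : Set G))
    (hLA : A ≤ normalizer (L : Set G)) (hYN : Y ≤ normalizer (N : Set G))
    (hML : M ≤ L) (hLN : L ≤ N) (hNL : ⁅N, L⁆ ≤ M) (hYM : Y ≤ normalizer (M : Set G))
    (hLcomm : ⁅N, Y⁆ ≤ L) (hLgen : L ≤ ⁅N, Y⁆ ⊔ M) (hK : ⁅N, K⁆ ≤ M)
    (hgen : Y ≤ K ⊔ ⨆ D : {D : Subgroup G // D ≤ E ∧ p ^ k ≤ Nat.card D}, (Y ⊓ P D))
    (hKY : K ≤ Y) :
    L ⊓ centralizer (E : Set G) ≤ M ⊔ (L ⊓ P E) := by
  have hLX : L ≤ X := hLN.trans hNX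
  have hLL : ⁅L, L⁆ ≤ M := (commutator_mono hLN le_rfl).trans hNL
  refine layer S hEA hE hLX hLA hMA hML hLL ?_
  set W' := M ⊔ (L ⊓ P E) ⊔ ⁅L, E⁆
  have hW'L : W' ≤ L := sup_le (sup_le hML inf_le_left)
    (le_normalizer_iff_commutator_le_left.1 (hEA.trans hLA))
  have hMW : M ≤ W' := le_sup_of_le_left le_sup_left
  -- conjugation by `N` fixes `L` modulo `M`
  have hcong : ∀ n ∈ N, ∀ l ∈ W', n * l * n⁻¹ ∈ W' := fun n hn l hl => by
    rw [show n * l * n⁻¹ = ⁅n, l⁆ * l by rw [comm_eq]; group]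
    exact mul_mem (hMW (hNL (commutator_mem_commutator hn (hW'L hl)))) hl
  -- the set of admissible first entries, for a fixed `o`
  have hfirst : ∀ D : Subgroup G, D ≤ E → p ^ k ≤ Nat.card D → ∀ o ∈ Y ⊓ P D, ∀ n ∈ N,
      ⁅n, o⁆ ∈ W' := by
    intro D hDE hD o ho n hn
    let T : Subgroup G :=
      { carrier := {n | n ∈ N ∧ ⁅n, o⁆ ∈ W'}
        one_mem' := ⟨one_mem _, by rw [commutatorElement_one_left]; exact one_mem _⟩
        mul_mem' := fun {a b} ha hb => ⟨mul_mem ha.1 hb.1, by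
          rw [show ⁅a * b, o⁆ = a * ⁅b, o⁆ * a⁻¹ * ⁅a, o⁆ by rw [comm_eq, comm_eq, comm_eq]; group]
          exact mul_mem (hcong a ha.1 _ hb.2) ha.2⟩
        inv_mem' := fun {a} ha => ⟨inv_mem ha.1, by
          rw [show ⁅a⁻¹, o⁆ = a⁻¹ * ⁅a, o⁆⁻¹ * a⁻¹⁻¹ by rw [comm_eq, comm_eq]; group]
          exact hcong _ (inv_mem ha.1) _ (inv_mem ha.2)⟩ }
    suffices N ≤ T from (this hn).2
    have hDN : D ≤ normalizer (N : Set G) := (hDE.trans hEA).trans hNA
    rw [← CoprimeAct.commutator_sup_centralizer hDN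
      ((coprime_E S hEA hE hNX).coprime_dvd_left (card_dvd_of_le hDE))
      (Or.inr (solvable_of_le S hEA hE hNX))]
    refine sup_le (commutator_le.2 fun m hm d hd => ?_) fun c hc => ?_
    · refine ⟨le_normalizer_iff_commutator_le_left.1 hDN (commutator_mem_commutator hm hd), ?_⟩
      have hod : d * o = o * d := mem_centralizer_iff.1
        (S.le_cent D (hDE.trans hEA) hD ho.2) d hd
      have hl : ⁅m, o⁆ ∈ L := hLcomm (commutator_mem_commutator hm ho.1)
      set l := ⁅m, o⁆ with hldef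
      obtain ⟨u, hudef⟩ : ∃ u, u = d * m⁻¹ * d⁻¹ := ⟨_, rfl⟩
      have hu : ⁅u, o⁆ = d * ⁅m⁻¹, o⁆ * d⁻¹ := by
        have h2 : d⁻¹ * o * d = o := by rw [mul_assoc, ← hod]; group
        calc ⁅u, o⁆ = d * (m⁻¹ * (d⁻¹ * o * d) * m * (d⁻¹ * o * d)⁻¹) * d⁻¹ := by
              rw [comm_eq, hudef]; group
          _ = _ := by rw [h2, comm_eq]; group
      have hm1 : ⁅m⁻¹, o⁆ = m⁻¹ * l⁻¹ * m⁻¹⁻¹ := by rw [hldef, comm_eq, comm_eq]; group
      rw [show ⁅m, d⁆ = m * u by rw [comm_eq, hudef]; group,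
        show ⁅m * u, o⁆ = (⁅m, ⁅u, o⁆⁆ * ⁅u, o⁆) * ⁅m, o⁆ by rw [comm_eq, comm_eq, comm_eq, comm_eq]; group,
        ← hldef, mul_assoc]
      have hdN : d ∈ normalizer (L : Set G) := hLA (hEA (hDE hd))
      have hm1L : ⁅m⁻¹, o⁆ ∈ L := hLcomm (commutator_mem_commutator (inv_mem hm) ho.1)
      have huL : ⁅u, o⁆ ∈ L := hu ▸ (mem_normalizer_iff.1 hdN _).1 hm1L
      refine mul_mem (hMW (hNL (commutator_mem_commutator hm huL))) ?_
      rw [hu, hm1, show d * (m⁻¹ * l⁻¹ * m⁻¹⁻¹) * d⁻¹ * l =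
        d * ⁅m⁻¹, l⁻¹⁆ * d⁻¹ * ⁅d, l⁻¹⁆ by rw [comm_eq, comm_eq]; group]
      refine mul_mem (hMW ((mem_normalizer_iff.1 (hMA (hEA (hDE hd))) _).1
        (hNL (commutator_mem_commutator (inv_mem hm) (inv_mem hl))))) ?_
      rw [← commutatorElement_inv]
      exact inv_mem (mem_sup_right (commutator_mem_commutator (inv_mem hl) (hDE hd)))
    · refine ⟨hc.1, ?_⟩
      have h1 : ⁅c, o⁆ ∈ L ⊓ P D := by
        refine mem_inf.2 ⟨hLcomm (commutator_mem_commutator hc.1 ho.1), ?_⟩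
        rw [comm_eq]
        exact mul_mem ((mem_normalizer_iff.1 (S.normP D (hDE.trans hEA) hD ⟨hNX hc.1, hc.2⟩) o).1 ho.2)
          (inv_mem ho.2)
      exact (sup_le (le_sup_of_le_left le_sup_right) le_sup_right :
        (L ⊓ P E) ⊔ ⁅L, E⁆ ≤ W') (piece_le S hEA hE hLA hLX (hDE.trans hEA) hD h1)
  -- the subgroup generated by `M` and these commutators
  set Gen := M ⊔ closure {z | ∃ D : Subgroup G, D ≤ E ∧ p ^ k ≤ Nat.card D ∧ ∃ o ∈ Y ⊓ P D,
    ∃ n ∈ N, z = ⁅n, o⁆} with hGen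
  have hGenW : Gen ≤ W' := by
    refine sup_le hMW ((closure_le _).2 ?_)
    rintro _ ⟨D, hDE, hD, o, ho, n, hn, rfl⟩
    exact hfirst D hDE hD o ho n hn
  have hGenL : Gen ≤ L := hGenW.trans hW'L
  -- the admissible second entries form a subgroup
  have hsecond : ∀ o ∈ Y, ∀ n ∈ N, ⁅n, o⁆ ∈ Gen := by
    let T : Subgroup G :=
      { carrier := {o | o ∈ Y ∧ (∀ g ∈ Gen, o * g * o⁻¹ ∈ Gen) ∧ ∀ n ∈ N, ⁅n, o⁆ ∈ Gen}
        one_mem' := ⟨one_mem _, fun g hg => by simpa using hg,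
          fun n _ => by rw [commutatorElement_one_right]; exact one_mem _⟩
        mul_mem' := fun {a b} ha hb => ⟨mul_mem ha.1 hb.1,
          fun g hg => by
            rw [show a * b * g * (a * b)⁻¹ = a * (b * g * b⁻¹) * a⁻¹ by group]
            exact ha.2.1 _ (hb.2.1 g hg),
          fun n hn => by
            rw [show ⁅n, a * b⁆ = ⁅n, a⁆ * (a * ⁅n, b⁆ * a⁻¹) by rw [comm_eq, comm_eq, comm_eq]; group]
            exact mul_mem (ha.2.2 n hn) (ha.2.1 _ (hb.2.2 n hn))⟩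
        inv_mem' := fun {a} ha => by
          have hinv : ∀ g ∈ Gen, a⁻¹ * g * a⁻¹⁻¹ ∈ Gen := by
            have h1 : Gen.map (MulAut.conj a).toMonoidHom = Gen :=
              eq_of_le_of_card_ge (by rintro _ ⟨g, hg, rfl⟩; exact ha.2.1 g hg)
                (card_map_of_injective (MulAut.conj a).injective).ge
            intro g hg
            obtain ⟨g', hg', rfl⟩ := h1.ge hg
            show a⁻¹ * (a * g' * a⁻¹) * a⁻¹⁻¹ ∈ Gen
            rw [show a⁻¹ * (a * g' * a⁻¹) * a⁻¹⁻¹ = g' by group]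
            exact hg'
          refine ⟨inv_mem ha.1, hinv, fun n hn => ?_⟩
          rw [show ⁅n, a⁻¹⁆ = a⁻¹ * ⁅n, a⁆⁻¹ * a⁻¹⁻¹ by rw [comm_eq, comm_eq]; group]
          exact hinv _ (inv_mem (ha.2.2 n hn)) }
    have hKT : K ≤ T := fun o ho => by
      refine ⟨hKY ho, fun g hg => ?_, fun n hn => mem_sup_left (hK (commutator_mem_commutator hn ho))⟩
      rw [show o * g * o⁻¹ = ⁅g, o⁆⁻¹ * g by rw [comm_eq]; group]
      exact mul_mem (inv_mem (mem_sup_left (hK (commutator_mem_commutator (hLN (hGenL hg)) ho)))) hg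
    have hPT : (⨆ D : {D : Subgroup G // D ≤ E ∧ p ^ k ≤ Nat.card D}, (Y ⊓ P D)) ≤ T := by
      refine iSup_le fun D o ho => ?_
      have hcomm : ∀ n ∈ N, ⁅n, o⁆ ∈ Gen := fun n hn => mem_sup_right
        (subset_closure ⟨D.1, D.2.1, D.2.2, o, ho, n, hn, rfl⟩)
      refine ⟨ho.1, fun g hg => ?_, hcomm⟩
      rw [show o * g * o⁻¹ = ⁅g, o⁆⁻¹ * g by rw [comm_eq]; group]
      exact mul_mem (inv_mem (hcomm g (hLN (hGenL hg)))) hg
    intro o ho
    exact ((sup_le hKT hPT) (hgen ho)).2.2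
  exact hLgen.trans (sup_le ((commutator_le.2 fun n hn o ho => hsecond o ho n hn).trans hGenW) hMW)

omit hEA hE

/-- The goal modulo a normal subgroup. -/
def Good (p k : ℕ) (A X : Subgroup G) (P : Subgroup G → Subgroup G) (K : Subgroup G) : Prop :=
  ∀ E : Subgroup G, E ≤ A → p ^ (k + 1) ≤ Nat.card E →
    X ⊓ centralizer (E : Set G) ≤ K ⊔ P E

end Setting

open Setting

variable (S : Setting p k A X P)
include S

theorem good_commutator : Good p k A X P ⁅X, X⁆ := by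
  intro E hEA hE
  have hXX : ⁅X, X⁆ ≤ X := le_normalizer_iff_commutator_le_left.1 le_normalizer
  have hA' : A ≤ normalizer (⁅X, X⁆ : Subgroup G) := fun a ha => mem_normalizer_iff_map_conj_eq.2 (by
    rw [Subgroup.map_commutator, mem_normalizer_iff_map_conj_eq.1 (S.invX ha)])
  refine (layer S hEA hE le_rfl S.invX hA' hXX le_rfl ?_).trans
    (sup_le_sup_left inf_le_right _)
  refine (S.gen E hEA hE).trans (iSup_le fun D => ?_)
  have h1 := piece_le S hEA hE S.invX le_rfl (D := D.1) (D.2.1.trans hEA) D.2.2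
  rw [inf_eq_right.2 (S.le_X D.1 (D.2.1.trans hEA) D.2.2)] at h1
  exact h1.trans (sup_le (le_sup_of_le_left le_sup_right) le_sup_right)

theorem good_step {K M : Subgroup G} (hgood : Good p k A X P K) (hKn : X ≤ normalizer (K : Set G))
    (h : ∀ E : Subgroup G, E ≤ A → p ^ (k + 1) ≤ Nat.card E →
      K ⊓ centralizer (E : Set G) ≤ M ⊔ (K ⊓ P E)) : Good p k A X P M := by
  intro E hEA hE x hx
  have hEk := card_k S hEA hE
  have hx' : x ∈ (↑(P E ⊔ K) : Set G) := by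
    rw [sup_comm]; exact hgood E hEA hE hx
  rw [coe_mul_of_left_le_normalizer_right (P E) K ((S.le_X E hEA hEk).trans hKn)] at hx'
  obtain ⟨t, ht, c, hc, rfl⟩ := hx'
  have hcC : c ∈ centralizer (E : Set G) := by
    rw [show c = t⁻¹ * (t * c) by group]
    exact mul_mem (inv_mem (S.le_cent E hEA hEk ht)) hx.2
  exact mul_mem (mem_sup_right ht) ((sup_le_sup_left inf_le_right M) (h E hEA hE ⟨hc, hcC⟩))

/-- A subgroup of `X` is generated modulo `K` by its intersections with the pieces below `E`. -/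
theorem gen_of_good {K Y : Subgroup G} (hgood : Good p k A X P K) (hKY : K ≤ Y) (hYX : Y ≤ X)
    (hYA : A ≤ normalizer (Y : Set G)) (hXK : X ≤ normalizer (K : Set G)) {E : Subgroup G}
    (hEA : E ≤ A) (hE : p ^ (k + 1) ≤ Nat.card E) :
    Y ≤ K ⊔ ⨆ D : {D : Subgroup G // D ≤ E ∧ p ^ k ≤ Nat.card D}, (Y ⊓ P D) := by
  have hp := (Fact.out : p.Prime)
  refine Signalizer.le_of_forall_hyperplane S.elem hYA
    (fun hd => S.cop (hd.trans (card_dvd_of_le hYX))) fun B hBA hB => ?_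
  have hmul : ∀ {U V : Subgroup G}, U ≤ V → U.relIndex V * Nat.card U = Nat.card V := fun {U V} hUV => by
    rw [← relIndex_bot_left, ← relIndex_bot_left, mul_comm]
    exact relIndex_mul_relIndex _ _ _ bot_le hUV
  have hBk : p ^ (k + 1) ≤ Nat.card B := by
    refine Nat.le_of_mul_le_mul_left ?_ hp.pos
    calc p * p ^ (k + 1) = p ^ (k + 2) := by rw [← pow_succ']
      _ ≤ Nat.card A := S.large
      _ = B.relIndex A * Nat.card B := (hmul hBA).symm
      _ ≤ p * Nat.card B := Nat.mul_le_mul_right _ hB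
  have hDk : p ^ k ≤ Nat.card ↥(B ⊓ E) := by
    refine Nat.le_of_mul_le_mul_left ?_ hp.pos
    calc p * p ^ k = p ^ (k + 1) := by rw [← pow_succ']
      _ ≤ Nat.card E := hE
      _ = (B ⊓ E).relIndex E * Nat.card ↥(B ⊓ E) := (hmul inf_le_right).symm
      _ ≤ p * Nat.card ↥(B ⊓ E) := Nat.mul_le_mul_right _ (by
        rw [inf_relIndex_right]
        exact (relIndex_le_of_le_right hEA (by
          intro h0
          exact Nat.card_pos.ne' (by rw [← hmul hBA, h0, zero_mul]))).trans hB)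
  intro y hy
  have hBk' : p ^ k ≤ Nat.card B := (Nat.pow_le_pow_right hp.pos (by omega)).trans hBk
  have h1 : y ∈ (↑((Y ⊓ P B) ⊔ K) : Set G) := by
    have h2 : y ∈ (↑(P B ⊔ K) : Set G) := by
      rw [sup_comm]; exact hgood B hBA hBk ⟨hYX hy.1, hy.2⟩
    have hle : (↑(P B ⊔ K) : Set G) = (P B : Set G) * (K : Set G) → y ∈ (↑((Y ⊓ P B) ⊔ K) : Set G) := by
      intro e
      rw [e] at h2
      obtain ⟨t, ht, c, hc, rfl⟩ := h2
      have htY : t ∈ Y := by
        rw [show t = t * c * c⁻¹ by group]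
        exact mul_mem hy.1 (inv_mem (hKY hc))
      exact mul_mem (mem_sup_left (⟨htY, ht⟩ : t ∈ Y ⊓ P B)) (mem_sup_right hc)
    exact hle (coe_mul_of_left_le_normalizer_right (P B) K ((S.le_X B hBA hBk').trans hXK))
  refine (sup_le (le_sup_of_le_right ?_) le_sup_left :
    (Y ⊓ P B) ⊔ K ≤ K ⊔ ⨆ D : {D : Subgroup G // D ≤ E ∧ p ^ k ≤ Nat.card D}, (Y ⊓ P D)) h1
  refine le_trans ?_ (le_iSup (fun D : {D : Subgroup G // D ≤ E ∧ p ^ k ≤ Nat.card D} => Y ⊓ P D)
    ⟨B ⊓ E, inf_le_right, hDk⟩)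
  intro t ht
  refine ⟨ht.1, S.bal B (B ⊓ E) hBA (inf_le_left.trans hBA) hBk' hDk ⟨ht.2, ?_⟩⟩
  exact centralizer_le inf_le_left (S.le_cent B hBA hBk' ht.2)

/-- Elements of `X` centralizing `E` lie in the piece attached to `E`. -/
theorem inf_centralizer_le {E : Subgroup G} (hEA : E ≤ A) (hE : p ^ (k + 1) ≤ Nat.card E) :
    X ⊓ centralizer (E : Set G) ≤ P E := by
  have hnorm : ∀ {N M : Subgroup G} {T : Subgroup G}, T ≤ normalizer (N : Set G) →
      T ≤ normalizer (M : Set G) → T ≤ normalizer (⁅N, M⁆ : Subgroup G) := by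
    intro N M T hN hM t ht
    refine mem_normalizer_iff_map_conj_eq.2 ?_
    rw [Subgroup.map_commutator, mem_normalizer_iff_map_conj_eq.1 (hN ht),
      mem_normalizer_iff_map_conj_eq.1 (hM ht)]
  suffices hall : ∀ K : Subgroup G, X ≤ normalizer (K : Set G) → A ≤ normalizer (K : Set G) →
      Good p k A X P K → (∃ N : Subgroup G, N ≤ X ∧ X ≤ normalizer (N : Set G) ∧
        A ≤ normalizer (N : Set G) ∧ K ≤ N ∧ (K = ⁅N, X⁆ ∨ K = ⁅N, N⁆)) → Good p k A X P ⊥ by
    have hXX : ⁅X, X⁆ ≤ X := le_normalizer_iff_commutator_le_left.1 le_normalizer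
    have h := hall ⁅X, X⁆ (hnorm le_normalizer le_normalizer) (hnorm S.invX S.invX)
      (good_commutator S) ⟨X, le_rfl, le_normalizer, S.invX, hXX, Or.inl rfl⟩ E hEA hE
    rwa [bot_sup_eq] at h
  intro K
  induction K using WellFoundedLT.induction with | _ K ih => ?_
  intro hKn hKA hgood hN
  obtain ⟨N, hNX, hNn, hNA, hKN, hKeq⟩ := hN
  have hKX : K ≤ X := hKN.trans hNX
  rcases eq_or_ne K ⊥ with rfl | hKne
  · exact hgood
  have hKK : ⁅K, X⁆ ≤ K := le_normalizer_iff_commutator_le_left.1 hKn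
  have hgenX : ∀ E : Subgroup G, E ≤ A → p ^ (k + 1) ≤ Nat.card E →
      X ≤ ⊥ ⊔ ⨆ D : {D : Subgroup G // D ≤ E ∧ p ^ k ≤ Nat.card D}, (X ⊓ P D) := by
    intro E hEA hE
    refine (S.gen E hEA hE).trans (le_sup_of_le_right (iSup_mono fun D => ?_))
    exact le_inf (S.le_X D.1 (D.2.1.trans hEA) D.2.2) le_rfl
  have hbotK : ∀ N' : Subgroup G, ⁅N', (⊥ : Subgroup G)⁆ ≤ ⊥ := fun N' =>
    (commutator_bot_right N').le
  by_cases hKX' : ⁅K, X⁆ = K
  · have hlt : ⁅K, K⁆ < K := by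
      haveI := S.solv
      haveI : Group.IsSolvable K :=
        Group.isSolvable_of_isSolvable_injective (f := inclusion hKX) (inclusion_injective hKX)
      haveI : Nontrivial K := (nontrivial_iff_ne_bot K).2 hKne
      refine lt_of_le_of_ne (le_normalizer_iff_commutator_le_left.1 le_normalizer) fun h => ?_
      refine (Group.IsSolvable.commutator_lt_top_of_nontrivial (G := K)).ne
        (Subgroup.map_injective K.subtype_injective ?_)
      rw [map_subtype_commutator, h, ← MonoidHom.range_eq_map, range_subtype]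
    have hMn : X ≤ normalizer (⁅K, K⁆ : Subgroup G) := hnorm hKn hKn
    have hMA : A ≤ normalizer (⁅K, K⁆ : Subgroup G) := hnorm hKA hKA
    refine ih _ hlt hMn hMA (good_step S hgood hKn fun E hEA hE => ?_)
      ⟨K, hKX, hKn, hKA, hlt.le, Or.inr rfl⟩
    exact commutator_layer S hEA hE (N := K) (Y := X) (K := ⊥) hKX le_rfl hKA hMA hKA hKn hlt.le
      le_rfl le_rfl hMn hKX'.le (hKX'.ge.trans le_sup_left) ((hbotK K).trans bot_le)
      (hgenX E hEA hE) bot_le
  · have hlt : ⁅K, X⁆ < K := lt_of_le_of_ne hKK hKX'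
    have hMn : X ≤ normalizer (⁅K, X⁆ : Subgroup G) := hnorm hKn le_normalizer
    have hMA : A ≤ normalizer (⁅K, X⁆ : Subgroup G) := hnorm hKA S.invX
    refine ih _ hlt hMn hMA (good_step S hgood hKn fun E hEA hE => ?_)
      ⟨K, hKX, hKn, hKA, hlt.le, Or.inl rfl⟩
    have hNK : ⁅N, K⁆ ≤ ⁅K, X⁆ := by
      rw [Subgroup.commutator_comm]; exact commutator_mono le_rfl hNX
    rcases hKeq with hKeq | hKeq
    · exact commutator_layer S hEA hE (N := N) (Y := X) (K := ⊥) hNX le_rfl hNA hMA hKA hNn hlt.le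
        hKN hNK hMn hKeq.ge (hKeq.le.trans le_sup_left) ((hbotK N).trans bot_le)
        (hgenX E hEA hE) bot_le
    · exact commutator_layer S hEA hE (N := N) (Y := N) (K := K) hNX hNX hNA hMA hKA le_normalizer
        hlt.le hKN hNK (hNX.trans hMn) hKeq.ge (hKeq.le.trans le_sup_left) hNK
        (gen_of_good S hgood hKN hNX hNA hKn hEA hE) hKN

end CfsgLib.BalancedFunctor
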