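import Cfsg.Agent.Invol.MaximalBenderPair

/-!
Bender's theorem for primitive pairs.
-/

set_option autoImplicit false
set_option linter.unusedSectionVars false
set_option linter.deprecated false
set_option linter.style.haveILetI false

namespace CfsgLib.MaxBender

open Subgroup
open scoped commutatorElement Pointwise

variable {G : Type*} [Group G] [Finite G] {M N : Subgroup G}

/-- As `coreR_le_of_pair`, for a primitive pair. -/
theorem coreR_le_of_pair' (hP : ∀ U : Subgroup G, U ≠ ⊥ → U ≤ M ⊓ N → N ≤ normalizer (U : Set G) →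
    M ⊓ normalizer (U : Set G) ≤ N) (h1 : fstar M ≤ N) (h2 : fstar N ≤ M)
    (hE : lay M = ⊥) {p r : ℕ} [Fact p.Prime] [Fact r.Prime] (hrp : r ≠ p) (hr : coreR r N ≠ ⊥) :
    coreR p N ≤ coreR p M := by
  set U := coreR r N
  have hUM : U ≤ M := (coreR_le_fstar r).trans h2
  have hUc : away r M ≤ centralizer (U : Set G) :=
    le_centralizer_away (isPGroup_coreR r) hUM (large_fstar M) (h1.trans le_normalizer_coreR)
  set T : Set G := {x | x ∈ M ∧ x ∈ centralizer (away p M : Set G) ∧ ∃ i, x ^ p ^ i = 1}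
  have hTN : T ⊆ (N : Set G) := by
    rintro x ⟨hxM, hxc, i, hxi⟩
    refine hP U hr (le_inf hUM (coreR_le r)) le_normalizer_coreR
      ⟨hxM, centralizer_le_normalizer _ (mem_centralizer_iff.2 fun u hu => ?_)⟩
    have huM := hUM hu
    set c := u * x * u⁻¹ * x⁻¹ with hcdef
    have hcM : c ∈ M := mul_mem (mul_mem (mul_mem huM hxM) (inv_mem huM)) (inv_mem hxM)
    have hfix : ∀ s : ℕ, s.Prime → ∀ v ∈ coreR s M, c * v = v * c := by
      intro s hs v hv
      haveI := Fact.mk hs
      by_cases hsr : s = r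
      · subst hsr
        have hx' : ∀ w ∈ coreR s M, x * w = w * x := fun w hw => (mem_centralizer_iff.1 hxc w
          (mem_sup_right (le_iSup (fun t : {t : ℕ // t.Prime ∧ t ≠ p} => coreR (t : ℕ) M)
            ⟨s, hs, hrp⟩ hw))).symm
        have hv' : u⁻¹ * v * u ∈ coreR s M := by
          simpa using (mem_normalizer_iff.1 (inv_mem (le_normalizer_coreR (r := s) huM)) v).1 hv
        have e1 := hx' v hv
        have e2 := hx' _ hv'
        have e3 : x⁻¹ * v * x = v := by rw [mul_assoc, ← e1]; group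
        calc c * v = u * x * u⁻¹ * (x⁻¹ * v * x) * x⁻¹ := by rw [hcdef]; group
          _ = u * (x * (u⁻¹ * v * u)) * u⁻¹ * x⁻¹ := by rw [e3]; group
          _ = v * c := by rw [e2, hcdef]; group
      · have hu' : ∀ w ∈ coreR s M, u * w = w * u := fun w hw => mem_centralizer_iff.1
          (hUc (mem_sup_right (le_iSup (fun t : {t : ℕ // t.Prime ∧ t ≠ r} => coreR (t : ℕ) M)
            ⟨s, hs, hsr⟩ hw))) u hu
        have hv' : x⁻¹ * v * x ∈ coreR s M := by
          simpa using (mem_normalizer_iff.1 (inv_mem (le_normalizer_coreR (r := s) hxM)) v).1 hv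
        have e3 : u⁻¹ * (x⁻¹ * v * x) * u = x⁻¹ * v * x := by
          rw [mul_assoc u⁻¹, ← hu' _ hv']; group
        calc c * v = u * x * (u⁻¹ * (x⁻¹ * v * x) * u) * u⁻¹ * x⁻¹ := by rw [hcdef]; group
          _ = (u * v) * x * u⁻¹ * x⁻¹ := by rw [e3]; group
          _ = v * c := by rw [hu' v hv, hcdef]; group
    have hEc : ∀ e ∈ lay M, c * e = e * c := fun e he => by
      rw [hE, mem_bot] at he; simp [he]
    have hcs : ∀ z ∈ fstar M, z * c = c * z := fun z hz =>
      mem_centralizer_singleton_iff.1 (fstar_le_centralizer_of hEc hfix hz)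
    have hcF : c ∈ fit M := by
      have : fstar M = fit M := by
        rw [fstar, Cfsg.generalizedFittingSubgroup, Subgroup.map_sup]
        exact (congrArg (fun W => W ⊔ fit M) hE).trans (bot_sup_eq _)
      rw [← this]; exact mem_fstar_of_commute hcM hcs
    obtain ⟨a, b, hab, ⟨j, hj⟩, hb⟩ := exists_split (r := r) c
    have haR : c ^ a ∈ coreR r M := mem_coreR_of_fit (zpow_mem hcF a) hj
    have hbF : c ^ b ∈ fit M := zpow_mem hcF b
    -- `u` commutes with the `r'`-part
    have hbu : Commute u (c ^ b) := by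
      obtain ⟨b', hb', hbe⟩ := hbF
      have h3 : (⟨b', Comp.fitting_le_Fstar hb'⟩ : Cfsg.generalizedFittingSubgroup M) ∈
          Cfsg.pResidual r ↥(Cfsg.generalizedFittingSubgroup M) := subset_closure (by
        show (orderOf _).Coprime r
        rw [← Subgroup.orderOf_coe, ← Subgroup.orderOf_coe]
        have hbe' : (b' : G) = c ^ b := hbe
        show (orderOf (b' : G)).Coprime r
        rw [hbe']
        exact hb)
      have h4 := pResidual_le_away r (mem_map_of_mem M.subtype
        (mem_map_of_mem (Cfsg.generalizedFittingSubgroup M).subtype h3))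
      exact mem_centralizer_iff.1 (hUc (hbe ▸ h4)) u hu
    have hxa : Commute x (c ^ a) := (mem_centralizer_iff.1 hxc _
      (mem_sup_right (le_iSup (fun t : {t : ℕ // t.Prime ∧ t ≠ p} => coreR (t : ℕ) M)
        ⟨r, Fact.out, hrp⟩ haR))).symm
    -- the `r'`-part is trivial: work modulo `O_r(M)`
    have hb1 : c ^ b = 1 := by
      set f := QuotientGroup.mk' (Cfsg.pCore r M)
      set u' : M := ⟨u, huM⟩
      set x' : M := ⟨x, hxM⟩
      set b' : M := ⟨c ^ b, zpow_mem hcM b⟩
      have hrel : f u' * f x' = f b' * f x' * f u' := by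
        have : u' * x' = ⟨c ^ a, zpow_mem hcM a⟩ * (b' * x' * u') := by
          refine Subtype.ext ?_
          show u * x = c ^ a * (c ^ b * x * u)
          rw [← mul_assoc, ← mul_assoc, ← hab, hcdef]; group
        rw [← map_mul, this, map_mul, map_mul, map_mul]
        rw [show f ⟨c ^ a, zpow_mem hcM a⟩ = 1 from (QuotientGroup.eq_one_iff _).2 (by
          obtain ⟨a', ha', hae⟩ := haR
          rwa [← (Subtype.ext hae : a' = ⟨c ^ a, zpow_mem hcM a⟩)]), one_mul]
      have hcomm : Commute (f u') (f b') := (show Commute u' b' from Subtype.ext hbu.eq).map f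
      have hn : ∀ n : ℕ, f u' ^ n * f x' = f b' ^ n * f x' * f u' ^ n := by
        intro n
        induction n with
        | zero => simp
        | succ n ih =>
          rw [pow_succ' (f u'), mul_assoc, ih, ← mul_assoc, ← mul_assoc, (hcomm.pow_right n).eq,
            mul_assoc (f b' ^ n), hrel, pow_succ (f b')]
          group
      obtain ⟨k, hk⟩ := isPGroup_coreR r ⟨u, hu⟩
      have hk' : f u' ^ r ^ k = 1 := by
        rw [← map_pow, show u' ^ r ^ k = 1 from Subtype.ext (by simpa [u'] using congrArg Subtype.val hk),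
          map_one]
      have hb2 : f b' ^ r ^ k = 1 := by
        have := hn (r ^ k)
        rw [hk', one_mul, mul_one] at this
        exact (mul_eq_right.1 this.symm)
      have hb3 : f b' = 1 := orderOf_eq_one_iff.1 (Nat.eq_one_of_dvd_coprimes (hb.pow_right k)
        ((orderOf_map_dvd f b').trans (Subgroup.orderOf_mk _ _).dvd)
        (orderOf_dvd_of_pow_eq_one hb2))
      have hbR : b' ∈ Cfsg.pCore r M := (QuotientGroup.eq_one_iff _).1 hb3
      obtain ⟨m, hm⟩ := Solvable.isPGroup_pCore (G := M) r ⟨b', hbR⟩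
      have hm' : (c ^ b) ^ r ^ m = 1 :=
        congrArg (fun w : Cfsg.pCore r M => ((w : M) : G)) hm
      exact orderOf_eq_one_iff.1 (Nat.eq_one_of_dvd_coprimes (hb.pow_right m) dvd_rfl
        (orderOf_dvd_of_pow_eq_one hm'))
    have hca : c = c ^ a := by simpa [hb1] using hab
    obtain ⟨j', hj'⟩ : ∃ j, c ^ r ^ j = 1 := ⟨j, by rw [hca]; exact hj⟩
    have hcx : Commute c x := by rw [hca]; exact hxa.symm
    have hc1 : c ^ p ^ i = 1 := by
      have h5 : (u * x * u⁻¹) ^ p ^ i = 1 := by rw [conj_pow, hxi]; group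
      rw [show u * x * u⁻¹ = c * x by rw [hcdef]; group, hcx.mul_pow, hxi, mul_one] at h5
      exact h5
    have hc0 : c = 1 := orderOf_eq_one_iff.1 (Nat.eq_one_of_dvd_coprimes
      (Nat.Coprime.pow j' i ((Nat.coprime_primes Fact.out Fact.out).2 hrp))
      (orderOf_dvd_of_pow_eq_one hj') (orderOf_dvd_of_pow_eq_one hc1))
    rw [hcdef, mul_inv_eq_one, mul_inv_eq_iff_eq_mul] at hc0
    exact hc0
  set W := closure T
  have hWn : (W.subgroupOf M).Normal := by
    refine normal_subgroupOf_of_le_normalizer fun g hg => mem_normalizer_iff.2 ?_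
    suffices h : ∀ g ∈ M, W.map (MulAut.conj g).toMonoidHom ≤ W by
      intro y
      refine ⟨fun hy => h g hg ⟨y, hy, rfl⟩, fun hy => ?_⟩
      simpa [mul_assoc] using h g⁻¹ (inv_mem hg) ⟨_, hy, rfl⟩
    intro g hg
    rw [map_le_iff_le_comap, closure_le]
    rintro x ⟨hxM, hxc, i, hxi⟩
    refine subset_closure ⟨mul_mem (mul_mem hg hxM) (inv_mem hg), ?_, i, ?_⟩
    · have hgn : g ∈ normalizer (away p M : Set G) := le_normalizer_away hg
      exact (mem_normalizer_iff.1 (LocalBalance.normalizer_le_normalizer_centralizer _ hgn) x).1 hxc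
    · show (g * x * g⁻¹) ^ p ^ i = 1
      rw [conj_pow, hxi]; group
  have hPT : (coreR p N : Set G) ⊆ T := fun x hx => by
    refine ⟨(coreR_le_fstar p).trans h2 hx, mem_centralizer_iff.2 fun w hw => ?_, ?_⟩
    · exact (mem_centralizer_iff.1 (le_centralizer_away (isPGroup_coreR p) ((coreR_le_fstar p).trans h2)
        (large_fstar M) (h1.trans le_normalizer_coreR) hw) x hx).symm
    · obtain ⟨i, hi⟩ := isPGroup_coreR p ⟨x, hx⟩
      exact ⟨i, congrArg Subtype.val hi⟩
  set P := (coreR p N).subgroupOf M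
  have hPW : P ≤ W.subgroupOf M := fun x hx => subset_closure (hPT hx)
  have hWN : W ≤ N := (closure_le _).2 hTN
  have hPn : (P.subgroupOf (W.subgroupOf M)).Normal := ⟨fun x hx g =>
    (mem_normalizer_iff.1 (le_normalizer_coreR (hWN g.2)) _).1 hx⟩
  have hPp : IsPGroup p (P.subgroupOf (W.subgroupOf M)) :=
    ((isPGroup_coreR p).comap_subtype).comap_subtype
  haveI := hWn
  haveI : (Cfsg.pCore p (W.subgroupOf M)).Characteristic := Subgroup.characteristic_iff_map_le.2 fun φ =>
    Solvable.le_pCore p (Subgroup.Normal.map inferInstance _ φ.surjective)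
      ((Solvable.isPGroup_pCore p).map _)
  have hle : (Cfsg.pCore p (W.subgroupOf M)).map (W.subgroupOf M).subtype ≤ Cfsg.pCore p M :=
    Solvable.le_pCore p inferInstance ((Solvable.isPGroup_pCore p).map _)
  intro x hx
  have hxP : (⟨x, (coreR_le_fstar p).trans h2 hx⟩ : M) ∈ P := hx
  exact ⟨_, hle ⟨⟨_, hPW hxP⟩, Solvable.le_pCore p hPn hPp hxP, rfl⟩, rfl⟩

/-- Bender's theorem on primitive pairs. -/
theorem exists_charP_of_primitive (hne : M ≠ N)
    (hP : ∀ U : Subgroup G, U ≠ ⊥ → U ≤ M ⊓ N →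
      (M ≤ normalizer (U : Set G) → N ⊓ normalizer (U : Set G) = M ⊓ N) ∧
        (N ≤ normalizer (U : Set G) → M ⊓ normalizer (U : Set G) = M ⊓ N))
    (h1 : fstar M ≤ N) (h2 : fstar N ≤ M) :
    ∃ p : ℕ, p.Prime ∧ centralizer (Cfsg.pCore p M : Set M) ≤ Cfsg.pCore p M ∧
      centralizer (Cfsg.pCore p N : Set N) ≤ Cfsg.pCore p N ∧ coreR p M ⊔ coreR p N ≤ M ⊓ N := by
  have heq_of : ∀ U : Subgroup G, U ≠ ⊥ → U ≤ M ⊓ N → M ≤ normalizer (U : Set G) →
      N ≤ normalizer (U : Set G) → False := by
    intro U hU hle hMU hNU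
    have e1 := (hP U hU hle).1 hMU
    have e2 := (hP U hU hle).2 hNU
    rw [inf_eq_left.2 hNU] at e1
    rw [inf_eq_left.2 hMU] at e2
    exact hne (e2.trans e1.symm)
  have hlay : lay M = lay N := le_antisymm (lay_le_of_pair h1 h2) (lay_le_of_pair h2 h1)
  have hEM : lay M = ⊥ := by
    by_contra h
    exact heq_of _ h (le_inf lay_le (lay_le_fstar.trans h1)) le_normalizer_lay
      (hlay ▸ le_normalizer_lay)
  have hEN : lay N = ⊥ := hlay ▸ hEM
  have hGF : ∀ A : Subgroup G, lay A = ⊥ →
      Cfsg.generalizedFittingSubgroup A = Cfsg.fittingSubgroup A := fun A h => by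
    rw [lay, map_eq_bot_iff_of_injective _ A.subtype_injective] at h
    rw [Cfsg.generalizedFittingSubgroup, h, bot_sup_eq]
  have hbot : ∀ A : Subgroup G, fstar A = ⊥ → A = ⊥ := fun A hA => by
    rw [fstar, map_eq_bot_iff_of_injective _ A.subtype_injective] at hA
    refine (eq_bot_iff_forall A).2 fun a ha => ?_
    have := Comp.centralizer_Fstar_le (G := A) (show (⟨a, ha⟩ : A) ∈ _ by
      rw [hA]; exact mem_centralizer_iff.2 fun z hz => by
        rw [SetLike.mem_coe, mem_bot] at hz; simp [hz])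
    rw [hA, mem_bot] at this
    exact congrArg Subtype.val this
  have hfs : ∀ A : Subgroup G, lay A = ⊥ → (∀ r : ℕ, r.Prime → coreR r A = ⊥) → fstar A = ⊥ := by
    intro A hA hall
    rw [fstar, hGF A hA, Comp.fitting_eq_iSup_pCore, Subgroup.map_iSup, iSup_eq_bot]
    exact fun q => hall q (Nat.prime_of_mem_primeFactors q.2)
  have hex : ∃ q : ℕ, q.Prime ∧ coreR q M ≠ ⊥ := by
    by_contra hall
    push Not at hall
    have hM := hbot M (hfs M hEM hall)
    refine hne (hM.trans (hbot N ?_).symm)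
    rw [hM] at h2
    exact le_bot_iff.1 h2
  obtain ⟨q, hq, hqM⟩ := hex
  haveI := Fact.mk hq
  have hone : ∀ r : ℕ, r.Prime → r ≠ q → coreR r M = ⊥ := by
    intro r hr hrq
    by_contra hrM
    haveI := Fact.mk hr
    have hrN := coreR_ne_bot_of_pair h2 h1 hrM
    have heq : coreR q N = coreR q M := le_antisymm
      (coreR_le_of_pair' (fun U hU hle hn => ((hP U hU hle).2 hn).le.trans inf_le_right)
        h1 h2 hEM hrq hrN)
      (coreR_le_of_pair' (fun U hU hle hn => ((hP U hU (hle.trans (le_inf inf_le_right inf_le_left))).1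
        hn).le.trans inf_le_left) h2 h1 hEN hrq hrM)
    exact heq_of _ hqM (le_inf (coreR_le q) (heq ▸ coreR_le q)) le_normalizer_coreR
      (heq ▸ le_normalizer_coreR)
  have honeN : ∀ r : ℕ, r.Prime → r ≠ q → coreR r N = ⊥ := fun r hr hrq => by
    haveI := Fact.mk hr
    by_contra hrN
    exact coreR_ne_bot_of_pair h1 h2 hrN (hone r hr hrq)
  have hp : ∀ A : Subgroup G, lay A = ⊥ → (∀ r : ℕ, r.Prime → r ≠ q → coreR r A = ⊥) →
      centralizer (Cfsg.pCore q A : Set A) ≤ Cfsg.pCore q A := fun A hA hall => by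
    have he : Cfsg.generalizedFittingSubgroup A = Cfsg.pCore q A := by
      refine le_antisymm ?_ ((Comp.le_fitting inferInstance (Solvable.isPGroup_pCore q).isNilpotent).trans
        Comp.fitting_le_Fstar)
      rw [hGF A hA, Comp.fitting_eq_iSup_pCore]
      refine iSup_le fun r => ?_
      rcases eq_or_ne (r : ℕ) q with h | h
      · rw [h]
      · rw [(map_eq_bot_iff_of_injective _ A.subtype_injective).1
          (hall r (Nat.prime_of_mem_primeFactors r.2) h)]
        exact bot_le
    exact he ▸ Comp.centralizer_Fstar_le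
  exact ⟨q, hq, hp M hEM hone, hp N hEN honeN,
    sup_le (le_inf (coreR_le q) ((coreR_le_fstar q).trans h1))
      (le_inf ((coreR_le_fstar q).trans h2) (coreR_le q))⟩

end CfsgLib.MaxBender
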