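import Cfsg.Agent.S1239
import Cfsg.Agent.Invol.CentricFusion
import Cfsg.Agent.Invol.Isolated
import Mathlib.GroupTheory.SpecificGroups.Cyclic

/-!
# `H = O(H) C_H(Z(S))`
-/

set_option autoImplicit false

namespace CfsgLib.CenterFactor

open Subgroup

variable {H : Type*} [Group H] [Finite H]

theorem mulAut_pGroup {Z : Type*} [Group Z] [Finite Z] (hc : IsCyclic Z) (hp : IsPGroup 2 Z) :
    IsPGroup 2 (MulAut Z) := by
  haveI : Fact (Nat.Prime 2) := ⟨Nat.prime_two⟩
  obtain ⟨k, hk⟩ := IsPGroup.iff_card.1 hp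
  have h : Nat.card (MulAut Z) = Nat.totient (2 ^ k) := by
    rw [IsCyclic.card_mulAut, hk]
  rcases Nat.eq_zero_or_pos k with rfl | hk0
  · exact IsPGroup.of_card (n := 0) (by rw [h]; simp)
  · exact IsPGroup.of_card (n := k - 1) (by rw [h, Nat.totient_prime_pow Nat.prime_two hk0]; simp)

/-- A cyclic central subgroup of `S` which is normal modulo an odd subgroup has centralizer
covering the quotient. -/
theorem decompose (S : Sylow 2 H) {O Z : Subgroup H} [O.Normal] (hO : Odd (Nat.card O))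
    (hZS : Z ≤ (S : Subgroup H)) (hcyc : IsCyclic Z) (hcen : ∀ w ∈ Z, ∀ s ∈ (S : Subgroup H), Commute s w)
    (hN : (O ⊔ Z).Normal) (h : H) : ∃ o ∈ O, ∃ c ∈ centralizer (Z : Set H), h = o * c := by
  haveI : Fact (Nat.Prime 2) := ⟨Nat.prime_two⟩
  haveI := hN
  set N := O ⊔ Z
  have hZp : IsPGroup 2 Z := S.2.to_le hZS
  have hZN : Z ≤ N := le_sup_right
  have hidx : ¬ 2 ∣ (Z.subgroupOf N).index := by
    intro h2
    have hOZ : O ⊓ Z = ⊥ := inf_eq_bot_of_coprime (by
      obtain ⟨k, hk⟩ := IsPGroup.iff_card.1 hZp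
      rw [hk]; exact (Nat.coprime_two_left.2 hO).symm.pow_right k)
    have h4 : O.relIndex N = Nat.card Z := by
      rw [show N = Z ⊔ O from sup_comm _ _, relIndex_sup_right, ← inf_relIndex_right, hOZ, relIndex_bot_left]
    have h5 := O.relIndex_mul_index (le_sup_left : O ≤ N)
    have h6 := card_mul_index (Z.subgroupOf N)
    rw [Nat.card_congr (subgroupOfEquivOfLe hZN).toEquiv] at h6
    have h7 := card_mul_index (O.subgroupOf N)
    rw [Nat.card_congr (subgroupOfEquivOfLe (le_sup_left : O ≤ N)).toEquiv] at h7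
    change Nat.card O * O.relIndex N = Nat.card N at h7
    rw [h4] at h7
    have h8 : (Z.subgroupOf N).index = Nat.card O :=
      Nat.eq_of_mul_eq_mul_left (Nat.card_pos (α := Z)) (by rw [h6, ← h7, mul_comm])
    exact Nat.not_even_iff_odd.2 hO (even_iff_two_dvd.2 (h8 ▸ h2))
  set P : Sylow 2 N := (hZp.of_equiv (subgroupOfEquivOfLe hZN).symm).toSylow hidx
  have htop := Sylow.normalizer_sup_eq_top P
  have hPmap : (P : Subgroup N).map N.subtype = Z := map_subgroupOf_eq_of_le hZN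
  have hnc : normalizer (Z : Set H) ≤ centralizer (Z : Set H) := by
    intro x hx
    refine mem_centralizer_iff.2 fun w hw => ?_
    have hSN : (S : Subgroup H) ≤ normalizer (Z : Set H) := fun s hs =>
      centralizer_le_normalizer _ (mem_centralizer_iff.2 fun v hv => (hcen v hv s hs).eq.symm)
    obtain ⟨s, hs, -, e⟩ := CentricFusion.inner_of_pGroup_aut S (D := Z)
      (by
        intro h2
        rw [inf_eq_left.2 hSN] at h2
        exact S.not_dvd_index (h2.trans ⟨_, (relIndex_mul_index hSN).symm⟩))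
      (mulAut_pGroup hcyc hZp) hx
    have h1 := e w hw
    rw [mul_inv_eq_iff_eq_mul.2 (hcen w hw s hs).eq] at h1
    exact (mul_inv_eq_iff_eq_mul.1 h1).symm
  have hle : centralizer (Z : Set H) ⊔ O = ⊤ := by
    rw [eq_top_iff]
    intro x _
    have hx : x ∈ normalizer ((P : Subgroup N).map N.subtype : Set H) ⊔ N := by
      rw [htop]; exact mem_top x
    rw [hPmap] at hx
    have h1 : normalizer (Z : Set H) ⊔ N ≤ centralizer (Z : Set H) ⊔ O :=
      sup_le (hnc.trans le_sup_left) (sup_le le_sup_right (le_trans (b := centralizer (Z : Set H)) (fun v hv => mem_centralizer_iff.2 fun w hw =>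
        (hcen v hv w (hZS hw)).eq) le_sup_left))
    exact h1 hx
  obtain ⟨o, ho, c, hc, e⟩ : ∃ o ∈ O, ∃ c ∈ centralizer (Z : Set H), o * c = h := by
    have : h ∈ O ⊔ centralizer (Z : Set H) := by rw [sup_comm, hle]; exact mem_top h
    obtain ⟨o, ho, c, hc, e⟩ := mem_sup_of_normal_left.1 this
    exact ⟨o, ho, c, hc, e⟩
  exact ⟨o, ho, c, hc, e.symm⟩

theorem main (S : Sylow 2 H) (hS : Cfsg.IsQuasiDihedral (S : Subgroup H) ∨ Cfsg.IsWreathed (S : Subgroup H))
    (hw : ∀ Z₀ : Subgroup H, Z₀ ≤ ((center (S : Subgroup H)).map (S : Subgroup H).subtype) →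
      Cfsg.IsWeaklyClosed Z₀ (S : Subgroup H)) (h : H) :
    ∃ o ∈ Cfsg.oddCore H,
      ∃ c ∈ centralizer (((center (S : Subgroup H)).map (S : Subgroup H).subtype : Subgroup H) : Set H), h = o * c := by
  haveI : Fact (Nat.Prime 2) := ⟨Nat.prime_two⟩
  have hgen : ∃ g : (S : Subgroup H), center (S : Subgroup H) = zpowers g ∧ g ≠ 1 := by
    rcases hS with hS | hS
    · obtain ⟨D⟩ := CfsgLib.QD.exists_data hS
      exact ⟨_, D.center_eq, D.z_ne_one⟩
    · obtain ⟨D⟩ := CfsgLib.Wreath.exists_data hS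
      refine ⟨_, D.center_eq, fun h1 => ?_⟩
      have := D.orderOf_diag
      rw [h1, orderOf_one] at this
      have := D.q_pos
      omega
  obtain ⟨g, hg, hg1⟩ := hgen
  set Z := (center (S : Subgroup H)).map (S : Subgroup H).subtype with hZdef
  have hZg : Z = zpowers (g : H) := by rw [hZdef, hg, MonoidHom.map_zpowers]; rfl
  have hcen : ∀ w ∈ Z, ∀ s ∈ (S : Subgroup H), Commute s w := by
    rintro w ⟨v, hv, rfl⟩ s hs
    exact congrArg Subtype.val (mem_center_iff.1 hv ⟨s, hs⟩)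
  obtain ⟨z, hz⟩ := exists_prime_orderOf_dvd_card' (G := Z) 2 (by
    obtain ⟨k, hk⟩ := IsPGroup.iff_card.1 (S.2.to_le (map_subtype_le (center (S : Subgroup H))) : IsPGroup 2 Z)
    rw [hk]
    refine dvd_pow_self 2 fun h0 => hg1 (Subtype.ext ?_)
    have h1 : Z = ⊥ := card_eq_one.1 (by rw [hk, h0, pow_zero])
    rwa [hZg, zpowers_eq_bot] at h1)
  rw [← Subgroup.orderOf_coe] at hz
  have hzS : (z : H) ∈ (S : Subgroup H) := map_subtype_le _ z.2
  have hiso : Cfsg.IsIsolatedInvolution (z : H) := CfsgLib.Invol.isolated_of_sylow S hz fun a ha => by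
    have h2 := (hw (zpowers (z : H)) (zpowers_le.2 z.2)).2 a (by
      rw [MonoidHom.map_zpowers]
      exact zpowers_le.2 ha)
    rw [MonoidHom.map_zpowers] at h2
    change zpowers (a * (z : H) * a⁻¹) = _ at h2
    obtain ⟨j, hj⟩ := mem_zpowers_iff.1 (h2 ▸ mem_zpowers (a * (z : H) * a⁻¹))
    have hne : a * (z : H) * a⁻¹ ≠ 1 := fun h1 => CfsgLib.Invol.ne_one hz (conj_eq_one_iff.1 h1)
    have hzz := CfsgLib.Invol.mul_self_eq_one hz
    rcases Int.even_or_odd j with ⟨l, rfl⟩ | ⟨l, rfl⟩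
    · rw [zpow_add, ← (Commute.refl (z : H)).mul_zpow, hzz, one_zpow] at hj
      exact absurd hj.symm hne
    · rw [zpow_add, zpow_one, two_mul, zpow_add, ← (Commute.refl (z : H)).mul_zpow, hzz, one_zpow, one_mul] at hj
      exact hj.symm
  exact decompose S CfsgLib.IsoApps.odd_oddCore (map_subtype_le _) (by rw [← hZdef, hZg]; infer_instance) hcen
    (Cfsg.Agent.S1239.result S hS z hzS hiso) h

end CfsgLib.CenterFactor
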