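import Cfsg.Agent.Invol.CharTwoPTypeRoots
import Cfsg.Agent.Solvable.CoprimeAct
import Mathlib.GroupTheory.Nilpotent

/-!
Two hyperplanes of `E` acting on a `2`-group give a `2`-group `R` whose commutators and squares lie in a
subgroup `⟨z⟩` of order `2`.
-/

set_option autoImplicit false
set_option linter.unusedSectionVars false
set_option linter.style.haveILetI false

namespace CfsgLib.CharTwoPType

open Subgroup
open scoped commutatorElement

variable {G : Type*} [Group G] [Finite G] {p : ℕ} [Fact p.Prime]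

theorem closure_comm {S : Set G} (h : ∀ a ∈ S, ∀ b ∈ S, Commute a b) :
    ∀ x ∈ closure S, ∀ y ∈ closure S, Commute x y := by
  have h1 : ∀ b ∈ S, ∀ x ∈ closure S, Commute x b := fun b hb x hx =>
    mem_centralizer_singleton_iff.1 (((closure_le (K := centralizer ({b} : Set G))).2
      fun a ha => mem_centralizer_singleton_iff.2 (h a ha b hb).eq) hx)
  intro x hx y hy
  exact (mem_centralizer_singleton_iff.1 (((closure_le (K := centralizer ({x} : Set G))).2
    fun a ha => mem_centralizer_singleton_iff.2 (h1 a ha x hx).symm.eq) hy) : Commute y x).symm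

theorem closure_norm {S : Set G} {W : Subgroup G} (h : ∀ w ∈ W, ∀ s ∈ S, w * s * w⁻¹ ∈ closure S) :
    W ≤ normalizer (closure S : Set G) := norm_of_conj fun w hw x hx =>
  ((closure_le (K := (closure S).comap (MulAut.conj w).toMonoidHom)).2 fun s hs => h w hw s hs) hx

theorem comm_mul_left {a b y : G} (h : Commute a ⁅b, y⁆) (h' : Commute ⁅a, y⁆ ⁅b, y⁆) :
    ⁅a * b, y⁆ = ⁅a, y⁆ * ⁅b, y⁆ := by
  rw [commutatorElement_mul_left_eq_conj_mul, conj_of_commute h, h'.eq]

/-- An element whose commutator with `a` commutes with `a` and `e` commutes with `⁅a, e⁆`, if it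
commutes with `e`. -/
theorem commute_comm {x a e : G} (ha : Commute ⁅x, a⁆ a) (he : Commute ⁅x, a⁆ e) (hxe : Commute x e) :
    Commute x ⁅a, e⁆ := by
  refine commute_of_conj ?_
  have h1 : x * a * x⁻¹ = ⁅x, a⁆ * a := by simp [commutatorElement_def]
  calc x * ⁅a, e⁆ * x⁻¹
      = (x * a * x⁻¹) * (x * e * x⁻¹) * (x * a * x⁻¹)⁻¹ * (x * e * x⁻¹)⁻¹ := by
        simp only [commutatorElement_def]; group
    _ = ⁅x, a⁆ * (a * e * a⁻¹) * ⁅x, a⁆⁻¹ * e⁻¹ := by rw [h1, conj_of_commute hxe]; group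
    _ = ⁅a, e⁆ := by
        rw [conj_of_commute ((ha.mul_right he).mul_right ha.inv_right), commutatorElement_def]

/-- The configuration. -/
structure Frame (p l : ℕ) (E A₁ A₂ R : Subgroup G) (z : G) : Prop where
  two : IsPGroup 2 R
  norm : E ≤ normalizer (R : Set G)
  cent : R ≤ centralizer ((A₁ ⊓ A₂ : Subgroup G) : Set G)
  le₁ : A₁ ≤ E
  card₁ : Nat.card A₁ = p ^ (l + 1)
  le₂ : A₂ ≤ E
  card₂ : Nat.card A₂ = p ^ (l + 1)
  ne : A₁ ≠ A₂
  gen : R ≤ ⁅R, E⁆
  zR : z ∈ R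
  zord : orderOf z = 2
  zE : ∀ e ∈ E, Commute e z
  zC : ∀ r ∈ R, Commute r z
  comm : ∀ x ∈ R, ∀ y ∈ R, ⁅x, y⁆ ∈ zpowers z
  sq : ∀ x ∈ R, x * x ∈ zpowers z
  fixed : ∀ c ∈ R, (∀ e ∈ E, Commute e c) → c ∈ zpowers z
  move₁ : ¬ R ⊓ centralizer (A₁ : Set G) ≤ centralizer (E : Set G)
  move₂ : ¬ R ⊓ centralizer (A₂ : Set G) ≤ centralizer (E : Set G)

namespace Hyp

variable {l : ℕ} (H : Hyp p l G) {E : Subgroup G} (hE : Cfsg.IsElementaryAbelian p E)
  (hEn : Nat.card E = p ^ (l + 2))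

include H hE hEn

/-- Abelian normal `E`-invariant subgroups of `R ≤ [R, E]` are central. -/
theorem abelian_central {R T : Subgroup G} (hR : IsPGroup 2 R) (hgen : R ≤ ⁅R, E⁆) (hTR : T ≤ R)
    (hTc : ∀ x ∈ T, ∀ y ∈ T, Commute x y) (hRT : R ≤ normalizer (T : Set G))
    (hET : E ≤ normalizer (T : Set G)) : ∀ t ∈ T, ∀ r ∈ R, Commute r t := by
  have hTE := H.centralizes hE hEn (hR.to_le hTR) hTc hET
  have hle : ⁅R, E⁆ ≤ centralizer (T : Set G) := commutator_le.2 fun r hr e he =>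
    mem_centralizer_of_commute fun t ht => by
      refine (commute_of_conj ?_).symm
      have h1 : r⁻¹ * t * r ∈ T := by simpa using conj_of_norm hRT r⁻¹ (inv_mem hr) t ht
      calc ⁅r, e⁆ * t * ⁅r, e⁆⁻¹
          = r * (e * (r⁻¹ * (e⁻¹ * t * e) * r) * e⁻¹) * r⁻¹ := by
            simp only [commutatorElement_def]; group
        _ = r * (r⁻¹ * t * r) * r⁻¹ := by
            rw [show e⁻¹ * t * e = t by
              rw [mul_assoc, ← (commute_of_mem_centralizer (hTE ht) he).eq, inv_mul_cancel_left],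
              conj_of_commute (commute_of_mem_centralizer (hTE h1) he)]
        _ = t := by group
  exact fun t ht r hr => (commute_of_mem_centralizer (hle (hgen hr)) ht).symm

theorem exists_frame {T : Subgroup G} (hT : IsPGroup 2 T) (hT1 : T ≠ ⊥)
    (hET : E ≤ normalizer (T : Set G)) :
    ∃ A₁ A₂ R : Subgroup G, ∃ z : G, Frame p l E A₁ A₂ R z := by
  haveI : Fact (Nat.Prime 2) := ⟨Nat.prime_two⟩
  have hcp := H.charTwo T hT hT1
  set Y := CharP.opIn 2 (normalizer (T : Set G)) with hY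
  have hYp : IsPGroup 2 Y := CharP.isPGroup_opIn _
  have hEY : E ≤ normalizer (Y : Set G) := hET.trans (CharP.le_normalizer_opIn _)
  have hfaith : ∀ A : Subgroup G, A ≤ E → A ≠ ⊥ → ¬ Y ≤ centralizer (A : Set G) := by
    intro A hA hA1 h
    obtain ⟨⟨a, ha⟩, ha1⟩ := ne_bot_iff_exists_ne_one.1 hA1
    have ha1' : a ≠ 1 := fun h => ha1 (Subtype.ext h)
    refine ha1' (hcp.eq_one_subgroup ?_ (hET (hA ha)) (mem_centralizer_iff.2 fun y hy =>
      ((mem_centralizer_iff.1 (h hy)) a ha).symm))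
    rw [orderOf_eq_prime (hE.2 a (hA ha)) ha1']
    exact (Nat.coprime_primes Fact.out Nat.prime_two).2 H.odd
  obtain ⟨A₁, hA₁, hA₁n, hY₁⟩ := H.exists_hyperplane hE hEn hYp hEY
    (hfaith E le_rfl (H.ne_bot hEn (by omega))) inf_le_right
  obtain ⟨A₂, hA₂, hA₂n, hY₂'⟩ := H.exists_hyperplane hE hEn hYp hEY
    (hfaith A₁ hA₁ (H.ne_bot hA₁n (by omega))) (inf_le_right.trans (centralizer_le hA₁))
  have hne : A₁ ≠ A₂ := fun h => hY₂' (h ▸ inf_le_right)
  have hY₂ : ¬ Y ⊓ centralizer (A₂ : Set G) ≤ centralizer (E : Set G) :=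
    fun h => hY₂' (h.trans (centralizer_le hA₁))
  obtain ⟨-, hB⟩ := H.sup_eq hE hEn hA₁ hA₂ hA₁n hA₂n hne
  set B := A₁ ⊓ A₂ with hBdef
  have hBE : B ≤ E := inf_le_left.trans hA₁
  set K := Y ⊓ centralizer (B : Set G) with hK
  have hEK : E ≤ normalizer (K : Set G) := Signalizer.le_normalizer_inf_centralizer hE hEY hBE
  have hKp : IsPGroup 2 K := hYp.to_le inf_le_left
  have hcop : ∀ {X : Subgroup G}, IsPGroup 2 X → (Nat.card E).Coprime (Nat.card X) := fun hX =>
    Signalizer.coprime_card hE (not_dvd_card H.odd hX)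
  set R := ⁅K, E⁆ with hRdef
  have hRK : R ≤ K := le_normalizer_iff_commutator_le_left.1 hEK
  have hRp : IsPGroup 2 R := hKp.to_le hRK
  have hER : E ≤ normalizer (R : Set G) := normalizer_commutator_ge_right _ _
  have hgen : R ≤ ⁅R, E⁆ :=
    (CoprimeAct.commutator_commutator hEK (hcop hKp) (Or.inl (Signalizer.isSolvable hE))).ge
  have hmove : ∀ A : Subgroup G, A ≤ E → B ≤ A → ¬ Y ⊓ centralizer (A : Set G) ≤ centralizer (E : Set G) →
      ¬ R ⊓ centralizer (A : Set G) ≤ centralizer (E : Set G) := by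
    intro A hA hBA hYA hle
    refine hYA fun w hw => mem_centralizer_of_commute fun e he => ?_
    have hwK : w⁻¹ ∈ K := inv_mem ⟨hw.1, centralizer_le hBA hw.2⟩
    have hcR : ⁅w⁻¹, e⁆ ∈ R := commutator_mem_commutator hwK he
    have hcA : ⁅w⁻¹, e⁆ ∈ centralizer (A : Set G) := by
      have he' : e ∈ centralizer (A : Set G) := Signalizer.le_centralizer_of_le hE hA he
      rw [commutatorElement_def, inv_inv]
      exact mul_mem (mul_mem (mul_mem (inv_mem hw.2) he') hw.2) (inv_mem he')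
    exact commute_of_shift (hE.2 e he) (c := ⁅w⁻¹, e⁆)
      (by simp only [commutatorElement_def]; group)
      (commute_of_mem_centralizer (hle ⟨hcR, hcA⟩) he) (coprime_of_mem H.odd hRp hcR)
  have hm₁ := hmove A₁ hA₁ inf_le_left hY₁
  have hm₂ := hmove A₂ hA₂ inf_le_right hY₂
  -- the centre
  set Z := R ⊓ centralizer (R : Set G) with hZ
  have hZR : ∀ c ∈ Z, ∀ r ∈ R, Commute r c := fun c hc r hr => commute_of_mem_centralizer hc.2 hr
  have hZE : Z ≤ centralizer (E : Set G) := by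
    refine H.centralizes hE hEn (hRp.to_le inf_le_left) (fun x hx y hy => hZR y hy x hx.1) ?_
    refine norm_of_conj fun e he c hc => ⟨conj_of_norm hER e he c hc.1,
      mem_centralizer_of_commute fun r hr => ?_⟩
    have h1 := (hZR c hc _ (conj_of_norm hER e⁻¹ (inv_mem he) r hr)).map (MulAut.conj e).toMonoidHom
    simpa [mul_assoc] using h1
  have habel : ∀ T ≤ R, (∀ x ∈ T, ∀ y ∈ T, Commute x y) → R ≤ normalizer (T : Set G) →
      E ≤ normalizer (T : Set G) → T ≤ Z := fun T hTR hTc hRT hET t ht =>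
    ⟨hTR ht, mem_centralizer_of_commute fun r hr =>
      H.abelian_central hE hEn hRp hgen hTR hTc hRT hET t ht r hr⟩
  -- class two
  have hclass : ⁅R, R⁆ ≤ Z := by
    let Z₂ : Subgroup G :=
      { carrier := {x | x ∈ R ∧ ∀ y ∈ R, ⁅x, y⁆ ∈ Z}
        one_mem' := ⟨one_mem _, fun y _ => by rw [commutatorElement_one_left]; exact one_mem _⟩
        mul_mem' := fun {a b} ha hb => ⟨mul_mem ha.1 hb.1, fun y hy => by
          rw [comm_mul_left (hZR _ (hb.2 y hy) a ha.1) (hZR _ (hb.2 y hy) _ (ha.2 y hy).1)]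
          exact mul_mem (ha.2 y hy) (hb.2 y hy)⟩
        inv_mem' := fun {a} ha => ⟨inv_mem ha.1, fun y hy => by
          have e : ⁅a⁻¹, y⁆ = ⁅a, y⁆⁻¹ := by
            have h1 : a⁻¹ * ⁅a, y⁆⁻¹ * a = ⁅a, y⁆⁻¹ := by
              simpa using conj_of_commute ((hZR _ (ha.2 y hy) a⁻¹ (inv_mem ha.1)).inv_right)
            rw [← h1]; simp only [commutatorElement_def]; group
          rw [e]; exact inv_mem (ha.2 y hy)⟩ }
    set T := Z₂ ⊓ ⁅R, R⁆ with hTdef
    have hnT : ∀ W : Subgroup G, W ≤ normalizer (R : Set G) → W ≤ normalizer (T : Set G) := by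
      intro W hW
      have hWR : W ≤ normalizer ((⁅R, R⁆ : Subgroup G) : Set G) := norm_of_conj fun w hw x hx => by
        have h1 : (⁅R, R⁆ : Subgroup G).map (MulAut.conj w).toMonoidHom ≤ ⁅R, R⁆ := by
          rw [map_commutator]
          refine commutator_mono ?_ ?_ <;> rintro _ ⟨u, hu, rfl⟩ <;> exact conj_of_norm hW w hw u hu
        exact h1 ⟨x, hx, rfl⟩
      refine le_normalizer_inter (norm_of_conj fun w hw x hx =>
        ⟨conj_of_norm hW w hw x hx.1, fun y hy => ?_⟩) hWR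
      have h1 := hx.2 _ (conj_of_norm hW w⁻¹ (inv_mem hw) y hy)
      have h2 : w * ⁅x, w⁻¹ * y * w⁻¹⁻¹⁆ * w⁻¹ ∈ Z := ⟨conj_of_norm hW w hw _ h1.1,
        mem_centralizer_of_commute fun r hr => by
          have h3 := (hZR _ h1 _ (conj_of_norm hW w⁻¹ (inv_mem hw) r hr)).map (MulAut.conj w).toMonoidHom
          simp only [MulEquiv.coe_toMonoidHom, MulAut.conj_apply] at h3
          rwa [show w * (w⁻¹ * r * w⁻¹⁻¹) * w⁻¹ = r by group] at h3⟩
      rw [show ⁅w * x * w⁻¹, y⁆ = w * ⁅x, w⁻¹ * y * w⁻¹⁻¹⁆ * w⁻¹ by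
        simp only [commutatorElement_def]; group]
      exact h2
    have hrot : ⁅⁅R, R⁆, Z₂⁆ = ⊥ := by
      have hle : ∀ X : Subgroup G, X ≤ Z → ⁅X, R⁆ = ⊥ := fun X hX =>
        commutator_eq_bot_iff_le_centralizer.2 fun x hx => (hX hx).2
      have h1 : ⁅Z₂, R⁆ ≤ Z := commutator_le.2 fun x hx y hy => hx.2 y hy
      refine commutator_commutator_eq_bot_of_rotate (hle _ ?_) (hle _ h1)
      rw [commutator_comm]; exact h1
    have hTZ : T ≤ Z := habel T (fun x hx => hx.1.1)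
      (fun x hx y hy => (commute_of_mem_centralizer
        ((commutator_eq_bot_iff_le_centralizer.1 hrot) hy.2) hx.1))
      (hnT R le_normalizer) (hnT E hER)
    obtain ⟨n, hn⟩ := (isNilpotent_iff_lowerCentralSeries R).1 hRp.isNilpotent
    have key : ∀ k, R.lowerCentralSeries (k + 1) ≤ Z → R.lowerCentralSeries 1 ≤ Z := by
      intro k
      induction k with
      | zero => exact id
      | succ k ih =>
        intro hk
        refine ih fun x hx => hTZ ⟨⟨?_, fun y hy => hk (commutator_mem_commutator hx hy)⟩,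
          R.lowerCentralSeries_antitone (Nat.le_add_left 1 k) hx⟩
        exact R.lowerCentralSeries_antitone (Nat.zero_le _) hx
    exact key n ((R.lowerCentralSeries_antitone (Nat.le_succ n)).trans (hn ▸ bot_le))
  have hcomm : ∀ x ∈ R, ∀ y ∈ R, ⁅x, y⁆ ∈ Z := fun x hx y hy =>
    hclass (commutator_mem_commutator hx hy)
  have hpow : ∀ x ∈ R, ∀ y ∈ R, ∀ n : ℕ, ⁅x ^ n, y⁆ = ⁅x, y⁆ ^ n := by
    intro x hx y hy n
    induction n with
    | zero => simp
    | succ n ih =>
      rw [pow_succ, comm_mul_left (hZR _ (hcomm x hx y hy) _ (pow_mem hx n))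
        (hZR _ (hcomm x hx y hy) _ (hcomm _ (pow_mem hx n) y hy).1), ih, pow_succ]
  -- commutators have order two
  have hexp : ∀ x ∈ R, ∀ y ∈ R, ⁅x, y⁆ ^ 2 = 1 := by
    have hstep : ∀ k : ℕ, (∀ x ∈ R, ∀ y ∈ R, ⁅x, y⁆ ^ 2 ^ (k + 2) = 1) →
        ∀ x ∈ R, ∀ y ∈ R, ⁅x, y⁆ ^ 2 ^ (k + 1) = 1 := by
      intro k hk x hx y hy
      set s := 2 ^ (k + 1) with hs
      set S : Set G := {u | ∃ w ∈ R, u = w ^ s} with hS
      have hcS : ∀ a ∈ S, ∀ b ∈ S, Commute a b := by
        rintro _ ⟨a, ha, rfl⟩ _ ⟨b, hb, rfl⟩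
        rw [← commutatorElement_eq_one_iff_commute, hpow a ha _ (pow_mem hb s),
          ← commutatorElement_inv, hpow b hb a ha, inv_pow, ← pow_mul, inv_eq_one]
        obtain ⟨c, hc⟩ : 2 ^ (k + 2) ∣ s * s := by
          rw [hs, ← pow_add]; exact pow_dvd_pow 2 (by omega)
        rw [hc, pow_mul, hk b hb a ha, one_pow]
      have hnS : ∀ W : Subgroup G, W ≤ normalizer (R : Set G) → W ≤ normalizer (closure S : Set G) :=
        fun W hW => closure_norm fun w hw u hu => by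
          obtain ⟨v, hv, rfl⟩ := hu
          exact subset_closure ⟨w * v * w⁻¹, conj_of_norm hW w hw v hv, conj_pow.symm⟩
      have hle := habel (closure S) ((closure_le _).2 fun u hu => by
        obtain ⟨v, hv, rfl⟩ := hu; exact pow_mem hv s) (closure_comm hcS) (hnS R le_normalizer) (hnS E hER)
      rw [← hpow x hx y hy, commutatorElement_eq_one_iff_commute]
      exact (hZR _ (hle (subset_closure ⟨x, hx, rfl⟩)) y hy).symm
    obtain ⟨n, hn⟩ := IsPGroup.iff_card.1 hRp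
    have h0 : ∀ x ∈ R, ∀ y ∈ R, ⁅x, y⁆ ^ 2 ^ (n + 1) = 1 := fun x hx y hy => by
      rw [pow_succ, pow_mul, ← hn]
      rw [show ⁅x, y⁆ ^ Nat.card R = 1 from congrArg Subtype.val
        (pow_card_eq_one' (x := (⟨⁅x, y⁆, (hcomm x hx y hy).1⟩ : R))), one_pow]
    have key : ∀ n : ℕ, (∀ x ∈ R, ∀ y ∈ R, ⁅x, y⁆ ^ 2 ^ (n + 1) = 1) →
        ∀ x ∈ R, ∀ y ∈ R, ⁅x, y⁆ ^ 2 = 1 := by
      intro n
      induction n with
      | zero => intro h; simpa using h
      | succ n ih => exact fun h => ih (hstep n h)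
    exact key n h0
  -- the involution
  have hR1 : R ≠ ⊥ := fun h => hm₁ (le_trans (h ▸ inf_le_left) bot_le)
  have hZ1 : Z ≠ ⊥ := by
    intro h
    rcases eq_or_ne (⁅R, R⁆ : Subgroup G) ⊥ with h0 | h0
    · exact hR1 (eq_bot_iff.2 (h ▸ le_inf le_rfl (commutator_eq_bot_iff_le_centralizer.1 h0)))
    · exact h0 (eq_bot_iff.2 (h ▸ hclass))
  obtain ⟨z, hz, hz2⟩ := CharP.exists_orderOf_two (hRp.to_le inf_le_left) hZ1
  have hzz : z ^ 2 = 1 := by rw [← hz2, pow_orderOf_eq_one]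
  have hzE : ∀ e ∈ E, Commute e z := fun e he => commute_of_mem_centralizer (hZE hz) he
  have huniq : ∀ c ∈ Z, c ^ 2 = 1 → c ∈ zpowers z := by
    intro c hc hcc
    by_contra hcz
    have hc1 : c ≠ 1 := fun h => hcz (h ▸ one_mem _)
    set X := R ⊓ centralizer (A₁ : Set G) with hX
    set U := CharP.opIn p (centralizer (A₁ : Set G)) with hU
    have hXp : IsPGroup 2 X := hRp.to_le inf_le_left
    have hEX : E ≤ normalizer (X : Set G) := Signalizer.le_normalizer_inf_centralizer hE hER hA₁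
    have hcA : ∀ u ∈ Z, u ∈ centralizer (A₁ : Set G) := fun u hu => centralizer_le hA₁ (hZE hu)
    have hV : Cfsg.IsElementaryAbelian 2 (zpowers c ⊔ zpowers z : Subgroup G) := by
      have hzp : ∀ u : G, u ^ 2 = 1 → Cfsg.IsElementaryAbelian 2 (zpowers u) := fun u hu =>
        ⟨inferInstance, fun a ha => by
          obtain ⟨k, rfl⟩ := mem_zpowers_iff.1 ha
          rw [← zpow_natCast, ← zpow_mul, mul_comm, zpow_mul, zpow_natCast, hu, one_zpow]⟩
      exact elementary_sup (hzp c hcc) (hzp z hzz) fun a ha b hb =>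
        commute_zpowers ((commute_zpowers ((hZR z hz c hc.1).symm) hb).symm) ha
    have hVZ : zpowers c ⊔ zpowers z ≤ Z := sup_le (zpowers_le.2 hc) (zpowers_le.2 hz)
    have hV4 : Nat.card ↥(zpowers c ⊔ zpowers z) = 2 * 2 := by
      rw [Signalizer.card_sup_zpowers hV le_sup_right (mem_sup_left (mem_zpowers c)) hcz,
        Nat.card_zpowers, hz2]
    have hXU : ∀ r ∈ U, ∀ q ∈ X, Commute q r := by
      intro r hr q hq
      have hle := Signalizer.le_of_forall_centralizer hV le_rfl (by rw [hV4, sq])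
        (fun v hv => CharP.le_normalizer_opIn (p := p) _ (hcA v (hVZ hv)))
        (fun h => by
          obtain ⟨j, hj⟩ := IsPGroup.iff_card.1 (CharP.isPGroup_opIn (p := p) (centralizer (A₁ : Set G)))
          rw [hj] at h
          exact H.odd ((Nat.prime_dvd_prime_iff_eq Nat.prime_two Fact.out).1
            (Nat.prime_two.dvd_of_dvd_pow h)).symm)
        (Y := centralizer ({q} : Set G))
        (fun v hv hv1 x hx => mem_centralizer_singleton_iff.2 (H.centralizes_fixed hE hEn hA₁ hXp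
          inf_le_right hEX (orderOf_eq_prime (hV.2 v hv) hv1)
          (fun e he => commute_of_mem_centralizer (hZE (hVZ hv)) he) (fun y hy => hZR v (hVZ hv) y hy.1)
          x hx.1 (mem_centralizer_singleton_iff.1 hx.2 : Commute x v).symm q hq).symm.eq)
      exact (mem_centralizer_singleton_iff.1 (hle hr) : Commute r q).symm
    refine hm₁ fun q hq => ?_
    rw [(H.charC (Signalizer.of_le hE hA₁) hA₁n (by omega)).eq_one_subgroup
      (coprime_of_mem H.odd hXp hq) hq.2 (mem_centralizer_iff.2 fun r hr => (hXU r hr q hq).eq.symm)]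
    exact one_mem _
  have hcommz : ∀ x ∈ R, ∀ y ∈ R, ⁅x, y⁆ ∈ zpowers z := fun x hx y hy =>
    huniq _ (hcomm x hx y hy) (hexp x hx y hy)
  have hsqZ : ∀ x ∈ R, x * x ∈ Z := fun x hx => ⟨mul_mem hx hx, mem_centralizer_of_commute fun y hy => by
    refine (commutatorElement_eq_one_iff_commute.1 ?_).symm
    rw [← sq, hpow x hx y hy, hexp x hx y hy]⟩
  have hsq : ∀ x ∈ R, x * x ∈ zpowers z := by
    let S : Subgroup G :=
      { carrier := {x | x ∈ R ∧ x * x ∈ zpowers z}
        one_mem' := ⟨one_mem _, by rw [one_mul]; exact one_mem _⟩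
        mul_mem' := fun {a b} ha hb => ⟨mul_mem ha.1 hb.1, by
          have e : a * b * (a * b) = (a * a) * ⁅a⁻¹, b⁆ * (b * b) := by
            simp only [commutatorElement_def]; group
          rw [e]
          exact mul_mem (mul_mem ha.2 (hcommz _ (inv_mem ha.1) _ hb.1)) hb.2⟩
        inv_mem' := fun {a} ha => ⟨inv_mem ha.1, by rw [← mul_inv_rev]; exact inv_mem ha.2⟩ }
    have hle : ⁅R, E⁆ ≤ S := commutator_le.2 fun r hr e he => by
      have hu : e * r⁻¹ * e⁻¹ ∈ R := conj_of_norm hER e he _ (inv_mem hr)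
      have h2 : e * r⁻¹ * e⁻¹ * (e * r⁻¹ * e⁻¹) = (r * r)⁻¹ := by
        have h3 := conj_of_commute (commute_of_mem_centralizer (hZE (inv_mem (hsqZ r hr))) he)
        rw [← h3]; group
      rw [show ⁅r, e⁆ = r * (e * r⁻¹ * e⁻¹) by simp [commutatorElement_def, mul_assoc]]
      refine ⟨mul_mem hr hu, ?_⟩
      have e1 : r * (e * r⁻¹ * e⁻¹) * (r * (e * r⁻¹ * e⁻¹))
          = (r * r) * ⁅r⁻¹, e * r⁻¹ * e⁻¹⁆ * (e * r⁻¹ * e⁻¹ * (e * r⁻¹ * e⁻¹)) := by
        simp only [commutatorElement_def]; group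
      have hcm : ⁅r⁻¹, e * r⁻¹ * e⁻¹⁆ ∈ zpowers z := hcommz _ (inv_mem hr) _ hu
      rw [e1, h2, (hZR _ (hcomm _ (inv_mem hr) _ hu) _ (mul_mem hr hr)).eq, mul_inv_cancel_right]
      exact hcm
    exact fun x hx => (hle (hgen hx)).2
  -- fixed elements
  have hfixed : ∀ c ∈ R, (∀ e ∈ E, Commute e c) → c ∈ zpowers z := by
    intro c hc hce
    classical
    set N := (zpowers z).subgroupOf R with hN
    haveI : N.Normal := ⟨fun n hn g => by
      rw [mem_subgroupOf] at hn ⊢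
      push_cast
      obtain ⟨k, hk⟩ := mem_zpowers_iff.1 hn
      rw [← hk, conj_of_commute ((hZR z hz g g.2).zpow_right k)]
      exact hk ▸ hn⟩
    letI : CommGroup (R ⧸ N) :=
      { (inferInstance : Group (R ⧸ N)) with
        mul_comm := fun a b => by
          induction a using QuotientGroup.induction_on with | H a => ?_
          induction b using QuotientGroup.induction_on with | H b => ?_
          refine QuotientGroup.eq.2 (mem_subgroupOf.2 ?_)
          have h1 := hcommz _ (inv_mem b.2) _ (inv_mem a.2)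
          push_cast
          rw [show ((a : G) * b)⁻¹ * ((b : G) * a) = ⁅(b : G)⁻¹, (a : G)⁻¹⁆ by
            simp only [commutatorElement_def]; group]
          exact h1 }
    haveI : Fintype E := Fintype.ofFinite E
    let φ : E → (R →* R ⧸ N) := fun e =>
      (QuotientGroup.mk' N).comp (R.normalizerMonoidHom ⟨e, hER e.2⟩).toMonoidHom
    let ν : R →* R ⧸ N := ∏ e : E, φ e
    have hν : ∀ x : R, ν x = ∏ e : E, φ e x := fun x => MonoidHom.finsetProd_apply φ Finset.univ x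
    have hker : ⁅R, E⁆ ≤ ν.ker.map R.subtype := commutator_le.2 fun r hr e he => by
      have hu : e * r⁻¹ * e⁻¹ ∈ R := conj_of_norm hER e he _ (inv_mem hr)
      refine ⟨⟨r, hr⟩ * ⟨e * r⁻¹ * e⁻¹, hu⟩, ?_, by simp [commutatorElement_def, mul_assoc]⟩
      rw [SetLike.mem_coe, MonoidHom.mem_ker, map_mul, hν, hν]
      have h1 : ∀ e' : E, φ e' ⟨e * r⁻¹ * e⁻¹, hu⟩ = (φ (e' * ⟨e, he⟩) ⟨r, hr⟩)⁻¹ := fun e' => by
        rw [← map_inv]
        refine congrArg (QuotientGroup.mk' N) (Subtype.ext ?_)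
        change (e' : G) * (e * r⁻¹ * e⁻¹) * (e' : G)⁻¹ = ((e' : G) * e) * r⁻¹ * ((e' : G) * e)⁻¹
        group
      simp only [h1, Finset.prod_inv_distrib]
      rw [mul_inv_eq_one]
      exact (Equiv.prod_comp (Equiv.mulRight (⟨e, he⟩ : E)) fun e' => φ e' ⟨r, hr⟩).symm
    obtain ⟨c', hc', hcc⟩ := hker (hgen hc)
    obtain rfl : c' = ⟨c, hc⟩ := Subtype.ext hcc
    have h1 : ∀ e : E, φ e ⟨c, hc⟩ = QuotientGroup.mk' N ⟨c, hc⟩ := fun e =>
      congrArg (QuotientGroup.mk' N) (Subtype.ext (conj_of_commute (hce e e.2)))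
    rw [SetLike.mem_coe, MonoidHom.mem_ker, hν, Finset.prod_congr rfl fun e _ => h1 e,
      Finset.prod_const, Finset.card_univ] at hc'
    have h2 : (QuotientGroup.mk' N ⟨c, hc⟩) ^ 2 = 1 := by
      rw [← map_pow]
      refine (QuotientGroup.eq_one_iff _).2 (mem_subgroupOf.2 ?_)
      simpa [sq] using hsq c hc
    have hodd : Nat.Coprime (Fintype.card E) 2 := by
      rw [← Nat.card_eq_fintype_card, hEn]
      exact ((Nat.coprime_primes Fact.out Nat.prime_two).2 H.odd).pow_left _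
    have h3 : QuotientGroup.mk' N ⟨c, hc⟩ = 1 := orderOf_eq_one_iff.1
      (Nat.eq_one_of_dvd_coprimes hodd (orderOf_dvd_of_pow_eq_one hc') (orderOf_dvd_of_pow_eq_one h2))
    exact mem_subgroupOf.1 ((QuotientGroup.eq_one_iff _).1 h3)
  exact ⟨A₁, A₂, R, z, hRp, hER, hRK.trans inf_le_right, hA₁, hA₁n, hA₂, hA₂n, hne, hgen, hz.1, hz2,
    hzE, fun r hr => hZR z hz r hr, hcommz, hsq, hfixed, hm₁, hm₂⟩

end Hyp

end CfsgLib.CharTwoPType
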