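import Cfsg.Agent.Invol.SymplecticFromHyperplanes
import Cfsg.Agent.Invol.AbelianSignalizer
import Cfsg.Agent.KGroup.CharTwo
import Cfsg.Agent.LocalB.Embedded

/-!
Groups which have both characteristic `2` type and local characteristic `p` (`p` odd), with `2`-local
`p`-rank at least `3`: every abelian `2`-group normalized by an elementary abelian `p`-group of the
largest `2`-local rank is centralized by it.
-/

set_option autoImplicit false
set_option linter.unusedSectionVars false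
set_option linter.style.haveILetI false

namespace CfsgLib.CharTwoPType

open Subgroup
open scoped commutatorElement
open CfsgLib.SymplecticHyp (InvolRank)

variable {G : Type*} [Group G] [Finite G] {p : ℕ} [Fact p.Prime]

/-! ### Generalities -/

theorem norm_of_conj {A X : Subgroup G} (h : ∀ a ∈ A, ∀ x ∈ X, a * x * a⁻¹ ∈ X) :
    A ≤ normalizer (X : Set G) := Signalizer.le_normalizer_of_conj_mem h

theorem conj_of_norm {A X : Subgroup G} (h : A ≤ normalizer (X : Set G)) :
    ∀ a ∈ A, ∀ x ∈ X, a * x * a⁻¹ ∈ X := Signalizer.conj_mem_of_le_normalizer h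

theorem commute_of_conj {a x : G} (h : a * x * a⁻¹ = x) : Commute a x := mul_inv_eq_iff_eq_mul.1 h

theorem conj_of_commute {a x : G} (h : Commute a x) : a * x * a⁻¹ = x :=
  mul_inv_eq_iff_eq_mul.2 h.eq

theorem commute_of_mem_centralizer {S : Subgroup G} {x s : G} (h : x ∈ centralizer (S : Set G))
    (hs : s ∈ S) : Commute s x := mem_centralizer_iff.1 h s hs

theorem mem_centralizer_of_commute {S : Subgroup G} {x : G} (h : ∀ s ∈ S, Commute s x) :
    x ∈ centralizer (S : Set G) := mem_centralizer_iff.2 fun s hs => (h s hs).eq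

theorem sup_le_centralizer_singleton {A C : Subgroup G} {x : G} (hA : ∀ a ∈ A, Commute a x)
    (hC : ∀ c ∈ C, Commute c x) : ∀ y ∈ A ⊔ C, Commute y x := fun _ hy =>
  mem_centralizer_singleton_iff.1 ((sup_le (c := centralizer ({x} : Set G))
    (fun a ha => mem_centralizer_singleton_iff.2 (hA a ha).eq)
    fun c hc => mem_centralizer_singleton_iff.2 (hC c hc).eq) hy)

theorem commute_zpowers {x y a : G} (h : Commute a x) (hy : y ∈ zpowers a) : Commute y x := by
  obtain ⟨k, rfl⟩ := mem_zpowers_iff.1 hy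
  exact h.zpow_left k

theorem le_normalizer_inter {E X Y : Subgroup G} (hX : E ≤ normalizer (X : Set G))
    (hY : E ≤ normalizer (Y : Set G)) : E ≤ normalizer ((X ⊓ Y : Subgroup G) : Set G) :=
  norm_of_conj fun e he x hx => ⟨conj_of_norm hX e he x hx.1, conj_of_norm hY e he x hx.2⟩

theorem elementary_sup {q : ℕ} [Fact q.Prime] {A C : Subgroup G} (hA : Cfsg.IsElementaryAbelian q A)
    (hC : Cfsg.IsElementaryAbelian q C) (h : ∀ a ∈ A, ∀ c ∈ C, Commute a c) :
    Cfsg.IsElementaryAbelian q (A ⊔ C : Subgroup G) := by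
  have hcc : ∀ {S : Subgroup G}, Cfsg.IsElementaryAbelian q S → ∀ x ∈ S, ∀ y ∈ S, Commute x y :=
    fun {S} hS x hx y hy => Signalizer.commute (p := q) (A := S) hS hx hy
  have key : ∀ y ∈ A ⊔ C, ∀ x ∈ A ⊔ C, Commute x y := by
    intro y hy
    exact sup_le_centralizer_singleton
      (fun a ha => (sup_le_centralizer_singleton (fun a' ha' => hcc hA a' ha' a ha)
        (fun c hc => (h a ha c hc).symm) y hy).symm)
      (fun c hc => (sup_le_centralizer_singleton (fun a ha => h a ha c hc)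
        (fun c' hc' => hcc hC c' hc' c hc) y hy).symm)
  refine ⟨⟨⟨fun a b => Subtype.ext (key b b.2 a a.2).eq⟩⟩, fun x hx => ?_⟩
  rw [sup_eq_closure] at hx
  have hle : closure ((A : Set G) ∪ C) ≤ A ⊔ C := (sup_eq_closure A C).ge
  refine closure_induction (p := fun y _ => y ^ q = 1) ?_ (one_pow q) ?_ ?_ hx
  · rintro y (hy | hy)
    · exact hA.2 y hy
    · exact hC.2 y hy
  · intro y z hy hz h h'
    rw [(key z (hle hz) y (hle hy)).mul_pow, h, h', one_mul]
  · intro y _ h
    rw [inv_pow, h, inv_one]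

/-- A `2`-element has order prime to the odd prime `p`. -/
theorem coprime_of_mem (hp : p ≠ 2) {X : Subgroup G} (hX : IsPGroup 2 X) {x : G} (hx : x ∈ X) :
    (orderOf x).Coprime p := by
  obtain ⟨k, hk⟩ := hX ⟨x, hx⟩
  exact ((Nat.coprime_primes Nat.prime_two Fact.out).2 (Ne.symm hp)).pow_left k |>.coprime_dvd_left
    (orderOf_dvd_of_pow_eq_one (congrArg Subtype.val hk))

theorem card_coprime (hp : p ≠ 2) {X : Subgroup G} (hX : IsPGroup 2 X) : (Nat.card X).Coprime p := by
  haveI : Fact (Nat.Prime 2) := ⟨Nat.prime_two⟩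
  obtain ⟨k, hk⟩ := IsPGroup.iff_card.1 hX
  rw [hk]
  exact ((Nat.coprime_primes Nat.prime_two Fact.out).2 (Ne.symm hp)).pow_left k

theorem not_dvd_card (hp : p ≠ 2) {X : Subgroup G} (hX : IsPGroup 2 X) : ¬ p ∣ Nat.card X :=
  (Nat.Prime.coprime_iff_not_dvd Fact.out).1 (card_coprime hp hX).symm

/-- An element of order dividing `p` cannot translate `x` by a fixed element of order prime to `p`. -/
theorem shift_eq_one {e x c : G} (he : e ^ p = 1) (h : e * x * e⁻¹ = x * c) (hec : Commute e c)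
    (hc : (orderOf c).Coprime p) : c = 1 := by
  have key : ∀ n : ℕ, e ^ n * x * (e ^ n)⁻¹ = x * c ^ n := by
    intro n
    induction n with
    | zero => simp
    | succ n ih =>
      calc e ^ (n + 1) * x * (e ^ (n + 1))⁻¹ = e * (e ^ n * x * (e ^ n)⁻¹) * e⁻¹ := by
            rw [pow_succ']; group
        _ = (e * x * e⁻¹) * (e * c ^ n * e⁻¹) := by rw [ih]; group
        _ = x * c ^ (n + 1) := by rw [h, conj_of_commute (hec.pow_right n), mul_assoc, pow_succ']
  have h1 := key p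
  rw [he, one_mul, inv_one, mul_one] at h1
  have h2 : c ^ p = 1 := mul_eq_left.1 h1.symm
  exact orderOf_eq_one_iff.1 (Nat.eq_one_of_dvd_coprimes hc dvd_rfl (orderOf_dvd_of_pow_eq_one h2))

theorem commute_of_shift {e x c : G} (he : e ^ p = 1) (h : e * x * e⁻¹ = x * c) (hec : Commute e c)
    (hc : (orderOf c).Coprime p) : Commute e x := by
  rw [shift_eq_one he h hec hc, mul_one] at h
  exact commute_of_conj h

/-- An odd-order element fixing the involutions of an abelian `2`-group centralizes it. -/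
theorem commute_of_fix_invol (hp : p ≠ 2) {T : Subgroup G} (hT : IsPGroup 2 T)
    (hTc : ∀ x ∈ T, ∀ y ∈ T, Commute x y) {e : G} (he : e ^ p = 1)
    (hn : ∀ x ∈ T, e * x * e⁻¹ ∈ T) (h : ∀ x ∈ T, x ^ 2 = 1 → Commute e x) :
    ∀ x ∈ T, Commute e x := by
  suffices ∀ k : ℕ, ∀ x ∈ T, x ^ 2 ^ k = 1 → Commute e x by
    intro x hx
    obtain ⟨k, hk⟩ := hT ⟨x, hx⟩
    exact this k x hx (congrArg Subtype.val hk)
  intro k
  induction k with
  | zero =>
    intro x _ hx
    rw [pow_zero, pow_one] at hx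
    rw [hx]; exact Commute.one_right e
  | succ k ih =>
    intro x hx hxk
    have h2 : Commute e (x ^ 2) := ih _ (pow_mem hx 2) (by rwa [← pow_mul, ← pow_succ'])
    have hcT : x⁻¹ * (e * x * e⁻¹) ∈ T := mul_mem (inv_mem hx) (hn x hx)
    have hc2 : (x⁻¹ * (e * x * e⁻¹)) ^ 2 = 1 := by
      rw [(hTc _ (inv_mem hx) _ (hn x hx)).mul_pow, conj_pow, conj_of_commute h2, inv_pow,
        inv_mul_cancel]
    exact commute_of_shift he (by group) (h _ hcT hc2) (coprime_of_mem hp hT hcT)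

theorem exists_pow_orderp {X : Subgroup G} (hX : IsPGroup p X) {y : G} (hy : y ∈ X) (hy1 : y ≠ 1) :
    ∃ n : ℕ, y ^ n ≠ 1 ∧ (y ^ n) ^ p = 1 := by
  obtain ⟨k, hk⟩ := IsPGroup.iff_orderOf.1 hX ⟨y, hy⟩
  rw [orderOf_mk] at hk
  rcases k with _ | k
  · exact absurd (orderOf_eq_one_iff.1 (by rw [hk, pow_zero])) hy1
  · refine ⟨p ^ k, fun h => ?_, by rw [← pow_mul, ← pow_succ, ← hk, pow_orderOf_eq_one]⟩
    have h1 := Nat.le_of_dvd (pow_pos (Fact.out : p.Prime).pos k) (hk ▸ orderOf_dvd_of_pow_eq_one h)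
    rw [pow_succ] at h1
    nlinarith [(Fact.out : p.Prime).two_le, pow_pos (Fact.out : p.Prime).pos k]

theorem eq_one_of_inv_eq {X : Subgroup G} (hp : p ≠ 2) (hX : IsPGroup p X) {y : G} (hy : y ∈ X)
    (h : y = y⁻¹) : y = 1 := by
  have h2 : y ^ 2 = 1 := by rw [sq]; nth_rw 2 [h]; exact mul_inv_cancel y
  exact CharP.eq_one_of_mem_pgroup hX hy (Nat.Coprime.coprime_dvd_left (orderOf_dvd_of_pow_eq_one h2)
    ((Nat.coprime_primes Nat.prime_two Fact.out).2 (Ne.symm hp)))

/-- Two powers `b^i`, `b^j` with `i, j < p` conjugate a moved element to different elements. -/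
theorem conj_pow_inj {b w : G} (hb : b ^ p = 1) (hbw : ¬ Commute b w) {i j : Fin p}
    (h : b ^ (i : ℕ) * w * (b ^ (i : ℕ))⁻¹ = b ^ (j : ℕ) * w * (b ^ (j : ℕ))⁻¹) : i = j := by
  have key : ∀ i j : ℕ, i ≤ j → b ^ i * w * (b ^ i)⁻¹ = b ^ j * w * (b ^ j)⁻¹ → j < p → i = j := by
    intro i j hij h hj
    by_contra hne
    obtain ⟨d, rfl⟩ := Nat.exists_eq_add_of_le hij
    refine hbw ?_
    rw [pow_add] at h
    have hc : Commute (b ^ d) w := by
      refine commute_of_conj ?_
      calc b ^ d * w * (b ^ d)⁻¹ = (b ^ i)⁻¹ * (b ^ i * b ^ d * w * (b ^ i * b ^ d)⁻¹) * b ^ i := by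
            group
        _ = w := by rw [← h]; group
    have hcop : d.Coprime (orderOf b) :=
      Nat.Coprime.coprime_dvd_right (orderOf_dvd_of_pow_eq_one hb)
        (((Fact.out : p.Prime).coprime_iff_not_dvd.2
          fun hd => absurd (Nat.le_of_dvd (by omega) hd) (by omega)).symm)
    obtain ⟨m, hm⟩ := exists_pow_eq_self_of_coprime hcop
    exact hm ▸ hc.pow_left m
  rcases le_total (i : ℕ) j with hij | hij
  · exact Fin.ext (key _ _ hij h j.2)
  · exact Fin.ext (key _ _ hij h.symm i.2).symm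

/-- The centralizer of a nontrivial `p`-group has characteristic `p` if its normalizer has. -/
theorem hasCharP_centralizer {A : Subgroup G} (hA : IsPGroup p A)
    (h : CharP.HasCharP p (normalizer (A : Set G))) :
    CharP.HasCharP p (centralizer (A : Set G)) := by
  refine CharP.hasCharP_subgroup_of_forall fun y hy hyC hc => ?_
  have hyN : y ∈ normalizer (A : Set G) := centralizer_le_normalizer _ hyC
  refine h.eq_one_subgroup hy hyN (mem_centralizer_iff.2 fun r hr => ?_)
  set R := CharP.opIn p (normalizer (A : Set G)) with hR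
  refine (LocalB.commute_of_pxq hA (CharP.isPGroup_opIn _)
    (le_normalizer.trans (CharP.le_normalizer_opIn _)) hy (CharP.le_normalizer_opIn _ hyN)
    (fun a ha => commute_of_mem_centralizer hyC ha) (fun r hr hrA => ?_) r hr).eq.symm
  have hle : R ⊓ centralizer (A : Set G) ≤ CharP.opIn p (centralizer (A : Set G)) :=
    CharP.le_opIn inf_le_right ((CharP.isPGroup_opIn _).to_le inf_le_left)
      (le_normalizer_inter ((centralizer_le_normalizer _).trans (CharP.le_normalizer_opIn _))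
        le_normalizer)
  have : r * y = y * r :=
    mem_centralizer_iff.1 hc r (hle ⟨hr, mem_centralizer_iff.2 fun a ha => hrA a ha⟩)
  exact this.symm

/-! ### The hypothesis -/

/-- Characteristic `2` type and local characteristic `p`, with `2`-local `p`-rank at most `l + 2`. -/
structure Hyp (p l : ℕ) (G : Type*) [Group G] : Prop where
  odd : p ≠ 2
  pos : 1 ≤ l
  charP : ∀ T : Subgroup G, IsPGroup p T → T ≠ ⊥ → CharP.HasCharP p (normalizer (T : Set G))
  charTwo : ∀ T : Subgroup G, IsPGroup 2 T → T ≠ ⊥ → CharP.HasCharP 2 (normalizer (T : Set G))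
  rank : ∀ T : Subgroup G, IsPGroup 2 T → T ≠ ⊥ → ∀ S : Subgroup G, Cfsg.IsElementaryAbelian p S →
    S ≤ normalizer (T : Set G) → Nat.card S ≤ p ^ (l + 2)

namespace Hyp

variable {l : ℕ} (H : Hyp p l G)

include H

theorem invol : InvolRank p (l + 1 + 1) G := by
  intro v hv S hS hSv
  haveI : Fact (Nat.Prime 2) := ⟨Nat.prime_two⟩
  refine H.rank (zpowers v) (IsPGroup.of_card (n := 1) (by rw [Nat.card_zpowers, hv, pow_one]))
    (fun h => ?_) S hS ?_
  · rw [zpowers_eq_bot] at h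
    rw [h, orderOf_one] at hv
    omega
  · rw [CharP.normalizer_zpowers_of_orderOf_two hv]
    exact fun s hs => mem_centralizer_singleton_iff.2 (hSv s hs)

theorem ne_bot {A : Subgroup G} {k : ℕ} (hA : Nat.card A = p ^ k) (hk : 1 ≤ k) : A ≠ ⊥ := by
  intro h
  rw [h, card_bot] at hA
  exact absurd hA.symm (Nat.one_lt_pow (by omega) (Fact.out : p.Prime).one_lt).ne'

theorem charC {A : Subgroup G} (hA : Cfsg.IsElementaryAbelian p A) {k : ℕ}
    (hAk : Nat.card A = p ^ k) (hk : 1 ≤ k) : CharP.HasCharP p (centralizer (A : Set G)) :=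
  hasCharP_centralizer (Signalizer.isPGroup hA)
    (H.charP A (Signalizer.isPGroup hA) (H.ne_bot hAk hk))

theorem card_le_four {A U : Subgroup G} (hA : Cfsg.IsElementaryAbelian p A)
    (hAn : Nat.card A = p ^ (l + 1)) (hU : Cfsg.IsElementaryAbelian 2 U)
    (hUA : U ≤ centralizer (A : Set G)) : Nat.card U ≤ 4 :=
  SymplecticHyp.card_le_four H.odd H.invol hA hAn (H.charC hA hAn (by omega)) hU hUA

/-- The centralizer of a subgroup of order `p ^ l` contains no elementary abelian `2`-group of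
order `16`. -/
theorem card_lt_sixteen {B V : Subgroup G} (hB : Cfsg.IsElementaryAbelian p B)
    (hBl : Nat.card B = p ^ l) (hV : Cfsg.IsElementaryAbelian 2 V)
    (hVB : V ≤ centralizer (B : Set G)) : Nat.card V < 16 := by
  haveI : Fact (Nat.Prime 2) := ⟨Nat.prime_two⟩
  by_contra h16
  push Not at h16
  have hcp := H.charC hB hBl H.pos
  set R := CharP.opIn p (centralizer (B : Set G)) with hR
  have hVR : V ≤ normalizer (R : Set G) := hVB.trans (CharP.le_normalizer_opIn _)
  obtain ⟨u, huV, hu1⟩ : ∃ u ∈ V, u ≠ 1 := by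
    by_contra h
    push Not at h
    rw [card_eq_one.2 ((eq_bot_iff_forall _).2 h)] at h16
    omega
  obtain ⟨K, hKV, hKi, huK, y, hy, hy1, hyK, hyinv⟩ :=
    SymplecticHyp.exists_inverted H.odd hV (CharP.isPGroup_opIn (p := p) _) hVR huV
      (fun h => hu1 (hcp.eq_one_subgroup (SymplecticHyp.coprime_two H.odd hV huV) (hVB huV)
        (mem_centralizer_iff.2 h)))
  obtain ⟨n, hn1, hnp⟩ := exists_pow_orderp (CharP.isPGroup_opIn (p := p) _) hy hy1
  set y' := y ^ n
  have hy'R : y' ∈ R := pow_mem hy n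
  have hBy : ∀ a ∈ B, a * y' = y' * a := fun a ha =>
    mem_centralizer_iff.1 (CharP.opIn_le _ hy'R) a ha
  have hy'B : y' ∉ B := fun hmem => by
    have h1 : u * y' * u⁻¹ = y'⁻¹ := by rw [← conj_pow, hyinv u huV huK, inv_pow]
    rw [conj_of_commute (commute_of_mem_centralizer (hVB huV) hmem).symm] at h1
    exact hn1 (eq_one_of_inv_eq H.odd (CharP.isPGroup_opIn (p := p) _) hy'R h1)
  have hS := SymplecticHyp.elementary_sup_zpowers hB hnp hBy
  have hSc : Nat.card ↥(zpowers y' ⊔ B) = p ^ (l + 1) := by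
    rw [Signalizer.card_sup_zpowers hS le_sup_right (mem_sup_left (mem_zpowers y')) hy'B, hBl,
      pow_succ']
  have hK4 := H.card_le_four hS hSc (Signalizer.of_le hV hKV) fun k hk =>
    mem_centralizer_of_commute fun s hs => sup_le_centralizer_singleton
      (fun a ha => commute_zpowers ((show Commute k y from hyK k hk).pow_right n).symm ha)
      (fun a ha => commute_of_mem_centralizer (hVB (hKV hk)) ha) s hs
  have hm := relIndex_mul_relIndex ⊥ K V bot_le hKV
  rw [relIndex_bot_left, relIndex_bot_left, hKi] at hm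
  omega

variable {E : Subgroup G} (hE : Cfsg.IsElementaryAbelian p E) (hEn : Nat.card E = p ^ (l + 2))

include hE hEn

theorem hyper_card {B : Subgroup G} (hB : B ≤ E) (hi : B.relIndex E ≤ p) (hne : B ≠ E) :
    Nat.card B = p ^ (l + 1) := by
  obtain ⟨j, hj, hje⟩ := (Nat.dvd_prime_pow (Fact.out : p.Prime)).1
    (hEn ▸ (relIndex_dvd_card B E) : B.relIndex E ∣ p ^ (l + 2))
  have hm := relIndex_mul_relIndex ⊥ B E bot_le hB
  rw [relIndex_bot_left, relIndex_bot_left, hje, hEn] at hm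
  rw [hje] at hi
  have h2 := (Fact.out : p.Prime).two_le
  rcases j with _ | _ | j
  · exact absurd (le_antisymm hB (relIndex_eq_one.1 (by simpa using hje))) hne
  · rw [zero_add, pow_one, pow_succ p (l + 1)] at hm
    exact Nat.eq_of_mul_eq_mul_right (Fact.out : p.Prime).pos hm
  · have h3 : p ^ 2 ≤ p ^ (j + 1 + 1) := Nat.pow_le_pow_right (Fact.out : p.Prime).pos (by omega)
    nlinarith

/-- A subgroup normalized by `E` and not contained in `D` is seen in some hyperplane, unless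
already `C(E)` sees it. -/
theorem exists_hyperplane {X D : Subgroup G} (hX : IsPGroup 2 X)
    (hEX : E ≤ normalizer (X : Set G)) (hXD : ¬ X ≤ D) (hfix : X ⊓ centralizer (E : Set G) ≤ D) :
    ∃ B ≤ E, Nat.card B = p ^ (l + 1) ∧ ¬ X ⊓ centralizer (B : Set G) ≤ D := by
  by_contra hcon
  push Not at hcon
  refine hXD (Signalizer.le_of_forall_hyperplane hE hEX (not_dvd_card H.odd hX) fun B hB hi => ?_)
  by_cases hne : B = E
  · rw [hne]; exact hfix
  · exact hcon B hB (H.hyper_card hE hEn hB hi hne)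

theorem sup_eq {A B : Subgroup G} (hA : A ≤ E) (hB : B ≤ E) (hAn : Nat.card A = p ^ (l + 1))
    (hBn : Nat.card B = p ^ (l + 1)) (hne : A ≠ B) :
    A ⊔ B = E ∧ Nat.card ↥(A ⊓ B) = p ^ l := by
  have h1 : A ⊔ B = E := by
    refine eq_of_le_of_card_ge (sup_le hA hB) ?_
    obtain ⟨a, ha, haB⟩ : ∃ a ∈ A, a ∉ B := by
      by_contra h
      push Not at h
      exact hne (eq_of_le_of_card_ge h (by rw [hAn, hBn]))
    have h2 := Subgroup.card_le_of_le (show zpowers a ⊔ B ≤ A ⊔ B from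
      sup_le_sup_right (zpowers_le.2 ha) B)
    rw [Signalizer.card_sup_zpowers hE hB (hA ha) haB, hBn, ← pow_succ'] at h2
    rw [hEn]; exact h2
  refine ⟨h1, ?_⟩
  have hn : A ≤ normalizer (B : Set G) := norm_of_conj fun a ha b hb => by
    rw [Signalizer.commute hE (hA ha) (hB hb), mul_inv_cancel_right]; exact hb
  have hm := CfsgLib.Solvable.card_sup_mul_card_inf hn
  rw [h1, hEn, hAn, hBn, ← pow_add, show l + 1 + (l + 1) = l + 2 + l by ring, pow_add p (l + 2) l] at hm
  exact Nat.eq_of_mul_eq_mul_left (pow_pos (Fact.out : p.Prime).pos _) hm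

theorem sup_zpowers_eq {A : Subgroup G} (hA : A ≤ E) (hAn : Nat.card A = p ^ (l + 1)) {b : G}
    (hb : b ∈ E) (hbA : b ∉ A) : zpowers b ⊔ A = E :=
  eq_of_le_of_card_ge (sup_le (zpowers_le.2 hb) hA)
    (by rw [hEn, Signalizer.card_sup_zpowers hE hA hb hbA, hAn, ← pow_succ'])

/-- The structure of a moved elementary abelian `2`-group centralized by a hyperplane of `E`. -/
theorem four {A F : Subgroup G} (hA : A ≤ E) (hAn : Nat.card A = p ^ (l + 1))
    (hF : Cfsg.IsElementaryAbelian 2 F) (hFA : F ≤ centralizer (A : Set G))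
    (hEF : E ≤ normalizer (F : Set G)) (hmove : ¬ F ≤ centralizer (E : Set G)) :
    Nat.card F = 4 ∧ (∀ b ∈ E, b ∉ A → ∀ x ∈ F, Commute b x → x = 1) ∧
      ∀ b ∈ E, b ∉ A → ∀ w ∈ F, w ≠ 1 → ∀ x ∈ F, x ≠ 1 →
        ∃ i : ℕ, x = b ^ i * w * (b ^ i)⁻¹ := by
  have h4 := H.card_le_four (Signalizer.of_le hE hA) hAn hF hFA
  have hfixE : ∀ b ∈ E, b ∉ A → ∀ x ∈ F, Commute b x → x ∈ centralizer (E : Set G) := by
    intro b hb hbA x hx hbx
    rw [← H.sup_zpowers_eq hE hEn hA hAn hb hbA]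
    exact mem_centralizer_of_commute fun s hs => sup_le_centralizer_singleton
      (fun a ha => commute_zpowers hbx ha) (fun a ha => commute_of_mem_centralizer (hFA hx) ha) s hs
  obtain ⟨w₀, hw₀, hw₀E⟩ := SetLike.not_le_iff_exists.1 hmove
  have key : ∀ b ∈ E, b ∉ A → Nat.card ↥(F ⊓ centralizer (E : Set G)) = 1 ∧ p = 3 ∧ Nat.card F = 4 := by
    intro b hb hbA
    have hbw : ¬ Commute b w₀ := fun h => hw₀E (hfixE b hb hbA w₀ hw₀ h)
    let f : Fin p ⊕ ↥(F ⊓ centralizer (E : Set G)) → F := Sum.elim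
      (fun i => ⟨b ^ (i : ℕ) * w₀ * (b ^ (i : ℕ))⁻¹, conj_of_norm hEF _ (pow_mem hb _) _ hw₀⟩)
      (fun x => ⟨x, x.2.1⟩)
    have hinj : Function.Injective f := by
      rintro (i | x) (j | y) h
      · exact congrArg Sum.inl (conj_pow_inj (hE.2 b hb) hbw (congrArg Subtype.val h))
      · exfalso
        refine hw₀E ?_
        have h1 : b ^ (i : ℕ) * w₀ * (b ^ (i : ℕ))⁻¹ = y := congrArg Subtype.val h
        have h2 : w₀ = (b ^ (i : ℕ))⁻¹ * y * b ^ (i : ℕ) := by rw [← h1]; group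
        rw [h2, mul_assoc, ← ((commute_of_mem_centralizer y.2.2 (pow_mem hb (i : ℕ)))).eq,
          inv_mul_cancel_left]
        exact y.2.2
      · exfalso
        refine hw₀E ?_
        have h1 : b ^ (j : ℕ) * w₀ * (b ^ (j : ℕ))⁻¹ = x := (congrArg Subtype.val h).symm
        have h2 : w₀ = (b ^ (j : ℕ))⁻¹ * x * b ^ (j : ℕ) := by rw [← h1]; group
        rw [h2, mul_assoc, ← ((commute_of_mem_centralizer x.2.2 (pow_mem hb (j : ℕ)))).eq,
          inv_mul_cancel_left]
        exact x.2.2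
      · exact congrArg Sum.inr (Subtype.ext (congrArg (fun t : F => (t : G)) h))
    have hc := Nat.card_le_card_of_injective f hinj
    rw [Nat.card_sum, Nat.card_fin] at hc
    have hpos : 0 < Nat.card ↥(F ⊓ centralizer (E : Set G)) := Nat.card_pos
    have hp2 := (Fact.out : p.Prime).two_le
    have := H.odd
    omega
  have hone : ∀ b ∈ E, b ∉ A → ∀ x ∈ F, Commute b x → x = 1 := fun b hb hbA x hx hbx =>
    mem_bot.1 ((card_eq_one.1 (key b hb hbA).1) ▸ (⟨hx, hfixE b hb hbA x hx hbx⟩ :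
      x ∈ F ⊓ centralizer (E : Set G)))
  obtain ⟨b₀, hb₀, hb₀A⟩ : ∃ b ∈ E, b ∉ A := by
    by_contra h
    push Not at h
    have := Subgroup.card_le_of_le h
    rw [hEn, hAn] at this
    exact absurd this (Nat.pow_lt_pow_right (Fact.out : p.Prime).one_lt (by omega)).not_ge
  refine ⟨(key b₀ hb₀ hb₀A).2.2, hone, fun b hb hbA w hw hw1 x hx hx1 => ?_⟩
  obtain ⟨-, hp3, hF4⟩ := key b hb hbA
  have hbw : ¬ Commute b w := fun h => hw1 (hone b hb hbA w hw h)
  let f : Option (Fin p) → F := fun o => o.elim 1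
    fun i => ⟨b ^ (i : ℕ) * w * (b ^ (i : ℕ))⁻¹, conj_of_norm hEF _ (pow_mem hb _) _ hw⟩
  have hinj : Function.Injective f := by
    rintro (_ | i) (_ | j) h
    · rfl
    · exact absurd (conj_eq_one_iff.1 (congrArg Subtype.val h).symm) hw1
    · exact absurd (conj_eq_one_iff.1 (congrArg Subtype.val h)) hw1
    · exact congrArg some (conj_pow_inj (hE.2 b hb) hbw (congrArg Subtype.val h))
  have hbij : Function.Bijective f := (Nat.bijective_iff_injective_and_card f).2
    ⟨hinj, by rw [Finite.card_option, Nat.card_fin]; omega⟩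
  obtain ⟨o, ho⟩ := hbij.2 ⟨x, hx⟩
  rcases o with _ | i
  · exact absurd (congrArg Subtype.val ho).symm hx1
  · exact ⟨i, (congrArg Subtype.val ho).symm⟩

/-- There is no such group. -/
theorem no_root {A F : Subgroup G} (hA : A ≤ E) (hAn : Nat.card A = p ^ (l + 1))
    (hF : Cfsg.IsElementaryAbelian 2 F) (hFA : F ≤ centralizer (A : Set G))
    (hEF : E ≤ normalizer (F : Set G)) (hmove : ¬ F ≤ centralizer (E : Set G)) : False := by
  haveI : Fact (Nat.Prime 2) := ⟨Nat.prime_two⟩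
  obtain ⟨hF4, hFfix, hForb⟩ := H.four hE hEn hA hAn hF hFA hEF hmove
  have hFp : IsPGroup 2 F := Signalizer.isPGroup hF
  have hF1 : F ≠ ⊥ := fun h => hmove (h ▸ bot_le)
  have hcp := H.charTwo F hFp hF1
  set Y := CharP.opIn 2 (normalizer (F : Set G)) with hY
  have hYp : IsPGroup 2 Y := CharP.isPGroup_opIn _
  have hFY : F ≤ Y := CharP.le_opIn le_normalizer hFp le_rfl
  have hEY : E ≤ normalizer (Y : Set G) := hEF.trans (CharP.le_normalizer_opIn _)
  have hA1 : A ≠ ⊥ := H.ne_bot hAn (by omega)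
  obtain ⟨b₀, hb₀, hb₀A⟩ : ∃ b ∈ E, b ∉ A := by
    by_contra h
    push Not at h
    exact hmove (hFA.trans (centralizer_le h))
  -- `C_Y(E) = 1`
  have hfix : Y ⊓ centralizer (E : Set G) = ⊥ := by
    by_contra hne
    obtain ⟨c, ⟨hcY, hcE⟩, hc2⟩ := CharP.exists_orderOf_two (hYp.to_le inf_le_left) hne
    have hcc : c ^ 2 = 1 := by rw [← hc2, pow_orderOf_eq_one]
    have hcN : ∀ x ∈ F, c * x * c⁻¹ ∈ F := fun x hx =>
      (mem_normalizer_iff.1 (CharP.opIn_le _ hcY) x).1 hx
    have hcF : ∀ x ∈ F, Commute x c := by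
      intro x hx
      by_contra hne
      have hx' : c * x * c⁻¹ ≠ x := fun h => hne (commute_of_conj h).symm
      set w := x * (c * x * c⁻¹) with hw
      have hwF : w ∈ F := mul_mem hx (hcN x hx)
      have hcomm : Commute x (c * x * c⁻¹) :=
        Signalizer.commute hF hx (hcN x hx)
      have hcw : Commute c w := by
        refine commute_of_conj ?_
        calc c * w * c⁻¹ = (c * x * c⁻¹) * (c ^ 2 * x * (c ^ 2)⁻¹) := by rw [hw, sq]; group
          _ = w := by rw [hcc, one_mul, inv_one, mul_one, hw]; exact hcomm.eq.symm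
      have hw1 : w ≠ 1 := fun h => hx' (by
        rw [hw, mul_eq_one_iff_inv_eq] at h
        rw [← h, inv_eq_of_mul_eq_one_right (by rw [← sq]; exact hF.2 x hx)])
      have hx1 : x ≠ 1 := fun h => hne (by rw [h]; exact Commute.one_left c)
      obtain ⟨i, hi⟩ := hForb b₀ hb₀ hb₀A w hwF hw1 x hx hx1
      refine hne ?_
      have hcb : Commute c (b₀ ^ i) := (commute_of_mem_centralizer hcE (pow_mem hb₀ i)).symm
      rw [hi]
      exact ((hcb.mul_right hcw).mul_right hcb.inv_right).symm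
    have hcFn : c ∉ F := fun h => by
      have := hFfix b₀ hb₀ hb₀A c h (commute_of_mem_centralizer hcE hb₀)
      rw [this, orderOf_one] at hc2
      omega
    have hU := SymplecticHyp.elementary_sup_zpowers hF (x := c) hcc fun a ha => (hcF a ha).eq
    have h8 := H.card_le_four (Signalizer.of_le hE hA) hAn hU
      (sup_le (zpowers_le.2 (centralizer_le hA hcE)) hFA)
    rw [Signalizer.card_sup_zpowers hU le_sup_right (mem_sup_left (mem_zpowers c)) hcFn, hF4] at h8
    omega
  -- a second hyperplane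
  have hYA : ¬ Y ≤ centralizer (A : Set G) := by
    intro h
    obtain ⟨⟨a, ha⟩, ha1⟩ := ne_bot_iff_exists_ne_one.1 hA1
    have ha1' : a ≠ 1 := fun h => ha1 (Subtype.ext h)
    refine ha1' (hcp.eq_one_subgroup ?_ (hEF (hA ha)) (mem_centralizer_iff.2 fun y hy =>
      ((mem_centralizer_iff.1 (h hy)) a ha).symm))
    rw [orderOf_eq_prime (hE.2 a (hA ha)) ha1']
    exact (Nat.coprime_primes Fact.out Nat.prime_two).2 H.odd
  obtain ⟨A₂, hA₂, hA₂n, hA₂Y⟩ := H.exists_hyperplane hE hEn hYp hEY hYA (hfix ▸ bot_le)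
  have hne : A ≠ A₂ := fun h => hA₂Y (h ▸ inf_le_right)
  set Y₂ := Y ⊓ centralizer (A₂ : Set G) with hY₂
  have hY₂p : IsPGroup 2 Y₂ := hYp.to_le inf_le_left
  have hEY₂ : E ≤ normalizer (Y₂ : Set G) :=
    Signalizer.le_normalizer_inf_centralizer hE hEY hA₂
  let V : Subgroup G :=
    { carrier := {x | x ∈ Y₂ ∧ x ^ 2 = 1 ∧ ∀ y ∈ Y₂, Commute y x}
      one_mem' := ⟨one_mem _, one_pow 2, fun y _ => Commute.one_right y⟩
      mul_mem' := fun {a b} ha hb => ⟨mul_mem ha.1 hb.1, by
        rw [(show Commute a b from hb.2.2 a ha.1).mul_pow, ha.2.1, hb.2.1, one_mul],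
        fun y hy => (ha.2.2 y hy).mul_right (hb.2.2 y hy)⟩
      inv_mem' := fun {a} ha => ⟨inv_mem ha.1, by rw [inv_pow, ha.2.1, inv_one],
        fun y hy => (ha.2.2 y hy).inv_right⟩ }
  have hV : Cfsg.IsElementaryAbelian 2 V :=
    ⟨⟨⟨fun a b => Subtype.ext (b.2.2.2 a a.2.1).eq⟩⟩, fun a ha => ha.2.1⟩
  have hEV : E ≤ normalizer (V : Set G) := norm_of_conj fun e he x hx =>
    ⟨conj_of_norm hEY₂ e he x hx.1, by rw [conj_pow, hx.2.1, mul_one, mul_inv_cancel],
      fun y hy => by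
        have h1 := hx.2.2 _ (conj_of_norm hEY₂ e⁻¹ (inv_mem he) y hy)
        have h2 := h1.map (MulAut.conj e).toMonoidHom
        simpa [mul_assoc] using h2⟩
  have hVY : ∀ x ∈ V, x ∈ Y := fun x hx => hx.1.1
  have hVA₂ : V ≤ centralizer (A₂ : Set G) := fun x hx => hx.1.2
  have hV1 : ¬ V ≤ centralizer (E : Set G) := by
    intro h
    have hY₂1 : Y₂ ≠ ⊥ := fun h => hA₂Y (h ▸ bot_le)
    haveI := (nontrivial_iff_ne_bot Y₂).2 hY₂1
    haveI := hY₂p.center_nontrivial
    obtain ⟨z, hz, hz2⟩ := CharP.exists_orderOf_two (U := (center Y₂).map Y₂.subtype)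
      ((hY₂p.to_subgroup _).map _) (by
        rw [Ne, map_eq_bot_iff_of_injective _ Y₂.subtype_injective]
        exact (nontrivial_iff_ne_bot _).1 inferInstance)
    obtain ⟨⟨z', hz'Y⟩, hz'c, rfl⟩ := hz
    have hzV : z' ∈ V := ⟨hz'Y, by rw [← hz2, show Y₂.subtype ⟨z', hz'Y⟩ = z' from rfl,
      pow_orderOf_eq_one], fun y hy => congrArg Subtype.val (mem_center_iff.1 hz'c ⟨y, hy⟩)⟩
    have := mem_bot.1 (hfix.le (mem_inf.2 ⟨hVY _ hzV, h hzV⟩))
    simp [this] at hz2
  obtain ⟨hV4, hVfix, -⟩ := H.four hE hEn hA₂ hA₂n hV hVA₂ hEV hV1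
  obtain ⟨h, hhA, hhA₂⟩ : ∃ h ∈ A, h ∉ A₂ := by
    by_contra hh
    push Not at hh
    exact hne (eq_of_le_of_card_ge hh (by rw [hAn, hA₂n]))
  have hcomm : ∀ x ∈ F, ∀ c ∈ V, Commute x c := by
    intro x hx c hc
    let f : V → V := fun c => ⟨c⁻¹ * (h * c * h⁻¹),
      mul_mem (inv_mem c.2) (conj_of_norm hEV h (hA hhA) _ c.2)⟩
    have hinj : Function.Injective f := by
      intro c d hcd
      have h1 : (c : G)⁻¹ * (h * c * h⁻¹) = (d : G)⁻¹ * (h * d * h⁻¹) := congrArg Subtype.val hcd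
      refine Subtype.ext (eq_of_mul_inv_eq_one (hVfix h (hA hhA) hhA₂ _
        (mul_mem c.2 (inv_mem d.2)) (commute_of_conj ?_)))
      have h2 : (d : G) * (c : G)⁻¹ = (h * d * h⁻¹) * (h * c * h⁻¹)⁻¹ := by
        calc (d : G) * (c : G)⁻¹ = d * ((c : G)⁻¹ * (h * c * h⁻¹)) * (h * c * h⁻¹)⁻¹ := by group
          _ = (h * d * h⁻¹) * (h * c * h⁻¹)⁻¹ := by rw [h1]; group
      calc h * ((c : G) * (d : G)⁻¹) * h⁻¹ = ((h * d * h⁻¹) * (h * c * h⁻¹)⁻¹)⁻¹ := by group
        _ = (c : G) * (d : G)⁻¹ := by rw [← h2]; group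
    obtain ⟨c', hc'⟩ := (Finite.injective_iff_surjective.1 hinj) ⟨c, hc⟩
    have hc'e : (c' : G)⁻¹ * (h * c' * h⁻¹) = c := congrArg Subtype.val hc'
    have hc'N : (c' : G) * x * (c' : G)⁻¹ ∈ F :=
      (mem_normalizer_iff.1 (CharP.opIn_le _ (hVY _ c'.2)) x).1 hx
    have hhx : ∀ y ∈ F, h * y * h⁻¹ = y := fun y hy =>
      conj_of_commute (commute_of_mem_centralizer (hFA hy) hhA)
    have hhx' : h⁻¹ * x * h = x := by nth_rw 1 [← hhx x hx]; group
    refine (commute_of_conj ?_).symm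
    rw [← hc'e]
    calc (c' : G)⁻¹ * (h * c' * h⁻¹) * x * ((c' : G)⁻¹ * (h * c' * h⁻¹))⁻¹
        = (c' : G)⁻¹ * (h * (c' * (h⁻¹ * x * h) * (c' : G)⁻¹) * h⁻¹) * c' := by group
      _ = (c' : G)⁻¹ * (c' * x * (c' : G)⁻¹) * c' := by rw [hhx', hhx _ hc'N]
      _ = x := by group
  obtain ⟨hsup, hB⟩ := H.sup_eq hE hEn hA hA₂ hAn hA₂n hne
  have hdis : F ⊓ V = ⊥ := by
    refine (eq_bot_iff_forall _).2 fun x hx => hFfix b₀ hb₀ hb₀A x hx.1 ?_
    refine sup_le_centralizer_singleton (fun a ha => commute_of_mem_centralizer (hFA hx.1) ha)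
      (fun a ha => commute_of_mem_centralizer (hVA₂ hx.2) ha) b₀ ?_
    rw [hsup]; exact hb₀
  have hW := elementary_sup hF hV hcomm
  have h16 := H.card_lt_sixteen (Signalizer.of_le hE (inf_le_left.trans hA : A ⊓ A₂ ≤ E)) hB hW
    (sup_le (hFA.trans (centralizer_le inf_le_left)) (hVA₂.trans (centralizer_le inf_le_right)))
  rw [CfsgLib.Solvable.card_sup_of_disjoint (norm_of_conj fun a ha c hc => by
    rw [conj_of_commute (hcomm a ha c hc)]; exact hc) hdis, hF4, hV4] at h16
  omega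

/-- Every abelian `2`-group normalized by `E` is centralized by it. -/
theorem centralizes {T : Subgroup G} (hT : IsPGroup 2 T) (hTc : ∀ x ∈ T, ∀ y ∈ T, Commute x y)
    (hET : E ≤ normalizer (T : Set G)) : T ≤ centralizer (E : Set G) := by
  let V : Subgroup G :=
    { carrier := {x | x ∈ T ∧ x ^ 2 = 1}
      one_mem' := ⟨one_mem _, one_pow 2⟩
      mul_mem' := fun {a b} ha hb => ⟨mul_mem ha.1 hb.1, by
        rw [(hTc a ha.1 b hb.1).mul_pow, ha.2, hb.2, one_mul]⟩
      inv_mem' := fun {a} ha => ⟨inv_mem ha.1, by rw [inv_pow, ha.2, inv_one]⟩ }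
  have hEV : E ≤ normalizer (V : Set G) := norm_of_conj fun e he x hx =>
    ⟨conj_of_norm hET e he x hx.1, by rw [conj_pow, hx.2, mul_one, mul_inv_cancel]⟩
  have hVle : V ≤ centralizer (E : Set G) := by
    by_contra hne
    obtain ⟨B, hB, hBn, hVB⟩ := H.exists_hyperplane hE hEn
      (hT.to_le fun x (hx : x ∈ V) => hx.1) hEV hne inf_le_right
    refine H.no_root hE hEn hB hBn (F := V ⊓ centralizer (B : Set G)) ?_ inf_le_right
      (Signalizer.le_normalizer_inf_centralizer hE hEV hB) hVB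
    exact ⟨⟨⟨fun a b => Subtype.ext (hTc a a.2.1.1 b b.2.1.1).eq⟩⟩, fun a ha => ha.1.2⟩
  intro x hx
  exact mem_centralizer_of_commute fun e he => commute_of_fix_invol H.odd hT hTc (hE.2 e he)
    (fun y hy => conj_of_norm hET e he y hy)
    (fun y hy hy2 => commute_of_mem_centralizer (hVle ⟨hy, hy2⟩) he) x hx

/-- A `2`-group centralizing a subgroup `A ≠ 1` of `E`, normalized by `E` and centralized by an
involution `c` that commutes with `E`, centralizes `C(c)` inside `O_p(C(A))`. -/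
theorem centralizes_fixed {A X : Subgroup G} (hA : A ≤ E) (hX : IsPGroup 2 X)
    (hXA : X ≤ centralizer (A : Set G)) (hEX : E ≤ normalizer (X : Set G)) {c : G}
    (hc : orderOf c = 2) (hcA : ∀ e ∈ E, Commute e c) (hcX : ∀ x ∈ X, Commute x c) :
    ∀ r ∈ CharP.opIn p (centralizer (A : Set G)), Commute c r → ∀ q ∈ X, Commute q r := by
  haveI : Fact (Nat.Prime 2) := ⟨Nat.prime_two⟩
  set U := CharP.opIn p (centralizer (A : Set G)) with hU
  have hEA : E ≤ centralizer (A : Set G) := Signalizer.le_centralizer_of_le hE hA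
  have hEU : E ≤ normalizer (U : Set G) := hEA.trans (CharP.le_normalizer_opIn _)
  have hXU : X ≤ normalizer (U : Set G) := hXA.trans (CharP.le_normalizer_opIn _)
  set P := U ⊓ centralizer ({c} : Set G) with hP
  have hnorm : ∀ {W : Subgroup G}, W ≤ normalizer (U : Set G) → (∀ w ∈ W, Commute w c) →
      W ≤ normalizer (P : Set G) := fun {W} hW hWc => norm_of_conj fun w hw x hx =>
    ⟨conj_of_norm hW w hw x hx.1, mem_centralizer_singleton_iff.2
      ((((hWc w hw).mul_left (show Commute x c from mem_centralizer_singleton_iff.1 hx.2))).mul_left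
        (hWc w hw).inv_left).eq⟩
  intro r hr hcr q hq
  refine AbelianSignalizer.centralizes H.odd (Signalizer.isPGroup hE) (card_coprime H.odd hX) hEX
    _ P rfl ((CharP.isPGroup_opIn _).to_le inf_le_left) (hnorm hEU hcA) (hnorm hXU hcX) ?_ r
    ⟨hr, mem_centralizer_singleton_iff.2 hcr.eq.symm⟩ q hq
  intro t ht htp hte q hq
  have htc : Commute t c := mem_centralizer_singleton_iff.1 ht.2
  have hS := SymplecticHyp.elementary_sup_zpowers hE htp fun a ha => (hte a ha).eq
  have htE : t ∈ E := by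
    by_contra hne
    have h1 := H.invol c hc _ hS fun s hs => (sup_le_centralizer_singleton
      (fun a ha => commute_zpowers htc ha) (fun a ha => hcA a ha) s hs).eq
    rw [Signalizer.card_sup_zpowers hS le_sup_right (mem_sup_left (mem_zpowers t)) hne, hEn] at h1
    have h2 := (Fact.out : p.Prime).two_le
    have h3 : 0 < p ^ (l + 2) := pow_pos (Fact.out : p.Prime).pos _
    rw [show l + 1 + 1 = l + 2 by ring] at h1
    nlinarith
  have hdis : X ⊓ U = ⊥ := (eq_bot_iff_forall _).2 fun x hx =>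
    CharP.eq_one_of_mem_pgroup (CharP.isPGroup_opIn _) hx.2 (coprime_of_mem H.odd hX hx.1)
  refine commute_of_conj (mul_inv_eq_one.1 (mem_bot.1 (hdis ▸ mem_inf.2 ⟨?_, ?_⟩)))
  · rw [show q * t * q⁻¹ * t⁻¹ = q * (t * q⁻¹ * t⁻¹) by group]
    exact mul_mem hq (conj_of_norm hEX t htE _ (inv_mem hq))
  · exact mul_mem (conj_of_norm hXU q hq t ht.1) (inv_mem ht.1)

end Hyp

end CfsgLib.CharTwoPType
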