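import Cfsg.Prelude.Def_Balance
import Cfsg.Agent.Coprime.FourGroupFixed
import Cfsg.Agent.Kinf.LocalBalanceApps
import Cfsg.Agent.LocalB.OddSignalizer

/-!
The signalizer functor attached to a pair of core-separated four-subgroups.
-/

set_option autoImplicit false
set_option linter.unusedSectionVars false

namespace CfsgLib.CoreSep

open Subgroup CfsgLib.LocalBalance
open scoped commutatorElement

variable {G : Type*} [Group G] [Finite G]

set_option quotPrecheck false in
local notation "π[" V "]" => QuotientGroup.mk' (Cfsg.pPrimeCore 2 ↥(V : Subgroup G))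

/-- The core of a centraliser lands in the core of the centraliser in a local quotient. -/
theorem mem_core_image {V R : Subgroup G} (hR : IsPGroup 2 R) (hRV : R ≤ V) {x : G} (hxV : x ∈ V)
    (hx : x ∈ core 2 (centralizer (R : Set G))) :
    π[V] ⟨x, hxV⟩ ∈ core 2 (centralizer
      (((R.subgroupOf V).map π[V] : Subgroup (↥V ⧸ Cfsg.pPrimeCore 2 ↥V)) :
        Set (↥V ⧸ Cfsg.pPrimeCore 2 ↥V))) := by
  refine mem_core_quotient (Solvable.coprime_card_pPrimeCore 2)
    (hR.of_equiv (subgroupOfEquivOfLe hRV).symm) ?_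
  refine le_core (N := (core 2 (centralizer (R : Set G))).subgroupOf V) ?_ ?_ ?_ hx
  · intro y hy
    exact mem_centralizer_iff.2 fun r hr =>
      Subtype.ext (mem_centralizer_iff.1 (core_le _ hy) (r : G) hr)
  · intro c hc
    have hcC : (c : G) ∈ centralizer (R : Set G) := mem_centralizer_iff.2 fun r hr =>
      congrArg Subtype.val (mem_centralizer_iff.1 hc ⟨r, hRV hr⟩ hr)
    have h1 := normalizer_le_normalizer_core (p := 2) _ (le_normalizer hcC)
    refine mem_normalizer_iff.2 fun v => ?_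
    simpa [mem_subgroupOf] using mem_normalizer_iff.1 h1 (v : G)
  · refine (coprime_core (centralizer (R : Set G))).coprime_dvd_left ?_
    rw [← card_map_of_injective V.subtype_injective, subgroupOf_map_subtype]
    exact card_dvd_of_le inf_le_left

/-- An element centralising all components and `O_2` lies in `O_2` when the core is trivial. -/
theorem mem_pCore_of_centralizes {Q : Type*} [Group Q] [Finite Q]
    (hO : Cfsg.pPrimeCore 2 Q = ⊥) {y : Q} (hF : y ∈ centralizer (Cfsg.pCore 2 Q : Set Q))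
    (hK : ∀ K : Subgroup Q, Cfsg.IsComponent K → y ∈ centralizer (K : Set Q)) :
    y ∈ Cfsg.pCore 2 Q := by
  set F := Cfsg.generalizedFittingSubgroup Q
  have hyC : y ∈ centralizer (F : Set Q) := by
    have h1 : F ≤ centralizer {y} := sup_le
      (Comp.layer_le fun K hK' z hz => mem_centralizer_singleton_iff.2
        (mem_centralizer_iff.1 (hK K hK') z hz))
      (fun z hz => mem_centralizer_singleton_iff.2
        (mem_centralizer_iff.1 hF z (fitting_le_pCore hO hz)))
    exact mem_centralizer_iff.2 fun z hz => mem_centralizer_singleton_iff.1 (h1 hz)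
  haveI : IsMulCommutative ↥(centralizer (F : Set Q)) := ⟨⟨fun a b => Subtype.ext
    (mem_centralizer_iff.1 b.2 a (Comp.centralizer_Fstar_le a.2))⟩⟩
  exact fitting_le_pCore hO (Comp.le_fitting inferInstance
    (Subgroup.isNilpotent_of_lowerCentralSeries_eq_bot (n := 1)
      (by simp [commutator_self_eq_bot_iff.mpr inferInstance])) hyC)

theorem isPGroup_zpowers_two {a : G} (ha : a * a = 1) : IsPGroup 2 (zpowers a) :=
  isPGroup_zpowers (k := 1) (by rw [pow_one, sq, ha])

theorem odd_centralizerCore (a : G) : Odd (Nat.card (Cfsg.centralizerPPrimeCore 2 a)) :=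
  Nat.coprime_two_right.1 (coprime_core (p := 2) (centralizer ({a} : Set G)))

theorem image_core_centralizer {V : Subgroup G} {a x : G} (ha : a * a = 1) (haV : a ∈ V)
    (hxV : x ∈ V) (hx : x ∈ Cfsg.centralizerPPrimeCore 2 a) :
    π[V] ⟨x, hxV⟩ ∈ core 2 (centralizer
      ((zpowers (π[V] ⟨a, haV⟩) : Subgroup (↥V ⧸ Cfsg.pPrimeCore 2 ↥V)) :
        Set (↥V ⧸ Cfsg.pPrimeCore 2 ↥V))) :=
  mem_core_centralizer_quotient haV (by rw [sq, ha]) hx hxV

/-- The component `K` of a local quotient is centralised by the image of `P`. -/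
def Cen {b : G} (P : Subgroup G) (K : Subgroup (↥(centralizer ({b} : Set G)) ⧸
    Cfsg.pPrimeCore 2 ↥(centralizer ({b} : Set G)))) : Prop :=
  ∀ r ∈ P, ∀ hr : r ∈ centralizer ({b} : Set G),
    π[centralizer ({b} : Set G)] ⟨r, hr⟩ ∈ centralizer (K : Set _)

/-- The standing data. -/
structure Pair (P P' : Subgroup G) : Prop where
  elem : Cfsg.IsElementaryAbelian 2 P
  elem' : Cfsg.IsElementaryAbelian 2 P'
  card : Nat.card P = 4
  comm : ∀ x ∈ P, ∀ y ∈ P', x * y = y * x
  sep : ∀ b ∈ P ⊔ P', b ≠ 1 → ∀ K : Subgroup (↥(centralizer ({b} : Set G)) ⧸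
    Cfsg.pPrimeCore 2 ↥(centralizer ({b} : Set G))), Cfsg.IsComponent K → Cen P K ∨ Cen P' K

variable {P P' : Subgroup G}

theorem Pair.commP (h : Pair P P') {x y : G} (hx : x ∈ P) (hy : y ∈ P) : x * y = y * x :=
  congrArg Subtype.val (h.elem.1.is_comm.comm ⟨x, hx⟩ ⟨y, hy⟩)

theorem Pair.exists_mul (h : Pair P P') {a : G} (ha : a ∈ P ⊔ P') :
    ∃ s ∈ P, ∃ r ∈ P', a = s * r := by
  have hle : P ≤ normalizer (P' : Set G) := fun x hx =>
    centralizer_le_normalizer _ (mem_centralizer_iff.2 fun y hy => (h.comm x hx y hy).symm)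
  rw [← SetLike.mem_coe, coe_mul_of_left_le_normalizer_right _ _ hle, Set.mem_mul] at ha
  obtain ⟨s, hs, r, hr, rfl⟩ := ha
  exact ⟨s, hs, r, hr, rfl⟩

theorem Pair.commA (h : Pair P P') {x y : G} (hx : x ∈ P ⊔ P') (hy : y ∈ P ⊔ P') :
    x * y = y * x := by
  obtain ⟨s, hs, r, hr, rfl⟩ := h.exists_mul hx
  obtain ⟨s', hs', r', hr', rfl⟩ := h.exists_mul hy
  have h1 : r * r' = r' * r := congrArg Subtype.val (h.elem'.1.is_comm.comm ⟨r, hr⟩ ⟨r', hr'⟩)
  calc s * r * (s' * r') = s * (r * s') * r' := by group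
    _ = (s * s') * (r * r') := by rw [← h.comm s' hs' r hr]; group
    _ = (s' * s) * (r' * r) := by rw [h.commP hs hs', h1]
    _ = s' * (s * r') * r := by group
    _ = s' * r' * (s * r) := by rw [h.comm s hs r' hr']; group

theorem Pair.sq_one (h : Pair P P') {x : G} (hx : x ∈ P ⊔ P') : x * x = 1 := by
  obtain ⟨s, hs, r, hr, rfl⟩ := h.exists_mul hx
  calc s * r * (s * r) = s * (r * s) * r := by group
    _ = (s * s) * (r * r) := by rw [← h.comm s hs r hr]; group
    _ = 1 := by rw [← sq, ← sq, h.elem.2 s hs, h.elem'.2 r hr, one_mul]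

theorem Pair.mem_centralizer (h : Pair P P') {x y : G} (hx : x ∈ P ⊔ P') (hy : y ∈ P ⊔ P') :
    x ∈ centralizer ({y} : Set G) :=
  mem_centralizer_singleton_iff.2 (h.commA hx hy)

theorem Pair.le_normalizer_core (h : Pair P P') {a : G} (ha : a ∈ P ⊔ P') :
    P ⊔ P' ≤ normalizer (Cfsg.centralizerPPrimeCore 2 a : Set G) := fun _ hg =>
  normalizer_le_normalizer_core (centralizer ({a} : Set G)) (le_normalizer (h.mem_centralizer hg ha))

theorem Pair.coprime (h : Pair P P') {a : G} {U : Subgroup G}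
    (hU : U ≤ Cfsg.centralizerPPrimeCore 2 a) : (Nat.card P).Coprime (Nat.card U) := by
  rw [h.card, show 4 = 2 ^ 2 by norm_num]
  exact (Nat.coprime_two_left.2 (Odd.of_dvd_nat (odd_centralizerCore a) (card_dvd_of_le hU))).pow_left 2

theorem Pair.solvable (h : Pair P P') : Group.IsSolvable P :=
  Group.isSolvable_of_comm fun x y => h.elem.1.is_comm.comm x y

theorem commutator_le_of_cen {b a : G} (ha : a * a = 1)
    (hab : a ∈ centralizer ({b} : Set G))
    {K : Subgroup (↥(centralizer ({b} : Set G)) ⧸ Cfsg.pPrimeCore 2 ↥(centralizer ({b} : Set G)))}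
    (hK : Cfsg.IsComponent K) (hP : Cen P K) (hPb : P ≤ centralizer ({b} : Set G))
    {D : Subgroup G} (hDa : D ≤ Cfsg.centralizerPPrimeCore 2 a)
    (hDb : D ≤ centralizer ({b} : Set G)) :
    ∀ z ∈ ⁅D, P⁆, ∀ hz : z ∈ centralizer ({b} : Set G),
      π[centralizer ({b} : Set G)] ⟨z, hz⟩ ∈ centralizer (K : Set _) := by
  have hle : ⁅D, P⁆ ≤ ((centralizer (K : Set _)).comap π[(centralizer ({b} : Set G))]).map (centralizer ({b} : Set G)).subtype := by
    rw [commutator_le]
    intro d hd r hr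
    refine ⟨⁅(⟨d, hDb hd⟩ : (centralizer ({b} : Set G))), ⟨r, hPb hr⟩⁆, ?_, rfl⟩
    change π[(centralizer ({b} : Set G))] ⁅(⟨d, hDb hd⟩ : (centralizer ({b} : Set G))), ⟨r, hPb hr⟩⁆ ∈ centralizer (K : Set _)
    rw [map_commutatorElement, commutatorElement_def]
    have hdK : π[(centralizer ({b} : Set G))] ⟨d, hDb hd⟩ ∈ normalizer (K : Set _) :=
      core_centralizer_le_normalizer LocalB.oddCore_quotient
        (isPGroup_zpowers (k := 1) (by
          rw [← map_pow]; simp only [pow_one, sq]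
          exact (congrArg π[(centralizer ({b} : Set G))] (Subtype.ext (by simpa using ha) :
            (⟨a, hab⟩ : (centralizer ({b} : Set G))) * ⟨a, hab⟩ = 1)).trans (map_one _)))
        hK (image_core_centralizer ha hab (hDb hd) (hDa hd))
    exact mul_mem ((mem_normalizer_iff.1 (normalizer_le_normalizer_centralizer _ hdK) _).1
      (hP r hr (hPb hr))) (inv_mem (hP r hr (hPb hr)))
  intro z hz hzV
  obtain ⟨v, hv, hvz⟩ := hle hz
  rwa [show (⟨z, hzV⟩ : (centralizer ({b} : Set G))) = v from Subtype.ext hvz.symm]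

theorem cen_conj {b : G} {K : Subgroup (↥(centralizer ({b} : Set G)) ⧸
    Cfsg.pPrimeCore 2 ↥(centralizer ({b} : Set G)))} (hP : Cen P K)
    (u : centralizer ({b} : Set G)) (hu : ∀ r ∈ P, (u : G) * r = r * u) :
    Cen P (K.map (MulAut.conj (π[centralizer ({b} : Set G)] u)).toMonoidHom) := by
  intro r hr hrV
  refine mem_centralizer_iff.2 ?_
  rintro _ ⟨k, hk, rfl⟩
  have h1 : Commute k (π[centralizer ({b} : Set G)] ⟨r, hrV⟩) :=
    mem_centralizer_iff.1 (hP r hr hrV) k hk
  have h2 : Commute (π[centralizer ({b} : Set G)] u) (π[centralizer ({b} : Set G)] ⟨r, hrV⟩) :=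
    (show Commute u (⟨r, hrV⟩ : centralizer ({b} : Set G)) from Subtype.ext (hu r hr)).map _
  exact ((h2.mul_left h1).mul_left h2.inv_left).eq

/-- The key step: `C(P) ∩ [O(C(a)), P]` lies in the core of `C(P)`. -/
theorem Pair.key_piece (h : Pair P P') {a e z : G} (ha : a ∈ P ⊔ P') (he : e ∈ P) (he1 : e ≠ 1)
    (hz : z ∈ ⁅Cfsg.centralizerPPrimeCore 2 a ⊓ centralizer ({e} : Set G), P⁆)
    (hzH : z ∈ centralizer (P : Set G)) : z ∈ core 2 (centralizer (P : Set G)) := by
  set H := centralizer (P : Set G) with hH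
  set V := centralizer ({e} : Set G) with hV
  set D := Cfsg.centralizerPPrimeCore 2 a ⊓ V with hD
  have haa := h.sq_one ha
  have heA : e ∈ P ⊔ P' := mem_sup_left he
  have hPH : ∀ g ∈ P ⊔ P', g ∈ H := fun g hg =>
    mem_centralizer_iff.2 fun p hp => h.commA (mem_sup_left hp) hg
  have hHV : H ≤ V := fun g hg =>
    mem_centralizer_singleton_iff.2 (mem_centralizer_iff.1 hg e he).symm
  have hDA : P ⊔ P' ≤ normalizer (D : Set G) := fun g hg =>
    inf_normalizer_le_normalizer_inf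
      (mem_inf.2 ⟨h.le_normalizer_core ha hg, le_normalizer (h.mem_centralizer hg heA)⟩)
  have hzD : z ∈ D := le_normalizer_iff_commutator_le_left.1 (le_sup_left.trans hDA) hz
  have hza : z ∈ Cfsg.centralizerPPrimeCore 2 a := hzD.1
  have hsqV : ∀ {W : Subgroup G} (g : G) (hg : g ∈ W), g * g = 1 →
      (π[W] ⟨g, hg⟩) ^ 2 ^ 1 = 1 := by
    intro W g hg hgg
    rw [← map_pow, show (⟨g, hg⟩ : W) ^ 2 ^ 1 = 1 from Subtype.ext (by simpa [sq] using hgg),
      map_one]
  set πH := π[H]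
  set y := πH ⟨z, hzH⟩ with hy
  have hyR := image_core_centralizer haa (hPH a ha) hzH hza
  have hRH := isPGroup_zpowers (hsqV a (hPH a ha) haa)
  have hoH : Cfsg.pPrimeCore 2 (↥H ⧸ Cfsg.pPrimeCore 2 ↥H) = ⊥ := LocalB.oddCore_quotient
  suffices hy1 : y = 1 by
    exact ⟨⟨z, hzH⟩, (QuotientGroup.eq_one_iff _).1 hy1, rfl⟩
  refine eq_one_of_centralizes hoH
    ((coprime_core _).coprime_dvd_left (orderOf_dvd_natCard _ hyR))
    (core_centralizer_le_U hRH hyR).2 fun K hK => ?_
  by_cases hnorm : πH ⟨a, hPH a ha⟩ ∈ normalizer (K : Set _)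
  swap
  · exact core_centralizer_le_centralizer_of_moved hoH (by
      have := hsqV a (hPH a ha) haa
      rwa [pow_one] at this)
      hK hnorm hyR
  by_cases hcent : K ≤ centralizer {πH ⟨a, hPH a ha⟩}
  · exact core_centralizer_le_centralizer hoH hRH hK (by rwa [centralizer_zpowers_eq]) hyR
  have hyK := core_centralizer_le_normalizer hoH hRH hK hyR
  obtain ⟨s, hs, r, hr, rfl⟩ := h.exists_mul ha
  have hsH := hPH s (mem_sup_left hs)
  have hrH := hPH r (mem_sup_right hr)
  have hprod : πH ⟨s * r, hPH _ ha⟩ = πH ⟨s, hsH⟩ * πH ⟨r, hrH⟩ := by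
    rw [← map_mul]; rfl
  have hscent : ∀ q, q * πH ⟨s, hsH⟩ = πH ⟨s, hsH⟩ * q := by
    intro q
    obtain ⟨g, rfl⟩ := QuotientGroup.mk'_surjective _ q
    rw [← map_mul, ← map_mul]
    exact congrArg πH (Subtype.ext (mem_centralizer_iff.1 g.2 s hs).symm)
  have hsK : πH ⟨s, hsH⟩ ∈ normalizer (K : Set _) :=
    centralizer_le_normalizer _ (mem_centralizer_iff.2 fun q _ => hscent q)
  set rb := πH ⟨r, hrH⟩ with hrb
  have hrK : rb ∈ normalizer (K : Set _) := by
    have := mul_mem (inv_mem hsK) hnorm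
    rwa [hprod, inv_mul_cancel_left] at this
  have hrnc : rb ∉ centralizer (K : Set _) := fun hc => hcent fun k hk => by
    refine mem_centralizer_singleton_iff.2 ?_
    rw [hprod, ← mul_assoc, hscent, mul_assoc, mem_centralizer_iff.1 hc k hk, ← mul_assoc]
  -- the commutators
  have hcomm : ∀ u : H, y * (πH u * rb * (πH u)⁻¹ * rb⁻¹) * y⁻¹ *
      (πH u * rb * (πH u)⁻¹ * rb⁻¹)⁻¹ ∈ Cfsg.pCore 2 (↥H ⧸ Cfsg.pPrimeCore 2 ↥H) := by
    intro u
    set w : H := u * ⟨r, hrH⟩ * u⁻¹ * ⟨r, hrH⟩⁻¹ with hw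
    set c : H := ⟨z, hzH⟩ * w * ⟨z, hzH⟩⁻¹ * w⁻¹ with hc
    rw [show y * (πH u * rb * (πH u)⁻¹ * rb⁻¹) * y⁻¹ * (πH u * rb * (πH u)⁻¹ * rb⁻¹)⁻¹ = πH c by
      simp only [hc, hw, hy, hrb, map_mul, map_inv]]
    set πV := π[V]
    set iota : H →* V := inclusion hHV
    have hoV : Cfsg.pPrimeCore 2 (↥V ⧸ Cfsg.pPrimeCore 2 ↥V) = ⊥ := LocalB.oddCore_quotient
    have haV : s * r ∈ V := h.mem_centralizer ha heA
    have hzR := image_core_centralizer haa haV (hHV hzH) hza
    have hRV := isPGroup_zpowers (hsqV (s * r) haV haa)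
    have hPV : P ≤ V := fun p hp => h.mem_centralizer (mem_sup_left hp) heA
    have hzcen : ∀ F : Subgroup (↥(centralizer ({e} : Set G)) ⧸ Cfsg.pPrimeCore 2 ↥(centralizer ({e} : Set G))),
        Cfsg.IsComponent F → Cen P F →
        πV (iota ⟨z, hzH⟩) ∈ centralizer (F : Set _) := fun F hF hFP =>
      commutator_le_of_cen haa haV hF hFP hPV inf_le_left inf_le_right z hz (hHV hzH)
    have hgcomm : ∀ g : H, ∀ p ∈ P, ((iota g : V) : G) * p = p * (iota g : V) := fun g p hp =>
      (mem_centralizer_iff.1 g.2 p hp).symm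
    have hcexp : πV (iota c) = πV (iota ⟨z, hzH⟩) * πV (iota w) * (πV (iota ⟨z, hzH⟩))⁻¹ *
        (πV (iota w))⁻¹ := by simp only [hc, map_mul, map_inv]
    have hall : ∀ F : Subgroup (↥(centralizer ({e} : Set G)) ⧸ Cfsg.pPrimeCore 2 ↥(centralizer ({e} : Set G))),
        Cfsg.IsComponent F → πV (iota c) ∈ centralizer (F : Set _) := by
      intro F hF
      by_cases hFP : Cen P F
      · have hF' := cen_conj hFP (iota w⁻¹) (hgcomm w⁻¹)
        have h1 := hzcen _ (Comp.component_conj _ hF) hF'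
        have h2 : πV (iota w) * (πV (iota ⟨z, hzH⟩))⁻¹ * (πV (iota w))⁻¹ ∈ centralizer (F : Set _) := by
          refine mem_centralizer_iff.2 fun f hf => ?_
          have h3 : Commute ((πV (iota w))⁻¹ * f * πV (iota w)) (πV (iota ⟨z, hzH⟩))⁻¹ :=
            (show Commute _ _ from mem_centralizer_iff.1 h1 _ (mem_map.2 ⟨f, hf, by
            simp only [MulEquiv.coe_toMonoidHom, MulAut.conj_apply, map_inv, inv_inv]; rfl⟩)).inv_right
          have h4 := h3.conj (πV (iota w))
          simpa [-QuotientGroup.mk'_apply, mul_assoc] using h4.eq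
        have h5 := mul_mem (hzcen F hF hFP) h2
        rw [hcexp]; simp only [mul_assoc] at h5 ⊢; exact h5
      · have hFP' : Cen P' F := (h.sep e heA he1 F hF).resolve_left hFP
        have hrV : r ∈ V := hHV hrH
        have h1 : πV (iota ⟨r, hrH⟩) ∈ centralizer (F : Set _) := hFP' r hr hrV
        have hF' : Cen P' (F.map (MulAut.conj (πV (iota u⁻¹))).toMonoidHom) := by
          refine (h.sep e heA he1 _ (Comp.component_conj _ hF)).resolve_left fun hc' => hFP ?_
          have h2 := cen_conj hc' (iota u) (hgcomm u)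
          rw [map_map] at h2
          have he2 : (MulAut.conj (πV (iota u))).toMonoidHom.comp
              (MulAut.conj (πV (iota u⁻¹))).toMonoidHom = MonoidHom.id _ := by
            ext q; simp [mul_assoc]
          rwa [he2, Subgroup.map_id] at h2
        have h3 : πV (iota u) * πV (iota ⟨r, hrH⟩) * (πV (iota u))⁻¹ ∈ centralizer (F : Set _) := by
          refine mem_centralizer_iff.2 fun f hf => ?_
          have h4 : Commute ((πV (iota u))⁻¹ * f * πV (iota u)) (πV (iota ⟨r, hrH⟩)) :=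
            mem_centralizer_iff.1 (hF' r hr hrV) _ (mem_map.2 ⟨f, hf, by
            simp only [MulEquiv.coe_toMonoidHom, MulAut.conj_apply, map_inv, inv_inv]; rfl⟩)
          have h5 := h4.conj (πV (iota u))
          simpa [-QuotientGroup.mk'_apply, mul_assoc] using h5.eq
        have h6 : πV (iota w) ∈ centralizer (F : Set _) := by
          have := mul_mem h3 (inv_mem h1)
          simpa [-QuotientGroup.mk'_apply, hw, map_mul, map_inv, mul_assoc] using this
        have hzN := core_centralizer_le_normalizer hoV hRV hF hzR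
        have h7 := mul_mem ((mem_normalizer_iff.1 (normalizer_le_normalizer_centralizer _ hzN) _).1 h6)
          (inv_mem h6)
        rw [hcexp]; simp only [mul_assoc] at h7 ⊢; exact h7
    have hO2 : πV (iota c) ∈ centralizer ((Cfsg.pCore 2 (↥V ⧸ Cfsg.pPrimeCore 2 ↥V) : Subgroup (↥V ⧸ Cfsg.pPrimeCore 2 ↥V)) : Set (↥V ⧸ Cfsg.pPrimeCore 2 ↥V)) := by
      have h1 := (core_centralizer_le_U hRV hzR).2
      have h2 := mul_mem h1 ((inferInstance : (centralizer ((Cfsg.pCore 2 (↥V ⧸ Cfsg.pPrimeCore 2 ↥V) :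
        Subgroup (↥V ⧸ Cfsg.pPrimeCore 2 ↥V)) : Set (↥V ⧸ Cfsg.pPrimeCore 2 ↥V))).Normal).conj_mem _ (inv_mem h1) (πV (iota w)))
      rw [hcexp]; simp only [mul_assoc] at h2 ⊢; exact h2
    have hcV := mem_pCore_of_centralizes hoV hO2 hall
    set N := ((Cfsg.pCore 2 (↥V ⧸ Cfsg.pPrimeCore 2 ↥V)).comap (πV.comp iota)).map πH with hN
    refine (show N ≤ Cfsg.pCore 2 _ from le_sSup ⟨?_, ?_⟩) (mem_map_of_mem πH hcV)
    · exact (Normal.comap inferInstance _).map _ (QuotientGroup.mk'_surjective _)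
    · rintro ⟨_, m, hm, rfl⟩
      obtain ⟨k, hk⟩ := Solvable.isPGroup_pCore 2 ⟨_, hm⟩
      refine ⟨k, Subtype.ext ?_⟩
      change (πH m) ^ 2 ^ k = 1
      have h1 : (iota m) ^ 2 ^ k ∈ Cfsg.pPrimeCore 2 V := by
        rw [← QuotientGroup.eq_one_iff]
        have := congrArg Subtype.val hk
        simpa [πV] using this
      rw [← map_pow]
      refine (QuotientGroup.eq_one_iff _).2 ?_
      refine (Solvable.le_pPrimeCore 2 (Normal.comap (inferInstance :
        (Cfsg.pPrimeCore 2 V).Normal) iota) ?_) (show m ^ 2 ^ k ∈ (Cfsg.pPrimeCore 2 V).comap iota by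
          rw [mem_comap, map_pow]; exact h1)
      refine (Solvable.coprime_card_pPrimeCore (G := V) 2).coprime_dvd_left ?_
      rw [← card_map_of_injective (f := iota) (inclusion_injective hHV)]
      exact card_dvd_of_le (map_comap_le _ _)
  -- conclusion in `K`
  set Z := Cfsg.pCore 2 (↥H ⧸ Cfsg.pPrimeCore 2 ↥H)
  set S : Set (↥H ⧸ Cfsg.pPrimeCore 2 ↥H) := {g | ∃ k ∈ K, k * rb * k⁻¹ * rb⁻¹ = g} with hS
  set W := closure S
  have hWK : W ≤ K := (closure_le _).2 (by
    rintro _ ⟨k, hk, rfl⟩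
    rw [mul_assoc, mul_assoc, ← mul_assoc rb]
    exact K.mul_mem hk ((mem_normalizer_iff.1 hrK _).1 (K.inv_mem hk)))
  have hWn : (W.subgroupOf K).Normal := by
    refine (normal_subgroupOf_iff_le_normalizer hWK).2 fun k' hk' => ?_
    refine mem_normalizer_iff_map_conj_eq.2 (eq_of_le_of_card_ge ?_
      (card_map_of_injective (MulAut.conj k').injective).ge)
    rw [MonoidHom.map_closure, closure_le]
    rintro _ ⟨_, ⟨k, hk, rfl⟩, rfl⟩
    change k' * (k * rb * k⁻¹ * rb⁻¹) * k'⁻¹ ∈ W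
    rw [show k' * (k * rb * k⁻¹ * rb⁻¹) * k'⁻¹ =
      (k' * k * rb * (k' * k)⁻¹ * rb⁻¹) * (k' * rb * k'⁻¹ * rb⁻¹)⁻¹ by group]
    exact mul_mem (subset_closure ⟨_, K.mul_mem hk' hk, rfl⟩)
      (inv_mem (subset_closure ⟨k', hk', rfl⟩))
  rcases Comp.quasisimple_normal hK.2 hWn with hW | hW
  · refine centralizes_of_commutator_central (Comp.component_perfect hK) hyK fun k hk => ?_
    have hkW : k ∈ W := subgroupOf_eq_top.1 hW hk
    have hle : W ≤ (centralizer {QuotientGroup.mk' Z y}).comap (QuotientGroup.mk' Z) := by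
      rw [closure_le]
      rintro _ ⟨q, hq, rfl⟩
      obtain ⟨u, rfl⟩ := QuotientGroup.mk'_surjective _ q
      refine mem_comap.2 (mem_centralizer_singleton_iff.2 ?_)
      have h1 := (QuotientGroup.eq_one_iff _).2 (hcomm u)
      rw [← QuotientGroup.mk'_apply, map_mul, map_mul, map_mul, map_inv, map_inv, mul_inv_eq_one,
        mul_inv_eq_iff_eq_mul] at h1
      exact h1.symm
    have h1 := mem_centralizer_singleton_iff.1 (mem_comap.1 (hle hkW))
    have h2 : y * k * y⁻¹ * k⁻¹ ∈ Z := by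
      rw [← QuotientGroup.eq_one_iff, ← QuotientGroup.mk'_apply, map_mul, map_mul, map_mul, map_inv,
        map_inv, ← h1]
      group
    exact mem_centralizer_iff.2 fun g hg =>
      (mem_centralizer_iff.1 (Comp.component_le_centralizer_fitting hK hg) _
        (Comp.pCore_le_fitting 2 h2)).symm
  · refine absurd (centralizes_of_commutator_central (Comp.component_perfect hK) hrK fun k hk => ?_)
      hrnc
    have hmem : k * rb * k⁻¹ * rb⁻¹ ∈ W := subset_closure ⟨k, hk, rfl⟩
    have h1 := hW (show (⟨_, hWK hmem⟩ : K) ∈ W.subgroupOf K from hmem)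
    rw [show rb * k * rb⁻¹ * k⁻¹ = (k * rb * k⁻¹ * rb⁻¹)⁻¹ by group]
    exact inv_mem (mem_centralizer_iff.2 fun g hg =>
      congrArg Subtype.val (mem_center_iff.1 h1 ⟨g, hg⟩))

/-- Two generators of a four-group. -/
theorem Pair.exists_gens (h : Pair P P') :
    ∃ s t : G, s ∈ P ∧ t ∈ P ∧ s ≠ 1 ∧ t ≠ 1 ∧ s * t ≠ 1 ∧
      ∀ x ∈ P, x = 1 ∨ x = s ∨ x = t ∨ x = s * t := by
  classical
  letI : Fintype P := Fintype.ofFinite P
  have h4 : Fintype.card P = 4 := by rw [← Nat.card_eq_fintype_card, h.card]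
  obtain ⟨s, hs⟩ := Fintype.exists_ne_of_one_lt_card (show 1 < Fintype.card P by omega) (1 : P)
  obtain ⟨t, ht⟩ : ∃ t : P, t ∉ ({1, s} : Finset P) := by
    by_contra! hc
    have h1 : Fintype.card P ≤ ({1, s} : Finset P).card := Finset.card_le_card fun z _ => hc z
    have h2 := Finset.card_le_two (a := (1 : P)) (b := s)
    omega
  simp only [Finset.mem_insert, Finset.mem_singleton, not_or] at ht
  have hss : s * s = 1 := Subtype.ext (by simpa [sq] using h.elem.2 s s.2)
  have hst : s * t ≠ 1 := fun e => ht.2 (mul_left_cancel (e.trans hss.symm))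
  have hall : (Finset.univ : Finset P) = {1, s, t, s * t} := by
    refine (Finset.eq_univ_of_card _ ?_).symm
    rw [h4]
    have e1 : (1 : P) ≠ s := fun e => hs e.symm
    have e2 : (1 : P) ≠ t := fun e => ht.1 e.symm
    have e3 : (1 : P) ≠ s * t := fun e => hst e.symm
    have e4 : s ≠ t := fun e => ht.2 e.symm
    have e5 : s ≠ s * t := fun e => ht.1 (mul_left_cancel (e.symm.trans (mul_one s).symm))
    have e6 : t ≠ s * t := fun e => hs (mul_right_cancel (e.symm.trans (one_mul t).symm))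
    simp [e1, e2, e3, e4, e5, e6]
  refine ⟨s, t, s.2, t.2, fun e => hs (Subtype.ext e), fun e => ht.1 (Subtype.ext e),
    fun e => hst (Subtype.ext e), fun x hx => ?_⟩
  have := Finset.mem_univ (⟨x, hx⟩ : P)
  rw [hall] at this
  simp only [Finset.mem_insert, Finset.mem_singleton] at this
  rcases this with e | e | e | e
  · exact Or.inl (congrArg Subtype.val e)
  · exact Or.inr (Or.inl (congrArg Subtype.val e))
  · exact Or.inr (Or.inr (Or.inl (congrArg Subtype.val e)))
  · exact Or.inr (Or.inr (Or.inr (congrArg Subtype.val e)))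

/-- Fixed points of `P` on `[O(C(a)), P]` lie in the core of `C(P)`. -/
theorem Pair.key (h : Pair P P') {a : G} (ha : a ∈ P ⊔ P') :
    ⁅Cfsg.centralizerPPrimeCore 2 a, P⁆ ⊓ centralizer (P : Set G) ≤
      core 2 (centralizer (P : Set G)) := by
  obtain ⟨s, t, hs, ht, hs1, ht1, hst1, hall⟩ := h.exists_gens
  set O := Cfsg.centralizerPPrimeCore 2 a
  have hPO : P ≤ normalizer (O : Set G) := le_sup_left.trans (h.le_normalizer_core ha)
  have hXO : ⁅O, P⁆ ≤ O := le_normalizer_iff_commutator_le_left.1 hPO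
  have hXX := CoprimeAct.commutator_commutator hPO (h.coprime le_rfl) (Or.inl h.solvable)
  have hsq : ∀ g ∈ P, ∀ y ∈ ⁅O, P⁆, g * g * y = y * (g * g) := fun g hg y _ => by
    rw [← sq, h.elem.2 g hg, one_mul, mul_one]
  have hfour := FourFixed.four (Odd.of_dvd_nat (odd_centralizerCore a) (card_dvd_of_le hXO))
    (IsPGroup.of_card (n := 2) (by rw [h.card]; norm_num)) h.elem.1
    (normalizer_commutator_ge_right _ _) hXX hs ht (hsq s hs) (hsq t ht)
  have hCP : centralizer ({s} : Set G) ⊓ centralizer ({t} : Set G) ≤ centralizer (P : Set G) := by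
    intro x hx
    have h1 := mem_centralizer_singleton_iff.1 hx.1
    have h2 := mem_centralizer_singleton_iff.1 hx.2
    refine mem_centralizer_iff.2 fun p hp => ?_
    rcases hall p hp with rfl | rfl | rfl | rfl
    · simp
    · exact h1.symm
    · exact h2.symm
    · rw [mul_assoc, ← h2, ← mul_assoc, ← h1, mul_assoc]
  refine le_trans ?_ (hfour.trans (sup_le (sup_le ?_ ?_) ?_))
  · exact fun x hx => ⟨⟨hx.1, mem_centralizer_singleton_iff.2 (mem_centralizer_iff.1 hx.2 s hs).symm⟩,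
      mem_centralizer_singleton_iff.2 (mem_centralizer_iff.1 hx.2 t ht).symm⟩
  all_goals intro x hx
  · exact h.key_piece ha hs hs1 (commutator_mono (inf_le_inf_right _ hXO) le_rfl hx.2)
      (hCP ⟨hx.1.1.2, hx.1.2⟩)
  · exact h.key_piece ha ht ht1 (commutator_mono (inf_le_inf_right _ hXO) le_rfl hx.2)
      (hCP ⟨hx.1.1.2, hx.1.2⟩)
  · exact h.key_piece ha (P.mul_mem hs ht) hst1 (commutator_mono (inf_le_inf_right _ hXO) le_rfl hx.2)
      (hCP ⟨hx.1.1.2, hx.1.2⟩)

/-- The factor `[O(C(a)), P] (O(C(a)) ∩ O(C(P)))`. -/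
def factor (P : Subgroup G) (a : G) : Subgroup G :=
  ⁅Cfsg.centralizerPPrimeCore 2 a, P⁆ ⊔
    (Cfsg.centralizerPPrimeCore 2 a ⊓ core 2 (centralizer (P : Set G)))

theorem Pair.factor_le (h : Pair P P') {a : G} (ha : a ∈ P ⊔ P') :
    factor P a ≤ Cfsg.centralizerPPrimeCore 2 a :=
  sup_le (le_normalizer_iff_commutator_le_left.1 (le_sup_left.trans (h.le_normalizer_core ha)))
    inf_le_left

theorem Pair.le_normalizer_factor (h : Pair P P') {a : G} (ha : a ∈ P ⊔ P') :
    P ⊔ P' ≤ normalizer (factor P a : Set G) := by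
  intro g hg
  refine mem_normalizer_iff_map_conj_eq.2 ?_
  have h1 : (Cfsg.centralizerPPrimeCore 2 a).map (MulAut.conj g).toMonoidHom =
      Cfsg.centralizerPPrimeCore 2 a := mem_normalizer_iff_map_conj_eq.1 (h.le_normalizer_core ha hg)
  have hgn : g ∈ normalizer (P : Set G) :=
    centralizer_le_normalizer _ (mem_centralizer_iff.2 fun p hp => h.commA (mem_sup_left hp) hg)
  have h2 : P.map (MulAut.conj g).toMonoidHom = P := mem_normalizer_iff_map_conj_eq.1 hgn
  have h3 : (core 2 (centralizer (P : Set G))).map (MulAut.conj g).toMonoidHom =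
      core 2 (centralizer (P : Set G)) := mem_normalizer_iff_map_conj_eq.1
    (normalizer_le_normalizer_core _ (normalizer_le_normalizer_centralizer _ hgn))
  have h23 := Subgroup.map_inf (Cfsg.centralizerPPrimeCore 2 a) (core 2 (centralizer (P : Set G)))
    (MulAut.conj g).toMonoidHom (MulAut.conj g).injective
  simp only [factor, Subgroup.map_sup, map_commutator]
  erw [h23, h1, h2, h3]

theorem Pair.inter_le_normalizer (h : Pair P P') {a : G} (ha : a ∈ P ⊔ P') :
    P ⊔ P' ≤ normalizer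
      ((Cfsg.centralizerPPrimeCore 2 a ⊓ core 2 (centralizer (P : Set G)) : Subgroup G) : Set G) :=
  fun g hg => inf_normalizer_le_normalizer_inf (mem_inf.2 ⟨h.le_normalizer_core ha hg,
    normalizer_le_normalizer_core _ (normalizer_le_normalizer_centralizer _
      (centralizer_le_normalizer _ (mem_centralizer_iff.2 fun p hp => h.commA (mem_sup_left hp) hg)))⟩)

theorem Pair.factor_mul (h : Pair P P') {a : G} (ha : a ∈ P ⊔ P') :
    ∀ x ∈ factor P a, ∃ u ∈ ⁅Cfsg.centralizerPPrimeCore 2 a, P⁆,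
      ∃ v ∈ Cfsg.centralizerPPrimeCore 2 a ⊓ core 2 (centralizer (P : Set G)), x = u * v := by
  intro x hx
  have hn : Cfsg.centralizerPPrimeCore 2 a ⊓ core 2 (centralizer (P : Set G)) ≤
      normalizer ((⁅Cfsg.centralizerPPrimeCore 2 a, P⁆ : Subgroup G) : Set G) :=
    inf_le_left.trans (normalizer_commutator_ge_left _ _)
  rw [factor, sup_comm, ← SetLike.mem_coe, coe_mul_of_left_le_normalizer_right _ _ hn,
    set_mul_normalizer_comm _ _ hn, Set.mem_mul] at hx
  obtain ⟨u, hu, v, hv, rfl⟩ := hx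
  exact ⟨u, hu, v, hv, rfl⟩

/-- Elements of the factor centralising `b` centralise the components centralised by `P`. -/
theorem Pair.mem_centralizer_component (h : Pair P P') {a b x : G} (ha : a ∈ P ⊔ P')
    (hb : b ∈ P ⊔ P') (hx : x ∈ factor P a) (hxb : x ∈ centralizer ({b} : Set G))
    {K : Subgroup (↥(centralizer ({b} : Set G)) ⧸ Cfsg.pPrimeCore 2 ↥(centralizer ({b} : Set G)))}
    (hK : Cfsg.IsComponent K) (hP : Cen P K) :
    π[centralizer ({b} : Set G)] ⟨x, hxb⟩ ∈ centralizer (K : Set _) := by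
  set O := Cfsg.centralizerPPrimeCore 2 a
  have hbb := h.sq_one hb
  have hPV : P ≤ (centralizer ({b} : Set G)) := fun p hp => h.mem_centralizer (mem_sup_left hp) hb
  have hoV : Cfsg.pPrimeCore 2 (↥(centralizer ({b} : Set G)) ⧸ Cfsg.pPrimeCore 2 ↥(centralizer ({b} : Set G))) = ⊥ := LocalB.oddCore_quotient
  have hcore : ∀ w (hwV : w ∈ (centralizer ({b} : Set G))), w ∈ core 2 (centralizer (P : Set G)) →
      π[(centralizer ({b} : Set G))] ⟨w, hwV⟩ ∈ centralizer (K : Set _) := by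
    intro w hwV hw
    have hP2 : IsPGroup 2 P := IsPGroup.of_card (n := 2) (by rw [h.card]; norm_num)
    refine core_centralizer_le_centralizer hoV
      ((hP2.of_equiv (subgroupOfEquivOfLe hPV).symm).map π[(centralizer ({b} : Set G))]) hK ?_ (mem_core_image hP2 hPV hwV hw)
    intro k hk
    refine mem_centralizer_iff.2 ?_
    rintro _ ⟨⟨r, hrV⟩, hr, rfl⟩
    exact (mem_centralizer_iff.1 (hP r hr hrV) k hk).symm
  set R := zpowers b
  have hR2 : IsPGroup 2 R := isPGroup_zpowers_two hbb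
  have hRA : R ≤ P ⊔ P' := zpowers_le.2 hb
  have hcopR : ∀ U : Subgroup G, U ≤ O → (Nat.card R).Coprime (Nat.card U) := by
    intro U hU
    obtain ⟨n, hn⟩ := IsPGroup.iff_card.1 hR2
    rw [hn]
    exact (Nat.coprime_two_left.2 (Odd.of_dvd_nat (odd_centralizerCore a) (card_dvd_of_le hU))).pow_left n
  have hRs : Group.IsSolvable R := Group.isSolvable_of_comm fun u v =>
    Subtype.ext (h.commA (hRA u.2) (hRA v.2))
  have hXO : ⁅O, P⁆ ≤ O :=
    le_normalizer_iff_commutator_le_left.1 (le_sup_left.trans (h.le_normalizer_core ha))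
  have hXA : P ⊔ P' ≤ normalizer ((⁅O, P⁆ : Subgroup G) : Set G) := by
    intro g hg
    refine mem_normalizer_iff_map_conj_eq.2 ?_
    rw [map_commutator, mem_normalizer_iff_map_conj_eq.1 (h.le_normalizer_core ha hg),
      mem_normalizer_iff_map_conj_eq.1 (centralizer_le_normalizer _
        (mem_centralizer_iff.2 fun p hp => h.commA (mem_sup_left hp) hg))]
  obtain ⟨u, hu, v, hv, rfl⟩ := CoprimeAct.fixed_factor (A := R) (K := factor P a)
    (hRA.trans (h.le_normalizer_factor ha)) (hcopR _ (h.factor_le ha)) (Or.inl hRs)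
    (X := ⁅O, P⁆) (Y := O ⊓ core 2 (centralizer (P : Set G))) le_sup_left le_sup_right
    (hRA.trans hXA) (hRA.trans (h.inter_le_normalizer ha)) (h.factor_mul ha)
    (show x ∈ factor P a ⊓ centralizer (R : Set G) from
      ⟨hx, by rw [centralizer_zpowers_eq]; exact hxb⟩)
  rw [mem_inf, centralizer_zpowers_eq] at hu hv
  -- the part in `[O, P]`
  set X := ⁅O, P⁆ ⊓ (centralizer ({b} : Set G)) with hX
  have hPX : P ≤ normalizer (X : Set G) := fun g hg => inf_normalizer_le_normalizer_inf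
    (mem_inf.2 ⟨hXA (mem_sup_left hg), le_normalizer (hPV hg)⟩)
  obtain ⟨p, hp, c, hc, rfl⟩ := CoprimeAct.exists_mul_of_mem hPX
    (h.coprime (inf_le_left.trans hXO)) (Or.inl h.solvable) (show u ∈ X from ⟨hu.1, hu.2⟩)
  have hpV : p ∈ (centralizer ({b} : Set G)) := ((le_normalizer_iff_commutator_le_left.1 hPX) hp).2
  have hcV : c ∈ (centralizer ({b} : Set G)) := hc.1.2
  have hvV : v ∈ (centralizer ({b} : Set G)) := hv.2
  have h1 := commutator_le_of_cen (h.sq_one ha) (h.mem_centralizer ha hb) hK hP hPV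
    (D := O ⊓ (centralizer ({b} : Set G))) inf_le_left inf_le_right p (commutator_mono (inf_le_inf_right _ hXO) le_rfl hp) hpV
  have h2 := hcore c hcV (h.key ha ⟨hc.1.1, hc.2⟩)
  have h3 := hcore v hvV hv.1.2
  rw [show (⟨p * c * v, hxb⟩ : (centralizer ({b} : Set G))) = ⟨p, hpV⟩ * ⟨c, hcV⟩ * ⟨v, hvV⟩ from rfl, map_mul, map_mul]
  exact mul_mem (mul_mem h1 h2) h3

theorem Pair.mem_factor_of_mem_core (h : Pair P P') {a b x : G} (ha : a ∈ P ⊔ P')
    (hb : b ∈ P ⊔ P') (hx : x ∈ factor P a) (hxb : x ∈ Cfsg.centralizerPPrimeCore 2 b) :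
    x ∈ factor P b := by
  set O := Cfsg.centralizerPPrimeCore 2 a
  set J := O ⊓ Cfsg.centralizerPPrimeCore 2 b
  have hPJ : P ≤ normalizer (J : Set G) := fun g hg => inf_normalizer_le_normalizer_inf
    (mem_inf.2 ⟨h.le_normalizer_core ha (mem_sup_left hg), h.le_normalizer_core hb (mem_sup_left hg)⟩)
  obtain ⟨k, hk, c, hc, rfl⟩ := CoprimeAct.exists_mul_of_mem hPJ (h.coprime inf_le_left)
    (Or.inl h.solvable) (show x ∈ J from ⟨h.factor_le ha hx, hxb⟩)
  have hkb : k ∈ ⁅Cfsg.centralizerPPrimeCore 2 b, P⁆ := commutator_mono inf_le_right le_rfl hk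
  have hka : k ∈ ⁅O, P⁆ := commutator_mono inf_le_left le_rfl hk
  have hcR : c ∈ factor P a := by
    have := mul_mem (inv_mem (mem_sup_left hka : k ∈ factor P a)) hx
    rwa [inv_mul_cancel_left] at this
  have hPA : P ≤ P ⊔ P' := le_sup_left
  obtain ⟨u, hu, v, hv, huv⟩ := CoprimeAct.fixed_factor (A := P) (K := factor P a)
    (hPA.trans (h.le_normalizer_factor ha)) (h.coprime (h.factor_le ha)) (Or.inl h.solvable)
    (X := ⁅O, P⁆) (Y := O ⊓ core 2 (centralizer (P : Set G))) le_sup_left le_sup_right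
    (normalizer_commutator_ge_right _ _) (hPA.trans (h.inter_le_normalizer ha)) (h.factor_mul ha)
    (show c ∈ factor P a ⊓ centralizer (P : Set G) from ⟨hcR, hc.2⟩)
  have hcN : c ∈ core 2 (centralizer (P : Set G)) := huv ▸ mul_mem (h.key ha hu) hv.1.2
  exact mul_mem (mem_sup_left hkb) (mem_sup_right ⟨hc.1.2, hcN⟩)

/-- The two symmetric pairs obtained from core separation. -/
theorem pair_of_coreSeparated {A₁ A₂ : Subgroup G} (h : Cfsg.IsCoreSeparated A₁ A₂) :
    Pair A₁ A₂ ∧ Pair A₂ A₁ := by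
  obtain ⟨h1, h2, h3, h4, -, -, hcomm, hsep⟩ := h
  have hA1 : ∀ r ∈ A₁, r ∈ A₁ ⊔ A₂ := fun r hr => mem_sup_left hr
  have key : ∀ b ∈ A₁ ⊔ A₂, b ≠ 1 → ∀ K : Subgroup (↥(centralizer ({b} : Set G)) ⧸
      Cfsg.pPrimeCore 2 ↥(centralizer ({b} : Set G))), Cfsg.IsComponent K → Cen A₁ K ∨ Cen A₂ K := by
    intro b hb hb1 K hK
    have hgen : ∀ P : Subgroup G, ⁅(PComp.compOver 2 K).map (centralizer ({b} : Set G)).subtype, P⁆ ≤
        Cfsg.centralizerPPrimeCore 2 b → Cen P K := by
      intro P hle r hr hrV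
      refine mem_centralizer_iff.2 fun k hk => ?_
      rw [← PComp.map_compOver 2 hK] at hk
      obtain ⟨e, he, rfl⟩ := hk
      obtain ⟨v, hv, hve⟩ := hle (commutator_mem_commutator (mem_map_of_mem (centralizer ({b} : Set G)).subtype he) hr)
      have hve' : v = ⁅e, (⟨r, hrV⟩ : (centralizer ({b} : Set G)))⁆ := Subtype.ext hve
      rw [← commutatorElement_eq_one_iff_mul_comm, ← map_commutatorElement, ← hve']
      exact (QuotientGroup.eq_one_iff _).2 hv
    exact (hsep b hb hb1 _ (PComp.isPComponent_compOver 2 hK)).imp (hgen A₁) (hgen A₂)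
  exact ⟨⟨h1, h2, h3, hcomm, key⟩, ⟨h2, h1, h4, fun x hx y hy => (hcomm y hy x hx).symm,
    fun b hb hb1 K hK => (key b (sup_comm A₂ A₁ ▸ hb) hb1 K hK).symm⟩⟩

/-- `θ` is a signalizer functor. -/
theorem isSignalizerFunctor {A₁ A₂ : Subgroup G} (h : Cfsg.IsCoreSeparated A₁ A₂) :
    Cfsg.IsSignalizerFunctor 2 (A₁ ⊔ A₂) (fun a => factor A₁ a ⊓ factor A₂ a) := by
  obtain ⟨p₁, p₂⟩ := pair_of_coreSeparated h
  have hsw : A₂ ⊔ A₁ = A₁ ⊔ A₂ := sup_comm _ _
  refine ⟨fun a ha _ => inf_le_left.trans ((p₁.factor_le ha).trans (map_subtype_le _)),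
    fun a ha _ => ?_, fun a ha _ b hb x hx => ⟨?_, ?_⟩, ?_⟩
  · exact Nat.two_dvd_ne_zero.2 (Nat.odd_iff.1
      (Odd.of_dvd_nat (odd_centralizerCore a) (card_dvd_of_le (inf_le_left.trans (p₁.factor_le ha)))))
  · exact (mem_normalizer_iff.1 (p₁.le_normalizer_factor ha hb) x).1 hx.1
  · exact (mem_normalizer_iff.1 (p₂.le_normalizer_factor (hsw.symm ▸ ha) (hsw.symm ▸ hb)) x).1 hx.2
  rintro a ha ha1 b hb hb1 x ⟨⟨hx1, hx2⟩, hxb⟩
  set V := centralizer ({b} : Set G)
  have hxa := p₁.factor_le ha hx1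
  have haV : a ∈ V := p₁.mem_centralizer ha hb
  have hoV : Cfsg.pPrimeCore 2 (↥V ⧸ Cfsg.pPrimeCore 2 ↥V) = ⊥ := LocalB.oddCore_quotient
  have hzR := image_core_centralizer (p₁.sq_one ha) haV hxb hxa
  have hRV : IsPGroup 2 (zpowers (π[V] ⟨a, haV⟩)) := isPGroup_zpowers (k := 1) (by
    rw [← map_pow, show (⟨a, haV⟩ : V) ^ 2 ^ 1 = 1 from
      Subtype.ext (by simpa [sq] using p₁.sq_one ha), map_one])
  have hx1' : π[V] ⟨x, hxb⟩ = 1 := by
    refine eq_one_of_centralizes hoV
      ((coprime_core _).coprime_dvd_left (orderOf_dvd_natCard _ hzR))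
      (core_centralizer_le_U hRV hzR).2 fun K hK => ?_
    rcases p₁.sep b hb hb1 K hK with hc | hc
    · exact p₁.mem_centralizer_component ha hb hx1 hxb hK hc
    · exact p₂.mem_centralizer_component (hsw.symm ▸ ha) (hsw.symm ▸ hb) hx2 hxb hK hc
  have hxO : x ∈ Cfsg.centralizerPPrimeCore 2 b :=
    ⟨⟨x, hxb⟩, (QuotientGroup.eq_one_iff _).1 hx1', rfl⟩
  exact ⟨p₁.mem_factor_of_mem_core ha hb hx1 hxO,
    p₂.mem_factor_of_mem_core (hsw.symm ▸ ha) (hsw.symm ▸ hb) hx2 hxO⟩

end CfsgLib.CoreSep
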