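import Cfsg.Prelude.Def_Local
import Cfsg.Prelude.Def_CaseTheorems
import Cfsg.Prelude.Def_OddOrderLocal
import Cfsg.Agent.Signalizer.Basic
import Cfsg.Agent.Signalizer.Local
import Cfsg.Agent.SFTCor.Equivariant
import Cfsg.Agent.ZJ.Constrained
import Cfsg.Agent.PLocal.PConstrained
import Cfsg.Agent.InvChar.ZStarApps
import Cfsg.Agent.LocalB.OddSignalizer
import Cfsg.Agent.Invol.IsolatedApps
import Mathlib.GroupTheory.SpecificGroups.Cyclic

/-!
Groups with 2-constrained 2-locals in which a Sylow 2-subgroup normalizes no odd subgroup.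
-/

set_option autoImplicit false
set_option linter.unusedSectionVars false
set_option linter.style.haveILetI false

namespace CfsgLib.CyclicCentreLocal

open Subgroup
open scoped commutatorElement

variable {G : Type*} [Group G] [Finite G]

/-- The odd core of the centralizer. -/
local notation "θ" => Cfsg.centralizerPPrimeCore 2

/-- All 2-locals are 2-constrained. -/
def LocalsConstrained (G : Type*) [Group G] : Prop :=
  ∀ T : Subgroup G, IsPGroup 2 T → T ≠ ⊥ → Cfsg.IsPConstrained 2 ↥(normalizer (T : Set G))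

theorem isPGroup_zpowers {x : G} (hx : x * x = 1) : IsPGroup 2 (zpowers x) := by
  rintro ⟨g, hg⟩
  obtain ⟨k, rfl⟩ := mem_zpowers_iff.1 hg
  refine ⟨1, Subtype.ext ?_⟩
  rw [pow_one, SubgroupClass.coe_pow, OneMemClass.coe_one, ← zpow_natCast, ← zpow_mul, mul_comm,
    zpow_mul, zpow_natCast, sq, hx, one_zpow]

theorem normalizer_zpowers {x : G} (hx : x * x = 1) :
    normalizer ((zpowers x : Subgroup G) : Set G) = centralizer {x} := by
  have hmem : ∀ y ∈ zpowers x, y = 1 ∨ y = x := by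
    intro y hy
    obtain ⟨k, rfl⟩ := mem_zpowers_iff.1 hy
    rcases Int.even_or_odd k with ⟨m, rfl⟩ | ⟨m, rfl⟩
    · left
      rw [← two_mul, zpow_mul, zpow_two, hx, one_zpow]
    · right
      rw [zpow_add, zpow_mul, zpow_two, hx, one_zpow, one_mul, zpow_one]
  ext g
  constructor
  · intro hg
    refine mem_centralizer_singleton_iff.2 ?_
    rcases hmem _ ((mem_normalizer_iff.1 hg x).1 (mem_zpowers x)) with h | h
    · rw [conj_eq_one_iff.1 h, mul_one, one_mul]
    · exact mul_inv_eq_iff_eq_mul.1 h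
  · intro hg
    refine mem_normalizer_iff.2 fun y => ?_
    have h : g * x * g⁻¹ = x := mul_inv_eq_iff_eq_mul.2 (mem_centralizer_singleton_iff.1 hg)
    constructor
    · intro hy
      rcases hmem y hy with rfl | rfl
      · simp
      · rw [h]; exact mem_zpowers _
    · intro hy
      rcases hmem _ hy with h' | h'
      · rw [conj_eq_one_iff.1 h']; exact one_mem _
      · have hyx : y = x := mul_left_cancel (mul_right_cancel (h'.trans h.symm))
        rw [hyx]; exact mem_zpowers _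

variable (hcon : LocalsConstrained G)
include hcon

theorem constrained_centralizer {x : G} (hx : orderOf x = 2) :
    Cfsg.IsPConstrained 2 ↥(centralizer ({x} : Set G)) := by
  obtain ⟨h2, h1⟩ := orderOf_eq_prime_iff.1 hx
  rw [sq] at h2
  rw [← normalizer_zpowers h2]
  exact hcon _ (isPGroup_zpowers h2) fun h => h1 (zpowers_eq_bot.1 h)

/-- An odd subgroup of `C(y)` centralizing a 2-subgroup `P` and normalized by the centralizer of
`P` in `C(y)` lies in the core. -/
theorem le_theta {y : G} (hy : orderOf y = 2) {D P : Subgroup G} (hP : IsPGroup 2 P)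
    (hPH : P ≤ centralizer {y}) (hDH : D ≤ centralizer {y}) (hD : Odd (Nat.card D))
    (hDP : D ≤ centralizer (P : Set G))
    (hn : centralizer {y} ⊓ centralizer (P : Set G) ≤ normalizer (D : Set G)) :
    D ≤ θ y := by
  set H := centralizer ({y} : Set G)
  have hle : D.subgroupOf H ≤ Cfsg.pPrimeCore 2 ↥H := by
    refine Signalizer.le_pPrimeCore_of_centralizes
      (ZJ.centralizer_pCore_quotient_le (constrained_centralizer hcon hy)) (P := P.subgroupOf H)
      (hP.of_injective (subgroupOfEquivOfLe hPH).toMonoidHom (subgroupOfEquivOfLe hPH).injective)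
      ?_ ?_ ?_
    · intro d hd
      exact mem_centralizer_iff.2 fun u hu => Subtype.ext (mem_centralizer_iff.1 (hDP hd) u hu)
    · intro c hc
      have hcP : (c : G) ∈ centralizer (P : Set G) := mem_centralizer_iff.2 fun u hu =>
        congrArg Subtype.val (mem_centralizer_iff.1 hc ⟨u, hPH hu⟩ hu)
      have h1 := hn (mem_inf.2 ⟨c.2, hcP⟩)
      rw [mem_normalizer_iff]
      intro d
      simpa [mem_subgroupOf] using mem_normalizer_iff.1 h1 (d : G)
    · rw [Nat.card_congr (subgroupOfEquivOfLe hDH).toEquiv]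
      exact Nat.coprime_two_right.2 hD
  intro d hd
  exact ⟨⟨d, hDH hd⟩, hle (show (⟨d, hDH hd⟩ : H) ∈ D.subgroupOf H from hd), rfl⟩

omit hcon in
theorem odd_theta (x : G) : Odd (Nat.card (θ x)) :=
  Nat.coprime_two_right.1 (Signalizer.coprime_card_centralizerPPrimeCore x)

/-- Balance. -/
theorem balance {x y : G} (hx : orderOf x = 2) (hy : orderOf y = 2) (hxy : x * y = y * x) :
    θ x ⊓ centralizer {y} ≤ θ y := by
  obtain ⟨h2, -⟩ := orderOf_eq_prime_iff.1 hx
  rw [sq] at h2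
  refine le_theta hcon hy (isPGroup_zpowers h2)
    (zpowers_le.2 (mem_centralizer_singleton_iff.2 hxy)) inf_le_right
    ((odd_theta x).of_dvd_nat (card_dvd_of_le inf_le_left)) ?_ ?_
  · refine inf_le_left.trans (Signalizer.mem_centralizerPPrimeCore_le.trans ?_)
    rw [← normalizer_zpowers h2]
    intro c hc
    rw [normalizer_zpowers h2] at hc
    refine mem_centralizer_iff.2 fun u hu => ?_
    obtain ⟨k, rfl⟩ := mem_zpowers_iff.1 hu
    exact (Commute.zpow_left (mem_centralizer_singleton_iff.1 hc).symm k).eq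
  · intro c hc
    refine inf_normalizer_le_normalizer_inf (mem_inf.2
      ⟨Signalizer.centralizer_le_normalizer_centralizerPPrimeCore x ?_, le_normalizer hc.1⟩)
    exact mem_centralizer_singleton_iff.2 (mem_centralizer_iff.1 hc.2 x (mem_zpowers x)).symm

omit hcon in
/-- In an elementary abelian group of order at least 8 a subgroup of index at most 2 is nontrivial. -/
theorem exists_ne_one_of_relIndex {E B : Subgroup G} (h8 : 2 ^ 3 ≤ Nat.card E) (hB : B ≤ E)
    (hi : B.relIndex E ≤ 2) : ∃ b ∈ B, b ≠ 1 := by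
  by_contra h
  push Not at h
  rw [(eq_bot_iff_forall B).2 h, relIndex_bot_left] at hi
  omega

section Functor

variable {E : Subgroup G} (hE : Cfsg.IsElementaryAbelian 2 E) (h8 : 2 ^ 3 ≤ Nat.card E)
include hE h8

omit hcon h8 in
theorem invol_of_mem {a : G} (ha : a ∈ E) (ha1 : a ≠ 1) : orderOf a = 2 :=
  orderOf_eq_prime (hE.2 a ha) ha1

omit hcon h8 in
theorem le_normalizer_theta {a : G} (ha : a ∈ E) : E ≤ normalizer (θ a : Set G) :=
  (Signalizer.le_centralizer_singleton hE ha).trans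
    (Signalizer.centralizer_le_normalizer_centralizerPPrimeCore a)

/-- If a Sylow 2-subgroup normalizes no odd subgroup and normalizes `E`, the cores vanish on `E`. -/
theorem theta_eq_bot (S : Sylow 2 G) (hES : E ≤ (S : Subgroup G))
    (hSE : (S : Subgroup G) ≤ normalizer (E : Set G))
    (hinv : ∀ X : Subgroup G, Odd (Nat.card X) → (S : Subgroup G) ≤ normalizer (X : Set G) → X = ⊥)
    {a : G} (ha : a ∈ E) (ha1 : a ≠ 1) : θ a = ⊥ := by
  haveI : Fact (Nat.Prime 2) := ⟨Nat.prime_two⟩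
  have hnotdvd : ∀ x : G, ¬ 2 ∣ Nat.card (θ x) := fun x h =>
    Nat.not_even_iff_odd.2 (odd_theta x) (even_iff_two_dvd.2 h)
  -- a central involution
  haveI : Nontrivial (S : Subgroup G) := ⟨⟨a, hES ha⟩, 1, fun h => ha1 (congrArg Subtype.val h)⟩
  haveI := S.isPGroup'.center_nontrivial
  obtain ⟨n, hn⟩ := (S.isPGroup'.to_subgroup (center (S : Subgroup G))).exists_card_eq
  have h2 : 2 ∣ Nat.card (center (S : Subgroup G)) := by
    rw [hn]
    refine dvd_pow_self 2 fun h => ?_
    rw [h, pow_zero] at hn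
    exact (Finite.one_lt_card (α := center (S : Subgroup G))).ne' hn
  obtain ⟨z, hz⟩ := exists_prime_orderOf_dvd_card' 2 h2
  set w : G := ((z : (S : Subgroup G)) : G) with hwdef
  have hw : orderOf w = 2 := by rw [hwdef, Subgroup.orderOf_coe, Subgroup.orderOf_coe, hz]
  have hwS : ∀ s ∈ (S : Subgroup G), s * w = w * s := fun s hs =>
    congrArg Subtype.val (mem_center_iff.1 z.2 ⟨s, hs⟩)
  have hθw : θ w = ⊥ := hinv _ (odd_theta w) fun s hs =>
    Signalizer.centralizer_le_normalizer_centralizerPPrimeCore w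
      (mem_centralizer_singleton_iff.2 (hwS s hs))
  -- the cores on `E` are inverted by it
  have hab : ∀ e ∈ E, e ≠ 1 → ∀ x ∈ θ e, ∀ y ∈ θ e, x * y = y * x := by
    intro e he he1
    have hew : e * w = w * e := hwS e (hES he)
    have hn : ∀ u ∈ θ e, w * u * w⁻¹ ∈ θ e := fun u hu => (mem_normalizer_iff.1
      (Signalizer.centralizer_le_normalizer_centralizerPPrimeCore e
        (mem_centralizer_singleton_iff.2 hew.symm)) u).1 hu
    have hfix : ∀ u ∈ θ e, w * u = u * w → u = 1 := fun u hu hcm => by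
      have := balance hcon (invol_of_mem hE he he1) hw hew
        (mem_inf.2 ⟨hu, mem_centralizer_singleton_iff.2 hcm.symm⟩)
      rwa [hθw, mem_bot] at this
    have hi := LocalB.inverted_of_fpf (odd_theta e) (by rw [← sq, ← hw, pow_orderOf_eq_one]) hn hfix
    intro x hx y hy
    have h := hi _ (mul_mem hx hy)
    rw [show w * (x * y) * w⁻¹ = (w * x * w⁻¹) * (w * y * w⁻¹) by group, hi x hx, hi y hy,
      ← mul_inv_rev] at h
    exact (inv_injective h).symm
  let X : Set G := {x | ∃ B : Subgroup G, B ≤ E ∧ B.relIndex E ≤ 2 ∧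
    ∀ b ∈ B, b ≠ 1 → x ∈ θ b}
  have hXc : ∀ x ∈ X, ∀ y ∈ X, x * y = y * x := by
    rintro x ⟨B, hB, hBi, hx⟩ y ⟨C, hC, hCi, hy⟩
    obtain ⟨⟨e, heB, heC⟩, he1⟩ := ne_bot_iff_exists_ne_one.1
      (Signalizer.inf_ne_bot_of_relIndex hE h8 hB hC hBi hCi)
    have he1' : e ≠ 1 := fun h => he1 (Subtype.ext h)
    exact hab e (hB heB) he1' x (hx e heB he1') y (hy e heC he1')
  have hgen : ∀ e ∈ E, e ≠ 1 → θ e ≤ closure X := by
    intro e he he1
    refine Signalizer.le_of_forall_hyperplane hE (le_normalizer_theta hE he) (hnotdvd e)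
      fun B hB hBi x hx => subset_closure ⟨B, hB, hBi, fun b hb hb1 => ?_⟩
    exact balance hcon (invol_of_mem hE he he1) (invol_of_mem hE (hB hb) hb1)
      (Signalizer.commute hE he (hB hb))
      (mem_inf.2 ⟨hx.1, mem_centralizer_singleton_iff.2 (mem_centralizer_iff.1 hx.2 b hb).symm⟩)
  haveI : IsMulCommutative (closure X) := isMulCommutative_closure hXc
  have hodd : Odd (Nat.card (closure X)) := by
    have hall : ∀ x ∈ closure X, Odd (orderOf x) := fun x hx => by
      induction hx using closure_induction with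
      | mem x hx =>
        obtain ⟨B, hB, hBi, hx⟩ := hx
        obtain ⟨b, hb, hb1⟩ := exists_ne_one_of_relIndex h8 hB hBi
        exact (odd_theta b).of_dvd_nat ((θ b).orderOf_dvd_natCard (hx b hb hb1))
      | one => simp
      | mul x y hx hy ihx ihy =>
        refine (ihx.mul ihy).of_dvd_nat (Commute.orderOf_mul_dvd_mul_orderOf ?_)
        exact congrArg Subtype.val (mul_comm' (⟨x, hx⟩ : closure X) ⟨y, hy⟩)
      | inv x _ ih => rwa [orderOf_inv]
    by_contra he
    obtain ⟨u, hu⟩ := exists_prime_orderOf_dvd_card' (G := closure X) 2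
      (even_iff_two_dvd.1 (Nat.not_odd_iff_even.1 he))
    have := hall u u.2
    rw [Subgroup.orderOf_coe, hu] at this
    exact absurd this (by decide)
  let W : Subgroup G := ⨆ e : {e : G // e ∈ E ∧ e ≠ 1}, θ (e : G)
  have hW : W ≤ closure X := iSup_le fun e => hgen e e.2.1 e.2.2
  have hWn : ∀ s ∈ (S : Subgroup G), W.map (MulAut.conj s).toMonoidHom ≤ W := by
    intro s hs
    rw [Subgroup.map_iSup]
    refine iSup_le fun e => ?_
    rw [← SFTCor.centralizerPPrimeCore_conj]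
    exact le_iSup (fun e : {e : G // e ∈ E ∧ e ≠ 1} => θ (e : G))
      ⟨s * e * s⁻¹, (mem_normalizer_iff.1 (hSE hs) e).1 e.2.1, fun h => e.2.2 (conj_eq_one_iff.1 h)⟩
  have hWbot : W = ⊥ := hinv W (hodd.of_dvd_nat (card_dvd_of_le hW)) fun s hs =>
    mem_normalizer_iff.2 fun u => ⟨fun hu => hWn s hs ⟨u, hu, rfl⟩, fun hu => by
      have := hWn s⁻¹ (inv_mem hs) ⟨_, hu, rfl⟩
      simpa [mul_assoc] using this⟩
  exact le_bot_iff.1 (hWbot ▸ le_iSup (fun e : {e : G // e ∈ E ∧ e ≠ 1} => θ (e : G)) ⟨a, ha, ha1⟩)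

end Functor

/-- Every involution has trivial core in its centralizer. -/
theorem theta_invol_eq_bot {E : Subgroup G} (hE : Cfsg.IsElementaryAbelian 2 E)
    (h8 : 2 ^ 3 ≤ Nat.card E) (S : Sylow 2 G) (hES : E ≤ (S : Subgroup G))
    (hSE : (S : Subgroup G) ≤ normalizer (E : Set G))
    (hinv : ∀ X : Subgroup G, Odd (Nat.card X) → (S : Subgroup G) ≤ normalizer (X : Set G) → X = ⊥)
    {d : G} (hd : orderOf d = 2) : θ d = ⊥ := by
  haveI : Fact (Nat.Prime 2) := ⟨Nat.prime_two⟩
  obtain ⟨g, hg⟩ : ∃ g : G, g * d * g⁻¹ ∈ (S : Subgroup G) := by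
    obtain ⟨h2, -⟩ := orderOf_eq_prime_iff.1 hd
    rw [sq] at h2
    obtain ⟨Q, hQ⟩ := (isPGroup_zpowers h2).exists_le_sylow
    obtain ⟨g, rfl⟩ := MulAction.exists_smul_eq G Q S
    refine ⟨g, ?_⟩
    rw [Sylow.coe_subgroup_smul]
    exact Subgroup.smul_mem_pointwise_smul d (MulAut.conj g) _ (hQ (mem_zpowers d))
  set e := g * d * g⁻¹ with he
  suffices θ e = ⊥ by
    rw [he, SFTCor.centralizerPPrimeCore_conj] at this
    exact (map_eq_bot_iff_of_injective _ (MulAut.conj g).injective).1 this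
  have he2 : orderOf e = 2 := by rw [← hd]; exact ((MulAut.conj g).orderOf_eq d)
  have hee : e * e = 1 := by rw [← sq, ← he2, pow_orderOf_eq_one]
  have hei : e⁻¹ = e := inv_eq_of_mul_eq_one_right hee
  have hn : ∀ u ∈ E, e * u * e⁻¹ ∈ E := fun u hu => (mem_normalizer_iff.1 (hSE hg) u).1 hu
  let φ : E →* E := MonoidHom.mk' (fun u => u * ⟨e * u * e⁻¹, hn u u.2⟩) fun u v => Subtype.ext (by
    show (u : G) * v * (e * (u * v) * e⁻¹) = u * (e * u * e⁻¹) * (v * (e * v * e⁻¹))
    have := Signalizer.commute hE (v.2 : (v : G) ∈ E) (hn u u.2)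
    calc (u : G) * v * (e * (u * v) * e⁻¹) = u * (v * (e * u * e⁻¹)) * (e * v * e⁻¹) := by group
      _ = u * ((e * u * e⁻¹) * v) * (e * v * e⁻¹) := by rw [this]
      _ = _ := by group)
  have hsub : φ.range ≤ φ.ker := by
    rintro _ ⟨u, rfl⟩
    refine Subtype.ext ?_
    show (u : G) * (e * u * e⁻¹) * (e * ((u : G) * (e * u * e⁻¹)) * e⁻¹) = 1
    have h1 : e * ((u : G) * (e * u * e⁻¹)) * e⁻¹ = e * u * e⁻¹ * u := by
      rw [hei]
      calc e * ((u : G) * (e * u * e)) * e = e * u * e * u * (e * e) := by group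
        _ = _ := by rw [hee, mul_one]
    rw [h1, show (u : G) * (e * u * e⁻¹) * (e * u * e⁻¹ * u) =
      u * ((e * u * e⁻¹) * (e * u * e⁻¹)) * u by group, ← sq (e * u * e⁻¹), hE.2 _ (hn u u.2),
      mul_one, ← sq, hE.2 _ u.2]
  set K := φ.ker.map E.subtype with hK
  have hKE : K ≤ E := map_subtype_le _
  have hKc : ∀ k ∈ K, k * e = e * k := by
    rintro _ ⟨k, hk, rfl⟩
    have h : (k : G) * (e * k * e⁻¹) = 1 := congrArg Subtype.val hk
    have h2 : e * (k : G) * e⁻¹ = k := by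
      rw [eq_inv_of_mul_eq_one_right h]
      exact inv_eq_of_mul_eq_one_right (by rw [← sq]; exact hE.2 _ k.2)
    exact (mul_inv_eq_iff_eq_mul.1 h2).symm
  have hK4 : 2 ^ 2 ≤ Nat.card K := by
    rw [hK, card_map_of_injective (subtype_injective _)]
    have h1 : Nat.card φ.ker * Nat.card φ.range = Nat.card E := by
      rw [← index_ker, card_mul_index]
    have h3 : Nat.card φ.range ≤ Nat.card φ.ker := Subgroup.card_le_of_le hsub
    obtain ⟨k, hk⟩ := ((Signalizer.isPGroup hE).to_subgroup φ.ker).exists_card_eq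
    have h4 : 2 ^ 3 ≤ 2 ^ k * 2 ^ k :=
      hk ▸ h8.trans (h1 ▸ Nat.mul_le_mul_left _ h3)
    rw [← pow_add] at h4
    rw [hk]
    have := (Nat.pow_le_pow_iff_right (le_refl 2)).1 h4
    exact Nat.pow_le_pow_right two_pos (by omega)
  have hKn : K ≤ normalizer (θ e : Set G) := fun k hk =>
    Signalizer.centralizer_le_normalizer_centralizerPPrimeCore e
      (mem_centralizer_singleton_iff.2 (hKc k hk))
  refine le_bot_iff.1 (Signalizer.le_of_forall_centralizer hE hKE hK4 hKn
    (fun h => Nat.not_even_iff_odd.2 (odd_theta e) (even_iff_two_dvd.2 h)) fun b hb hb1 => ?_)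
  rw [← theta_eq_bot hcon hE h8 S hES hSE hinv (hKE hb) hb1]
  exact balance hcon he2 (invol_of_mem hE (hKE hb) hb1) (hKc b hb).symm

/-! ### Locals -/

omit hcon in
theorem exists_central_invol {T : Subgroup G} (hT : IsPGroup 2 T) (hT1 : T ≠ ⊥) :
    ∃ d ∈ T, orderOf d = 2 ∧ ∀ t ∈ T, t * d = d * t := by
  haveI : Fact (Nat.Prime 2) := ⟨Nat.prime_two⟩
  haveI : Nontrivial T := (nontrivial_iff_ne_bot T).2 hT1
  haveI := hT.center_nontrivial
  obtain ⟨n, hn⟩ := (hT.to_subgroup (center T)).exists_card_eq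
  have h2 : 2 ∣ Nat.card (center T) := by
    rw [hn]
    refine dvd_pow_self 2 fun h => ?_
    rw [h, pow_zero] at hn
    exact (Finite.one_lt_card (α := center T)).ne' hn
  obtain ⟨z, hz⟩ := exists_prime_orderOf_dvd_card' 2 h2
  exact ⟨((z : T) : G), (z : T).2, by rw [Subgroup.orderOf_coe, Subgroup.orderOf_coe, hz],
    fun t ht => congrArg Subtype.val (mem_center_iff.1 z.2 ⟨t, ht⟩)⟩

/-- A local subgroup has trivial odd core. -/
theorem oddCore_local (hθ : ∀ d : G, orderOf d = 2 → θ d = ⊥) {T : Subgroup G}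
    (hT : IsPGroup 2 T) (hT1 : T ≠ ⊥) : Cfsg.oddCore ↥(normalizer (T : Set G)) = ⊥ := by
  set M := normalizer (T : Set G)
  set O := (Cfsg.oddCore ↥M).map M.subtype with hO
  have hOM : O ≤ M := map_subtype_le _
  have hMO : M ≤ normalizer (O : Set G) := by
    have h := le_normalizer_map (H := Cfsg.oddCore ↥M) M.subtype
    rw [normalizer_eq_top, ← MonoidHom.range_eq_map, range_subtype] at h
    exact h
  have hodd : Odd (Nat.card O) := by
    rw [hO, card_map_of_injective (subtype_injective _)]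
    exact LocalB.odd_card_oddCore
  have hTM : T ≤ M := le_normalizer
  have hcomm : ∀ o ∈ O, ∀ t ∈ T, o * t = t * o := by
    intro o ho t ht
    have h1 : ⁅o, t⁆ ∈ T := by
      rw [commutatorElement_def]
      exact mul_mem ((mem_normalizer_iff.1 (hOM ho) t).1 ht) (inv_mem ht)
    have h2 : ⁅o, t⁆ ∈ O := by
      rw [show ⁅o, t⁆ = o * (t * o⁻¹ * t⁻¹) by simp [commutatorElement_def, mul_assoc]]
      exact mul_mem ho ((mem_normalizer_iff.1 (hMO (hTM ht)) o⁻¹).1 (inv_mem ho))
    exact commutatorElement_eq_one_iff_mul_comm.1 (LocalB.eq_one_of_odd_pgroup_two hodd hT h2 h1)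
  obtain ⟨d, hdT, hd, hdc⟩ := exists_central_invol hT hT1
  have h : O ≤ θ d := by
    refine le_theta hcon hd hT (fun t ht => mem_centralizer_singleton_iff.2 (hdc t ht))
      (fun o ho => mem_centralizer_singleton_iff.2 (hcomm o ho d hdT)) hodd
      (fun o ho => mem_centralizer_iff.2 fun t ht => (hcomm o ho t ht).symm) ?_
    exact inf_le_right.trans ((centralizer_le_normalizer _).trans hMO)
  rw [hθ d hd] at h
  exact (map_eq_bot_iff_of_injective _ (subtype_injective _)).1 (le_bot_iff.1 h)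

/-- A local subgroup is of characteristic 2. -/
theorem centralizer_pCore_local (hθ : ∀ d : G, orderOf d = 2 → θ d = ⊥) {T : Subgroup G}
    (hT : IsPGroup 2 T) (hT1 : T ≠ ⊥) :
    centralizer (Cfsg.pCore 2 ↥(normalizer (T : Set G)) : Set ↥(normalizer (T : Set G))) ≤
      Cfsg.pCore 2 ↥(normalizer (T : Set G)) := by
  haveI : Fact (Nat.Prime 2) := ⟨Nat.prime_two⟩
  set M := normalizer (T : Set G)
  have hbot : Cfsg.pPrimeCore 2 ↥M = ⊥ := oddCore_local hcon hθ hT hT1
  intro x hx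
  set f := QuotientGroup.mk' (Cfsg.pPrimeCore 2 ↥M)
  have hinj : Function.Injective f := (MonoidHom.ker_eq_bot_iff f).1 (by rw [QuotientGroup.ker_mk', hbot])
  let e : ↥M ≃* ↥M ⧸ Cfsg.pPrimeCore 2 ↥M :=
    MulEquiv.ofBijective f ⟨hinj, QuotientGroup.mk'_surjective _⟩
  have hmap : (Cfsg.pCore 2 ↥M).map (e : ↥M →* ↥M ⧸ Cfsg.pPrimeCore 2 ↥M) =
      Cfsg.pCore 2 (↥M ⧸ Cfsg.pPrimeCore 2 ↥M) := PConstrained.map_pCore_equiv e
  have h1 : e x ∈ centralizer
      (Cfsg.pCore 2 (↥M ⧸ Cfsg.pPrimeCore 2 ↥M) : Set (↥M ⧸ Cfsg.pPrimeCore 2 ↥M)) := by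
    refine mem_centralizer_iff.2 fun u hu => ?_
    rw [← hmap] at hu
    obtain ⟨v, hv, rfl⟩ := hu
    show e v * e x = e x * e v
    rw [← map_mul, ← map_mul, mem_centralizer_iff.1 hx v hv]
  have h2 := ZJ.centralizer_pCore_quotient_le (hcon T hT hT1) h1
  rw [← hmap] at h2
  obtain ⟨v, hv, hve⟩ := h2
  exact e.injective hve ▸ hv

/-! ### The maximal locals -/

omit hcon in
theorem exists_maximal {T : Subgroup G} (hT : IsPGroup 2 T) (hT1 : T ≠ ⊥) :
    ∃ M : Subgroup G, Cfsg.IsMaximalTwoLocal M ∧ normalizer (T : Set G) ≤ M := by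
  obtain ⟨M, hTM, hM⟩ := Finite.exists_le_maximal (p := fun N : Subgroup G => Cfsg.IsTwoLocal N)
    ⟨T, hT, hT1, rfl⟩
  exact ⟨M, ⟨hM.1, fun N hN hle => le_antisymm (hM.2 hN hle) hle⟩, hTM⟩

omit hcon in
theorem isTwoLocal_centralizer {d : G} (hd : orderOf d = 2) :
    Cfsg.IsTwoLocal (centralizer ({d} : Set G)) := by
  obtain ⟨h2, h1⟩ := orderOf_eq_prime_iff.1 hd
  rw [sq] at h2
  exact ⟨zpowers d, isPGroup_zpowers h2, fun h => h1 (zpowers_eq_bot.1 h), (normalizer_zpowers h2).symm⟩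

omit hcon in
/-- An involution central in some Sylow 2-subgroup. -/
def Central (d : G) : Prop :=
  orderOf d = 2 ∧ ∃ S : Sylow 2 G, d ∈ (S : Subgroup G) ∧ ∀ s ∈ (S : Subgroup G), s * d = d * s

omit hcon in
theorem Central.conj {d : G} (h : Central d) (g : G) : Central (g * d * g⁻¹) := by
  obtain ⟨hd, S, hdS, hc⟩ := h
  refine ⟨by rw [← hd]; exact ((MulAut.conj g).orderOf_eq d), g • S, ?_, ?_⟩
  · rw [Sylow.coe_subgroup_smul]
    exact Subgroup.smul_mem_pointwise_smul d (MulAut.conj g) _ hdS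
  · intro s hs
    rw [Sylow.coe_subgroup_smul, Subgroup.mem_pointwise_smul_iff_inv_smul_mem] at hs
    have h : g⁻¹ * s * g * d = d * (g⁻¹ * s * g) := hc _ (by simpa [mul_assoc] using hs)
    calc s * (g * d * g⁻¹) = g * (g⁻¹ * s * g * d) * g⁻¹ := by group
      _ = g * (d * (g⁻¹ * s * g)) * g⁻¹ := by rw [h]
      _ = g * d * g⁻¹ * s := by group

section Main

variable (hθ : ∀ d : G, orderOf d = 2 → θ d = ⊥)
  (hcyc : ∀ M : Subgroup G, Cfsg.IsMaximalTwoLocal M → IsCyclic ↥(center ↥(Cfsg.pCore 2 ↥M)))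
include hθ hcyc

/-- A maximal local is the centralizer of the only involution in the centre of its core. -/
theorem maximal_cases {M : Subgroup G} (hM : Cfsg.IsMaximalTwoLocal M) :
    ∃ d : G, orderOf d = 2 ∧ d ∈ M ∧ M = centralizer {d} ∧
      ∀ w : G, orderOf w = 2 → w ∈ M →
        (∀ u ∈ (Cfsg.pCore 2 ↥M).map M.subtype, u * w = w * u) → w = d := by
  haveI : Fact (Nat.Prime 2) := ⟨Nat.prime_two⟩
  have hmax := hM
  obtain ⟨⟨T, hT, hT1, rfl⟩, hup⟩ := hM
  set M := normalizer (T : Set G)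
  set F := Cfsg.pCore 2 ↥M
  have hF : IsPGroup 2 F := CfsgLib.Solvable.isPGroup_pCore 2
  have hFn : F.Normal := CfsgLib.Solvable.pCore_normal 2
  have hF1 : F ≠ ⊥ := by
    intro h
    have hle : T.subgroupOf M ≤ F := by
      refine CfsgLib.Solvable.le_pCore 2 ?_ (hT.of_injective
        (subgroupOfEquivOfLe (le_normalizer : T ≤ M)).toMonoidHom
        (subgroupOfEquivOfLe (le_normalizer : T ≤ M)).injective)
      exact Subgroup.normal_subgroupOf_iff_le_normalizer (le_normalizer) |>.2 le_rfl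
    rw [h, le_bot_iff, subgroupOf_eq_bot] at hle
    exact hT1 (hle.eq_bot_of_le le_normalizer)
  obtain ⟨d, hdF, hd, hdc⟩ := exists_central_invol hF hF1
  haveI := hcyc _ hmax
  have hkey : ∀ w : ↥M, orderOf w = 2 → (∀ u ∈ F, u * w = w * u) → w = d := by
    intro w hw hwc
    have hwF : w ∈ F := centralizer_pCore_local hcon hθ hT hT1 (mem_centralizer_iff.2 hwc)
    let d' : center F := ⟨⟨d, hdF⟩, mem_center_iff.2 fun u => Subtype.ext (hdc u u.2)⟩
    let w' : center F := ⟨⟨w, hwF⟩, mem_center_iff.2 fun u => Subtype.ext (hwc u u.2)⟩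
    have h : w' = d' := InvChar.cyclic_involution_unique
      (by rw [← hd]; simp [d', ← Subgroup.orderOf_coe])
      (by rw [← hw]; simp [w', ← Subgroup.orderOf_coe])
    exact congrArg (fun v : center F => ((v : F) : ↥M)) h
  have hd' : orderOf (d : G) = 2 := by rw [Subgroup.orderOf_coe, hd]
  have hMd : M ≤ centralizer {(d : G)} := by
    intro m hm
    have h := hkey (⟨m, hm⟩ * d * ⟨m, hm⟩⁻¹) (by rw [← hd]; exact ((MulAut.conj (⟨m, hm⟩ : ↥M)).orderOf_eq d))
      fun u hu => by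
        set m' : ↥M := ⟨m, hm⟩
        have h1 := hdc (m'⁻¹ * u * m') (by simpa using hFn.conj_mem u hu m'⁻¹)
        calc u * (m' * d * m'⁻¹) = m' * (m'⁻¹ * u * m' * d) * m'⁻¹ := by group
          _ = m' * (d * (m'⁻¹ * u * m')) * m'⁻¹ := by rw [h1]
          _ = m' * d * m'⁻¹ * u := by group
    exact mem_centralizer_singleton_iff.2 (mul_inv_eq_iff_eq_mul.1 (congrArg Subtype.val h))
  refine ⟨d, hd', d.2, (hup _ (isTwoLocal_centralizer hd') hMd).symm, fun w hw hwM hwc => ?_⟩
  exact congrArg Subtype.val (hkey ⟨w, hwM⟩ (by rw [← hw, Subgroup.orderOf_mk]) fun u hu =>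
    Subtype.ext (hwc u ⟨u, hu, rfl⟩))

omit hcon hθ hcyc in
theorem pCore_le_of_card {M : Subgroup G} {Q : Sylow 2 G} (hQ : (Q : Subgroup G) ≤ M) :
    (Cfsg.pCore 2 ↥M).map M.subtype ≤ (Q : Subgroup G) := by
  haveI : Fact (Nat.Prime 2) := ⟨Nat.prime_two⟩
  rintro _ ⟨u, hu, rfl⟩
  exact CfsgLib.Fitting.pCore_le_sylow (Q.subtype hQ) hu

/-- A Sylow 2-subgroup has only one central involution. -/
theorem central_unique (S : Sylow 2 G) {w w' : G} (hw : orderOf w = 2) (hw' : orderOf w' = 2)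
    (hwS : w ∈ (S : Subgroup G)) (hw'S : w' ∈ (S : Subgroup G))
    (hc : ∀ s ∈ (S : Subgroup G), s * w = w * s) (hc' : ∀ s ∈ (S : Subgroup G), s * w' = w' * s) :
    w = w' := by
  have hS1 : (S : Subgroup G) ≠ ⊥ := fun h => by
    rw [h, mem_bot] at hwS
    rw [hwS, orderOf_one] at hw
    omega
  obtain ⟨M, hM, hle⟩ := exists_maximal S.isPGroup' hS1
  have hSM : (S : Subgroup G) ≤ M := le_normalizer.trans hle
  obtain ⟨d, -, -, -, hu⟩ := maximal_cases hcon hθ hcyc hM
  rw [hu w hw (hSM hwS) fun u hu => hc u (pCore_le_of_card hSM hu),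
    hu w' hw' (hSM hw'S) fun u hu => hc' u (pCore_le_of_card hSM hu)]

/-- Every local lies in the centralizer of a 2-central involution. -/
theorem exists_central_over {T : Subgroup G} (hT : IsPGroup 2 T) (hT1 : T ≠ ⊥) :
    ∃ d, Central d ∧ normalizer (T : Set G) ≤ centralizer {d} := by
  haveI : Fact (Nat.Prime 2) := ⟨Nat.prime_two⟩
  obtain ⟨M, hM, hle⟩ := exists_maximal hT hT1
  obtain ⟨d, hd, hdM, rfl, hu⟩ := maximal_cases hcon hθ hcyc hM
  refine ⟨d, ⟨hd, ?_⟩, hle⟩
  obtain ⟨U⟩ := (inferInstance : Nonempty (Sylow 2 ↥(centralizer ({d} : Set G))))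
  set U' := (U : Subgroup ↥(centralizer ({d} : Set G))).map (centralizer ({d} : Set G)).subtype with hU'
  have hU'p : IsPGroup 2 U' := U.isPGroup'.map _
  obtain ⟨S, hS⟩ := hU'p.exists_le_sylow
  haveI hn : (zpowers (⟨d, hdM⟩ : ↥(centralizer ({d} : Set G)))).Normal := ⟨fun n hn g => by
    obtain ⟨k, rfl⟩ := mem_zpowers_iff.1 hn
    have hg : Commute g (⟨d, hdM⟩ : ↥(centralizer ({d} : Set G))) :=
      Subtype.ext (mem_centralizer_singleton_iff.1 g.2)
    rw [(hg.zpow_right k).eq, mul_inv_cancel_right]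
    exact zpow_mem (mem_zpowers _) k⟩
  have hdU : (⟨d, hdM⟩ : ↥(centralizer ({d} : Set G))) ∈ (U : Subgroup _) := by
    refine CfsgLib.Fitting.pCore_le_sylow U (CfsgLib.Solvable.le_pCore 2 hn ?_ (mem_zpowers _))
    refine isPGroup_zpowers (Subtype.ext ?_)
    show d * d = 1
    rw [← sq, ← hd, pow_orderOf_eq_one]
  haveI : Nontrivial (S : Subgroup G) := by
    refine ⟨⟨d, hS ⟨_, hdU, rfl⟩⟩, 1, fun h => ?_⟩
    have : d = 1 := congrArg Subtype.val h
    rw [this, orderOf_one] at hd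
    omega
  obtain ⟨w, hwS, hw, hwc⟩ := exists_central_invol S.isPGroup' ((nontrivial_iff_ne_bot _).1 this)
  have hwd : w * d = d * w := (hwc d (hS ⟨_, hdU, rfl⟩)).symm
  have hwd' := hu w hw (mem_centralizer_singleton_iff.2 hwd) fun u hu' => by
    obtain ⟨v, hv, rfl⟩ := hu'
    exact hwc v (hS ⟨v, CfsgLib.Fitting.pCore_le_sylow U hv, rfl⟩)
  exact ⟨S, hwd' ▸ hwS, hwd' ▸ hwc⟩

/-- Two 2-central involutions never commute. -/
theorem central_not_commute {z t : G} (hz : Central z) (ht : Central t) (hzt : z * t = t * z) : z = t := by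
  haveI : Fact (Nat.Prime 2) := ⟨Nat.prime_two⟩
  by_contra hne
  classical
  haveI : Finite (G × G × Subgroup G) := inferInstance
  let P : Set (G × G × Subgroup G) := {q | Central q.1 ∧ Central q.2.1 ∧ q.1 ≠ q.2.1 ∧
    q.1 * q.2.1 = q.2.1 * q.1 ∧ IsPGroup 2 q.2.2 ∧ q.2.2 ≤ centralizer {q.1} ⊓ centralizer {q.2.1}}
  have hP : P.Nonempty := ⟨(z, t, ⊥), hz, ht, hne, hzt, IsPGroup.of_bot, bot_le⟩
  obtain ⟨⟨a, b, R⟩, hq, hmax⟩ :=
    P.exists_max_image (fun q => Nat.card q.2.2) (Set.toFinite P) hP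
  obtain ⟨ha, hb, hab, hcomm, hR, hRle⟩ := hq
  simp only at hmax hRle hR hcomm hab
  have hbig : ∀ x : G, orderOf x = 2 → x ∈ centralizer {a} ⊓ centralizer {b} →
      (∀ r ∈ R, r * x = x * r) → x ∈ R := by
    intro x hx hxC hxR
    by_contra hxn
    have hxx : x * x = 1 := by rw [← sq, ← hx, pow_orderOf_eq_one]
    have hn : R ≤ normalizer ((zpowers x : Subgroup G) : Set G) := fun r hr => by
      rw [normalizer_zpowers hxx]
      exact mem_centralizer_singleton_iff.2 (hxR r hr)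
    have h2 : IsPGroup 2 ↥(R ⊔ zpowers x) := hR.to_sup_of_normal_right' (isPGroup_zpowers hxx) hn
    have hlt : R < R ⊔ zpowers x := lt_of_le_of_ne le_sup_left fun h =>
      hxn (h ▸ mem_sup_right (mem_zpowers x))
    have h3 := hmax (a, b, R ⊔ zpowers x) ⟨ha, hb, hab, hcomm, h2, sup_le hRle (zpowers_le.2 hxC)⟩
    exact absurd (Subgroup.eq_of_le_of_card_ge hlt.le h3) hlt.ne
  have haR : a ∈ R := hbig a ha.1 ⟨mem_centralizer_singleton_iff.2 rfl, mem_centralizer_singleton_iff.2 hcomm⟩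
    fun r hr => mem_centralizer_singleton_iff.1 (hRle hr).1
  have hbR : b ∈ R := hbig b hb.1 ⟨mem_centralizer_singleton_iff.2 hcomm.symm, mem_centralizer_singleton_iff.2 rfl⟩
    fun r hr => mem_centralizer_singleton_iff.1 (hRle hr).2
  have hR1 : R ≠ ⊥ := fun h => by
    have h' := ha.1
    rw [h, mem_bot] at haR
    rw [haR, orderOf_one] at h'
    omega
  obtain ⟨d, hd, hdle⟩ := exists_central_over hcon hθ hcyc hR hR1
  have hstep : ∀ c : G, Central c → c ∈ R → R ≤ centralizer {c} →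
      (∃ c', Central c' ∧ c' ∈ R ∧ c' ≠ c ∧ R ≤ centralizer {c'}) → d = c := by
    intro c hc hcR hRc hex
    by_contra hdc
    obtain ⟨c', hc', hc'R, hcc', hRc'⟩ := hex
    -- a Sylow subgroup of `C(c)` over `R`
    obtain ⟨hc2, S₀, hcS₀, hcc⟩ := hc
    have hS₀ : (S₀ : Subgroup G) ≤ centralizer {c} := fun s hs =>
      mem_centralizer_singleton_iff.2 (hcc s hs)
    obtain ⟨Q, hQ⟩ := (hR.of_injective (subgroupOfEquivOfLe hRc).toMonoidHom
      (subgroupOfEquivOfLe hRc).injective).exists_le_sylow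
    set Q' := (Q : Subgroup ↥(centralizer ({c} : Set G))).map (centralizer ({c} : Set G)).subtype with hQ'
    have hQc : Nat.card Q' = Nat.card (S₀ : Subgroup G) := by
      obtain ⟨g, rfl⟩ := MulAction.exists_smul_eq ↥(centralizer ({c} : Set G)) (S₀.subtype hS₀) Q
      rw [hQ', card_map_of_injective (subtype_injective _), Sylow.coe_subgroup_smul]
      rw [Nat.card_congr (Subgroup.equivSMul (MulAut.conj g) _).symm.toEquiv, Sylow.coe_subtype,
        Nat.card_congr (subgroupOfEquivOfLe hS₀).toEquiv]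
    have hQp : IsPGroup 2 Q' := Q.isPGroup'.map _
    have hQle : Q' ≤ centralizer {c} := map_subtype_le _
    let S : Sylow 2 G := Sylow.ofCard Q' (by rw [hQc]; exact S₀.card_eq_multiplicity)
    have hSQ : (S : Subgroup G) = Q' := Sylow.coe_ofCard _ _
    have hRQ : R ≤ Q' := fun r hr => ⟨⟨r, hRc hr⟩, hQ hr, rfl⟩
    have hne' : R ≠ Q' := by
      intro h
      refine hcc' (central_unique hcon hθ hcyc S hc'.1 hc2 ?_ ?_ ?_ ?_)
      · rw [hSQ]
        exact hRQ hc'R
      · rw [hSQ]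
        exact hRQ hcR
      · intro s hs
        rw [hSQ] at hs
        exact mem_centralizer_singleton_iff.1 (hRc' (h ▸ hs : s ∈ R))
      · intro s hs
        rw [hSQ] at hs
        exact mem_centralizer_singleton_iff.1 (hQle hs)
    have hlt : R < Q' ⊓ normalizer (R : Set G) := by
      haveI := hQp.isNilpotent
      have h1 : R.subgroupOf Q' < normalizer ((R.subgroupOf Q' : Subgroup Q') : Set Q') :=
        Group.normalizerCondition_of_isNilpotent _ (lt_top_iff_ne_top.2 fun h =>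
          hne' (le_antisymm hRQ (subgroupOf_eq_top.1 h)))
      obtain ⟨x, hx, hxR⟩ := SetLike.exists_of_lt h1
      refine lt_of_le_of_ne (le_inf hRQ le_normalizer) fun h => hxR ?_
      show (x : G) ∈ R
      rw [h]
      refine ⟨x.2, mem_normalizer_iff.2 fun r => ⟨fun hr => ?_, fun hr => ?_⟩⟩
      · exact (mem_normalizer_iff.1 hx ⟨r, hRQ hr⟩).1 hr
      · have hrQ : r ∈ Q' := by
          have := mul_mem (mul_mem (inv_mem x.2) (hRQ hr)) x.2
          simpa [mul_assoc] using this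
        exact (mem_normalizer_iff.1 hx ⟨r, hrQ⟩).2 hr
    have hcd : c * d = d * c := mem_centralizer_singleton_iff.1 (hdle (le_normalizer hcR))
    have h3 := hmax (c, d, Q' ⊓ normalizer (R : Set G))
      ⟨⟨hc2, S₀, hcS₀, hcc⟩, hd, fun e => hdc e.symm, hcd, hQp.to_le inf_le_left,
        le_inf (inf_le_left.trans hQle) (inf_le_right.trans hdle)⟩
    exact absurd (Subgroup.eq_of_le_of_card_ge hlt.le h3) hlt.ne
  have hRa : R ≤ centralizer {a} := hRle.trans inf_le_left
  have hRb : R ≤ centralizer {b} := hRle.trans inf_le_right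
  exact hab ((hstep a ha haR hRa ⟨b, hb, hbR, hab.symm, hRb⟩).symm.trans
    (hstep b hb hbR hRb ⟨a, ha, haR, hab, hRa⟩))

end Main

/-- Some maximal 2-local has a core with noncyclic centre. -/
theorem main [IsSimpleGroup G] (hG : ¬ IsMulCommutative G) {E : Subgroup G}
    (hE : Cfsg.IsElementaryAbelian 2 E) (h8 : 2 ^ 3 ≤ Nat.card E) (S : Sylow 2 G)
    (hES : E ≤ (S : Subgroup G)) (hSE : (S : Subgroup G) ≤ normalizer (E : Set G))
    (hinv : ∀ X : Subgroup G, Odd (Nat.card X) → (S : Subgroup G) ≤ normalizer (X : Set G) → X = ⊥) :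
    ∃ M : Subgroup G, Cfsg.IsMaximalTwoLocal M ∧ ¬ IsCyclic ↥(center ↥(Cfsg.pCore 2 ↥M)) := by
  by_contra hno
  push Not at hno
  haveI : Fact (Nat.Prime 2) := ⟨Nat.prime_two⟩
  have hθ : ∀ d : G, orderOf d = 2 → θ d = ⊥ :=
    fun d hd => theta_invol_eq_bot hcon hE h8 S hES hSE hinv hd
  obtain ⟨e, heE, he1⟩ := exists_ne_one_of_relIndex (E := E) h8 le_rfl (by simp)
  have hS1 : (S : Subgroup G) ≠ ⊥ := fun h => he1 (by have := hES heE; rwa [h, mem_bot] at this)
  obtain ⟨z, hzS, hz, hzc⟩ := exists_central_invol S.isPGroup' hS1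
  have hzC : Central z := ⟨hz, S, hzS, hzc⟩
  have hiso : Cfsg.IsIsolatedInvolution z := ⟨hz, fun g hg => by
    exact (central_not_commute hcon hθ hno hzC (hzC.conj g) hg).symm⟩
  have hO : Cfsg.oddCore G = ⊥ := by
    refine ((Solvable.pPrimeCore_normal 2).eq_bot_or_eq_top).resolve_right fun h => ?_
    have h2 := IsoApps.odd_oddCore (G := G)
    have h2' : Odd (Nat.card (Cfsg.pPrimeCore 2 G)) := h2
    rw [h] at h2'
    exact Nat.not_even_iff_odd.2 h2' (even_iff_two_dvd.2 (by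
      rw [← hz]; exact Subgroup.orderOf_dvd_natCard _ (mem_top z)))
  have hzZ : z ∈ center G := mem_center_iff.2 fun g => by
    have := IsoApps.comm_mem_oddCore hiso g
    rw [hO, mem_bot] at this
    exact (mul_inv_eq_iff_eq_mul.1 (mul_inv_eq_one.1 this)).symm
  rcases (inferInstance : (center G).Normal).eq_bot_or_eq_top with h | h
  · rw [h, mem_bot] at hzZ
    rw [hzZ, orderOf_one] at hz
    omega
  · refine hG ⟨⟨fun x y => (mem_center_iff.1 (h ▸ mem_top x : x ∈ center G) y).symm⟩⟩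

end CfsgLib.CyclicCentreLocal
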