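import Mathlib
import Cfsg.Agent.Invol.ThompsonTransfer
import Cfsg.Agent.Solvable.PGroupBasic

/-!
A four-group acting on a perfect group so that the centralizers of its involutions contain at most
one involution up to commuting pairs: then the group has 2-rank at most one.
-/

set_option autoImplicit false
set_option linter.unusedSectionVars false
set_option linter.style.haveILetI false

namespace CfsgLib.FourRankOne

open Subgroup

variable {X : Type*} [Group X] [Finite X]

/-- A 2-subgroup of `C` is conjugate in `C` into a 2-subgroup `T` of odd index in `C`. -/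
theorem conj_into {T C P : Subgroup X} (hTC : T ≤ C) (hT : IsPGroup 2 T) (hodd : Odd (T.relIndex C))
    (hPC : P ≤ C) (hP : IsPGroup 2 P) : ∃ g ∈ C, ∀ x ∈ P, g * x * g⁻¹ ∈ T := by
  haveI := Fact.mk Nat.prime_two
  set S : Sylow 2 C := (hT.comap_subtype (K := C)).toSylow
    (fun h => Nat.not_even_iff_odd.2 hodd (even_iff_two_dvd.2 h)) with hS
  obtain ⟨Q, hQ⟩ := (hP.comap_subtype (K := C)).exists_le_sylow
  obtain ⟨g, hg⟩ := MulAction.exists_smul_eq C Q S
  refine ⟨g, g.2, fun x hx => ?_⟩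
  have h1 : (⟨x, hPC hx⟩ : C) ∈ (Q : Subgroup C) := hQ hx
  have h2 : g * ⟨x, hPC hx⟩ * g⁻¹ ∈ ((g • Q : Sylow 2 C) : Subgroup C) := by
    rw [Sylow.coe_subgroup_smul]
    exact Subgroup.smul_mem_pointwise_smul _ (MulAut.conj g) _ h1
  rw [hg] at h2
  exact h2

/-- Two elements with square one that commute generate a 2-group. -/
theorem isPGroup_pair {x y : X} (hx : x * x = 1) (hy : y * y = 1) (hc : Commute x y) :
    IsPGroup 2 (closure ({x, y} : Set X)) := by
  have h : ∀ w ∈ closure ({x, y} : Set X), Commute w x ∧ Commute w y ∧ w * w = 1 := by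
    intro w hw
    induction hw using closure_induction with
    | mem a ha =>
      rcases ha with rfl | ha
      · exact ⟨Commute.refl _, hc, hx⟩
      · rw [Set.mem_singleton_iff] at ha; subst ha; exact ⟨hc.symm, Commute.refl _, hy⟩
    | one => simp
    | mul a b ha hb iha ihb =>
      refine ⟨iha.1.mul_left ihb.1, iha.2.1.mul_left ihb.2.1, ?_⟩
      have hab : Commute a b := by
        have hle : closure ({x, y} : Set X) ≤ centralizer {a} := by
          rw [closure_le]
          rintro c (rfl | hc')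
          · exact mem_centralizer_iff.2 fun d hd => by
              rw [Set.mem_singleton_iff.1 hd]; exact iha.1
          · rw [Set.mem_singleton_iff] at hc'; subst hc'
            exact mem_centralizer_iff.2 fun d hd => by
              rw [Set.mem_singleton_iff.1 hd]; exact iha.2.1
        exact mem_centralizer_iff.1 (hle hb) a rfl
      calc a * b * (a * b) = a * (b * a) * b := by group
        _ = a * (a * b) * b := by rw [hab.eq]
        _ = (a * a) * (b * b) := by group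
        _ = 1 := by rw [iha.2.2, ihb.2.2, one_mul]
    | inv a ha iha =>
      exact ⟨iha.1.inv_left, iha.2.1.inv_left, by rw [← mul_inv_rev, iha.2.2, inv_one]⟩
  intro w
  refine ⟨1, Subtype.ext ?_⟩
  simpa [pow_two] using (h w.1 w.2).2.2

/-- In a finite cyclic 2-group with an element `c` of order 4, every element whose fourth power is
one is a power of `c`. -/
theorem mem_zpowers_four {R : Subgroup X} {r c : X} (hR : R = zpowers r) {k : ℕ}
    (hk : orderOf r = 2 ^ (k + 2)) (hc : c = r ^ (2 ^ k)) {w : X} (hw : w ∈ R)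
    (hw4 : w ^ 4 = 1) : w ∈ zpowers c := by
  rw [hR, mem_zpowers_iff] at hw
  obtain ⟨n, rfl⟩ := hw
  rw [← zpow_natCast (r ^ n) 4, ← zpow_mul, ← orderOf_dvd_iff_zpow_eq_one, hk] at hw4
  have h : ((2 ^ k : ℕ) : ℤ) ∣ n := by
    rw [pow_add] at hw4
    push_cast at hw4 ⊢
    norm_num at hw4
    exact Int.dvd_of_mul_dvd_mul_right (by norm_num) hw4
  obtain ⟨j, rfl⟩ := h
  exact mem_zpowers_iff.2 ⟨j, by rw [hc, ← zpow_natCast, ← zpow_mul]⟩

/-- **Main lemma.** -/
theorem eq_of_commute (A : Subgroup X) [hAn : A.Normal] (hperf : ⁅A, A⁆ = A)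
    (U : Subgroup X) (hU4 : 4 ≤ Nat.card U) (hU2 : ∀ u ∈ U, u * u = 1)
    (S : Subgroup X) (hS2 : IsPGroup 2 S) (hUS : U ≤ S) (hTodd : Odd ((A ⊓ S).relIndex A))
    (hF : ∀ x y : X, x ∈ A → y ∈ A → x * x = 1 → y * y = 1 → x ≠ 1 → y ≠ 1 →
      (∃ u ∈ U, u ≠ 1 ∧ Commute x u) → (∃ u ∈ U, u ≠ 1 ∧ Commute y u) → Commute x y → x = y)
    {x₀ y₀ : X} (hx₀ : x₀ ∈ A) (hy₀ : y₀ ∈ A) (hx₀2 : x₀ * x₀ = 1) (hy₀2 : y₀ * y₀ = 1)
    (hx₀1 : x₀ ≠ 1) (hy₀1 : y₀ ≠ 1) (hxy : Commute x₀ y₀) : x₀ = y₀ := by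
  classical
  haveI := Fact.mk Nat.prime_two
  by_contra hne
  set T : Subgroup X := A ⊓ S with hT
  have hT2 : IsPGroup 2 T := hS2.to_le inf_le_right
  have hTA : T ≤ A := inf_le_left
  have hTS : T ≤ S := inf_le_right
  have hnorm : ∀ s ∈ S, ∀ t ∈ T, s * t * s⁻¹ ∈ T := fun s hs t ht =>
    ⟨hAn.conj_mem t ht.1 s, S.mul_mem (S.mul_mem hs ht.2) (S.inv_mem hs)⟩
  -- the two involutions inside `T`
  obtain ⟨g₀, hg₀, hg₀T⟩ := conj_into hTA hT2 hTodd
    ((closure_le A).2 (by rintro d (rfl | hd); exact hx₀; rw [Set.mem_singleton_iff] at hd; exact hd ▸ hy₀))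
    (isPGroup_pair hx₀2 hy₀2 hxy)
  have hx1 := hg₀T x₀ (subset_closure (by simp))
  have hy1 := hg₀T y₀ (subset_closure (by simp))
  -- an involution of `T` central in `S`
  haveI : Group.IsNilpotent S := hS2.isNilpotent
  have hTS' : (T.subgroupOf S).Normal :=
    ⟨fun t ht s => by simpa [mem_subgroupOf] using hnorm s.1 s.2 t.1 ht⟩
  have hTne : T.subgroupOf S ≠ ⊥ := fun h => by
    have : (⟨g₀ * x₀ * g₀⁻¹, hx1.2⟩ : S) ∈ T.subgroupOf S := hx1
    rw [h, mem_bot] at this
    exact hx₀1 (conj_eq_one_iff.1 (congrArg Subtype.val this))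
  obtain ⟨⟨w, hw⟩, hwne⟩ := (ne_bot_iff_exists_ne_one).1
    (CfsgLib.PGroupBasic.inf_center_ne_bot (T.subgroupOf S) hTne)
  have hw₀1 : w ≠ 1 := fun h => hwne (Subtype.ext h)
  obtain ⟨z, hzT, hz2, hz1, hzS⟩ : ∃ z ∈ T, z * z = 1 ∧ z ≠ 1 ∧ ∀ s ∈ S, Commute s z := by
    obtain ⟨k, hk⟩ := IsPGroup.iff_orderOf.1 hS2 w
    have hk0 : k ≠ 0 := fun h => hw₀1 (orderOf_eq_one_iff.1 (by rw [hk, h, pow_zero]))
    obtain ⟨j, rfl⟩ := Nat.exists_eq_succ_of_ne_zero hk0
    have hmem : w ^ (2 ^ j) ∈ (T.subgroupOf S ⊓ center S) := pow_mem hw _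
    refine ⟨((w ^ (2 ^ j) : S) : X), (mem_subgroupOf.1 hmem.1), ?_, ?_, fun s hs => ?_⟩
    · have : (w ^ (2 ^ j)) * (w ^ (2 ^ j)) = 1 := by
        rw [← pow_add, ← two_mul, ← pow_succ', ← hk, pow_orderOf_eq_one]
      simpa using congrArg Subtype.val this
    · intro h
      have h' : w ^ (2 ^ j) = 1 := Subtype.ext h
      have := Nat.le_of_dvd (by positivity) (orderOf_dvd_of_pow_eq_one h')
      rw [hk, pow_succ] at this
      have : 0 < 2 ^ j := by positivity
      omega
    · exact congrArg Subtype.val (mem_center_iff.1 hmem.2 ⟨s, hs⟩)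
  obtain ⟨u₀, hu₀, hu₀1⟩ : ∃ u ∈ U, u ≠ 1 := by
    by_contra h
    push Not at h
    have : U = ⊥ := (eq_bot_iff_forall _).2 h
    rw [this] at hU4; simp at hU4
  -- only `z` is centralized by an involution of `U`
  have fix_eq : ∀ x ∈ T, x * x = 1 → x ≠ 1 → (∃ u ∈ U, u ≠ 1 ∧ Commute x u) → x = z :=
    fun x hx hx2 hx1' hu => hF x z hx.1 hzT.1 hx2 hz2 hx1' hz1 hu
      ⟨u₀, hu₀, hu₀1, (hzS u₀ (hUS hu₀)).symm⟩ (hzS x hx.2)
  -- some nontrivial element of `U` fixes a given pair setwise stabilized point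
  have pigeon : ∀ (P : X → Prop), (∀ u ∈ U, ∀ v ∈ U, u ≠ 1 → v ≠ 1 → u ≠ v → ¬ P u → ¬ P v → P (u * v)) →
      ∃ u ∈ U, u ≠ 1 ∧ P u := by
    intro P hP
    by_contra h
    push Not at h
    obtain ⟨v, hv, hv1, hvu⟩ : ∃ v ∈ U, v ≠ 1 ∧ v ≠ u₀ := by
      by_contra h'
      push Not at h'
      have hsub : (U : Set X) ⊆ {1, u₀} := fun v hv => by
        by_cases h1 : v = 1
        · exact Or.inl h1
        · exact Or.inr (h' v hv h1)
      have := Set.ncard_le_ncard hsub (Set.toFinite _)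
      rw [← Nat.card_coe_set_eq] at this
      have h3 : ({1, u₀} : Set X).ncard ≤ 2 := (Set.ncard_insert_le _ _).trans (by simp)
      have h4 : Nat.card (U : Set X) = Nat.card U := rfl
      omega
    refine h (u₀ * v) (U.mul_mem hu₀ hv) (fun e => hvu ?_) (hP u₀ hu₀ v hv hu₀1 hv1 (Ne.symm hvu)
      (h u₀ hu₀ hu₀1) (h v hv hv1))
    calc v = u₀ * u₀ * v := by rw [hU2 u₀ hu₀, one_mul]
      _ = u₀ := by rw [mul_assoc, e, mul_one]
  have pairfix : ∀ y ∈ T, y * y = 1 → y ≠ 1 →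
      (∀ u ∈ U, u * y * u⁻¹ = y ∨ u * y * u⁻¹ = z * y) → y = z := by
    intro y hy hy2 hy1' hpair
    refine fix_eq y hy hy2 hy1' ?_
    suffices h : ∃ u ∈ U, u ≠ 1 ∧ u * y * u⁻¹ = y by
      obtain ⟨u, hu, hu1, hue⟩ := h
      exact ⟨u, hu, hu1, (mul_inv_eq_iff_eq_mul.1 hue).symm⟩
    refine pigeon (fun u => u * y * u⁻¹ = y) fun u hu v hv _ _ _ h1 h2 => ?_
    have hu' := (hpair u hu).resolve_left h1
    have hv' := (hpair v hv).resolve_left h2
    calc u * v * y * (u * v)⁻¹ = u * (v * y * v⁻¹) * u⁻¹ := by group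
      _ = (u * z * u⁻¹) * (u * y * u⁻¹) := by rw [hv']; group
      _ = z * (z * y) := by rw [hu', (hzS u (hUS hu)).eq, mul_inv_cancel_right]
      _ = y := by rw [← mul_assoc, hz2, one_mul]
  -- a maximal cyclic subgroup of `T` normalized by `S`
  let good : Subgroup X → Prop := fun R =>
    z ∈ R ∧ R ≤ T ∧ IsCyclic R ∧ ∀ s ∈ S, ∀ t ∈ R, s * t * s⁻¹ ∈ R
  have hgood : good (zpowers z) := by
    refine ⟨mem_zpowers z, zpowers_le.2 hzT, inferInstance, fun s hs t ht => ?_⟩
    obtain ⟨i, rfl⟩ := mem_zpowers_iff.1 ht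
    rw [((hzS s hs).zpow_right i).eq, mul_inv_cancel_right]
    exact zpow_mem_zpowers z i
  obtain ⟨R, -, hRgood, hRmax⟩ := (Set.toFinite {R | good R}).exists_le_maximal hgood |>.imp
    fun R h => (⟨h.1, h.2.prop, fun R' hR' hle => h.2.le_of_ge hR' hle⟩ :
      zpowers z ≤ R ∧ good R ∧ ∀ R', good R' → R ≤ R' → R' ≤ R)
  obtain ⟨hzR, hRT, hRc, hRS⟩ := hRgood
  obtain ⟨r, hr⟩ := (Subgroup.isCyclic_iff_exists_zpowers_eq_top R).1 hRc
  have hrR : r ∈ R := hr ▸ mem_zpowers r
  obtain ⟨m, hm⟩ : ∃ m, orderOf r = 2 ^ m := by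
    obtain ⟨m, hm⟩ := IsPGroup.iff_orderOf.1 hT2 ⟨r, hRT hrR⟩
    exact ⟨m, by rwa [orderOf_mk] at hm⟩
  have hRcomm : ∀ a ∈ R, ∀ b ∈ R, Commute a b := by
    intro a ha b hb
    rw [← hr, mem_zpowers_iff] at ha hb
    obtain ⟨i, rfl⟩ := ha
    obtain ⟨j, rfl⟩ := hb
    exact (Commute.refl r).zpow_zpow i j
  -- involutions of `R`
  have hinvR : ∀ w ∈ R, w * w = 1 → w = 1 ∨ w = z := by
    intro w hw hw2
    by_contra h
    push Not at h
    haveI := hRc
    haveI := Fintype.ofFinite R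
    have h3 := IsCyclic.card_pow_eq_one_le (α := R) (n := 2) two_pos
    let a : R := ⟨w, hw⟩
    let b : R := ⟨z, hzR⟩
    have hsub : ({1, a, b} : Finset R) ⊆ Finset.univ.filter fun g => g ^ 2 = 1 := by
      intro g hg
      simp only [Finset.mem_insert, Finset.mem_singleton] at hg
      simp only [Finset.mem_filter, Finset.mem_univ, true_and]
      rcases hg with rfl | rfl | rfl
      · simp
      · exact Subtype.ext (by simpa [a, pow_two] using hw2)
      · exact Subtype.ext (by simpa [b, pow_two] using hz2)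
    have h4 : ({1, a, b} : Finset R).card = 3 := by
      have e1 : (1 : R) ≠ a := fun e => h.1 (congrArg Subtype.val e).symm
      have e2 : (1 : R) ≠ b := fun e => hz1 (congrArg Subtype.val e).symm
      have e3 : a ≠ b := fun e => h.2 (congrArg Subtype.val e)
      simp [e1, e2, e3]
    have := (Finset.card_le_card hsub).trans h3
    omega
  obtain ⟨k, hkm⟩ : ∃ k, m = k + 1 := by
    refine Nat.exists_eq_succ_of_ne_zero fun h => hz1 ?_
    have : r = 1 := orderOf_eq_one_iff.1 (by rw [hm, h, pow_zero])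
    rw [← hr, this, zpowers_one_eq_bot, mem_bot] at hzR
    exact hzR
  subst hkm
  -- the element `c`
  obtain ⟨c, hcR, hcdef⟩ : ∃ c ∈ R, c = r ^ (2 ^ (k - 1)) := ⟨_, pow_mem hrR _, rfl⟩
  have hc4 : c ^ 4 = 1 := by
    rw [hcdef, ← pow_mul, ← orderOf_dvd_iff_pow_eq_one, hm]
    calc 2 ^ (k + 1) ∣ 2 ^ (k - 1 + 2) := pow_dvd_pow 2 (by omega)
      _ = 2 ^ (k - 1) * 4 := by rw [pow_add]; norm_num
  let T₀ : Subgroup X := T ⊓ centralizer {c}
  -- `T₀ ≤ R`
  have hT₀R : ∀ x ∈ T, Commute x c → x ∈ R := by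
    by_contra hcon
    have hnc : ∀ s ∈ S, s * c * s⁻¹ = c ∨ s * c * s⁻¹ = c⁻¹ := by
      intro s hs
      rcases Nat.lt_or_ge k 1 with hk | hk
      · left
        have hcz : c = z := by
          refine (hinvR c hcR ?_).resolve_left fun h => ?_
          · rw [hcdef, ← pow_add, ← orderOf_dvd_iff_pow_eq_one, hm,
              show k = 0 by omega]; norm_num
          · rw [hcdef, ← orderOf_dvd_iff_pow_eq_one, hm, show k = 0 by omega] at h
            norm_num at h
        rw [hcz, (hzS s hs).eq, mul_inv_cancel_right]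
      have h4 : (s * c * s⁻¹) ^ 4 = 1 := by rw [conj_pow, hc4, mul_one, mul_inv_cancel]
      obtain ⟨i, hi⟩ := mem_zpowers_iff.1 (mem_zpowers_four hr.symm (k := k - 1)
        (by rw [hm]; congr 1; omega) hcdef (hRS s hs c hcR) h4)
      have hord : orderOf c = 4 := by
        rw [hcdef, orderOf_pow' _ (by positivity), hm,
          Nat.gcd_eq_right (pow_dvd_pow 2 (by omega : k - 1 ≤ k + 1)),
          Nat.pow_div (by omega) two_pos, show k + 1 - (k - 1) = 2 by omega]
        norm_num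
      have hord' : orderOf (s * c * s⁻¹) = 4 := by
        rw [← hord]
        exact (MulEquiv.orderOf_eq (MulAut.conj s) c)
      rw [← hi] at hord' ⊢
      have h4' : i % 4 = 1 ∨ i % 4 = 3 := by
        by_contra hh
        have h2 : (c ^ i) ^ 2 = 1 := by
          rw [← zpow_natCast, ← zpow_mul, ← orderOf_dvd_iff_zpow_eq_one, hord]
          push_cast
          omega
        have := Nat.le_of_dvd two_pos (orderOf_dvd_of_pow_eq_one h2)
        omega
      rw [← zpow_mod_orderOf, hord]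
      push_cast
      rcases h4' with h | h <;> rw [h]
      · left; simp
      · right
        rw [eq_inv_iff_mul_eq_one, show (3 : ℤ) = ((3 : ℕ) : ℤ) by norm_num, zpow_natCast,
          ← pow_succ, hc4]
    push Not at hcon
    obtain ⟨x₁, hx₁T, hx₁c, hx₁R⟩ := hcon
    have hT₀n : ((T₀).subgroupOf S).Normal := by
      refine ⟨fun t ht s => ?_⟩
      have ht' : (t : X) ∈ T ∧ Commute (t : X) c :=
        ⟨ht.1, (mem_centralizer_iff.1 ht.2 c rfl).symm⟩
      refine ⟨hnorm _ s.2 _ ht'.1, mem_centralizer_iff.2 fun d hd => ?_⟩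
      rw [Set.mem_singleton_iff.1 hd]
      have key : Commute ((s : X) * t * (s : X)⁻¹) ((s : X) * c * (s : X)⁻¹) := by
        show _ * _ = _ * _
        calc (s : X) * t * (s : X)⁻¹ * ((s : X) * c * (s : X)⁻¹) = s * (t * c) * (s : X)⁻¹ := by group
          _ = s * (c * t) * (s : X)⁻¹ := by rw [ht'.2.eq]
          _ = _ := by group
      rcases hnc s s.2 with h | h <;> rw [h] at key
      · exact key.symm.eq
      · exact (Commute.inv_right_iff.1 key).symm.eq
    haveI : (R.subgroupOf S).Normal :=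
      ⟨fun t ht s => by simpa [mem_subgroupOf] using hRS s.1 s.2 t.1 ht⟩
    let π := QuotientGroup.mk' (R.subgroupOf S)
    haveI : Group.IsNilpotent (S ⧸ R.subgroupOf S) := (hS2.to_quotient _).isNilpotent
    haveI : ((T₀.subgroupOf S).map π).Normal := hT₀n.map _ (QuotientGroup.mk'_surjective _)
    have hne' : (T₀.subgroupOf S).map π ≠ ⊥ := fun h => by
      have hm' : π ⟨x₁, hx₁T.2⟩ ∈ (T₀.subgroupOf S).map π :=
        mem_map_of_mem _ (⟨hx₁T, mem_centralizer_iff.2 fun d hd => by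
          rw [Set.mem_singleton_iff.1 hd]; exact hx₁c.symm⟩ : (⟨x₁, hx₁T.2⟩ : S).1 ∈ T₀)
      rw [h, mem_bot] at hm'
      exact hx₁R ((QuotientGroup.eq_one_iff (N := R.subgroupOf S) _).1 hm')
    obtain ⟨⟨q, hq, hqc⟩, hq1⟩ := ne_bot_iff_exists_ne_one.1
      (CfsgLib.PGroupBasic.inf_center_ne_bot _ hne')
    have hq1' : q ≠ 1 := fun h => hq1 (Subtype.ext h)
    obtain ⟨j, hj⟩ := IsPGroup.iff_orderOf.1 (hS2.to_quotient (R.subgroupOf S)) q
    obtain ⟨j', rfl⟩ := Nat.exists_eq_succ_of_ne_zero (n := j)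
      (fun h => hq1' (orderOf_eq_one_iff.1 (by rw [hj, h, pow_zero])))
    obtain ⟨xS, hxS, hxq⟩ := mem_map.1 (pow_mem hq (2 ^ j'))
    have hqq : q ^ 2 ^ j' * q ^ 2 ^ j' = 1 := by
      rw [← pow_add, ← two_mul, ← pow_succ', ← hj, pow_orderOf_eq_one]
    have hqne : q ^ 2 ^ j' ≠ 1 := fun h => by
      have := Nat.le_of_dvd (by positivity) (orderOf_dvd_of_pow_eq_one h)
      rw [hj, pow_succ] at this
      have : 0 < 2 ^ j' := by positivity
      omega
    obtain ⟨x, hxT, hxc, hxR, hxx, hxS'⟩ : ∃ x ∈ T, Commute x c ∧ x ∉ R ∧ x * x ∈ R ∧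
        ∀ s ∈ S, s * x * s⁻¹ * x⁻¹ ∈ R := by
      refine ⟨xS, hxS.1, (mem_centralizer_iff.1 hxS.2 c rfl).symm, fun h => hqne ?_, ?_,
        fun s hs => ?_⟩
      · rw [← hxq]; exact (QuotientGroup.eq_one_iff (N := R.subgroupOf S) _).2 h
      · have : π (xS * xS) = 1 := by rw [map_mul, hxq, hqq]
        exact (QuotientGroup.eq_one_iff (N := R.subgroupOf S) _).1 this
      · have hcq : π ⟨s, hs⟩ * π xS = π xS * π ⟨s, hs⟩ := by
          rw [hxq]; exact mem_center_iff.1 (pow_mem hqc _) _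
        have : π (⟨s, hs⟩ * xS * ⟨s, hs⟩⁻¹ * xS⁻¹) = 1 := by
          rw [map_mul, map_mul, map_mul, map_inv, map_inv, hcq]; group
        exact (QuotientGroup.eq_one_iff (N := R.subgroupOf S) _).1 this
    -- `x r x⁻¹ = r * e` with `e` an element of square one
    obtain ⟨a, ha⟩ := mem_zpowers_iff.1 (hr.symm ▸ hRS x hxT.2 r hrR : x * r * x⁻¹ ∈ zpowers r)
    have hxpow : ∀ i : ℤ, x * r ^ i * x⁻¹ = r ^ (a * i) := fun i => by
      rw [← conj_zpow, ← ha, ← zpow_mul]
    obtain ⟨i, hi⟩ := mem_zpowers_iff.1 (hr.symm ▸ hxx : x * x ∈ zpowers r)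
    have haa : ((2 : ℤ) ^ (k + 1)) ∣ a * a - 1 := by
      have h1 : r ^ (a * a) = r ^ (1 : ℤ) := by
        rw [← hxpow a, ha, zpow_one]
        calc x * (x * r * x⁻¹) * x⁻¹ = (x * x) * r * (x * x)⁻¹ := by group
          _ = r := by rw [← hi, (Commute.refl r).zpow_left i |>.eq, mul_inv_cancel_right]
      rw [zpow_eq_zpow_iff_modEq, hm, Int.modEq_iff_dvd] at h1
      push_cast at h1
      exact (dvd_neg.2 h1).trans (by rw [neg_sub])
    have hea : r ^ (2 * (a - 1)) = 1 := by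
      rw [← orderOf_dvd_iff_zpow_eq_one, hm]
      push_cast
      rcases Nat.lt_or_ge k 1 with hk | hk
      · rw [show k = 0 by omega]; exact ⟨a - 1, by norm_num⟩
      have h1 : r ^ (a * (2 ^ (k - 1) : ℕ)) = r ^ (((2 ^ (k - 1) : ℕ)) : ℤ) := by
        rw [← hxpow, zpow_natCast, ← hcdef, hxc.eq, mul_inv_cancel_right]
      rw [zpow_eq_zpow_iff_modEq, hm, Int.modEq_iff_dvd] at h1
      push_cast at h1
      have h4 : (4 : ℤ) ∣ 1 - a := by
        have he : (2 : ℤ) ^ (k + 1) = 4 * 2 ^ (k - 1) := by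
          rw [show k + 1 = k - 1 + 2 by omega, pow_add]; ring
        rw [he, show (2 : ℤ) ^ (k - 1) - a * 2 ^ (k - 1) = (1 - a) * 2 ^ (k - 1) by ring] at h1
        exact Int.dvd_of_mul_dvd_mul_right (by positivity) h1
      obtain ⟨d, hd⟩ := h4
      have hcop : IsCoprime ((2 : ℤ) ^ (k + 1)) (1 - 2 * d) :=
        IsCoprime.pow_left ⟨d, 1, by ring⟩
      refine hcop.dvd_of_dvd_mul_right ?_
      rw [show 2 * (a - 1) * (1 - 2 * d) = (a * a - 1) by
        rw [show a = 1 - 4 * d by omega]; ring]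
      exact haa
    set e : X := r ^ (a - 1) with he
    have he2 : e * e = 1 := by rw [he, ← zpow_add, ← two_mul, hea]
    have heR : e ∈ R := zpow_mem hrR _
    have hconj : ∀ j : ℤ, x * r ^ j * x⁻¹ = r ^ j * e ^ j := fun j => by
      rw [hxpow, he, ← zpow_mul, ← zpow_add]; congr 1; ring
    have hei : e ^ i = 1 := by
      have h := hconj i
      rw [hi, show x * (x * x) * x⁻¹ = x * x by group] at h
      exact mul_eq_left.1 h.symm
    have heven : ∀ j : ℤ, Even j → e ^ j = 1 := fun j hj => by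
      obtain ⟨d, rfl⟩ := hj
      rw [zpow_add, ← (Commute.refl e).mul_zpow, he2, one_zpow]
    have hodd : ∀ j : ℤ, Odd j → e ^ j = e := fun j hj => by
      obtain ⟨d, rfl⟩ := hj
      rw [zpow_add_one, heven _ (even_two_mul d), one_mul]
    -- the exponent `i` is even
    obtain ⟨i', rfl⟩ : Even i := by
      by_contra hiodd
      rw [Int.not_even_iff_odd] at hiodd
      have hrx : r ∈ zpowers x := by
        have hcop : IsCoprime ((2 : ℤ) ^ (k + 1)) i := by
          refine IsCoprime.pow_left ?_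
          obtain ⟨d, rfl⟩ := hiodd
          exact ⟨-d, 1, by ring⟩
        obtain ⟨p, q', hpq⟩ := hcop
        refine mem_zpowers_iff.2 ⟨2 * q', ?_⟩
        calc x ^ (2 * q') = (x * x) ^ q' := by rw [← zpow_two, ← zpow_mul]
          _ = r ^ (p * 2 ^ (k + 1) + q' * i) := by
            have h0 : r ^ (((2 ^ (k + 1) : ℕ)) : ℤ) = 1 := by
              rw [zpow_natCast, ← hm, pow_orderOf_eq_one]
            push_cast at h0
            rw [zpow_add, mul_comm p, zpow_mul, h0, one_zpow, one_mul, mul_comm q' i, zpow_mul, hi]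
          _ = r := by rw [hpq, zpow_one]
      have hRx : R ≤ zpowers x := hr ▸ zpowers_le.2 hrx
      refine hxR (hRmax (zpowers x) ⟨hRx hzR, zpowers_le.2 hxT, inferInstance,
        fun s hs t ht => ?_⟩ hRx (mem_zpowers x))
      obtain ⟨n, rfl⟩ := mem_zpowers_iff.1 ht
      rw [← conj_zpow]
      refine zpow_mem ?_ n
      have := mul_mem (hRx (hxS' s hs)) (mem_zpowers x)
      rwa [inv_mul_cancel_right] at this
    -- an involution in the coset
    obtain ⟨j, hj⟩ : ∃ j : ℤ, (r ^ j * x) * (r ^ j * x) = 1 := by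
      have hsq : ∀ j : ℤ, (r ^ j * x) * (r ^ j * x) = r ^ (2 * j + (i' + i')) * e ^ j := fun j => by
        calc (r ^ j * x) * (r ^ j * x) = r ^ j * (x * r ^ j * x⁻¹) * (x * x) := by group
          _ = r ^ j * (r ^ j * e ^ j) * r ^ (i' + i') := by rw [hconj, hi]
          _ = r ^ j * r ^ j * r ^ (i' + i') * e ^ j := by
            rw [← mul_assoc, mul_assoc, ((hRcomm _ (zpow_mem heR j) _ (zpow_mem hrR _))).eq,
              ← mul_assoc]
          _ = _ := by rw [← zpow_add, ← zpow_add, two_mul]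
      rcases Int.even_or_odd i' with hev | hod
      · refine ⟨-i', ?_⟩
        rw [hsq, heven _ hev.neg, show 2 * -i' + (i' + i') = 0 by ring, zpow_zero, one_mul]
      · by_cases he1 : e = 1
        · refine ⟨-i', ?_⟩
          rw [hsq, he1, one_zpow, show 2 * -i' + (i' + i') = 0 by ring, zpow_zero, one_mul]
        have hk2 : 2 ≤ k := by
          by_contra hk
          refine he1 ((mul_eq_left (a := r)).1 ?_)
          have h := hconj 1
          rw [zpow_one, zpow_one] at h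
          rw [← h]
          have : c = r := by rw [hcdef, show k - 1 = 0 by omega, pow_zero, pow_one]
          rw [← this, hxc.eq, mul_inv_cancel_right]
        have hez : e = z := (hinvR e heR he2).resolve_left he1
        have hq : Even ((2 : ℤ) ^ (k - 1)) := by
          rw [show k - 1 = (k - 2) + 1 by omega, pow_succ]; exact even_two.mul_left _
        have hrz : r ^ ((2 : ℤ) ^ k) = z := by
          refine (hinvR _ (zpow_mem hrR _) ?_).resolve_left fun h => ?_
          · rw [← zpow_add, ← orderOf_dvd_iff_zpow_eq_one, hm]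
            push_cast; exact ⟨1, by ring⟩
          · rw [← orderOf_dvd_iff_zpow_eq_one, hm] at h
            have h' : (2 : ℕ) ^ (k + 1) ∣ 2 ^ k := by exact_mod_cast h
            rw [Nat.pow_dvd_pow_iff_le_right (by norm_num)] at h'
            omega
        refine ⟨-i' + 2 ^ (k - 1), ?_⟩
        rw [hsq, hodd _ (hod.neg.add_even hq), hez,
          show 2 * (-i' + 2 ^ (k - 1)) + (i' + i') = 2 ^ (k - 1 + 1) by ring,
          show k - 1 + 1 = k by omega, hrz, hz2]
    set y := r ^ j * x with hy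
    have hyR : y ∉ R := fun h => hxR (by
      have := R.mul_mem (zpow_mem hrR (-j)) h
      rwa [hy, ← mul_assoc, ← zpow_add, neg_add_cancel, zpow_zero, one_mul] at this)
    have hyT : y ∈ T := T.mul_mem (hRT (zpow_mem hrR j)) hxT
    refine hyR ((pairfix y hyT hj (fun h => hyR (h ▸ R.one_mem)) fun u hu => ?_) ▸ hzR)
    -- `u y u⁻¹` is an involution in the same coset
    have hcoset : u * y * u⁻¹ * y⁻¹ ∈ R := by
      have h1 := hxS' u (hUS hu)
      have h2 := hRS u (hUS hu) _ (zpow_mem hrR j)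
      have h3 : u * y * u⁻¹ * y⁻¹ = (u * r ^ j * u⁻¹) * (u * x * u⁻¹ * x⁻¹) * (r ^ j)⁻¹ := by
        rw [hy]; group
      rw [h3]
      exact R.mul_mem (R.mul_mem h2 h1) (R.inv_mem (zpow_mem hrR j))
    obtain ⟨l, hl⟩ := mem_zpowers_iff.1 (hr.symm ▸ hcoset :
      u * y * u⁻¹ * y⁻¹ ∈ zpowers r)
    have hl' : u * y * u⁻¹ = r ^ l * y := by rw [hl, inv_mul_cancel_right]
    have hyc : y * r ^ l * y⁻¹ = r ^ l * e ^ l := by
      calc y * r ^ l * y⁻¹ = r ^ j * (x * r ^ l * x⁻¹) * (r ^ j)⁻¹ := by rw [hy]; group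
        _ = _ := by
          rw [hconj, (hRcomm _ (zpow_mem hrR j) _ (R.mul_mem (zpow_mem hrR l) (zpow_mem heR l))).eq,
            mul_inv_cancel_right]
    have hsq1 : r ^ l * r ^ l * e ^ l = 1 := by
      have h : (u * y * u⁻¹) * (u * y * u⁻¹) = 1 := by
        rw [show u * y * u⁻¹ * (u * y * u⁻¹) = u * (y * y) * u⁻¹ by group, hj, mul_one,
          mul_inv_cancel]
      rw [hl', show r ^ l * y * (r ^ l * y) = r ^ l * (y * r ^ l * y⁻¹) * (y * y) by group, hyc, hj,
        mul_one] at h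
      rwa [mul_assoc]
    have hel : e ^ l = 1 := by
      rcases Int.even_or_odd l with hev | hod
      · exact heven _ hev
      by_contra hel
      rw [hodd _ hod] at hsq1 hel
      have hez : e = z := (hinvR e heR he2).resolve_left hel
      have h4 : (r ^ l) ^ 4 = 1 := by
        have h2 : r ^ l * r ^ l = z := by
          rw [hez] at hsq1
          calc r ^ l * r ^ l = r ^ l * r ^ l * (z * z) := by rw [hz2, mul_one]
            _ = r ^ l * r ^ l * z * z := by group
            _ = z := by rw [hsq1, one_mul]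
        calc (r ^ l) ^ 4 = (r ^ l * r ^ l) * (r ^ l * r ^ l) := by group
          _ = 1 := by rw [h2, hz2]
      have hk2 : 2 ≤ k := by
        by_contra hk
        refine hel ((mul_eq_left (a := r)).1 ?_)
        have h := hconj 1
        rw [zpow_one, zpow_one] at h
        rw [← h]
        have : c = r := by rw [hcdef, show k - 1 = 0 by omega, pow_zero, pow_one]
        rw [← this, hxc.eq, mul_inv_cancel_right]
      rw [← zpow_natCast, ← zpow_mul, ← orderOf_dvd_iff_zpow_eq_one, hm] at h4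
      push_cast at h4
      obtain ⟨d, hd⟩ := h4
      obtain ⟨d', hd'⟩ := hod
      rw [show k + 1 = (k - 2) + 3 by omega, pow_add] at hd
      norm_num at hd
      have : l = 2 * (2 ^ (k - 2) * d) := by linarith
      omega
    rw [hel, mul_one] at hsq1
    rcases hinvR _ (zpow_mem hrR l) hsq1 with h | h
    · left; rw [hl', h, one_mul]
    · right; rw [hl', h]
  -- two involutions in `T`, one outside `R`
  obtain ⟨s, hsT, hs2, hs1, hsR⟩ : ∃ s ∈ T, s * s = 1 ∧ s ≠ 1 ∧ s ∉ R := by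
    have hne1 : g₀ * x₀ * g₀⁻¹ ≠ g₀ * y₀ * g₀⁻¹ := fun h => hne (mul_left_cancel (mul_right_cancel h))
    have hx2 : g₀ * x₀ * g₀⁻¹ * (g₀ * x₀ * g₀⁻¹) = 1 := by
      rw [show g₀ * x₀ * g₀⁻¹ * (g₀ * x₀ * g₀⁻¹) = g₀ * (x₀ * x₀) * g₀⁻¹ by group, hx₀2]; group
    have hy2 : g₀ * y₀ * g₀⁻¹ * (g₀ * y₀ * g₀⁻¹) = 1 := by
      rw [show g₀ * y₀ * g₀⁻¹ * (g₀ * y₀ * g₀⁻¹) = g₀ * (y₀ * y₀) * g₀⁻¹ by group, hy₀2]; group
    by_cases hxR : g₀ * x₀ * g₀⁻¹ ∈ R
    · refine ⟨_, hy1, hy2, fun h => hy₀1 (conj_eq_one_iff.1 h), fun hyR => hne1 ?_⟩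
      rw [(hinvR _ hxR hx2).resolve_left fun h => hx₀1 (conj_eq_one_iff.1 h),
        (hinvR _ hyR hy2).resolve_left fun h => hy₀1 (conj_eq_one_iff.1 h)]
    · exact ⟨_, hx1, hx2, fun h => hx₀1 (conj_eq_one_iff.1 h), hxR⟩
  -- so `c` has order four
  have hk1 : 1 ≤ k := by
    by_contra hk
    refine hsR (hT₀R s hsT ?_)
    have hcz : c = z := by
      refine (hinvR c hcR ?_).resolve_left fun h => ?_
      · rw [hcdef, ← pow_add, ← orderOf_dvd_iff_pow_eq_one, hm, show k = 0 by omega]; norm_num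
      · rw [hcdef, ← orderOf_dvd_iff_pow_eq_one, hm, show k = 0 by omega] at h
        norm_num at h
    rw [hcz]
    exact hzS s hsT.2
  have hcc : c * c = z := by
    refine (hinvR _ (R.mul_mem hcR hcR) ?_).resolve_left fun h => ?_
    · rw [show c * c * (c * c) = c ^ 4 by simp only [pow_succ, pow_zero, one_mul, mul_assoc], hc4]
    · rw [hcdef, ← pow_add, ← orderOf_dvd_iff_pow_eq_one, hm, ← two_mul, ← pow_succ',
        Nat.pow_dvd_pow_iff_le_right (by norm_num)] at h
      omega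
  have hcne : c ≠ c⁻¹ := fun h => hz1 (by rw [← hcc, mul_eq_one_iff_eq_inv]; exact h)
  have hflip : ∀ t ∈ S, t * c * t⁻¹ = c ∨ t * c * t⁻¹ = c⁻¹ := by
    intro t ht
    have h4 : (t * c * t⁻¹) ^ 4 = 1 := by rw [conj_pow, hc4, mul_one, mul_inv_cancel]
    obtain ⟨n, hn⟩ := mem_zpowers_iff.1 (mem_zpowers_four hr.symm (k := k - 1)
      (by rw [hm]; congr 1; omega) hcdef (hRS t ht c hcR) h4)
    have hzc : t * (c * c) * t⁻¹ = c * c := by rw [hcc, (hzS t ht).eq, mul_inv_cancel_right]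
    rcases Int.even_or_odd n with ⟨d, hd⟩ | ⟨d, hd⟩
    · exfalso
      refine hz1 ?_
      have h2 : (t * c * t⁻¹) * (t * c * t⁻¹) = 1 := by
        rw [← hn, hd, ← zpow_add, show d + d + (d + d) = ((4 : ℕ) : ℤ) * d by push_cast; ring,
          zpow_mul, zpow_natCast, hc4, one_zpow]
      rw [show t * c * t⁻¹ * (t * c * t⁻¹) = t * (c * c) * t⁻¹ by group, hzc, hcc] at h2
      exact h2
    · rcases Int.even_or_odd d with ⟨d', hd'⟩ | ⟨d', hd'⟩
      · left
        rw [← hn, hd, hd', show 2 * (d' + d') + 1 = ((4 : ℕ) : ℤ) * d' + 1 by push_cast; ring,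
          zpow_add_one, zpow_mul, zpow_natCast, hc4, one_zpow, one_mul]
      · right
        rw [← hn, hd, hd', show 2 * (2 * d' + 1) + 1 = ((4 : ℕ) : ℤ) * (d' + 1) + (-1) by
          push_cast; ring, zpow_add, zpow_mul, zpow_natCast, hc4, one_zpow, one_mul, zpow_neg_one]
  -- every element of `T` outside `R` inverts `c`
  have hinvert : ∀ t ∈ T, t ∉ R → t * c * t⁻¹ = c⁻¹ := fun t ht htR =>
    (hflip t ht.2).resolve_left fun h => htR (hT₀R t ht (mul_inv_eq_iff_eq_mul.1 h))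
  -- an element of `U` fixing `c`
  obtain ⟨u, hu, hu1, huc⟩ := pigeon (fun u => u * c * u⁻¹ = c) fun a ha b hb _ _ _ h1 h2 => by
    have ha' := (hflip a (hUS ha)).resolve_left h1
    have hb' := (hflip b (hUS hb)).resolve_left h2
    calc a * b * c * (a * b)⁻¹ = a * (b * c * b⁻¹) * a⁻¹ := by group
      _ = (a * c * a⁻¹)⁻¹ := by rw [hb']; group
      _ = c := by rw [ha', inv_inv]
  have huu : u * u = 1 := hU2 u hu
  have huinv : u⁻¹ = u := inv_eq_of_mul_eq_one_right huu
  -- `u` multiplies involutions outside `R` by `z`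
  have hus : ∀ t ∈ T, t * t = 1 → t ∉ R → u * t * u⁻¹ = t * z := by
    intro t ht ht2 htR
    have ht' : u * t * u⁻¹ ∈ T := hnorm u (hUS hu) t ht
    have htR' : u * t * u⁻¹ ∉ R := fun h => htR (by
      have := hRS u (hUS hu) _ h
      rw [huinv] at this
      rwa [show u * (u * t * u) * u = (u * u) * t * (u * u) by group, huu, one_mul, mul_one] at this)
    set w := t⁻¹ * (u * t * u⁻¹) with hw
    have htw : u * t * u⁻¹ = t * w := by rw [hw]; group
    have hwR : w ∈ R := by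
      refine hT₀R w (T.mul_mem (T.inv_mem ht) ht') ?_
      have h1 := hinvert _ ht' htR'
      have h2 := hinvert t ht htR
      have hti : t⁻¹ * c⁻¹ * t = c := by
        rw [← h2]; group
      refine mul_inv_eq_iff_eq_mul.1 ?_
      calc w * c * w⁻¹ = t⁻¹ * ((u * t * u⁻¹) * c * (u * t * u⁻¹)⁻¹) * t := by rw [hw]; group
        _ = c := by rw [h1, hti]
    have hw1 : w ≠ 1 := fun h => htR (by
      rw [h, mul_one] at htw
      exact (fix_eq t ht ht2 (fun e => htR (e ▸ R.one_mem))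
        ⟨u, hu, hu1, (mul_inv_eq_iff_eq_mul.1 htw).symm⟩) ▸ hzR)
    have huw : u * w * u⁻¹ = w⁻¹ := by
      have h : u * (t * w) * u⁻¹ = t := by
        rw [← htw, huinv, show u * (u * t * u) * u = (u * u) * t * (u * u) by group, huu, one_mul,
          mul_one]
      rw [show u * (t * w) * u⁻¹ = (u * t * u⁻¹) * (u * w * u⁻¹) by group, htw, mul_assoc,
        mul_eq_left] at h
      exact (inv_eq_of_mul_eq_one_right h).symm
    rw [htw, (hinvR w hwR ?_).resolve_left hw1]
    -- otherwise `u` would invert `c`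
    by_contra hw2
    obtain ⟨n, hn⟩ : ∃ n : ℕ, w ^ n = c ∨ w ^ n = c⁻¹ := by
      obtain ⟨l, hl⟩ := IsPGroup.iff_orderOf.1 hT2 ⟨w, hRT hwR⟩
      rw [orderOf_mk] at hl
      have hl2 : 2 ≤ l := by
        by_contra hlt
        refine hw2 ?_
        rw [← pow_two, ← orderOf_dvd_iff_pow_eq_one, hl]
        exact (pow_dvd_pow 2 (show l ≤ 1 by omega)).trans (by norm_num)
      refine ⟨2 ^ (l - 2), ?_⟩
      have hw4 : (w ^ 2 ^ (l - 2)) ^ 4 = 1 := by
        rw [← pow_mul, show 2 ^ (l - 2) * 4 = 2 ^ (l - 2 + 2) by rw [pow_add]; norm_num,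
          show l - 2 + 2 = l by omega, ← hl, pow_orderOf_eq_one]
      obtain ⟨n, hn⟩ := mem_zpowers_iff.1 (mem_zpowers_four hr.symm (k := k - 1)
        (by rw [hm]; congr 1; omega) hcdef (pow_mem hwR _) hw4)
      rcases Int.even_or_odd n with ⟨d, hd⟩ | ⟨d, hd⟩
      · exfalso
        have h2 : (w ^ 2 ^ (l - 2)) ^ 2 = 1 := by
          rw [← hn, hd, pow_two, ← zpow_add,
            show d + d + (d + d) = ((4 : ℕ) : ℤ) * d by push_cast; ring,
            zpow_mul, zpow_natCast, hc4, one_zpow]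
        rw [← pow_mul, ← pow_succ, show l - 2 + 1 = l - 1 by omega,
          ← orderOf_dvd_iff_pow_eq_one, hl, Nat.pow_dvd_pow_iff_le_right (by norm_num)] at h2
        omega
      · rcases Int.even_or_odd d with ⟨d', hd'⟩ | ⟨d', hd'⟩
        · left
          rw [← hn, hd, hd', show 2 * (d' + d') + 1 = ((4 : ℕ) : ℤ) * d' + 1 by push_cast; ring,
            zpow_add_one, zpow_mul, zpow_natCast, hc4, one_zpow, one_mul]
        · right
          rw [← hn, hd, hd', show 2 * (2 * d' + 1) + 1 = ((4 : ℕ) : ℤ) * (d' + 1) + (-1) by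
            push_cast; ring, zpow_add, zpow_mul, zpow_natCast, hc4, one_zpow, one_mul, zpow_neg_one]
    have hwn : u * w ^ n * u⁻¹ = (w ^ n)⁻¹ := by rw [← conj_pow, huw, inv_pow]
    rcases hn with h | h <;> rw [h] at hwn
    · exact hcne (huc.symm.trans hwn)
    · rw [inv_inv, show u * c⁻¹ * u⁻¹ = (u * c * u⁻¹)⁻¹ by group, huc] at hwn
      exact hcne hwn.symm
  -- the element `v`
  set v := u * c with hvdef
  have huc' : Commute u c := mul_inv_eq_iff_eq_mul.1 huc
  have hvv : v * v = z := by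
    rw [hvdef, show u * c * (u * c) = u * (c * u) * c by group, ← huc'.eq, ← mul_assoc, huu,
      one_mul, hcc]
  have hvz : Commute v z := (hzS u (hUS hu)).mul_left (hzS c (hRT hcR).2)
  have hvfix : ∀ t ∈ T, t * t = 1 → t ∉ R → Commute v t := by
    intro t ht ht2 htR
    refine mul_inv_eq_iff_eq_mul.1 ?_
    have hti : t⁻¹ = t := inv_eq_of_mul_eq_one_right ht2
    have hct : c * t * c⁻¹ = z * t := by
      have h : t * c⁻¹ = c * t := by
        have h' : t * c * t⁻¹ = c⁻¹ := hinvert t ht htR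
        calc t * c⁻¹ = t * (t * c * t⁻¹) := by rw [h']
          _ = (t * t) * c * t⁻¹ := by group
          _ = c * t := by rw [ht2, one_mul, hti]
      rw [mul_assoc, h, ← mul_assoc, hcc]
    calc u * c * t * (u * c)⁻¹ = u * (c * t * c⁻¹) * u⁻¹ := by group
      _ = (u * z * u⁻¹) * (u * t * u⁻¹) := by rw [hct]; group
      _ = t := by
        rw [hus t ht ht2 htR, (hzS u (hUS hu)).eq, mul_inv_cancel_right, ← mul_assoc,
          ← (hzS t ht.2).eq, mul_assoc, hz2, mul_one]
  -- fusion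
  have hidx : (R.subgroupOf T).index = 2 := by
    rw [index_eq_two_iff_exists_notMem_and]
    refine ⟨⟨s, hsT⟩, hsR, fun b => or_iff_not_imp_right.2 fun hb => ?_⟩
    simp only [mem_subgroupOf] at hb ⊢
    refine hT₀R _ (T.mul_mem b.2 hsT) (mul_inv_eq_iff_eq_mul.1 ?_)
    show ((b : X) * s) * c * ((b : X) * s)⁻¹ = c
    calc ((b : X) * s) * c * ((b : X) * s)⁻¹ = b * (s * c * s⁻¹) * (b : X)⁻¹ := by group
      _ = ((b : X) * c * (b : X)⁻¹)⁻¹ := by rw [hinvert s hsT hsR]; group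
      _ = c := by rw [hinvert _ b.2 hb, inv_inv]
  obtain ⟨g, hg, hgs⟩ : ∃ g ∈ A, g * s * g⁻¹ ∈ R := by
    have h := CfsgLib.ThompsonTransfer.thompson_transfer (G := A) (T.subgroupOf A) (R.subgroupOf A)
      hTodd ?_ (u := ⟨s, hTA hsT⟩) (Subtype.ext hs2)
    · rcases h with ⟨M, hMn, hMi, -⟩ | ⟨g, hg⟩
      · exfalso
        haveI := hMn
        have hcm : commutator A ≤ M := by
          haveI : IsCyclic (A ⧸ M) := isCyclic_of_prime_card (p := 2) (by rw [← index_eq_card, hMi])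
          letI : CommGroup (A ⧸ M) := IsCyclic.commGroup
          have := Abelianization.commutator_subset_ker (QuotientGroup.mk' M)
          rwa [QuotientGroup.ker_mk'] at this
        have : commutator A = ⊤ := by
          refine eq_top_iff.2 fun a _ => ?_
          have h := map_subtype_commutator A
          rw [hperf] at h
          obtain ⟨b, hb, hba⟩ := mem_map.1 (h.symm ▸ a.2 : (a : X) ∈ (commutator A).map A.subtype)
          rwa [← Subtype.ext hba]
        rw [this, top_le_iff] at hcm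
        rw [hcm, index_top] at hMi
        omega
      · exact ⟨g, g.2, hg⟩
    · rw [relIndex_subgroupOf hTA]; exact hidx
  have hgs2 : g * s * g⁻¹ * (g * s * g⁻¹) = 1 := by
    rw [show g * s * g⁻¹ * (g * s * g⁻¹) = g * (s * s) * g⁻¹ by group, hs2]; group
  have hgz : g * s * g⁻¹ = z :=
    (hinvR _ hgs hgs2).resolve_left fun h => hs1 (conj_eq_one_iff.1 h)
  -- move `g z g⁻¹` into `T`
  set Cz : Subgroup X := A ⊓ centralizer {z} with hCz
  have hTCz : T ≤ Cz := fun t ht => ⟨ht.1, mem_centralizer_iff.2 fun d hd => by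
    rw [Set.mem_singleton_iff.1 hd]; exact (hzS t ht.2).symm⟩
  have hTCzodd : Odd (T.relIndex Cz) :=
    Nat.Odd.of_mul_left (relIndex_mul_relIndex T Cz A hTCz inf_le_left ▸ hTodd :
      Odd (T.relIndex Cz * Cz.relIndex A))
  have hgzc : Commute (g * z * g⁻¹) z := by
    have h := Commute.conj (hzS s hsT.2).symm g
    rwa [hgz] at h
  have hgz2 : g * z * g⁻¹ * (g * z * g⁻¹) = 1 := by
    rw [show g * z * g⁻¹ * (g * z * g⁻¹) = g * (z * z) * g⁻¹ by group, hz2]; group
  obtain ⟨c₀, hc₀, hc₀T⟩ := conj_into hTCz hT2 hTCzodd (P := zpowers (g * z * g⁻¹))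
    (zpowers_le.2 ⟨hAn.conj_mem z hzT.1 g, mem_centralizer_iff.2 fun d hd => by
      rw [Set.mem_singleton_iff.1 hd]; exact hgzc.symm⟩)
    ((isPGroup_pair hgz2 hgz2 (Commute.refl _)).to_le (zpowers_le.2 (subset_closure (Or.inl rfl))))
  have hc₀z : Commute c₀ z := (mem_centralizer_iff.1 hc₀.2 z rfl).symm
  set f := c₀ * g with hf
  have hfA : f ∈ A := A.mul_mem hc₀.1 hg
  have hfs : f * s * f⁻¹ = z := by
    rw [hf, show c₀ * g * s * (c₀ * g)⁻¹ = c₀ * (g * s * g⁻¹) * c₀⁻¹ by group, hgz, hc₀z.eq,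
      mul_inv_cancel_right]
  have hfzT : f * z * f⁻¹ ∈ T := by
    rw [hf, show c₀ * g * z * (c₀ * g)⁻¹ = c₀ * (g * z * g⁻¹) * c₀⁻¹ by group]
    exact hc₀T _ (mem_zpowers _)
  have hfz2 : f * z * f⁻¹ * (f * z * f⁻¹) = 1 := by
    rw [show f * z * f⁻¹ * (f * z * f⁻¹) = f * (z * z) * f⁻¹ by group, hz2]; group
  have hfzR : f * z * f⁻¹ ∉ R := fun h => by
    have h' := (hinvR _ h hfz2).resolve_left fun h => hz1 (conj_eq_one_iff.1 h)
    exact hsR (mul_left_cancel (mul_right_cancel (hfs.trans h'.symm)) ▸ hzR)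
  -- the conjugate of `v`
  set v' := f⁻¹ * v * f with hv'
  have hv's : v' * v' = s := by
    rw [hv', show f⁻¹ * v * f * (f⁻¹ * v * f) = f⁻¹ * (v * v) * f by group, hvv, ← hfs]; group
  have hv'z : Commute v' z := by
    have h := Commute.conj (hvfix _ hfzT hfz2 hfzR) f⁻¹
    rw [show f⁻¹ * (f * z * f⁻¹) * f⁻¹⁻¹ = z by group, inv_inv] at h
    exact h
  have hv's' : Commute v' s := by rw [← hv's]; exact (Commute.refl v').mul_right (Commute.refl v')
  have hvs : Commute v s := hvfix s hsT hs2 hsR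
  set a := v' * v⁻¹ with hadef
  have haA : a ∈ A := by
    rw [show a = f⁻¹ * (v * f * v⁻¹) by rw [hadef, hv']; group]
    exact A.mul_mem (A.inv_mem hfA) (hAn.conj_mem f hfA v)
  set C₂ : Subgroup X := A ⊓ centralizer {z, s} with hC₂
  have hmemC : ∀ w, w ∈ C₂ ↔ w ∈ A ∧ Commute w z ∧ Commute w s := fun w => by
    simp only [hC₂, mem_inf, mem_centralizer_iff, Set.mem_insert_iff, Set.mem_singleton_iff,
      forall_eq_or_imp, forall_eq]
    exact and_congr_right' ⟨fun h => ⟨h.1.symm, h.2.symm⟩, fun h => ⟨h.1.eq.symm, h.2.eq.symm⟩⟩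
  have haC : a ∈ C₂ :=
    (hmemC a).2 ⟨haA, hv'z.mul_left hvz.inv_left, hv's'.mul_left hvs.inv_left⟩
  have hava : v * a * v⁻¹ ∈ C₂ := by
    refine (hmemC _).2 ⟨hAn.conj_mem a haA v, ?_, ?_⟩
    · exact (hvz.mul_left ((hmemC a).1 haC).2.1).mul_left hvz.inv_left
    · exact (hvs.mul_left ((hmemC a).1 haC).2.2).mul_left hvs.inv_left
  have hkey : s = a * (v * a * v⁻¹) * z := by
    rw [← hv's, ← hvv, hadef]; group
  -- a Sylow subgroup of `C₂` is `{1, z, s, z * s}`
  set E₀ : Subgroup X := closure {z, s} with hE₀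
  have hzs : Commute z s := (hzS s hsT.2).symm
  have hE₀C : E₀ ≤ C₂ := (closure_le _).2 (by
    rintro d (rfl | hd)
    · exact (hmemC _).2 ⟨hzT.1, Commute.refl _, hzs⟩
    · rw [Set.mem_singleton_iff] at hd; subst hd
      exact (hmemC _).2 ⟨hsT.1, hzs.symm, Commute.refl _⟩)
  obtain ⟨Q, hQ⟩ := (isPGroup_pair hz2 hs2 hzs).comap_subtype (K := C₂) |>.exists_le_sylow
  have hQ' : ∀ q : C₂, q ∈ (Q : Subgroup C₂) →
      (q : X) = 1 ∨ (q : X) = z ∨ (q : X) = s ∨ (q : X) = z * s := by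
    set P := (Q : Subgroup C₂).map C₂.subtype with hP
    have hPC : P ≤ Cz := by
      rintro _ ⟨q, -, rfl⟩
      exact ⟨((hmemC _).1 q.2).1, mem_centralizer_iff.2 fun d hd => by
        rw [Set.mem_singleton_iff.1 hd]; exact ((hmemC _).1 q.2).2.1.symm⟩
    obtain ⟨g₁, hg₁, hg₁T⟩ := conj_into hTCz hT2 hTCzodd hPC (Q.2.map _)
    intro q hq
    have hsP : s ∈ P := ⟨⟨s, hE₀C (subset_closure (by simp))⟩, hQ (subset_closure (by simp)), rfl⟩
    have hg₁z : g₁ * z * g₁⁻¹ = z := by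
      rw [← (mem_centralizer_iff.1 hg₁.2 z rfl), mul_inv_cancel_right]
    set t := g₁ * s * g₁⁻¹ with ht
    have ht2 : t * t = 1 := by
      rw [ht, show g₁ * s * g₁⁻¹ * (g₁ * s * g₁⁻¹) = g₁ * (s * s) * g₁⁻¹ by group, hs2]; group
    have htR : t ∉ R := fun h => hsR (by
      have h' := (hinvR _ h ht2).resolve_left fun e => hs1 (conj_eq_one_iff.1 e)
      exact mul_left_cancel (mul_right_cancel (h'.trans hg₁z.symm)) ▸ hzR)
    set q' := g₁ * q * g₁⁻¹ with hq'
    have hq'T : q' ∈ T := hg₁T _ ⟨q, hq, rfl⟩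
    have hq't : Commute q' t := Commute.conj ((hmemC _).1 q.2).2.2 g₁
    have inT : ∀ w ∈ R, Commute w t → w = 1 ∨ w = z := by
      intro w hw hwt
      refine hinvR w hw ?_
      by_contra hw2
      have htT : t ∈ T := hg₁T s hsP
      obtain ⟨l, hl⟩ := IsPGroup.iff_orderOf.1 hT2 ⟨w, hRT hw⟩
      rw [orderOf_mk] at hl
      have hl2 : 2 ≤ l := by
        by_contra hlt
        refine hw2 ?_
        rw [← pow_two, ← orderOf_dvd_iff_pow_eq_one, hl]
        exact (pow_dvd_pow 2 (show l ≤ 1 by omega)).trans (by norm_num)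
      set w' := w ^ 2 ^ (l - 2) with hw'
      have hw4 : w' ^ 4 = 1 := by
        rw [hw', ← pow_mul, show 2 ^ (l - 2) * 4 = 2 ^ (l - 2 + 2) by rw [pow_add]; norm_num,
          show l - 2 + 2 = l by omega, ← hl, pow_orderOf_eq_one]
      obtain ⟨n, hn⟩ := mem_zpowers_iff.1 (mem_zpowers_four hr.symm (k := k - 1)
        (by rw [hm]; congr 1; omega) hcdef (pow_mem hw _) hw4)
      have hinvn : t * c ^ n * t⁻¹ = (c ^ n)⁻¹ := by
        rw [← conj_zpow, hinvert t htT htR, inv_zpow]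
      have hfixn : t * c ^ n * t⁻¹ = c ^ n := by
        rw [hn, ← (hwt.pow_left _).eq, mul_inv_cancel_right]
      have h2 : c ^ n * c ^ n = 1 := by
        rw [mul_eq_one_iff_eq_inv, ← hinvn, hfixn]
      rw [hn, ← pow_add, ← two_mul, ← pow_succ', show l - 2 + 1 = l - 1 by omega,
        ← orderOf_dvd_iff_pow_eq_one, hl, Nat.pow_dvd_pow_iff_le_right (by norm_num)] at h2
      omega
    have hback : ∀ w, q' = g₁ * w * g₁⁻¹ → (q : X) = w := fun w h =>
      mul_left_cancel (mul_right_cancel h)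
    by_cases hq'R : q' ∈ R
    · rcases inT q' hq'R hq't with h | h
      · left; exact hback 1 (by rw [h]; group)
      · right; left; exact hback z (by rw [h, hg₁z])
    · have hprod : q' * t ∈ R := by
        have htT : t ∈ T := hg₁T s hsP
        refine hT₀R _ (T.mul_mem hq'T htT) (mul_inv_eq_iff_eq_mul.1 ?_)
        calc (q' * t) * c * (q' * t)⁻¹ = q' * (t * c * t⁻¹) * q'⁻¹ := by group
          _ = (q' * c * q'⁻¹)⁻¹ := by rw [hinvert t htT htR]; group
          _ = c := by rw [hinvert _ hq'T hq'R, inv_inv]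
      rcases inT _ hprod (hq't.mul_left (Commute.refl t)) with h | h
      · right; right; left
        refine hback s ?_
        calc q' = q' * t * t := by rw [mul_assoc, ht2, mul_one]
          _ = t := by rw [h, one_mul]
      · right; right; right
        refine hback (z * s) ?_
        calc q' = q' * t * t := by rw [mul_assoc, ht2, mul_one]
          _ = (g₁ * z * g₁⁻¹) * (g₁ * s * g₁⁻¹) := by rw [h, hg₁z]
          _ = _ := by group
  -- the transfer of `C₂` to its central Sylow subgroup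
  have hcentral : ∀ q : C₂, q ∈ (Q : Subgroup C₂) → ∀ b : C₂, b * q = q * b := by
    intro q hq b
    apply Subtype.ext
    obtain ⟨-, hbz, hbs⟩ := (hmemC _).1 b.2
    show (b : X) * q = q * b
    rcases hQ' q hq with h | h | h | h <;> rw [h]
    · simp
    · exact hbz.eq
    · exact hbs.eq
    · exact (hbz.mul_right hbs).eq
  have hsq : ∀ q : C₂, q ∈ (Q : Subgroup C₂) → q * q = 1 := by
    intro q hq
    apply Subtype.ext
    show (q : X) * q = 1
    rcases hQ' q hq with h | h | h | h <;> rw [h]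
    · simp
    · exact hz2
    · exact hs2
    · rw [show z * s * (z * s) = z * (s * z) * s by group, ← hzs.eq,
        show z * (z * s) * s = (z * z) * (s * s) by group, hz2, hs2, one_mul]
  have hP' : normalizer ((Q : Subgroup C₂) : Set C₂) ≤ centralizer ((Q : Subgroup C₂) : Set C₂) :=
    fun b _ => mem_centralizer_iff.2 fun q hq => (hcentral q hq b).symm
  let φ := MonoidHom.transferSylow Q hP'
  have hQodd : Odd (Q : Subgroup C₂).index :=
    Nat.not_even_iff_odd.1 fun h => Q.not_dvd_index h.two_dvd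
  have hφQ : ∀ q (hq : q ∈ (Q : Subgroup C₂)), φ q = ⟨q, hq⟩ := by
    intro q hq
    rw [MonoidHom.transferSylow_eq_pow Q hP' q hq]
    apply Subtype.ext
    show q ^ (Q : Subgroup C₂).index = q
    obtain ⟨d, hd⟩ := hQodd
    rw [hd, pow_succ, pow_mul, pow_two, hsq q hq, one_pow, one_mul]
  let av : C₂ := ⟨a, haC⟩
  let bv : C₂ := ⟨v * a * v⁻¹, hava⟩
  have hφeq : φ bv = φ av := by
    set q₀ : C₂ := ((φ av : (Q : Subgroup C₂)) : C₂) with hq₀
    have hq₀Q : q₀ ∈ (Q : Subgroup C₂) := (φ av).2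
    set κ := av * q₀⁻¹ with hκ
    have hκker : κ ∈ φ.ker := by
      rw [MonoidHom.mem_ker, hκ, map_mul, map_inv, hφQ q₀ hq₀Q]
      exact mul_inv_cancel _
    obtain ⟨n, hn, hκn⟩ : ∃ n, Odd n ∧ κ ^ n = 1 :=
      ⟨Nat.card φ.ker, Nat.not_even_iff_odd.1 fun h =>
        MonoidHom.not_dvd_card_ker_transferSylow Q hP' h.two_dvd,
        by simpa using congrArg Subtype.val (pow_card_eq_one' (x := (⟨κ, hκker⟩ : φ.ker)))⟩
    have hvq : Commute v (q₀ : X) := by
      rcases hQ' q₀ hq₀Q with h | h | h | h <;> rw [h]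
      · exact Commute.one_right _
      · exact hvz
      · exact hvs
      · exact hvz.mul_right hvs
    set κ' : C₂ := bv * q₀⁻¹ with hκ'
    have hκ'n : κ' ^ n = 1 := by
      apply Subtype.ext
      have he : (κ' : X) = v * (κ : X) * v⁻¹ := by
        show v * a * v⁻¹ * (q₀ : X)⁻¹ = v * (a * (q₀ : X)⁻¹) * v⁻¹
        rw [mul_assoc, (hvq.inv_left.inv_right).eq]
        group
      show (κ' : X) ^ n = 1
      rw [he, conj_pow]
      have h1 : (κ : X) ^ n = 1 := by simpa using congrArg Subtype.val hκn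
      rw [h1, mul_one, mul_inv_cancel]
    have hκ'φ : φ κ' = 1 := by
      have h1 : φ κ' ^ n = 1 := by rw [← map_pow, hκ'n, map_one]
      have h2 : φ κ' * φ κ' = 1 := Subtype.ext (hsq _ (φ κ').2)
      obtain ⟨d, hd⟩ := hn
      rwa [hd, pow_succ, pow_mul, pow_two, h2, one_pow, one_mul] at h1
    calc φ bv = φ κ' * φ q₀ := by rw [hκ', map_mul, map_inv, inv_mul_cancel_right]
      _ = φ av := by rw [hκ'φ, one_mul, hφQ q₀ hq₀Q]
  have hsz : (⟨s * z, mul_mem (hE₀C (subset_closure (by simp))) (hE₀C (subset_closure (by simp)))⟩ : C₂)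
      = av * bv := by
    apply Subtype.ext
    show s * z = a * (v * a * v⁻¹)
    rw [hkey, mul_assoc, mul_assoc, hz2, mul_one]
  have h1 : φ (av * bv) = 1 := by
    rw [map_mul, hφeq]
    exact Subtype.ext (hsq _ (φ av).2)
  have hszQ : av * bv ∈ (Q : Subgroup C₂) := by
    rw [← hsz]
    exact hQ (mul_mem (subset_closure (by simp)) (subset_closure (by simp)))
  rw [hφQ _ hszQ] at h1
  have h3 : ((av * bv : C₂) : X) = 1 := congrArg (fun q : (Q : Subgroup C₂) => ((q : C₂) : X)) h1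
  have h2 : s * z = 1 := (congrArg Subtype.val hsz).trans h3
  exact hsR ((mul_eq_one_iff_eq_inv.1 h2).trans (inv_eq_of_mul_eq_one_right hz2) ▸ hzR)

end CfsgLib.FourRankOne
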