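import Cfsg.Agent.Invol.CentralizerPattern
import Cfsg.Agent.Invol.SmallSylow
import Cfsg.Agent.Perm.MinimalNormal
import Cfsg.Agent.Solvable.Basics
import Cfsg.Agent.Invol.IsolatedApps

/-!
# Fusion simple groups with quasi-dihedral or wreathed Sylow subgroups modulo the odd core
-/

set_option autoImplicit false

namespace CfsgLib.FusionSimple

open Subgroup

variable {Q : Type*} [Group Q] [Finite Q]

theorem exists_data (hQ : ∀ H : Subgroup Q, H.index ≠ 2) (S : Sylow 2 Q)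
    (hS : Cfsg.IsQuasiDihedral (S : Subgroup Q) ∨ Cfsg.IsWreathed (S : Subgroup Q)) :
    (∀ a b : Q, orderOf a = 2 → orderOf b = 2 → IsConj a b) ∧
      (∃ a b : Q, orderOf a = 2 ∧ orderOf b = 2 ∧ ¬ Commute a b) ∧
      ∃ x : (S : Subgroup Q), closure {g : (S : Subgroup Q) | orderOf g = 2} ⊔ zpowers x = ⊤ := by
  refine ⟨fun a b ha hb => InvolPattern.isConj_of_one_class
    (hS.elim (fun h => (InvolPattern.qd_one_class hQ S h).1) fun h => (InvolPattern.wreath_one_class hQ S h).1)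
    ha hb, ?_⟩
  rcases hS with hS | hS
  · obtain ⟨D⟩ := CfsgLib.QD.exists_data hS
    have hq := D.q_pos
    refine ⟨⟨D.gy 0, D.gy 2, D.gy_order_two (by norm_num), D.gy_order_two (by norm_num), fun h => ?_⟩,
      D.x, ?_⟩
    · have h1 : Commute (D.x ^ (0 : ℤ) * D.y) (D.x ^ (2 : ℤ) * D.y) := Subtype.ext h
      rw [zpow_zero, one_mul] at h1
      have h2 : Commute (D.x ^ (2 : ℤ)) (D.x ^ (0 : ℤ) * D.y) := by
        rw [zpow_zero, one_mul, show D.x ^ (2 : ℤ) = D.x ^ (2 : ℤ) * D.y * D.y by rw [mul_assoc, D.yy, mul_one]]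
        exact h1.symm.mul_left (Commute.refl _)
      rcases D.rot_commute_iff.1 h2 with h3 | h3
      · rw [← zpow_zero D.x, D.zpow_eq_iff] at h3
        have := Int.le_of_dvd (by omega) h3
        omega
      · rw [CfsgLib.QD.Data.z, D.zpow_eq_iff] at h3
        have := Int.le_of_dvd (by omega) (dvd_neg.2 h3)
        omega
    · rw [D.closure_invol, eq_top_iff]
      intro g _
      have hy : D.y ∈ D.half 0 := by
        simpa using (D.refl_mem_half (ε := 0) (i := 0)).2 (by simp)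
      rcases D.cases g with ⟨i, rfl⟩ | ⟨i, rfl⟩
      · exact mem_sup_right (mem_zpowers_iff.2 ⟨i, rfl⟩)
      · exact mul_mem (mem_sup_right (mem_zpowers_iff.2 ⟨i, rfl⟩)) (mem_sup_left hy)
  · obtain ⟨D⟩ := CfsgLib.Wreath.exists_data hS
    refine ⟨⟨D.gref 0 0, D.gref 1 (-1), D.gref_order, ?_, fun h => ?_⟩, D.x, ?_⟩
    · rw [CfsgLib.Wreath.Data.gref, Subgroup.orderOf_coe, D.refl_invol_iff]; simp
    · have h1 : Commute (D.e 0 0 * D.t) (D.e 1 (-1) * D.t) := Subtype.ext h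
      have h2 : Commute (D.e 1 (-1)) (D.e 0 0 * D.t) := by
        have h3 : D.e 1 (-1) = D.e 1 (-1) * D.t * (D.e 0 0 * D.t) := by
          rw [D.e_zero, one_mul, mul_assoc, D.tt, mul_one]
        rw [h3]
        exact h1.symm.mul_left (Commute.refl _)
      have h3 := D.refl_commute_iff.1 h2
      have h4 := Int.le_of_dvd (by norm_num) h3
      have hN : D.N = 4 * (D.q : ℤ) := rfl
      have := D.q_pos
      omega
    · rw [D.closure_invol, D.involSpan_sup]

theorem exists_simple_normal (hO : Cfsg.oddCore Q = ⊥) (hQ : ∀ H : Subgroup Q, H.index ≠ 2) (S : Sylow 2 Q)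
    (hS : Cfsg.IsQuasiDihedral (S : Subgroup Q) ∨ Cfsg.IsWreathed (S : Subgroup Q)) :
    ∃ L : Subgroup Q, L.Normal ∧ Odd L.index ∧ IsSimpleGroup L ∧ ¬ IsMulCommutative L := by
  haveI : Fact (Nat.Prime 2) := ⟨Nat.prime_two⟩
  obtain ⟨hconj, ⟨a, b, ha, hb, hab⟩, x, hx⟩ := exists_data hQ S hS
  have htop : (⊤ : Subgroup Q) ≠ ⊥ := fun h => CfsgLib.Invol.ne_one ha (mem_bot.1 (h ▸ mem_top a))
  obtain ⟨N, hN, hN1, -, hmin⟩ := CfsgLib.Solvable.exists_minimal_normal_le (N := (⊤ : Subgroup Q)) htop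
  haveI := hN
  obtain ⟨u, huN, hu⟩ : ∃ u ∈ N, orderOf u = 2 := by
    by_contra hno
    push Not at hno
    refine hN1 (eq_bot_iff.2 (hO ▸ le_sSup ⟨hN, Nat.coprime_two_right.2 (Nat.not_even_iff_odd.1 fun hev => ?_)⟩))
    obtain ⟨w, hw⟩ := exists_prime_orderOf_dvd_card' (G := N) 2 (even_iff_two_dvd.1 hev)
    exact hno w w.2 (by rwa [Subgroup.orderOf_coe])
  have hinv : ∀ v : Q, orderOf v = 2 → v ∈ N := fun v hv => by
    obtain ⟨c, rfl⟩ := isConj_iff.1 (hconj u v hu hv)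
    exact hN.conj_mem u huN c
  have hna : ¬ IsMulCommutative N := fun h =>
    hab (congrArg Subtype.val (h.is_comm.comm ⟨a, hinv a ha⟩ ⟨b, hinv b hb⟩))
  obtain ⟨T, hT⟩ := ExtPrim.exists_isFactor N hN1 hmin hna
  have hcen : ∀ v ∈ N, (∀ y ∈ N, y * v = v * y) → v = 1 := by
    let Z : Subgroup Q := N ⊓ centralizer (N : Set Q)
    have hZ : Z = ⊥ := (hmin Z inferInstance inf_le_left).resolve_right fun h => hna
      ⟨⟨fun p q => Subtype.ext (mem_centralizer_iff.1 ((h.symm ▸ q.2 : (q : Q) ∈ Z)).2 p p.2)⟩⟩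
    intro v hv hc
    exact mem_bot.1 (hZ ▸ (⟨hv, mem_centralizer_iff.2 hc⟩ : v ∈ Z))
  obtain ⟨t, htT, ht⟩ : ∃ t ∈ T, orderOf t = 2 := by
    by_contra hno
    push Not at hno
    refine CfsgLib.Invol.ne_one hu (hcen u huN fun y hy => ?_)
    suffices hle : N ≤ centralizer ({u} : Set Q) from mem_centralizer_singleton_iff.1 (hle hy)
    rw [← MinimalNormal.factors_iSup hT]
    refine iSup_le fun ⟨H, g, hg⟩ w hw => ?_
    subst hg
    have hTg := hT.cj g
    obtain ⟨p, hp, c, hc, hupc⟩ := hTg.exists_mul huN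
    have hpc := hTg.commute hp hc
    have hp1 : p = 1 := by
      by_contra hp1
      have h2 : p * p = 1 := by
        have h3 : p * p * (c * c) = 1 := by
          rw [← CfsgLib.Invol.mul_self_eq_one hu, hupc, hpc.symm.mul_mul_mul_comm]
        have h4 : p * p ∈ ExtPrim.cj g T ⊓ ExtPrim.others (ExtPrim.cj g T) :=
          Subgroup.mem_inf.2 ⟨mul_mem hp hp, by rw [eq_inv_of_mul_eq_one_left h3]; exact inv_mem (mul_mem hc hc)⟩
        rw [hTg.inf_others] at h4
        exact mem_bot.1 h4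
      refine hno (g⁻¹ * p * g) (ExtPrim.mem_cj.1 hp) ?_
      rw [show g⁻¹ * p * g = g⁻¹ * p * g⁻¹⁻¹ by rw [inv_inv], CfsgLib.Invol.orderOf_conj_eq]
      exact CfsgLib.Invol.orderOf_eq_two h2 hp1
    rw [hp1, one_mul] at hupc
    exact mem_centralizer_singleton_iff.2 (hupc.symm ▸ hTg.commute hw hc).eq
  have hTn : ∀ g, ExtPrim.cj g T = T := by
    by_contra hne
    push Not at hne
    obtain ⟨g, hg⟩ := hne
    have hoth : g * t * g⁻¹ ∈ ExtPrim.others T := ExtPrim.cj_le_others hg (ExtPrim.conj_mem_cj htT)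
    have hc := hT.commute htT hoth
    have hg2 : orderOf (g * t * g⁻¹) = 2 := by rw [CfsgLib.Invol.orderOf_conj_eq, ht]
    have h2 : orderOf (t * (g * t * g⁻¹)) = 2 := by
      refine CfsgLib.Invol.orderOf_eq_two ?_ fun h => ?_
      · rw [hc.symm.mul_mul_mul_comm, CfsgLib.Invol.mul_self_eq_one ht, CfsgLib.Invol.mul_self_eq_one hg2, one_mul]
      · have h4 : t ∈ T ⊓ ExtPrim.others T :=
          Subgroup.mem_inf.2 ⟨htT, by rw [eq_inv_of_mul_eq_one_left h]; exact inv_mem hoth⟩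
        rw [hT.inf_others] at h4
        exact CfsgLib.Invol.ne_one ht (mem_bot.1 h4)
    obtain ⟨k, hk⟩ := isConj_iff.1 (hconj t _ ht h2)
    have hm : t * (g * t * g⁻¹) ∈ ExtPrim.cj k T := hk ▸ ExtPrim.conj_mem_cj htT
    by_cases hkT : ExtPrim.cj k T = T
    · rw [hkT] at hm
      have h4 : g * t * g⁻¹ ∈ T ⊓ ExtPrim.others T := ⟨(mul_mem_cancel_left htT).1 hm, hoth⟩
      rw [hT.inf_others] at h4
      exact CfsgLib.Invol.ne_one hg2 (mem_bot.1 h4)
    · have h4 : t ∈ T ⊓ ExtPrim.others T :=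
        ⟨htT, (mul_mem_cancel_right hoth).1 (ExtPrim.cj_le_others hkT hm)⟩
      rw [hT.inf_others] at h4
      exact CfsgLib.Invol.ne_one ht (mem_bot.1 h4)
  have hTN : T = N := (hmin T ⟨fun n hn g => hTn g ▸ ExtPrim.conj_mem_cj hn⟩ hT.le).resolve_left hT.ne_bot
  refine ⟨N, hN, ?_, hTN ▸ hT.simple, hna⟩
  by_contra hev
  set π := QuotientGroup.mk' N
  have hπ : Function.Surjective π := QuotientGroup.mk'_surjective N
  have himg : ((S.mapSurjective hπ : Sylow 2 (Q ⧸ N)) : Subgroup (Q ⧸ N)) = zpowers (π x) := by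
    show (S : Subgroup Q).map π = _
    have h0 : (S : Subgroup Q).map π = (⊤ : Subgroup (S : Subgroup Q)).map (π.comp (S : Subgroup Q).subtype) := by
      rw [← map_map, ← MonoidHom.range_eq_map, range_subtype]
    rw [h0, ← hx, Subgroup.map_sup, MonoidHom.map_zpowers]
    refine sup_eq_right.2 ((map_le_iff_le_comap).2 (((closure_le _).2 fun v hv => ?_).trans (comap_mono bot_le)))
    show π v = 1
    exact (QuotientGroup.eq_one_iff _).2 (hinv v (by rw [Subgroup.orderOf_coe]; exact hv))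
  obtain ⟨H, hH⟩ := SmallSylow.exists_index_two_of_cyclic
    (by rw [← index_eq_card]; exact Nat.not_odd_iff_even.1 hev) (S.mapSurjective hπ) (himg ▸ inferInstance)
  exact hQ (H.comap π) (by rw [index_comap_of_surjective _ hπ, hH])

theorem main {G : Type*} [Group G] [Finite G] (S : Sylow 2 G)
    (hS : Cfsg.IsQuasiDihedral (S : Subgroup G) ∨ Cfsg.IsWreathed (S : Subgroup G))
    (hG : ∀ H : Subgroup G, H.index ≠ 2) :
    ∃ L : Subgroup (G ⧸ Cfsg.oddCore G), L.Normal ∧ Odd L.index ∧ IsSimpleGroup L ∧ ¬ IsMulCommutative L := by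
  haveI : Fact (Nat.Prime 2) := ⟨Nat.prime_two⟩
  set π := QuotientGroup.mk' (Cfsg.oddCore G)
  have hπ : Function.Surjective π := QuotientGroup.mk'_surjective _
  let f := π.comp (S : Subgroup G).subtype
  have hf : Function.Injective f := by
    rw [injective_iff_map_eq_one]
    intro v hv
    have h1 : (v : G) ∈ Cfsg.oddCore G := (QuotientGroup.eq_one_iff _).1 hv
    obtain ⟨k, hk⟩ := IsPGroup.iff_orderOf.1 S.2 v
    refine orderOf_eq_one_iff.1 (Nat.eq_one_of_dvd_coprimes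
      ((Nat.coprime_two_left.2 (CfsgLib.IsoApps.odd_oddCore (G := G))).pow_left k)
      (dvd_of_eq hk) ?_)
    rw [← Subgroup.orderOf_coe]
    exact orderOf_dvd_natCard _ h1
  have hrange : f.range = (S.mapSurjective hπ : Subgroup (G ⧸ Cfsg.oddCore G)) := by
    rw [MonoidHom.range_comp, range_subtype]; rfl
  have e := (MonoidHom.ofInjective hf).trans (MulEquiv.subgroupCongr hrange)
  exact exists_simple_normal (CfsgLib.Fitting.pPrimeCore_quotient_eq_bot 2)
    (fun H hH => hG (H.comap π) (by rw [index_comap_of_surjective _ hπ, hH])) (S.mapSurjective hπ)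
    (hS.imp (InvolPattern.isQuasiDihedral_congr e) (InvolPattern.isWreathed_congr e))

end CfsgLib.FusionSimple
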