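import Cfsg.Agent.Invol.CentralWeak
import Cfsg.Agent.Invol.Wreathed
import Cfsg.Agent.Invol.QuasiDihedral
import Cfsg.Agent.Transfer.Basic

/-!
The centre of a quasi-dihedral or wreathed Sylow 2-subgroup with an isolated involution.
-/

set_option autoImplicit false
set_option linter.unusedSectionVars false
set_option linter.deprecated false
set_option linter.style.haveILetI false

namespace CfsgLib.IsolatedCenter

open Subgroup

universe u

variable {X : Type u} [Group X] [Finite X]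

theorem isolated_center (S : Sylow 2 X) {z : X} (hz : Cfsg.IsIsolatedInvolution z) (hzS : z ∈ (S : Subgroup X))
    {s : X} (hs : s ∈ (S : Subgroup X)) : s * z * s⁻¹ = z := by
  have hm : z * (s * z * s⁻¹) ∈ (S : Subgroup X) := mul_mem hzS (mul_mem (mul_mem hs hzS) (inv_mem hs))
  obtain ⟨k, hk⟩ := IsPGroup.iff_orderOf.1 S.2 ⟨_, hm⟩
  rw [Subgroup.orderOf_mk] at hk
  have hodd := CfsgLib.Invol.isolated_odd hz s
  rw [hk] at hodd
  rcases k with _ | k
  · rw [pow_zero, orderOf_eq_one_iff] at hk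
    exact (eq_inv_of_mul_eq_one_right hk).trans (CfsgLib.Invol.inv_eq_self hz.1)
  · exact absurd hodd (by simp [Nat.even_pow, parity_simps])

/-- No element of `N(S)` moves a central element `w` to `w z`. -/
theorem no_shift (S : Sylow 2 X) {z w n : X} (hz : z * z = 1) (hz1 : z ≠ 1)
    (hn : n ∈ normalizer ((S : Subgroup X) : Set X)) (hnz : n * z * n⁻¹ = z)
    (hw : ∀ s ∈ (S : Subgroup X), s * w * s⁻¹ = w) : n * w * n⁻¹ ≠ w * z := by
  haveI : Fact (Nat.Prime 2) := ⟨Nat.prime_two⟩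
  intro h
  have hk : ∀ k : ℕ, n ^ k * w * (n ^ k)⁻¹ = w * z ^ k := by
    intro k
    induction k with
    | zero => simp
    | succ k ih =>
      rw [show n ^ (k + 1) * w * (n ^ (k + 1))⁻¹ = n * (n ^ k * w * (n ^ k)⁻¹) * n⁻¹ by
        rw [pow_succ']; group, ih, show n * (w * z ^ k) * n⁻¹ = (n * w * n⁻¹) * (n * z * n⁻¹) ^ k by
        rw [conj_pow]; group, h, hnz, pow_succ', mul_assoc]
  set N := normalizer ((S : Subgroup X) : Set X)
  set r := ((S : Subgroup X).subgroupOf N).index with hr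
  have hodd : Odd r := by
    refine Nat.not_even_iff_odd.1 fun he => S.not_dvd_index ?_
    exact dvd_trans (even_iff_two_dvd.1 he) (relIndex_dvd_index_of_le le_normalizer)
  haveI : ((S : Subgroup X).subgroupOf N).Normal := normal_in_normalizer
  have hmem : n ^ r ∈ (S : Subgroup X) :=
    mem_subgroupOf.1 (pow_index_mem ((S : Subgroup X).subgroupOf N) (⟨n, hn⟩ : N))
  have h2 := (hk r).symm.trans (hw _ hmem)
  obtain ⟨j, hj⟩ := hodd
  rw [hj, pow_succ, pow_mul, sq, hz, one_pow, one_mul] at h2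
  exact hz1 (mul_eq_left.1 h2)

/-- The centre of `S` is weakly closed, under a condition satisfied by wreathed groups. -/
theorem alone_center (S : Sylow 2 X) {z : X} (hz : Cfsg.IsIsolatedInvolution z) (hzS : z ∈ (S : Subgroup X))
    (Z : Subgroup X) (hZS : Z ≤ (S : Subgroup X)) (hZ : ∀ w ∈ Z, ∀ s ∈ (S : Subgroup X), s * w * s⁻¹ = w)
    (hin : ∀ v ∈ Z, ∀ w ∈ Z, v * v = w * w → v = w ∨ v = w * z)
    (hout : ∀ v ∈ (S : Subgroup X), ∀ w ∈ Z, v ∉ Z → v * v = w * w → ∃ s ∈ (S : Subgroup X), s * v * s⁻¹ = v * z)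
    : ∀ (k : ℕ) (w : X), w ∈ Z → w ^ 2 ^ k = 1 → CentralWeak.Alone (S : Subgroup X) w := by
  haveI : Fact (Nat.Prime 2) := ⟨Nat.prime_two⟩
  have hz2 := CfsgLib.Invol.mul_self_eq_one hz.1
  intro k
  induction k with
  | zero =>
    intro w _ hk g _
    rw [pow_zero, pow_one] at hk
    simp [hk]
  | succ k ih =>
    intro w hw hk g hg
    have h2 : g * (w * w) * g⁻¹ = w * w := by
      refine ih (w * w) (mul_mem hw hw) (by rw [← sq, ← pow_mul, ← pow_succ']; exact hk) g ?_
      rw [show g * (w * w) * g⁻¹ = g * w * g⁻¹ * (g * w * g⁻¹) by group]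
      exact mul_mem hg hg
    set v := g * w * g⁻¹ with hv
    have hvv : v * v = w * w := by rw [← h2, hv]; group
    have hcz : ∀ s ∈ (S : Subgroup X), Commute s z := fun s hs =>
      mul_inv_eq_iff_eq_mul.1 (isolated_center S hz hzS hs)
    obtain ⟨c, -, hcz', hcw⟩ := CfsgLib.Invol.isolated_fusion hz (⊤ : Subgroup X) (le_normalizer (mem_top z))
      (hcz w (hZS hw)) (hcz v hg) (mem_top g) hv.symm
    -- conjugate elements of `Z` are conjugate in the normalizer
    have key : ∀ c : X, Commute c z → c * w * c⁻¹ ≠ w * z := by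
      intro c hc hcon
      have himg : ∀ (g : X) (a b : X), g * a * g⁻¹ = b → (fun y => g * y * g⁻¹) '' ({a, z} : Set X) = {b, g * z * g⁻¹} :=
        fun g a b h => by rw [Set.image_pair, h]
      have hsub : ∀ a, (∀ s ∈ (S : Subgroup X), s * a * s⁻¹ = a) →
          ∀ x ∈ S, (fun y => x * y * x⁻¹) '' ({a, z} : Set X) = {a, z} := fun a ha x hx => by
        rw [himg x a a (ha x hx), isolated_center S hz hzS hx]
      have hwz : ∀ s ∈ (S : Subgroup X), s * (w * z) * s⁻¹ = w * z := fun s hs => by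
        rw [show s * (w * z) * s⁻¹ = (s * w * s⁻¹) * (s * z * s⁻¹) by group, hZ w hw s hs, isolated_center S hz hzS hs]
      obtain ⟨n, hn, hnW⟩ := CfsgLib.TransferBasic.fusion_normal_subsets S {w, z} {w * z, z} (hsub w (hZ w hw))
        (hsub _ hwz) c (by rw [himg c w _ hcon, hc.eq, mul_inv_cancel_right])
      have hnz : n * z * n⁻¹ = z := by
        have h1 : n * z * n⁻¹ ∈ ({w * z, z} : Set X) := hnW ▸ ⟨z, Or.inr rfl, rfl⟩
        rcases h1 with h1 | h1
        · exact hz.2 n (by rw [h1]; exact ((hcz w (hZS hw)).symm.mul_right (Commute.refl z)))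
        · exact h1
      have h1 : n * w * n⁻¹ ∈ ({w * z, z} : Set X) := hnW ▸ ⟨w, Or.inl rfl, rfl⟩
      rcases h1 with h1 | h1
      · exact no_shift S hz2 (CfsgLib.Invol.ne_one hz.1) hn hnz (hZ w hw) h1
      · have : w = z := (MulAut.conj n).injective (h1.trans hnz.symm)
        rw [this, hc.eq, mul_inv_cancel_right, hz2] at hcon
        exact CfsgLib.Invol.ne_one hz.1 hcon
    by_cases hvZ : v ∈ Z
    · exact (hin v hvZ w hw hvv).resolve_right fun h => key c hcz' (hcw.trans h)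
    · obtain ⟨s, hs, hsv⟩ := hout v hg w hw hvZ hvv
      refine absurd ?_ (key (c⁻¹ * s * c) ((hcz'.inv_left.mul_left (hcz s hs)).mul_left hcz'))
      have e1 : c⁻¹ * v * c = w := by rw [← hcw]; group
      calc c⁻¹ * s * c * w * (c⁻¹ * s * c)⁻¹ = c⁻¹ * (s * (c * w * c⁻¹) * s⁻¹) * c := by group
        _ = c⁻¹ * (v * z) * c := by rw [hcw, hsv]
        _ = (c⁻¹ * v * c) * (c⁻¹ * z * c) := by group
        _ = w * z := by
          rw [e1, hcz'.inv_left.eq, inv_mul_cancel_right]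

end CfsgLib.IsolatedCenter

namespace CfsgLib.Wreath.Data

open Subgroup

variable {S : Type*} [Group S] [Finite S] (D : CfsgLib.Wreath.Data S)

theorem center_invol {w : S} (hw : w ∈ center S) (h : orderOf w = 2) : w = D.e D.h D.h := by
  obtain ⟨a, rfl⟩ := D.center_mem_base hw
  have h1 := CfsgLib.Invol.mul_self_eq_one h
  rw [D.e_mul, D.e_eq_one_iff, ← two_mul] at h1
  rcases D.double_dvd h1.1 with ha | ha
  · exact absurd (D.e_eq_one_iff.2 ⟨ha, ha⟩) (CfsgLib.Invol.ne_one h)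
  · exact D.e_eq_iff.2 ⟨ha, ha⟩

theorem center_sqrt {v w : S} (hv : v ∈ center S) (hw : w ∈ center S) (h : v * v = w * w) :
    v = w ∨ v = w * D.e D.h D.h := by
  obtain ⟨a, rfl⟩ := D.center_mem_base hv
  obtain ⟨c, rfl⟩ := D.center_mem_base hw
  rw [D.e_mul, D.e_mul, D.e_eq_iff] at h
  rcases D.double_dvd (a := a - c) (by rw [show 2 * (a - c) = a + a - (c + c) by ring]; exact h.1) with ha | ha
  · exact Or.inl (D.e_eq_iff.2 ⟨ha, ha⟩)
  · exact Or.inr (by rw [D.e_mul, D.e_eq_iff, sub_add_eq_sub_sub]; exact ⟨ha, ha⟩)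

theorem sqrt_center_shift {v w : S} (hv : v ∉ center S) (hw : w ∈ center S) (h : v * v = w * w) :
    ∃ s : S, s * v * s⁻¹ = v * D.e D.h D.h := by
  obtain ⟨c, rfl⟩ := D.center_mem_base hw
  rcases D.cases v with ⟨a, b, rfl⟩ | ⟨a, b, rfl⟩
  · rw [D.mem_center_iff'] at hv
    rw [D.e_mul, D.e_mul, D.e_eq_iff] at h
    have hab : D.N ∣ a - b - D.h := (D.double_dvd (by
      rw [show 2 * (a - b) = (a + a - (c + c)) - (b + b - (c + c)) by ring]
      exact dvd_sub h.1 h.2)).resolve_left hv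
    refine ⟨D.t, ?_⟩
    rw [D.t_e, mul_inv_cancel_right, D.e_mul, D.e_eq_iff]
    constructor
    · rw [show b - (a + D.h) = -(a - b - D.h) - 2 * D.h by ring]
      exact dvd_sub hab.neg_right (D.h_two ▸ dvd_rfl)
    · rw [show a - (b + D.h) = a - b - D.h by ring]; exact hab
  · refine ⟨D.e D.h 0, ?_⟩
    rw [D.refl_conj, mul_assoc (D.e a b) D.t, D.t_e, ← mul_assoc (D.e a b), D.e_mul, D.refl_eq_iff]
    constructor
    · exact ⟨0, by ring⟩
    · rw [show b + 0 - D.h - (b + D.h) = -(2 * D.h) by ring, D.h_two]; exact dvd_rfl.neg_right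

end CfsgLib.Wreath.Data
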