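import Cfsg.Prelude.Def_CaseTheorems
import Cfsg.Agent.Functor.Sylow

/-!
Subgroups containing the `k`-generated core of a Sylow subgroup.
-/

set_option autoImplicit false
set_option linter.unusedSectionVars false
set_option linter.deprecated false
set_option linter.style.haveILetI false

namespace CfsgLib.KCore

open Subgroup CfsgLib.Functor
open scoped CfsgLib.Functor

variable {G : Type*} [Group G] [Finite G] {p : ℕ} [Fact p.Prime]

theorem not_rankLE_of_le {k : ℕ} {X Y : Subgroup G} (h : X ≤ Y) (hX : ¬ Cfsg.PRankLE p k X) :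
    ¬ Cfsg.PRankLE p k Y := fun hY => hX fun A hc he => by
  haveI := hc
  have h1 := hY (A.map (inclusion h)) inferInstance (by
    rintro _ ⟨a, ha, rfl⟩
    rw [← map_pow, he a ha, map_one])
  rwa [card_map_of_injective (inclusion_injective h)] at h1

theorem rankLE_of_equiv {k : ℕ} {X Y : Type*} [Group X] [Group Y] (e : X ≃* Y)
    (hX : Cfsg.PRankLE p k X) : Cfsg.PRankLE p k Y := fun A hc he => by
  haveI := hc
  have h1 := hX (A.map e.symm.toMonoidHom) inferInstance (by
    rintro _ ⟨a, ha, rfl⟩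
    rw [← map_pow, he a ha, map_one])
  rwa [card_map_of_injective (f := e.symm.toMonoidHom) e.symm.injective] at h1

theorem not_rankLE_cj {k : ℕ} {X : Subgroup G} (g : G) (hX : ¬ Cfsg.PRankLE p k X) :
    ¬ Cfsg.PRankLE p k ↥(g ⋆ X) := fun h =>
  hX (rankLE_of_equiv (X.equivMapOfInjective (MulAut.conj g).toMonoidHom (MulAut.conj g).injective).symm h)

variable {k : ℕ} {H S : Subgroup G} (hS : IsSylowIn p S H) (hrk : ¬ Cfsg.PRankLE p k S)
  (hΓ : ∀ X : Subgroup G, X ≤ S → ¬ Cfsg.PRankLE p k X → normalizer (X : Set G) ≤ H)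

include hS hrk hΓ

theorem isSylow : ∃ Q : Sylow p G, (Q : Subgroup G) = S := by
  obtain ⟨Q, hQ⟩ := hS.2.1.exists_le_sylow
  refine ⟨Q, ?_⟩
  rcases eq_or_lt_of_le hQ with h | h
  · exact h.symm
  · exfalso
    have h1 := lt_inf_normalizer Q.2 h
    have h2 : (Q : Subgroup G) ⊓ normalizer (S : Set G) ≤ H :=
      inf_le_right.trans (hΓ S le_rfl hrk)
    exact h1.ne (hS.eq_of_le (Q.2.to_le inf_le_left) h2 h1.le)

/-- `H` controls the conjugation of subgroups of `S` of rank greater than `k`. -/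
theorem mem_of_cj_le {X : Subgroup G} (hX : X ≤ S) (hXr : ¬ Cfsg.PRankLE p k X) {x : G}
    (hx : x ⋆ X ≤ H) : x ∈ H := by
  obtain ⟨n, hn⟩ : ∃ n, Nat.card S - Nat.card X = n := ⟨_, rfl⟩
  induction n using Nat.strongRecOn generalizing X x with | ind n ih => ?_
  have hXp : IsPGroup p ↥X := hS.2.1.to_le hX
  obtain ⟨h, hh, hhX⟩ := hS.exists_cj_le (isPGroup_cj x hXp) hx
  rw [cj_cj] at hhX
  suffices h * x ∈ H by simpa using mul_mem (inv_mem hh) this
  set g := h * x
  rcases eq_or_lt_of_le hX with rfl | hlt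
  · have e := eq_of_le_of_card_le' hhX (card_cj g X).ge
    exact hΓ X le_rfl hrk (mem_normalizer_iff_cj.2 e)
  · have hlt2 : g ⋆ X < S :=
      lt_of_le_of_ne hhX fun e => hlt.ne (eq_of_le_of_card_le' hX (by rw [← card_cj g X, e]))
    set Y := S ⊓ normalizer ((g ⋆ X : Subgroup G) : Set G)
    have hgrow : g ⋆ X < Y := lt_inf_normalizer hS.2.1 hlt2
    have hY' : g⁻¹ ⋆ Y ≤ normalizer (X : Set G) := by
      refine (cj_mono g⁻¹ inf_le_right).trans ?_
      rw [cj_normalizer, cj_inv_cj]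
    have hcard : Nat.card S - Nat.card Y < n := by
      have h1 : Nat.card ↥(g ⋆ X) < Nat.card Y := by
        by_contra hle
        exact hgrow.ne (eq_of_le_of_card_le' hgrow.le (not_lt.1 hle))
      have h2 : Nat.card Y ≤ Nat.card S := Subgroup.card_le_of_le inf_le_left
      rw [card_cj] at h1
      omega
    have := ih _ hcard inf_le_left (not_rankLE_of_le hgrow.le (not_rankLE_cj g hXr))
      (x := g⁻¹) (hY'.trans (hΓ X hX hXr)) rfl
    simpa using inv_mem this

theorem rankLE_inf_conj {g : G} (hg : g ∉ H) :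
    Cfsg.PRankLE p k ↥(H ⊓ g ⋆ H) := by
  intro A hc he
  by_contra hcon
  set B := A.map (H ⊓ g ⋆ H).subtype
  have hBp : IsPGroup p ↥B := fun b => ⟨1, by
    obtain ⟨a, ha, hab⟩ := b.2
    apply Subtype.ext
    rw [pow_one, SubgroupClass.coe_pow, ← hab, ← map_pow, he a ha, map_one, OneMemClass.coe_one]⟩
  have hBr : ¬ Cfsg.PRankLE p k B := by
    intro h
    haveI := hc
    set e := A.equivMapOfInjective (H ⊓ g ⋆ H).subtype (subtype_injective _)
    have := rankLE_of_equiv e.symm h ⊤ inferInstance (fun a _ => Subtype.ext (he a a.2))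
    rw [Subgroup.card_top] at this
    exact hcon this
  have hBH : B ≤ H := (map_subtype_le _).trans inf_le_left
  have hBg : g⁻¹ ⋆ B ≤ H := by
    refine (cj_mono g⁻¹ ((map_subtype_le _).trans inf_le_right)).trans ?_
    rw [cj_inv_cj]
  obtain ⟨m, hm, hmB⟩ := hS.exists_cj_le hBp hBH
  have h1 := mem_of_cj_le hS hrk hΓ hmB (not_rankLE_cj m hBr) (x := g⁻¹ * m⁻¹)
    (by rw [cj_cj, inv_mul_cancel_right]; exact hBg)
  exact hg (by simpa using inv_mem (mul_mem h1 hm))

end CfsgLib.KCore
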