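import Cfsg.Agent.Kinf.LocalBalanceApps

/-!
Local balance passes from `K / Z(K)` to a perfect group `K`; `k`-balance from local balance of the
central quotients of components.
-/

set_option autoImplicit false
set_option linter.unusedSectionVars false
set_option linter.deprecated false
set_option linter.style.haveILetI false

namespace CfsgLib.LocalBalance

open Subgroup
open scoped commutatorElement

variable {p : ℕ} [Fact p.Prime]

theorem map_core_centralizer_le {H H' : Type*} [Group H] [Finite H] [Group H'] [Finite H'] (e : H ≃* H')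
    (a : H) : (core p (centralizer ({a} : Set H))).map e.toMonoidHom ≤
      core p (centralizer ({e a} : Set H')) := by
  refine le_core ?_ ?_ ?_
  · rintro _ ⟨y, hy, rfl⟩
    refine mem_centralizer_singleton_iff.2 ?_
    show e y * e a = e a * e y
    rw [← map_mul, ← map_mul, mem_centralizer_singleton_iff.1 (core_le _ hy)]
  · intro q hq
    obtain ⟨g, rfl⟩ := e.surjective q
    refine le_normalizer_map e.toMonoidHom (mem_map_of_mem e.toMonoidHom
      (normalizer_le_normalizer_core _ (le_normalizer (mem_centralizer_singleton_iff.2
        (e.injective ?_)))))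
    rw [map_mul, map_mul]
    exact mem_centralizer_singleton_iff.1 hq
  · rw [card_map_of_injective (f := e.toMonoidHom) e.injective]
    exact coprime_core _

/-- Local `k`-balance of `K / Z(K)` implies that of the perfect group `K`. -/
theorem isLocallyKBalanced_of_quotient {K : Type*} [Group K] [Finite K]
    (hK : commutator K = ⊤) {k : ℕ}
    (h : Cfsg.IsLocallyKBalanced p k (K ⧸ center K)) : Cfsg.IsLocallyKBalanced p k K := by
  intro H hI A hA hAc
  have hchar : ∀ α : MulAut K, (center K).map α.toMonoidHom = center K := fun α =>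
    Subgroup.characteristic_iff_map_eq.1 inferInstance α
  let θ : MulAut K →* MulAut (K ⧸ center K) :=
    { toFun := fun α => QuotientGroup.congr (center K) (center K) α (hchar α)
      map_one' := by
        ext q
        induction q using QuotientGroup.induction_on with
        | H z => rfl
      map_mul' := fun α β => by
        ext q
        induction q using QuotientGroup.induction_on with
        | H z => rfl }
  have hθi : Function.Injective θ := by
    rw [injective_iff_map_eq_one]
    intro α hα
    have hz : ∀ x : K, α x * x⁻¹ ∈ center K := fun x => by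
      have h1 : θ α (QuotientGroup.mk x) = QuotientGroup.mk x := by rw [hα]; rfl
      rw [← QuotientGroup.eq_one_iff, QuotientGroup.mk_mul, QuotientGroup.mk_inv]
      show θ α (QuotientGroup.mk x) * (QuotientGroup.mk x : K ⧸ center K)⁻¹ = 1
      rw [h1, mul_inv_cancel]
    let d : K →* center K :=
      { toFun := fun x => ⟨_, hz x⟩
        map_one' := Subtype.ext (by simp)
        map_mul' := fun a b => Subtype.ext (by
          have hb := mem_center_iff.1 (hz b) a
          show α (a * b) * (a * b)⁻¹ = α a * a⁻¹ * (α b * b⁻¹)
          rw [map_mul, mul_inv_rev]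
          calc α a * α b * (b⁻¹ * a⁻¹) = α a * (α b * b⁻¹ * a⁻¹) := by group
            _ = α a * (a⁻¹ * (α b * b⁻¹)) := by
              rw [mem_center_iff.1 (hz b) a⁻¹]
            _ = α a * a⁻¹ * (α b * b⁻¹) := by group) }
    ext x
    have hk : d.ker = ⊤ := top_le_iff.1 (hK ▸ (show commutator K ≤ d.ker from by
      rw [_root_.commutator_def, Subgroup.commutator_le]
      intro a _ b _
      rw [MonoidHom.mem_ker, map_commutatorElement, commutatorElement_eq_one_iff_mul_comm]
      exact Subtype.ext (mem_center_iff.1 (d b).2 (d a : K))))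
    have h2 : α x * x⁻¹ = 1 :=
      congrArg Subtype.val (MonoidHom.mem_ker.1 (show x ∈ d.ker from hk ▸ mem_top x))
    exact mul_inv_eq_one.1 h2
  set H' := H.map θ
  set e : H ≃* H' := H.equivMapOfInjective θ hθi
  have hI' : (MulAut.conj : (K ⧸ center K) →* MulAut (K ⧸ center K)).range ≤ H' := by
    rintro _ ⟨q, rfl⟩
    induction q using QuotientGroup.induction_on with
    | H z =>
      refine ⟨MulAut.conj z, hI ⟨z, rfl⟩, ?_⟩
      ext q
      induction q using QuotientGroup.induction_on with
      | H y => rfl
  have h1 := h H' hI' (A.map e.toMonoidHom) (isElementaryAbelian_map hA _)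
    ((card_map_of_injective (f := e.toMonoidHom) e.injective).trans hAc)
  refine eq_bot_iff.2 fun x hx => ?_
  have h2 : e x ∈ Cfsg.signalizerDelta p (A.map e.toMonoidHom) := by
    refine mem_iInf.2 ?_
    rintro ⟨_, ⟨a, ha, rfl⟩, hne⟩
    exact map_core_centralizer_le e a ⟨x, mem_iInf.1 hx ⟨a, ha, fun h0 => hne (by rw [h0, map_one])⟩, rfl⟩
  rw [h1, mem_bot] at h2
  exact mem_bot.2 (e.injective (h2.trans (map_one e).symm))

/-- `k`-balance from local `k`-balance of the central quotients of components. -/
theorem isKBalanced_of_quotient_local {G : Type*} [Group G] [Finite G] {k : ℕ} (hk : 1 ≤ k)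
    (h : ∀ x : G, orderOf x = p →
      ∀ K : Subgroup (↥(centralizer ({x} : Set G)) ⧸ Cfsg.pPrimeCore p ↥(centralizer ({x} : Set G))),
        Cfsg.IsComponent K → Cfsg.IsLocallyKBalanced p k (↥K ⧸ center ↥K)) :
    Cfsg.IsKBalanced p k G := by
  intro A hA hAc b hb hcomm x hx
  have hbp : b ^ p = 1 := hb ▸ pow_orderOf_eq_one b
  set A' := closure ((A : Set G) ∪ {b}) with hA'
  have hAA' : A ≤ A' := fun a ha => subset_closure (Or.inl ha)
  have hbA' : b ∈ A' := subset_closure (Or.inr rfl)
  have hc : ∀ u ∈ (A : Set G) ∪ {b}, ∀ v ∈ (A : Set G) ∪ {b}, u * v = v * u := by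
    rintro u (hu | rfl) v (hv | rfl)
    · exact Signalizer.commute hA hu hv
    · exact hcomm u hu
    · exact (hcomm v hv).symm
    · rfl
  haveI := Subgroup.isMulCommutative_closure hc
  have hel : Cfsg.IsElementaryAbelian p A' := by
    refine ⟨inferInstance, fun u hu => ?_⟩
    induction hu using closure_induction with
    | mem z hz =>
      rcases hz with hz | rfl
      · exact hA.2 z hz
      · exact hbp
    | one => exact one_pow p
    | mul u v hu hv hu1 hv1 =>
      have hc' : Commute u v :=
        congrArg Subtype.val ((inferInstance : IsMulCommutative A').is_comm.comm ⟨u, hu⟩ ⟨v, hv⟩)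
      rw [hc'.mul_pow, hu1, hv1, one_mul]
    | inv u _ hu1 => rw [inv_pow, hu1, inv_one]
  exact isKBalancedWrt_of_local hk hel (fun a ha ha1 K hK =>
    isLocallyKBalanced_of_quotient
      (Group.IsPerfect.commutator_eq_top (G := ↥K) (self := Subgroup.isPerfect_iff.mpr (Comp.component_perfect hK)))
      (h a (orderOf_eq_prime (hel.2 a ha) ha1) K hK))
    A hAA' hA hAc.ge b hbA' (fun h1 => (Fact.out : p.Prime).one_lt.ne (by rw [← hb, h1, orderOf_one])) hx

end CfsgLib.LocalBalance
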