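import Cfsg.Agent.Unitary.Special
import Mathlib.GroupTheory.SpecificGroups.KleinFour
import Mathlib.GroupTheory.Sylow

/-!
The Sylow 2-subgroup of PSU(3,4).
-/

set_option autoImplicit false

namespace CfsgLib.PSUThreeFour

open Matrix
open scoped commutatorElement

variable {F : Type*} [Field F] [Fintype F]

/-- Facts about the field with 16 elements. -/
theorem field_facts (hF : Fintype.card F = 16) :
    (∀ x : F, x + x = 0) ∧ (∀ a b : F, (a + b) ^ 4 = a ^ 4 + b ^ 4) ∧ (∀ a : F, (a ^ 4) ^ 4 = a) ∧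
    Nat.card {x : F // x + x ^ 4 = 0} = 4 ∧
    (∀ y : F, y ^ 4 = y → ∃ x : F, x + x ^ 4 = y) := by
  classical
  have hc16 : (16 : F) = 0 := by
    have h := FiniteField.cast_card_eq_zero F
    rw [hF] at h
    exact_mod_cast h
  have h2 : (2 : F) = 0 := by
    have h : (2 : F) ^ 4 = 0 := by norm_num; exact hc16
    exact (pow_eq_zero_iff (by norm_num)).1 h
  have hdd : ∀ x : F, x + x = 0 := fun x => by rw [← two_mul, h2, zero_mul]
  have hadd : ∀ a b : F, (a + b) ^ 4 = a ^ 4 + b ^ 4 := fun a b => by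
    linear_combination (2 * a ^ 3 * b + 3 * a ^ 2 * b ^ 2 + 2 * a * b ^ 3) * h2
  have h16 : ∀ a : F, (a ^ 4) ^ 4 = a := fun a => by
    rw [← pow_mul, show 4 * 4 = Fintype.card F by rw [hF], FiniteField.pow_card]
  let f : F →+ F := AddMonoidHom.mk' (fun x => x + x ^ 4) (fun a b => by rw [hadd]; ring)
  have hroots : ∀ S : Finset F, (∀ x ∈ S, x ^ 4 = x) → S.card ≤ 4 := by
    intro S hS
    have hp : (Polynomial.X ^ 4 - Polynomial.X : Polynomial F) ≠ 0 :=
      FiniteField.X_pow_card_sub_X_ne_zero F (by norm_num)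
    have hsub : S ⊆ (Polynomial.X ^ 4 - Polynomial.X : Polynomial F).roots.toFinset := fun x hx => by
      rw [Multiset.mem_toFinset, Polynomial.mem_roots hp]
      simp [hS x hx]
    refine (Finset.card_le_card hsub).trans ((Multiset.toFinset_card_le _).trans ?_)
    refine (Polynomial.card_roots' _).trans (le_of_eq ?_)
    exact FiniteField.X_pow_card_sub_X_natDegree_eq F (by norm_num)
  have hker : (Finset.univ.filter fun x : F => x + x ^ 4 = 0).card ≤ 4 := hroots _ fun x hx => by
    have h := (Finset.mem_filter.1 hx).2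
    linear_combination h - hdd x
  have himg : ∀ x : F, (x + x ^ 4) ^ 4 = x + x ^ 4 := fun x => by rw [hadd, h16]; ring
  have him : (Finset.univ.image fun x : F => x + x ^ 4).card ≤ 4 := hroots _ fun y hy => by
    obtain ⟨x, -, rfl⟩ := Finset.mem_image.1 hy
    exact himg x
  have hmul : Nat.card f.ker * Nat.card f.range = 16 := by
    rw [← AddSubgroup.index_ker, AddSubgroup.card_mul_index, Nat.card_eq_fintype_card, hF]
  have e1 : Nat.card f.ker = (Finset.univ.filter fun x : F => x + x ^ 4 = 0).card := by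
    rw [← Nat.card_eq_finsetCard]
    refine Nat.card_congr (Equiv.subtypeEquivRight fun x => ?_)
    simp [f]
  have e2 : Nat.card f.range = (Finset.univ.image fun x : F => x + x ^ 4).card := by
    rw [← Nat.card_eq_finsetCard]
    refine Nat.card_congr (Equiv.subtypeEquivRight fun x => ?_)
    simp [f]
  have hk4 : Nat.card f.ker = 4 := by
    rw [e1]
    refine le_antisymm hker ?_
    rw [e1, e2] at hmul
    nlinarith
  have hi4 : Nat.card f.range = 4 := by rw [hk4] at hmul; omega
  refine ⟨hdd, hadd, h16, ?_, ?_⟩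
  · exact (Nat.card_congr (Equiv.subtypeEquivRight fun x => by simp [f])).trans hk4
  · intro y hy
    have hsub : (Finset.univ.image fun x : F => x + x ^ 4) ⊆ Finset.univ.filter fun z : F => z ^ 4 = z := by
      intro z hz
      obtain ⟨x, -, rfl⟩ := Finset.mem_image.1 hz
      exact Finset.mem_filter.2 ⟨Finset.mem_univ _, himg x⟩
    have he := Finset.eq_of_subset_of_card_le hsub (by
      rw [← e2, hi4]
      exact hroots _ fun z hz => (Finset.mem_filter.1 hz).2)
    have hy' : y ∈ Finset.univ.filter fun z : F => z ^ 4 = z := by simp [hy]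
    rw [← he] at hy'
    obtain ⟨x, -, hx⟩ := Finset.mem_image.1 hy'
    exact ⟨x, hx⟩

/-- The structure of a group with the coordinates of the unipotent radical. -/
theorem structure_of_coord (hF : Fintype.card F = 16) {S : Type*} [Group S] [Finite S]
    (a c : S → F) (ha : ∀ x y, a (x * y) = a x + a y)
    (hc : ∀ x y, c (x * y) = c x + c y + a x * a y ^ 4) (hinj : ∀ x y, a x = a y → c x = c y → x = y)
    (hcond : ∀ x, c x + c x ^ 4 = a x ^ 5) (hsurj : ∀ u w : F, w + w ^ 4 = u ^ 5 → ∃ x, a x = u ∧ c x = w) :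
    Nat.card S = 64 ∧ IsKleinFour (Subgroup.center S) ∧
      Subgroup.center S = Subgroup.closure {x : S | orderOf x = 2} ∧ Subgroup.center S = commutator S ∧
      Nat.card (S ⧸ Subgroup.center S) = 16 ∧ ∀ x : S ⧸ Subgroup.center S, x ^ 2 = 1 := by
  classical
  obtain ⟨hdd, hadd, h16, hk, hs⟩ := field_facts hF
  have hneg : ∀ x : F, -x = x := fun x => neg_eq_of_add_eq_zero_right (hdd x)
  have ha1 : a 1 = 0 := by have := ha 1 1; simpa using this
  have hc1 : c 1 = 0 := by have := hc 1 1; simpa [ha1] using this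
  have hfib : ∀ u : F, ∃ w : F, w + w ^ 4 = u ^ 5 := fun u => hs _ (by
    rw [show u ^ 5 = u * u ^ 4 by ring, mul_pow, h16]; ring)
  choose w₀ hw₀ using hfib
  let E : S ≃ Σ _u : F, {x : F // x + x ^ 4 = 0} := Equiv.ofBijective
    (fun x => ⟨a x, ⟨c x + w₀ (a x), by
      rw [hadd]; linear_combination hcond x + hw₀ (a x) + hdd (a x ^ 5)⟩⟩) ⟨fun x y h => by
      have h1 : a x = a y := congrArg Sigma.fst h
      have h2 : c x + w₀ (a x) = c y + w₀ (a y) :=
        congrArg (fun p : Σ _u : F, {x : F // x + x ^ 4 = 0} => p.2.1) h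
      refine hinj x y h1 ?_
      rw [h1] at h2
      exact add_right_cancel h2, fun ⟨u, z, hz⟩ => by
      obtain ⟨x, hx1, hx2⟩ := hsurj u (z + w₀ u) (by rw [hadd]; linear_combination hz + hw₀ u)
      refine ⟨x, ?_⟩
      subst hx1
      simp only [Sigma.mk.injEq, heq_eq_eq, true_and, Subtype.mk.injEq]
      rw [hx2]
      linear_combination hdd (w₀ (a x))⟩
  have h64 : Nat.card S = 64 := by
    rw [Nat.card_congr E, Nat.card_sigma, Finset.sum_const, hk, Finset.card_univ, hF, smul_eq_mul]
  have hcen : ∀ x, x ∈ Subgroup.center S ↔ a x = 0 := by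
    intro x
    rw [Subgroup.mem_center_iff]
    constructor
    · intro h
      by_contra hne
      have key : ∀ b : F, a x * b ^ 4 = b * a x ^ 4 := fun b => by
        obtain ⟨y, hy, -⟩ := hsurj b (w₀ b) (hw₀ b)
        have := congrArg c (h y)
        rw [hc, hc, hy] at this
        linear_combination -this
      have h4 : a x ^ 4 = a x := by simpa using (key 1).symm
      obtain ⟨b, hb⟩ : ∃ b : F, b ^ 4 ≠ b := by
        by_contra hall
        simp only [not_exists, not_not] at hall
        have h0 : ∀ z : F, z + z ^ 4 = 0 := fun z => by rw [hall, hdd]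
        rw [Nat.card_congr (Equiv.subtypeUnivEquiv h0), Nat.card_eq_fintype_card, hF] at hk
        omega
      have := key b
      rw [h4, mul_comm b] at this
      exact hb (mul_left_cancel₀ hne this)
    · intro h y
      refine hinj _ _ (by rw [ha, ha, add_comm]) ?_
      rw [hc, hc, h]; ring
  have hsq : ∀ x, a (x * x) = 0 ∧ c (x * x) = a x ^ 5 := fun x => by
    refine ⟨by rw [ha, hdd], ?_⟩
    rw [hc]; linear_combination hdd (c x)
  have hinv : ∀ x : S, orderOf x = 2 ↔ x ≠ 1 ∧ a x = 0 := by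
    intro x
    constructor
    · intro h
      refine ⟨fun e => by rw [e, orderOf_one] at h; omega, ?_⟩
      have h1 : x * x = 1 := by rw [← pow_two, ← h]; exact pow_orderOf_eq_one x
      have := (hsq x).2
      rw [h1, hc1] at this
      exact (pow_eq_zero_iff (by norm_num)).1 this.symm
    · rintro ⟨h1, h2⟩
      refine orderOf_eq_prime ?_ h1
      rw [pow_two]
      exact hinj _ _ ((hsq x).1.trans ha1.symm) (by rw [(hsq x).2, h2, hc1]; simp)
  have hZ4 : Nat.card (Subgroup.center S) = 4 := by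
    rw [← hk]
    refine Nat.card_congr (Equiv.ofBijective (fun x : Subgroup.center S => (⟨c x.1, by
      rw [hcond, (hcen _).1 x.2]; simp⟩ : {z : F // z + z ^ 4 = 0})) ⟨fun x y h => ?_, fun ⟨z, hz⟩ => ?_⟩)
    · exact Subtype.ext (hinj _ _ (((hcen _).1 x.2).trans ((hcen _).1 y.2).symm) (congrArg Subtype.val h))
    · obtain ⟨x, h1, h2⟩ := hsurj 0 z (by rw [hz]; simp)
      exact ⟨⟨x, (hcen x).2 h1⟩, Subtype.ext h2⟩
  have hcomm : ∀ x y : S, a (x * y * x⁻¹ * y⁻¹) = 0 := fun x y => by
    have e : a ((x * y * x⁻¹ * y⁻¹) * (y * x)) = a (x * y) := congrArg a (by group)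
    rw [ha _ (y * x), ha x y, ha y x] at e
    linear_combination e
  refine ⟨h64, ?_, ?_, ?_, ?_, ?_⟩
  · refine ⟨hZ4, ?_⟩
    haveI : Nontrivial (Subgroup.center S) := Finite.one_lt_card_iff_nontrivial.1 (by omega)
    refine Monoid.exponent_eq_prime_iff Nat.prime_two |>.2 fun x hx => ?_
    rw [← Subgroup.orderOf_coe]
    exact (hinv _).2 ⟨fun e => hx (Subtype.ext e), (hcen _).1 x.2⟩
  · refine le_antisymm (fun x hx => ?_) ((Subgroup.closure_le _).2 fun x hx => (hcen x).2 ((hinv x).1 hx).2)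
    by_cases h1 : x = 1
    · rw [h1]; exact one_mem _
    · exact Subgroup.subset_closure ((hinv x).2 ⟨h1, (hcen x).1 hx⟩)
  · refine le_antisymm (fun z hz => ?_) ?_
    · have h0 := (hcen z).1 hz
      have hz4 : c z + c z ^ 4 = 0 := by rw [hcond, h0]; simp
      obtain ⟨b, hb⟩ := hs (c z) (by linear_combination hz4 - hdd (c z))
      obtain ⟨x, hx, -⟩ := hsurj 1 (w₀ 1) (hw₀ 1)
      obtain ⟨y, hy, -⟩ := hsurj b (w₀ b) (hw₀ b)
      have he : z * (y * x) = x * y := hinj _ _ (by rw [ha, ha, ha, h0]; ring) (by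
        rw [hc, hc, hc, ha, h0, hx, hy]; linear_combination hdd b - hb)
      have : z = ⁅x, y⁆ := by
        rw [commutatorElement_def, ← he]; group
      rw [this, commutator_def]
      exact Subgroup.commutator_mem_commutator (Subgroup.mem_top _) (Subgroup.mem_top _)
    · rw [commutator_def, Subgroup.commutator_le]
      intro x _ y _
      exact (hcen _).2 (hcomm x y)
  · have := Subgroup.card_eq_card_quotient_mul_card_subgroup (Subgroup.center S)
    rw [h64, hZ4] at this
    omega
  · intro x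
    induction x using QuotientGroup.induction_on with
    | H x => rw [← QuotientGroup.mk_pow, QuotientGroup.eq_one_iff, pow_two]; exact (hcen _).2 (hsq x).1

/-- The unipotent matrix with coordinates (u, w). -/
def mat (u w : F) : Matrix (Fin 3) (Fin 3) F :=
  !![1 + w, w, u; w, 1 + w, u; u ^ 4, u ^ 4, 1]

theorem mat_det (hdd : ∀ x : F, x + x = 0) (u w : F) : (mat u w).det = 1 := by
  have h2 : (2 : F) = 0 := by rw [← one_add_one_eq_two]; exact hdd 1
  rw [Matrix.det_fin_three]
  simp [mat]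
  linear_combination (w - u ^ 5) * h2

theorem mat_mul (hF : Fintype.card F = 16) (u w u' w' : F) :
    mat u w * mat u' w' = mat (u + u') (w + w' + u * u' ^ 4) := by
  obtain ⟨hdd, hadd, h16, -, -⟩ := field_facts hF
  have h2 : (2 : F) = 0 := by rw [← one_add_one_eq_two]; exact hdd 1
  ext i j
  fin_cases i <;> fin_cases j <;> simp [mat, Matrix.mul_apply, Fin.sum_univ_three, hadd]
  all_goals first
    | linear_combination (w * w') * h2
    | linear_combination (w * u') * h2
    | linear_combination (u ^ 4 * w') * h2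
    | linear_combination (u ^ 4 * u') * h2

theorem exists_sub (hF : Fintype.card F = 16) :
    ∃ (H : Subgroup (Cfsg.SU 3 F 4)) (a c : H → F), (∀ x y, a (x * y) = a x + a y) ∧
      (∀ x y, c (x * y) = c x + c y + a x * a y ^ 4) ∧ (∀ x y, a x = a y → c x = c y → x = y) ∧
      (∀ x, c x + c x ^ 4 = a x ^ 5) ∧ ∀ u w : F, w + w ^ 4 = u ^ 5 → ∃ x, a x = u ∧ c x = w := by
  classical
  obtain ⟨hdd, hadd, h16, -, -⟩ := field_facts hF
  let val : Cfsg.SU 3 F 4 → Matrix (Fin 3) (Fin 3) F := fun g => ((g.1 : Matrix.SpecialLinearGroup (Fin 3) F) : Matrix (Fin 3) (Fin 3) F)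
  let mon : Submonoid (Cfsg.SU 3 F 4) :=
    { carrier := {g | ∃ u w, w + w ^ 4 = u ^ 5 ∧ val g = mat u w}
      one_mem' := ⟨0, 0, by simp, by
        show (1 : Matrix (Fin 3) (Fin 3) F) = _
        ext i j
        fin_cases i <;> fin_cases j <;> simp [mat]⟩
      mul_mem' := by
        rintro g h ⟨u, w, hw, hg⟩ ⟨u', w', hw', hh⟩
        refine ⟨u + u', w + w' + u * u' ^ 4, ?_, ?_⟩
        · rw [hadd, hadd, mul_pow, h16, show (u + u') ^ 5 = (u + u') ^ 4 * (u + u') by ring, hadd]
          linear_combination hw + hw'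
        · show val g * val h = _
          rw [hg, hh, mat_mul hF] }
  let H : Subgroup (Cfsg.SU 3 F 4) :=
    { toSubmonoid := mon
      inv_mem' := fun {g} hg => by
        exact (Submonoid.powers_le.2 (show g ∈ mon from hg))
          (mem_powers_iff_mem_zpowers.2 (inv_mem (Subgroup.mem_zpowers g))) }
  have hH : ∀ x : H, ∃ u w, w + w ^ 4 = u ^ 5 ∧ val x.1 = mat u w := fun x => x.2
  choose a c hcond hval using hH
  have hu : ∀ u w u' w' : F, mat u w = mat u' w' → u = u' ∧ w = w' := fun u w u' w' h =>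
    ⟨by simpa [mat] using congrFun (congrFun h 0) 2, by simpa [mat] using congrFun (congrFun h 0) 1⟩
  have hprod : ∀ x y : H, mat (a (x * y)) (c (x * y)) = mat (a x + a y) (c x + c y + a x * a y ^ 4) :=
    fun x y => by
      rw [← mat_mul hF, ← hval, ← hval, ← hval]
      rfl
  refine ⟨H, a, c, fun x y => (hu _ _ _ _ (hprod x y)).1, fun x y => (hu _ _ _ _ (hprod x y)).2,
    fun x y h1 h2 => Subtype.ext (Subtype.ext (Subtype.ext (show val x.1 = val y.1 by rw [hval, hval, h1, h2]))),
    hcond, fun u w hw => ?_⟩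
  let g₀ : Matrix.SpecialLinearGroup (Fin 3) F := ⟨mat u w, mat_det hdd u w⟩
  have hg₀ : g₀ ∈ Cfsg.SU 3 F 4 := by
    intro p q
    show Cfsg.hermForm 3 F 4 (mat u w *ᵥ p) (mat u w *ᵥ q) = Cfsg.hermForm 3 F 4 p q
    have h2 : (2 : F) = 0 := by rw [← one_add_one_eq_two]; exact hdd 1
    have hsw : w ^ 4 = u ^ 5 + w := by linear_combination hw - hdd w
    simp [Cfsg.hermForm, mat, Matrix.mulVec, dotProduct, Fin.sum_univ_three, hadd, mul_pow, h16, hsw]
    ring_nf
    simp [h2]
  have hm : (⟨g₀, hg₀⟩ : Cfsg.SU 3 F 4) ∈ H := ⟨u, w, hw, rfl⟩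
  exact ⟨⟨_, hm⟩, hu _ _ _ _ (hval ⟨_, hm⟩).symm⟩

end CfsgLib.PSUThreeFour
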