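import Cfsg.Agent.Transfer.Alperin
import Cfsg.Agent.Solvable.Basics
import Cfsg.Prelude.Def_LocalEven

/-!
Primitive pairs of characteristic `p` from two maximal `p`-local subgroups.
-/

set_option autoImplicit false
set_option linter.unusedSectionVars false
set_option linter.style.haveILetI false

namespace CfsgLib.PrimPair

open Subgroup

variable {G : Type*} [Group G] [Finite G] {p : ℕ} [Fact p.Prime]

/-- `p`-local subgroups. -/
def Loc (p : ℕ) (M : Subgroup G) : Prop :=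
  ∃ T : Subgroup G, IsPGroup p T ∧ T ≠ ⊥ ∧ M = normalizer (T : Set G)

/-- Maximal `p`-local subgroups. -/
def MaxLoc (p : ℕ) (M : Subgroup G) : Prop :=
  Loc p M ∧ ∀ L : Subgroup G, Loc p L → M ≤ L → L = M

/-- `O_p(M)` inside `G`. -/
def core (p : ℕ) (M : Subgroup G) : Subgroup G := (Cfsg.pCore p M).map M.subtype

theorem core_le (M : Subgroup G) : core p M ≤ M := map_subtype_le _

theorem isPGroup_core (M : Subgroup G) : IsPGroup p (core p M) :=
  (Solvable.isPGroup_pCore p).map _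

theorem le_normalizer_core (M : Subgroup G) : M ≤ normalizer (core p M : Set G) := by
  rw [← normal_subgroupOf_iff_le_normalizer (core_le M), core, ← comap_subtype,
    comap_map_eq_self_of_injective M.subtype_injective]
  exact Solvable.pCore_normal p

theorem le_core {N M : Subgroup G} (hNM : N ≤ M) (hn : M ≤ normalizer (N : Set G))
    (hN : IsPGroup p N) : N ≤ core p M := by
  rw [core, ← map_subgroupOf_eq_of_le hNM]
  exact map_mono (Solvable.le_pCore p ((normal_subgroupOf_iff_le_normalizer hNM).2 hn)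
    (hN.comap_subtype))

theorem exists_maxLoc {L : Subgroup G} (hL : Loc p L) : ∃ M, MaxLoc p M ∧ L ≤ M := by
  obtain ⟨M, hLM, hM⟩ := Finite.exists_le_maximal (p := fun X : Subgroup G => Loc p X) hL
  exact ⟨M, ⟨hM.prop, fun X hX hMX => le_antisymm (hM.2 hX hMX) hMX⟩, hLM⟩

theorem eq_normalizer {M A : Subgroup G} (hM : MaxLoc p M) (hA : IsPGroup p A) (hA1 : A ≠ ⊥)
    (hn : M ≤ normalizer (A : Set G)) : normalizer (A : Set G) = M :=
  hM.2 _ ⟨A, hA, hA1, rfl⟩ hn

theorem core_ne_bot {M : Subgroup G} (hM : MaxLoc p M) : core p M ≠ ⊥ := by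
  obtain ⟨⟨T, hT, hT1, rfl⟩, -⟩ := hM
  exact ne_bot_of_le_ne_bot hT1 (le_core le_normalizer le_rfl hT)

theorem normalizer_core {M : Subgroup G} (hM : MaxLoc p M) :
    normalizer (core p M : Set G) = M :=
  eq_normalizer hM (isPGroup_core M) (core_ne_bot hM) (le_normalizer_core M)

theorem charP_of_loc (hloc : Cfsg.IsOfLocalCharacteristic p G) {M : Subgroup G} (hM : Loc p M) :
    centralizer (Cfsg.pCore p M : Set M) ≤ Cfsg.pCore p M := by
  obtain ⟨T, hT, hT1, rfl⟩ := hM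
  exact hloc.2 T hT hT1

theorem normalizer_le (hloc : Cfsg.IsOfLocalCharacteristic p G) {M A : Subgroup G}
    (hM : MaxLoc p M) (hA1 : A ≠ ⊥) (hAM : A ≤ M) (hn : M ≤ normalizer (A : Set G)) :
    normalizer (A : Set G) ≤ M := by
  have hAA : normalizer (A : Set G) ≤ normalizer (core p A : Set G) := by
    intro g hg
    haveI : (Cfsg.pCore p A).Characteristic := Subgroup.characteristic_iff_map_le.2 fun φ =>
      Solvable.le_pCore p (Subgroup.Normal.map inferInstance _ φ.surjective)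
        ((Solvable.isPGroup_pCore p).map _)
    refine mem_normalizer_iff_map_conj_eq.2 ?_
    have hgA := mem_normalizer_iff_map_conj_eq.1 hg
    let φ : A ≃* A := ((MulAut.conj g).subgroupMap A).trans (MulEquiv.subgroupCongr hgA)
    have h := Subgroup.characteristic_iff_map_eq.1 ‹(Cfsg.pCore p A).Characteristic› φ
    rw [core]
    conv_rhs => rw [← h]
    rw [Subgroup.map_map, Subgroup.map_map]
    rfl
  have hne : core p A ≠ ⊥ := by
    intro h
    have h1 : A ⊓ core p M ≤ core p A := le_core inf_le_left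
      (fun a ha => inf_normalizer_le_normalizer_inf
        (mem_inf.2 ⟨le_normalizer ha, le_normalizer_core M (hAM ha)⟩))
      ((isPGroup_core M).to_le inf_le_right)
    rw [h, le_bot_iff] at h1
    refine hA1 ((eq_bot_iff_forall A).2 fun a ha => ?_)
    have h2 : (⟨a, hAM ha⟩ : M) ∈ centralizer (Cfsg.pCore p M : Set M) := by
      refine mem_centralizer_iff.2 fun c hc => Subtype.ext ?_
      have h3 : a * c * a⁻¹ * (c : G)⁻¹ ∈ A ⊓ core p M := by
        refine mem_inf.2 ⟨?_, mul_mem ((mem_normalizer_iff.1 (le_normalizer_core M (hAM ha)) (c : G)).1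
          ⟨c, hc, rfl⟩) (inv_mem ⟨c, hc, rfl⟩)⟩
        rw [show a * c * a⁻¹ * (c : G)⁻¹ = a * ((c : G) * a⁻¹ * (c : G)⁻¹) by group]
        exact mul_mem ha ((mem_normalizer_iff.1 (hn c.2) _).1 (inv_mem ha))
      rw [h1, mem_bot, mul_inv_eq_one, mul_inv_eq_iff_eq_mul] at h3
      exact h3.symm
    have h4 : a ∈ A ⊓ core p M := ⟨ha, ⟨_, charP_of_loc hloc hM.1 h2, rfl⟩⟩
    rwa [h1, mem_bot] at h4
  exact hAA.trans (eq_normalizer hM (isPGroup_core A) hne (hn.trans hAA)).le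

/-- The pair conditions, for two maximal `p`-locals each containing the other's `O_p`. -/
theorem pair (hloc : Cfsg.IsOfLocalCharacteristic p G) {M₁ M₂ : Subgroup G} (h₁ : MaxLoc p M₁)
    (h₂ : MaxLoc p M₂) (A : Subgroup G) (hA : A ≠ ⊥) (hle : A ≤ M₁ ⊓ M₂) :
    (M₁ ≤ normalizer (A : Set G) → M₂ ⊓ normalizer (A : Set G) = M₁ ⊓ M₂) ∧
      (M₂ ≤ normalizer (A : Set G) → M₁ ⊓ normalizer (A : Set G) = M₁ ⊓ M₂) := by
  constructor <;> intro h
  · rw [le_antisymm (normalizer_le hloc h₁ hA (hle.trans inf_le_left) h) h, inf_comm]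
  · rw [le_antisymm (normalizer_le hloc h₂ hA (hle.trans inf_le_right) h) h]

/-- `T` is a maximal `p`-subgroup of `M`. -/
def MaxP (p : ℕ) (T M : Subgroup G) : Prop :=
  ∀ R : Subgroup G, IsPGroup p R → R ≤ M → T ≤ R → R = T

theorem core_le_of_maxP {T M : Subgroup G} (hT : IsPGroup p T) (hTM : T ≤ M) (h : MaxP p T M) :
    core p M ≤ T :=
  le_sup_left.trans (h _ ((isPGroup_core M).to_sup_of_normal_left' hT (hTM.trans (le_normalizer_core M)))
    (sup_le (core_le M) hTM) le_sup_right).le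

theorem exists_pair_or_trivial (hloc : Cfsg.IsOfLocalCharacteristic p G)
    (h : ∃ (M₁ M₂ T : Subgroup G), MaxLoc p M₁ ∧ MaxLoc p M₂ ∧ M₁ ≠ M₂ ∧ IsPGroup p T ∧ T ≠ ⊥ ∧
      T ≤ M₁ ⊓ M₂) :
    ∃ M₁ M₂ : Subgroup G, MaxLoc p M₁ ∧ MaxLoc p M₂ ∧ M₁ ≠ M₂ ∧
      core p M₁ ⊔ core p M₂ ≤ M₁ ⊓ M₂ := by
  obtain ⟨A, B, T₀, hA, hB, hne, hT₀, hT₁, hT₂⟩ := h
  set Q := fun T : Subgroup G => IsPGroup p T ∧ T ≠ ⊥ ∧
    ∃ M₁ M₂, MaxLoc p M₁ ∧ MaxLoc p M₂ ∧ M₁ ≠ M₂ ∧ T ≤ M₁ ⊓ M₂
  obtain ⟨T, -, hT⟩ := Finite.exists_le_maximal (p := Q) (a := T₀) ⟨hT₀, hT₁, A, B, hA, hB, hne, hT₂⟩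
  obtain ⟨⟨hTp, hT1, M₁, M₂, h₁, h₂, h12, hle⟩, hmax⟩ := hT
  have hfin : ∀ {M N : Subgroup G}, MaxLoc p M → MaxLoc p N → M ≠ N → T ≤ M → T ≤ N →
      MaxP p T M → MaxP p T N → ∃ M₁ M₂ : Subgroup G, MaxLoc p M₁ ∧ MaxLoc p M₂ ∧ M₁ ≠ M₂ ∧
        core p M₁ ⊔ core p M₂ ≤ M₁ ⊓ M₂ := by
    intro M N hM hN hMN hTM hTN h1 h2
    exact ⟨M, N, hM, hN, hMN, (sup_le (core_le_of_maxP hTp hTM h1) (core_le_of_maxP hTp hTN h2)).trans
      (le_inf hTM hTN)⟩
  have hgrow : ∀ {M : Subgroup G}, MaxLoc p M → T ≤ M → ∀ {R : Subgroup G}, IsPGroup p R → R ≤ M →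
      T < R → normalizer (T : Set G) ≤ M := by
    intro M hM hTM R hR hRM hTR
    obtain ⟨M₃, h₃, h₃'⟩ := exists_maxLoc (p := p) (L := normalizer (T : Set G)) ⟨T, hTp, hT1, rfl⟩
    rcases eq_or_ne M M₃ with e | e
    · exact e ▸ h₃'
    · exfalso
      have hlt := Fusion.lt_inf_normalizer hR hTR
      have := hmax (y := R ⊓ normalizer (T : Set G))
        ⟨hR.to_le inf_le_left, ne_bot_of_le_ne_bot hT1 hlt.le, M, M₃, hM, h₃, e,
          le_inf (inf_le_left.trans hRM) (inf_le_right.trans h₃')⟩ hlt.le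
      exact hlt.not_ge this
  wlog hs : MaxP p T M₂ generalizing M₁ M₂
  · by_cases hs1 : MaxP p T M₁
    · exact this M₂ M₁ h₂ h₁ h12.symm (hle.trans (le_inf inf_le_right inf_le_left)) hs1
    · exfalso
      simp only [MaxP, not_forall] at hs hs1
      obtain ⟨R₁, hR₁, hR₁M, hTR₁, hne₁⟩ := hs1
      obtain ⟨R₂, hR₂, hR₂M, hTR₂, hne₂⟩ := hs
      have hN₂ := hgrow h₂ (hle.trans inf_le_right) hR₂ hR₂M (lt_of_le_of_ne hTR₂ (Ne.symm hne₂))
      have hlt := Fusion.lt_inf_normalizer hR₁ (lt_of_le_of_ne hTR₁ (Ne.symm hne₁))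
      have := hmax (y := R₁ ⊓ normalizer (T : Set G))
        ⟨hR₁.to_le inf_le_left, ne_bot_of_le_ne_bot hT1 hlt.le, M₁, M₂, h₁, h₂, h12,
          le_inf (inf_le_left.trans hR₁M) (inf_le_right.trans hN₂)⟩ hlt.le
      exact hlt.not_ge this
  by_cases hs1 : MaxP p T M₁
  · exact hfin h₁ h₂ h12 (hle.trans inf_le_left) (hle.trans inf_le_right) hs1 hs
  simp only [MaxP, not_forall] at hs1
  obtain ⟨R, hR, hRM, hTR, hne'⟩ := hs1
  have hlt := Fusion.lt_inf_normalizer hR (lt_of_le_of_ne hTR (Ne.symm hne'))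
  obtain ⟨g, hg, hgT⟩ := SetLike.exists_of_lt hlt
  have hgM : g ∉ M₂ := fun hgM => by
    have := hs ((R ⊓ normalizer (T : Set G)) ⊓ M₂) ((hR.to_le inf_le_left).to_le inf_le_left)
      inf_le_right (le_inf hlt.le (hle.trans inf_le_right))
    exact hgT (this ▸ (mem_inf.2 ⟨hg, hgM⟩))
  set c := (MulAut.conj g).toMonoidHom
  have hci : Function.Injective c := (MulAut.conj g).injective
  have hTc : T.map c = T := mem_normalizer_iff_map_conj_eq.1 (mem_inf.1 hg).2
  have hnc : ∀ X : Subgroup G, (normalizer (X : Set G)).map c = normalizer (X.map c : Set G) :=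
    fun X => Subgroup.map_normalizer_eq_of_bijective X (MulAut.conj g).bijective
  have hLocC : ∀ {X : Subgroup G} (b : G), Loc p X → Loc p (X.map (MulAut.conj b).toMonoidHom) := by
    rintro X b ⟨U, hU, hU1, rfl⟩
    exact ⟨U.map (MulAut.conj b).toMonoidHom, hU.map _,
      fun h0 => hU1 ((map_eq_bot_iff_of_injective _ (MulAut.conj b).injective).1 h0),
      Subgroup.map_normalizer_eq_of_bijective U (MulAut.conj b).bijective⟩
  have hback : ∀ X : Subgroup G, (X.map (MulAut.conj g⁻¹).toMonoidHom).map c = X := fun X => by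
    rw [Subgroup.map_map]
    convert Subgroup.map_id X
    ext x; simp [c, mul_assoc]
  have hM' : MaxLoc p (M₂.map c) := by
    refine ⟨hLocC g h₂.1, fun L hL hle' => ?_⟩
    have h5 : M₂ ≤ L.map (MulAut.conj g⁻¹).toMonoidHom := fun x hx =>
      ⟨c x, hle' ⟨x, hx, rfl⟩, by simp [c, mul_assoc]⟩
    rw [← hback L, h₂.2 _ (hLocC g⁻¹ hL) h5]
  have hTM' : T ≤ M₂.map c := hTc ▸ map_mono (hle.trans inf_le_right)
  refine hfin hM' h₂ (fun e => hgM ?_) hTM' (hle.trans inf_le_right) ?_ hs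
  · rw [← normalizer_core h₂]
    refine mem_normalizer_iff_map_conj_eq.2 (le_antisymm ?_ ?_)
    · refine le_core ((map_mono (core_le M₂)).trans e.le) ?_ ((isPGroup_core M₂).map _)
      conv_lhs => rw [← e]
      exact (map_mono (le_normalizer_core M₂)).trans (hnc _).le
    · intro x hx
      refine ⟨g⁻¹ * x * g, ?_, by simp [mul_assoc]⟩
      have h6 : (core p M₂).map (MulAut.conj g⁻¹).toMonoidHom ≤ core p M₂ := by
        have e' : M₂.map (MulAut.conj g⁻¹).toMonoidHom = M₂ := by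
          conv_lhs => rw [← e]
          rw [Subgroup.map_map]
          convert Subgroup.map_id M₂
          ext x; simp [c, mul_assoc]
        refine le_core ((map_mono (core_le M₂)).trans e'.le) ?_ ((isPGroup_core M₂).map _)
        conv_lhs => rw [← e']
        exact (map_mono (le_normalizer_core M₂)).trans
          (Subgroup.map_normalizer_eq_of_bijective _ (MulAut.conj g⁻¹).bijective).le
      simpa [mul_assoc] using h6 ⟨x, hx, rfl⟩
  · intro X hX hXM hTX
    have h7 := hs (X.map (MulAut.conj g⁻¹).toMonoidHom) (hX.map _) (fun y hy => by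
      obtain ⟨x, hx, rfl⟩ := hy
      obtain ⟨m, hm, rfl⟩ := hXM hx
      simpa [c, mul_assoc] using hm) (fun t ht => by
      exact ⟨c t, hTX (hTc.le ⟨t, ht, rfl⟩), by simp [c, mul_assoc]⟩)
    rw [← hback X, h7, hTc]

end CfsgLib.PrimPair
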