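import Cfsg.Agent.Invol.SylowKernel
import Cfsg.Agent.Invol.QuasiDihedral
import Cfsg.Agent.Invol.AutomizerSix

/-!
Fusion in groups with a quasi-dihedral Sylow 2-subgroup.
-/

set_option autoImplicit false
set_option linter.unusedSectionVars false
set_option linter.deprecated false
set_option linter.style.haveILetI false
set_option linter.style.multiGoal false

namespace CfsgLib.QD.Data

open Subgroup

variable {G : Type*} [Group G] [Finite G] {S : Sylow 2 G} (D : CfsgLib.QD.Data (S : Subgroup G))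

/-- The rotations, in `G`. -/
def gr (i : ℤ) : G := ((D.x ^ i : (S : Subgroup G)) : G)

/-- The reflections, in `G`. -/
def gy (i : ℤ) : G := ((D.x ^ i * D.y : (S : Subgroup G)) : G)

/-- The central involution, in `G`. -/
def gz : G := ((D.z : (S : Subgroup G)) : G)

/-- The rotation of order four, in `G`. -/
def gw : G := ((D.w : (S : Subgroup G)) : G)

theorem gr_mem (i : ℤ) : D.gr i ∈ (S : Subgroup G) := (D.x ^ i).2

theorem gy_mem (i : ℤ) : D.gy i ∈ (S : Subgroup G) := (D.x ^ i * D.y).2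

theorem gz_mem : D.gz ∈ (S : Subgroup G) := D.z.2

theorem gw_mem : D.gw ∈ (S : Subgroup G) := D.w.2

theorem gz_order : orderOf D.gz = 2 := by rw [gz, Subgroup.orderOf_coe, D.orderOf_z]

theorem gw_order : orderOf D.gw = 4 := by rw [gw, Subgroup.orderOf_coe, D.orderOf_w]

theorem gy_order_two {i : ℤ} (hi : 2 ∣ i) : orderOf (D.gy i) = 2 := by
  rw [gy, Subgroup.orderOf_coe, D.refl_invol_iff.2 hi]

theorem gy_order_four {i : ℤ} (hi : ¬ 2 ∣ i) : orderOf (D.gy i) = 4 := by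
  rw [gy, Subgroup.orderOf_coe, D.refl_four_iff.2 hi]

theorem gw_sq : D.gw * D.gw = D.gz := congrArg Subtype.val D.w_sq

theorem gy_sq {i : ℤ} (hi : ¬ 2 ∣ i) : D.gy i * D.gy i = D.gz := by
  show ((D.x ^ i * D.y * (D.x ^ i * D.y) : (S : Subgroup G)) : G) = _
  rw [D.refl_sq_odd hi]
  rfl

theorem gz_comm {u : G} (hu : u ∈ (S : Subgroup G)) : u * D.gz * u⁻¹ = D.gz :=
  mul_inv_eq_iff_eq_mul.2 (congrArg Subtype.val (D.z_comm ⟨u, hu⟩))

theorem gr_add (i j : ℤ) : D.gr i * D.gr j = D.gr (i + j) := by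
  rw [gr, gr, gr, zpow_add]; rfl

theorem gr_mul_gy (i j : ℤ) : D.gr i * D.gy j = D.gy (i + j) := by
  rw [gr, gy, gy, zpow_add, mul_assoc]; rfl

theorem gy_mul_zero (i : ℤ) : D.gy i * D.gy 0 = D.gr i := by
  show ((D.x ^ i * D.y * (D.x ^ (0 : ℤ) * D.y) : (S : Subgroup G)) : G) = _
  rw [zpow_zero, one_mul, mul_assoc, D.yy, mul_one]
  rfl

theorem gw_mul_gy (i : ℤ) : D.gw * D.gy i = D.gy (2 * (D.q : ℤ) + i) := by
  show ((D.w * (D.x ^ i * D.y) : (S : Subgroup G)) : G) = _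
  rw [gy, w, zpow_add, mul_assoc]

theorem gy_not_rot (i j : ℤ) : D.gy i ≠ D.gr j := fun h => D.ne_rot i j (Subtype.ext h)

theorem gy_ne_gz (i : ℤ) : D.gy i ≠ D.gz := fun h => D.ne_z i (Subtype.ext h)

theorem elem_cases {u : G} (hu : u ∈ (S : Subgroup G)) : (∃ i, u = D.gr i) ∨ ∃ i, u = D.gy i := by
  rcases D.cases ⟨u, hu⟩ with ⟨i, hi⟩ | ⟨i, hi⟩
  · exact Or.inl ⟨i, congrArg Subtype.val hi⟩
  · exact Or.inr ⟨i, congrArg Subtype.val hi⟩

theorem invol_in {u : G} (hu : u ∈ (S : Subgroup G)) (h : orderOf u = 2) :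
    u = D.gz ∨ ∃ i, 2 ∣ i ∧ u = D.gy i := by
  rcases D.invol_cases (g := ⟨u, hu⟩) (by rw [Subgroup.orderOf_mk]; exact h) with e | ⟨i, hi, e⟩
  · exact Or.inl (congrArg Subtype.val e)
  · exact Or.inr ⟨i, hi, congrArg Subtype.val e⟩

theorem four_in {u : G} (hu : u ∈ (S : Subgroup G)) (h : orderOf u = 4) :
    u = D.gw ∨ u = D.gw⁻¹ ∨ ∃ i, ¬ 2 ∣ i ∧ u = D.gy i := by
  rcases D.four_cases (g := ⟨u, hu⟩) (by rw [Subgroup.orderOf_mk]; exact h) with e | e | ⟨i, hi, e⟩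
  · exact Or.inl (congrArg Subtype.val e)
  · exact Or.inr (Or.inl (congrArg Subtype.val e))
  · exact Or.inr (Or.inr ⟨i, hi, congrArg Subtype.val e⟩)

theorem gy_conj {i j : ℤ} (h : 2 ∣ i - j) : ∃ s ∈ (S : Subgroup G), s * D.gy i * s⁻¹ = D.gy j := by
  obtain ⟨s, -, hs⟩ := D.refl_conj h
  exact ⟨s, s.2, congrArg Subtype.val hs⟩

theorem gy_isConj {i j : ℤ} (h : 2 ∣ i - j) : IsConj (D.gy i) (D.gy j) := by
  obtain ⟨s, -, hs⟩ := D.gy_conj h
  exact isConj_iff.2 ⟨s, hs⟩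

theorem gw_inv_isConj : IsConj D.gw⁻¹ D.gw :=
  isConj_iff.2 ⟨(D.y : (S : Subgroup G)), congrArg Subtype.val
    (show D.y * D.w⁻¹ * D.y⁻¹ = D.w by rw [← conj_inv, D.y_conj_w, inv_inv])⟩

include D in
theorem conj_sylow {u : G} {k : ℕ} (hu : u ^ 2 ^ k = 1) : ∃ g : G, g * u * g⁻¹ ∈ (S : Subgroup G) := by
  have : IsPGroup 2 (zpowers u) := by
    rintro ⟨v, hv⟩
    obtain ⟨j, rfl⟩ := mem_zpowers_iff.1 hv
    exact ⟨k, Subtype.ext (by
      show (u ^ j) ^ 2 ^ k = 1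
      rw [← zpow_natCast, ← zpow_mul, mul_comm, zpow_mul, zpow_natCast, hu, one_zpow])⟩
  obtain ⟨g, hg⟩ := CentralWeak.exists_conj_sylow S this
  exact ⟨g, hg u (mem_zpowers u)⟩

theorem invol_isConj {a : G} (ha : orderOf a = 2) : IsConj a D.gz ∨ IsConj a (D.gy 0) := by
  obtain ⟨g, hg⟩ := D.conj_sylow (u := a) (k := 1) (by rw [pow_one, ← ha, pow_orderOf_eq_one])
  have h := (isConj_iff.2 ⟨g, rfl⟩ : IsConj a (g * a * g⁻¹))
  rcases D.invol_in hg (by rw [CfsgLib.Invol.orderOf_conj_eq, ha]) with e | ⟨i, hi, e⟩ <;> rw [e] at h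
  · exact Or.inl h
  · exact Or.inr (h.trans (D.gy_isConj (by simpa using hi)))

theorem four_isConj {a : G} (ha : orderOf a = 4) : IsConj a D.gw ∨ IsConj a (D.gy 1) := by
  obtain ⟨g, hg⟩ := D.conj_sylow (u := a) (k := 2) (by rw [show 2 ^ 2 = orderOf a by rw [ha]; norm_num, pow_orderOf_eq_one])
  have h := (isConj_iff.2 ⟨g, rfl⟩ : IsConj a (g * a * g⁻¹))
  rcases D.four_in hg (by rw [CfsgLib.Invol.orderOf_conj_eq, ha]) with e | e | ⟨i, hi, e⟩ <;> rw [e] at h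
  · exact Or.inl h
  · exact Or.inl (h.trans D.gw_inv_isConj)
  · exact Or.inr (h.trans (D.gy_isConj (by omega)))

theorem mem_normalizer_of_conj {A : Subgroup G} {n : G} (h : ∀ a ∈ A, n * a * n⁻¹ ∈ A) :
    n ∈ normalizer (A : Set G) := by
  refine mem_normalizer_iff_map_conj_eq.2 (Subgroup.eq_of_le_of_card_ge ?_ ?_)
  · rintro _ ⟨a, ha, rfl⟩
    exact h a ha
  · exact (card_map_of_injective (f := (MulAut.conj n).toMonoidHom) (MulAut.conj n).injective).ge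

theorem mem_normalizer_zpowers {v n : G} (h : n * v * n⁻¹ ∈ zpowers v) : n ∈ normalizer (zpowers v : Set G) :=
  mem_normalizer_of_conj fun a ha => by
    obtain ⟨j, rfl⟩ := mem_zpowers_iff.1 ha
    rw [← conj_zpow]; exact zpow_mem h j

theorem sylow_le_norm_gw : (S : Subgroup G) ≤ normalizer (zpowers D.gw : Set G) := fun u hu => by
  refine mem_normalizer_zpowers ?_
  rcases D.elem_cases hu with ⟨i, rfl⟩ | ⟨i, rfl⟩
  · have h : D.x ^ i * D.w * (D.x ^ i)⁻¹ = D.w := by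
      rw [w, ((Commute.refl D.x).zpow_zpow _ _).eq, mul_inv_cancel_right]
    have e : D.gr i * D.gw * (D.gr i)⁻¹ = D.gw := congrArg Subtype.val h
    rw [e]; exact mem_zpowers _
  · have e : D.gy i * D.gw * (D.gy i)⁻¹ = D.gw⁻¹ := congrArg Subtype.val (D.refl_conj_w i)
    rw [e]; exact inv_mem (mem_zpowers _)

/-! ### The four-group -/

variable {T : Subgroup G} (hT : IsKleinFour T) (hTS : T ≤ (S : Subgroup G))

include hT hTS in
theorem klein_mem : ∃ i : ℤ, 2 ∣ i ∧ ∀ u, u ∈ T ↔ u = 1 ∨ u = D.gz ∨ u = D.gy i ∨ u = D.gz * D.gy i := by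
  have hT' : IsKleinFour (T.subgroupOf (S : Subgroup G)) :=
    ⟨(Nat.card_congr (subgroupOfEquivOfLe hTS).toEquiv).trans hT.card_four,
      (Monoid.exponent_eq_of_mulEquiv (subgroupOfEquivOfLe hTS)).trans hT.exponent_two⟩
  obtain ⟨i, hi, e⟩ := D.klein_structure hT'
  refine ⟨i, hi, fun u => ?_⟩
  have key : ∀ a : (S : Subgroup G), (a : G) ∈ T ↔
      a = 1 ∨ a = D.z ∨ a = D.x ^ i * D.y ∨ a = D.z * (D.x ^ i * D.y) := fun a => by
    rw [← mem_subgroupOf, ← SetLike.mem_coe, e]; simp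
  constructor
  · intro hu
    rcases (key ⟨u, hTS hu⟩).1 hu with h | h | h | h
    · exact Or.inl (congrArg Subtype.val h)
    · exact Or.inr (Or.inl (congrArg Subtype.val h))
    · exact Or.inr (Or.inr (Or.inl (congrArg Subtype.val h)))
    · exact Or.inr (Or.inr (Or.inr (congrArg Subtype.val h)))
  · rintro (rfl | rfl | rfl | rfl)
    exacts [one_mem T, (key D.z).2 (by simp), (key _).2 (by simp), (key (D.z * (D.x ^ i * D.y))).2 (by simp)]

include hT hTS in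
theorem klein_cycle (h3 : 3 ∣ (centralizer (T : Set G)).relIndex (normalizer (T : Set G))) :
    ∃ i : ℤ, 2 ∣ i ∧ ∃ b : G, Odd (orderOf b) ∧
      (b * D.gz * b⁻¹ = D.gy i ∨ b * D.gy i * b⁻¹ = D.gz) := by
  obtain ⟨i, hi, hmem⟩ := D.klein_mem hT hTS
  obtain ⟨b, hbN, hbC, hb3, hbo⟩ := SylowKernel.odd_cycle (AutomizerSix.centralizer_normal T) h3
  refine ⟨i, hi, b, hbo, ?_⟩
  have hz1 : D.gz ≠ 1 := CfsgLib.Invol.ne_one D.gz_order
  have hy1 : D.gy i ≠ 1 := CfsgLib.Invol.ne_one (D.gy_order_two hi)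
  have hzy1 : D.gz * D.gy i ≠ 1 := fun h => D.gy_ne_gz i (by
    rw [eq_inv_of_mul_eq_one_right h, CfsgLib.Invol.inv_eq_self D.gz_order])
  let σ : G → G := fun u => b * u * b⁻¹
  have hσ : ∀ u ∈ T, u ≠ 1 → σ u = D.gz ∨ σ u = D.gy i ∨ σ u = D.gz * D.gy i := fun u hu hu1 =>
    ((hmem _).1 ((mem_normalizer_iff.1 hbN u).1 hu)).resolve_left fun h => hu1 (conj_eq_one_iff.1 h)
  have hσ3 : ∀ u ∈ T, σ (σ (σ u)) = u := fun u hu => by
    refine Eq.trans ?_ (mul_inv_eq_iff_eq_mul.2 (mem_centralizer_iff.1 hb3 u hu).symm)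
    show b * (b * (b * u * b⁻¹) * b⁻¹) * b⁻¹ = _
    group
  have mz : D.gz ∈ T := (hmem _).2 (by simp)
  have my : D.gy i ∈ T := (hmem _).2 (by simp)
  have mzy : D.gz * D.gy i ∈ T := (hmem _).2 (by simp)
  rcases SylowKernel.three_points (σ := σ) (a := D.gz) (b := D.gy i) (c := D.gz * D.gy i) (D.gy_ne_gz i).symm
      (fun h => hy1 (mul_eq_left.1 h.symm)) (fun h => hz1 (mul_eq_right.1 h.symm)) (hσ _ mz hz1) (hσ _ my hy1)
      (hσ _ mzy hzy1) (hσ3 _ mz) (hσ3 _ my) (hσ3 _ mzy) (fun h => hbC (mem_centralizer_iff.2 fun u hu => by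
        refine ((mul_inv_eq_iff_eq_mul.1 ?_).symm)
        rcases (hmem u).1 hu with rfl | rfl | rfl | rfl
        · group
        · exact h.1
        · exact h.2.1
        · exact h.2.2)) with h | h
  · exact Or.inl h.1
  · exact Or.inr h.2.2

include hT hTS in
theorem klein_conj_six (h : (centralizer (T : Set G)).relIndex (normalizer (T : Set G)) = 6) :
    IsConj D.gz (D.gy 0) := by
  obtain ⟨i, hi, b, -, hb⟩ := D.klein_cycle hT hTS (h ▸ by norm_num)
  refine IsConj.trans ?_ (D.gy_isConj (i := i) (j := 0) (by simpa using hi))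
  rcases hb with hb | hb
  · exact isConj_iff.2 ⟨b, hb⟩
  · exact (isConj_iff.2 ⟨b, hb⟩ : IsConj (D.gy i) D.gz).symm

include hT hTS in
theorem klein_not_conj (h : (centralizer (T : Set G)).relIndex (normalizer (T : Set G)) = 2) :
    ¬ IsConj D.gz (D.gy 0) := by
  intro hconj
  obtain ⟨i, hi, hmem⟩ := D.klein_mem hT hTS
  obtain ⟨g, hg⟩ := isConj_iff.1 ((D.gy_isConj (i := i) (j := 0) (by simpa using hi)).trans hconj.symm)
  set W := centralizer ({D.gz} : Set G)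
  have hSW : (S : Subgroup G) ≤ W := fun u hu =>
    mem_centralizer_singleton_iff.2 (mul_inv_eq_iff_eq_mul.1 (D.gz_comm hu))
  have mz : D.gz ∈ T := (hmem _).2 (by simp)
  have hT' : IsKleinFour (T.subgroupOf (S : Subgroup G)) :=
    ⟨(Nat.card_congr (subgroupOfEquivOfLe hTS).toEquiv).trans hT.card_four,
      (Monoid.exponent_eq_of_mulEquiv (subgroupOfEquivOfLe hTS)).trans hT.exponent_two⟩
  obtain ⟨n₀, hn₀, hn₀T⟩ := SetLike.not_le_iff_exists.1 (fun hle => absurd (D.klein_centralizer hT').2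
    (by rw [relIndex_eq_one.2 hle]; norm_num))
  have hn₀N : (n₀ : G) ∈ normalizer (T : Set G) := mem_normalizer_of_conj fun a ha =>
    mem_subgroupOf.1 ((mem_normalizer_iff.1 hn₀ ⟨a, hTS ha⟩).1 (mem_subgroupOf.2 ha))
  have hn₀C : (n₀ : G) ∉ centralizer (T : Set G) := fun hc => hn₀T (by
    rw [← (D.klein_centralizer hT').1]
    exact mem_centralizer_iff.2 fun v hv => Subtype.ext (mem_centralizer_iff.1 hc v (mem_subgroupOf.1 hv)))
  have hNW : normalizer (T : Set G) ≤ W := SylowKernel.le_of_relIndex_two h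
    (centralizer_le (Set.singleton_subset_iff.2 mz)) hn₀N hn₀C (hSW n₀.2)
  -- move a conjugate of `T` into `S`
  set R := T.map (MulAut.conj g).toMonoidHom with hR
  have hgy : D.gy i ∈ T := (hmem _).2 (by simp)
  have hRW : R ≤ W := by
    rintro _ ⟨a, ha, rfl⟩
    rw [mem_centralizer_singleton_iff]
    haveI := hT
    haveI : IsMulCommutative T := IsKleinFour.isMulCommutative
    have := congrArg (fun v : T => MulAut.conj g (v : G)) (IsMulCommutative.is_comm.comm (⟨a, ha⟩ : T) ⟨_, hgy⟩)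
    simp only [Subgroup.coe_mul, map_mul] at this
    rw [show MulAut.conj g (D.gy i) = D.gz from hg] at this
    exact this
  obtain ⟨c, hc, hcS⟩ := SylowKernel.conj_into S hSW hRW
    (IsPGroup.of_card (n := 2) (by
      rw [hR, card_map_of_injective (f := (MulAut.conj g).toMonoidHom) (MulAut.conj g).injective, hT.card_four]; norm_num))
  set R' := T.map (MulAut.conj (c * g)).toMonoidHom with hR'
  have hR'S : R' ≤ (S : Subgroup G) := by
    rintro _ ⟨a, ha, rfl⟩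
    have := hcS _ (⟨a, ha, rfl⟩ : MulAut.conj g a ∈ R)
    show c * g * a * (c * g)⁻¹ ∈ _
    rwa [show c * g * a * (c * g)⁻¹ = c * (g * a * g⁻¹) * c⁻¹ by group]
  have hR'k : IsKleinFour (R'.subgroupOf (S : Subgroup G)) :=
    ⟨(Nat.card_congr ((subgroupOfEquivOfLe hR'S).trans (equivMapOfInjective T _ (MulAut.conj (c * g)).injective).symm).toEquiv).trans hT.card_four,
      (Monoid.exponent_eq_of_mulEquiv ((subgroupOfEquivOfLe hR'S).trans (equivMapOfInjective T _ (MulAut.conj (c * g)).injective).symm)).trans hT.exponent_two⟩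
  obtain ⟨s, hs⟩ := D.klein_conj hR'k hT'
  have hn : (s : G) * (c * g) ∈ normalizer (T : Set G) := mem_normalizer_of_conj fun a ha => by
    have h1 : (MulAut.conj s) ⟨_, hR'S ⟨a, ha, rfl⟩⟩ ∈ T.subgroupOf (S : Subgroup G) := by
      rw [← hs]
      exact ⟨⟨_, hR'S ⟨a, ha, rfl⟩⟩, ⟨a, ha, rfl⟩, rfl⟩
    have h2 := mem_subgroupOf.1 h1
    change (s : G) * (c * g * a * (c * g)⁻¹) * (s : G)⁻¹ ∈ T at h2
    rwa [show (s : G) * (c * g) * a * ((s : G) * (c * g))⁻¹ = (s : G) * (c * g * a * (c * g)⁻¹) * (s : G)⁻¹ by group]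
  have hW := hNW hn
  have h1 : (s : G) * (c * g) * D.gy i * ((s : G) * (c * g))⁻¹ = D.gz := by
    calc (s : G) * (c * g) * D.gy i * ((s : G) * (c * g))⁻¹
        = (s : G) * (c * (g * D.gy i * g⁻¹) * c⁻¹) * (s : G)⁻¹ := by group
      _ = D.gz := by
        rw [hg, mem_centralizer_singleton_iff.1 hc, mul_inv_cancel_right, D.gz_comm s.2]
  have h2 : (s : G) * (c * g) * D.gz * ((s : G) * (c * g))⁻¹ = D.gz := by
    rw [mem_centralizer_singleton_iff.1 hW, mul_inv_cancel_right]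
  exact D.gy_ne_gz i ((MulAut.conj ((s : G) * (c * g))).injective (h1.trans h2.symm))

/-! ### The quaternion group -/

variable {Q : Subgroup G} (hQS : Q ≤ (S : Subgroup G)) (eQ : Q ≃* QuaternionGroup 2)

include hQS eQ in
theorem quat_mem : ∃ i : ℤ, ¬ 2 ∣ i ∧ D.gw ∈ Q ∧ D.gy i ∈ Q ∧ ∀ u ∈ Q, u = 1 ∨ u = D.gz ∨
    u ∈ ({D.gw, D.gw⁻¹, D.gy i, (D.gy i)⁻¹, D.gw * D.gy i, (D.gw * D.gy i)⁻¹} : Set G) := by
  obtain ⟨i, hi, e⟩ := D.quaternion_structure (Q := Q.subgroupOf (S : Subgroup G)) ⟨(subgroupOfEquivOfLe hQS).trans eQ⟩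
  have key : ∀ a : (S : Subgroup G), (a : G) ∈ Q ↔ a ∈ ({1, D.z, D.w, D.w⁻¹, D.x ^ i * D.y, D.z * (D.x ^ i * D.y),
      D.w * (D.x ^ i * D.y), D.w⁻¹ * (D.x ^ i * D.y)} : Set (S : Subgroup G)) := fun a => by
    rw [← mem_subgroupOf, ← SetLike.mem_coe, e]
  refine ⟨i, hi, (key D.w).2 (by simp), (key _).2 (by simp), fun u hu => ?_⟩
  have hiw : ¬ 2 ∣ 2 * (D.q : ℤ) + i := by omega
  have e1 : D.z * (D.x ^ i * D.y) = (D.x ^ i * D.y)⁻¹ := by
    refine eq_inv_of_mul_eq_one_left ?_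
    rw [mul_assoc, D.refl_sq_odd hi]
    exact D.z_sq
  have e2 : D.w⁻¹ * (D.x ^ i * D.y) = (D.w * (D.x ^ i * D.y))⁻¹ := by
    refine eq_inv_of_mul_eq_one_left ?_
    have h := D.refl_conj_w i
    rw [show D.w⁻¹ * (D.x ^ i * D.y) * (D.w * (D.x ^ i * D.y)) =
      D.w⁻¹ * ((D.x ^ i * D.y) * D.w * (D.x ^ i * D.y)⁻¹) * ((D.x ^ i * D.y) * (D.x ^ i * D.y)) by group, h,
      D.refl_sq_odd hi, ← mul_inv_rev, D.w_sq, CfsgLib.Invol.inv_eq_self D.orderOf_z]
    exact D.z_sq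
  have h := (key ⟨u, hQS hu⟩).1 hu
  simp only [Set.mem_insert_iff, Set.mem_singleton_iff] at h ⊢
  rcases h with h | h | h | h | h | h | h | h
  · exact Or.inl (congrArg Subtype.val h)
  · exact Or.inr (Or.inl (congrArg Subtype.val h))
  · exact Or.inr (Or.inr (Or.inl (congrArg Subtype.val h)))
  · exact Or.inr (Or.inr (Or.inr (Or.inl (congrArg Subtype.val h))))
  · exact Or.inr (Or.inr (Or.inr (Or.inr (Or.inl (congrArg Subtype.val h)))))
  · exact Or.inr (Or.inr (Or.inr (Or.inr (Or.inr (Or.inl (congrArg Subtype.val (h.trans e1)))))))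
  · exact Or.inr (Or.inr (Or.inr (Or.inr (Or.inr (Or.inr (Or.inl (congrArg Subtype.val h)))))))
  · exact Or.inr (Or.inr (Or.inr (Or.inr (Or.inr (Or.inr (Or.inr (congrArg Subtype.val (h.trans e2))))))))

include eQ in
theorem quat_conj {a b : G} (ha : a ∈ Q) (hb : b ∈ Q) : a * b * a⁻¹ = b ∨ a * b * a⁻¹ = b⁻¹ := by
  have key : ∀ a b : QuaternionGroup 2, a * b * a⁻¹ = b ∨ a * b * a⁻¹ = b⁻¹ := by decide
  rcases key (eQ ⟨a, ha⟩) (eQ ⟨b, hb⟩) with h | h <;>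
    rw [← map_inv, ← map_mul, ← map_mul] at h
  · exact Or.inl (congrArg Subtype.val (eQ.injective h))
  · rw [← map_inv] at h
    exact Or.inr (congrArg Subtype.val (eQ.injective h))

include eQ in
theorem quat_le_normalizer {v : G} (hv : v ∈ Q) : Q ≤ normalizer (zpowers v : Set G) := fun a ha => by
  refine mem_normalizer_zpowers ?_
  rcases quat_conj eQ ha hv with h | h <;> rw [h]
  exacts [mem_zpowers _, inv_mem (mem_zpowers _)]

include hQS eQ in
theorem quat_cycle (h3 : 3 ∣ (Q ⊔ centralizer (Q : Set G)).relIndex (normalizer (Q : Set G))) :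
    ∃ i : ℤ, ¬ 2 ∣ i ∧ ∃ b : G, Odd (orderOf b) ∧
      (((b * D.gw * b⁻¹ = D.gy i ∨ b * D.gw * b⁻¹ = (D.gy i)⁻¹) ∧
        (b * D.gy i * b⁻¹ = D.gw * D.gy i ∨ b * D.gy i * b⁻¹ = (D.gw * D.gy i)⁻¹)) ∨
      ((b * D.gy i * b⁻¹ = D.gw ∨ b * D.gy i * b⁻¹ = D.gw⁻¹) ∧
        (b * D.gw * b⁻¹ = D.gw * D.gy i ∨ b * D.gw * b⁻¹ = (D.gw * D.gy i)⁻¹))) := by
  obtain ⟨i, hi, hwQ, hyQ, hmem⟩ := D.quat_mem hQS eQ
  set H := Q ⊔ centralizer (Q : Set G) with hH
  have hHn : (H.subgroupOf (normalizer (Q : Set G))).Normal := by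
    rw [hH, subgroupOf_sup le_normalizer (centralizer_le_normalizer _)]
    haveI := AutomizerSix.centralizer_normal Q
    haveI : (Q.subgroupOf (normalizer (Q : Set G))).Normal := normal_in_normalizer
    infer_instance
  obtain ⟨b, hbN, hbH, hb3, hbo⟩ := SylowKernel.odd_cycle hHn h3
  refine ⟨i, hi, b, hbo, ?_⟩
  have hwyQ : D.gw * D.gy i ∈ Q := mul_mem hwQ hyQ
  -- the three pairs `{v, v⁻¹}`
  let P : G → Set G := fun v => {v, v⁻¹}
  let σ : Set G → Set G := fun A => (fun u => b * u * b⁻¹) '' A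
  have hσP : ∀ v, σ (P v) = P (b * v * b⁻¹) := fun v => by
    show (fun u => b * u * b⁻¹) '' {v, v⁻¹} = {b * v * b⁻¹, (b * v * b⁻¹)⁻¹}
    rw [Set.image_pair, conj_inv]
  have hPinv : ∀ v, P v⁻¹ = P v := fun v => by
    show ({v⁻¹, v⁻¹⁻¹} : Set G) = {v, v⁻¹}
    rw [inv_inv, Set.pair_comm]
  have hord : ∀ v : G, orderOf v = 4 → v ≠ 1 ∧ v ≠ D.gz := fun v hv =>
    ⟨fun h => by rw [h, orderOf_one] at hv; omega, fun h => by rw [h, D.gz_order] at hv; omega⟩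
  have hwy : orderOf (D.gw * D.gy i) = 4 := by rw [D.gw_mul_gy]; exact D.gy_order_four (by omega)
  have hcases : ∀ v ∈ Q, orderOf v = 4 → σ (P v) = P D.gw ∨ σ (P v) = P (D.gy i) ∨ σ (P v) = P (D.gw * D.gy i) := by
    intro v hv hv4
    obtain ⟨h1, h2⟩ := hord (b * v * b⁻¹) (by rw [CfsgLib.Invol.orderOf_conj_eq, hv4])
    have := ((hmem _ ((mem_normalizer_iff.1 hbN v).1 hv)).resolve_left h1).resolve_left h2
    simp only [Set.mem_insert_iff, Set.mem_singleton_iff] at this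
    rw [hσP]
    rcases this with e | e | e | e | e | e <;> rw [e]
    · exact Or.inl rfl
    · exact Or.inl (hPinv _)
    · exact Or.inr (Or.inl rfl)
    · exact Or.inr (Or.inl (hPinv _))
    · exact Or.inr (Or.inr rfl)
    · exact Or.inr (Or.inr (hPinv _))
  have hb3' : ∀ v ∈ Q, σ (σ (σ (P v))) = P v := by
    intro v hv
    rw [hσP, hσP, hσP, show b * (b * (b * v * b⁻¹) * b⁻¹) * b⁻¹ = b * (b * b) * v * (b * (b * b))⁻¹ by group]
    obtain ⟨q, hq, c, hc, hqc⟩ : ∃ q ∈ Q, ∃ c ∈ centralizer (Q : Set G), q * c = b * (b * b) := by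
      haveI := AutomizerSix.centralizer_normal Q
      have hm : (⟨_, mul_mem hbN (mul_mem hbN hbN)⟩ : normalizer (Q : Set G)) ∈
          Q.subgroupOf _ ⊔ (centralizer (Q : Set G)).subgroupOf _ := by
        rw [← subgroupOf_sup le_normalizer (centralizer_le_normalizer _)]
        exact mem_subgroupOf.2 hb3
      obtain ⟨q, hq, c, hc, hqc⟩ := mem_sup_of_normal_right.1 hm
      exact ⟨q, mem_subgroupOf.1 hq, c, mem_subgroupOf.1 hc, congrArg Subtype.val hqc⟩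
    rw [← hqc, show q * c * v * (q * c)⁻¹ = q * (c * v * c⁻¹) * q⁻¹ by group,
      mul_inv_eq_iff_eq_mul.2 (mem_centralizer_iff.1 hc v hv).symm]
    rcases quat_conj eQ hq hv with e | e <;> rw [e]
    exact hPinv v
  have hPeq : ∀ {v v' : G}, P v = P v' → v = v' ∨ v = v'⁻¹ := fun {v v'} h => by
    have h1 : v ∈ P v' := h ▸ (Or.inl rfl : v ∈ P v)
    simpa [P] using h1
  have hdist : ∀ v : G, ∀ {j : ℤ}, ¬ 2 ∣ j → v = D.gw → P v ≠ P (D.gy j) := fun v j hj hv h => by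
    rcases hPeq h with e | e
    · exact D.gy_not_rot j _ (e.symm.trans hv)
    · have e' : (D.gy j)⁻¹ = D.gw := e.symm.trans hv
      refine D.gy_not_rot j (-(2 * (D.q : ℤ))) ?_
      rw [← inv_inv (D.gy j), e']
      show _ = ((D.x ^ (-(2 * (D.q : ℤ))) : (S : Subgroup G)) : G)
      rw [zpow_neg]; rfl
  have d1 : P D.gw ≠ P (D.gy i) := hdist _ hi rfl
  have d2 : P D.gw ≠ P (D.gw * D.gy i) := by
    rw [D.gw_mul_gy]; exact hdist _ (by omega) rfl
  have d3 : P (D.gy i) ≠ P (D.gw * D.gy i) := fun h => by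
    rcases hPeq h with e | e
    · exact (hord _ D.gw_order).1 (mul_eq_right.1 e.symm)
    · have h1 : D.gy i * (D.gw * D.gy i) = 1 := eq_inv_iff_mul_eq_one.1 e
      have h3 : D.gw * (D.gy i * D.gy i) = 1 := by
        rw [← mul_assoc]
        exact mul_eq_one_comm.1 h1
      rw [D.gy_sq hi] at h3
      exact (hord _ D.gw_order).2 (by
        rw [eq_inv_of_mul_eq_one_left h3, CfsgLib.Invol.inv_eq_self D.gz_order])
  have hnofix : ¬ (σ (P D.gw) = P D.gw ∧ σ (P (D.gy i)) = P (D.gy i) ∧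
      σ (P (D.gw * D.gy i)) = P (D.gw * D.gy i)) := by
    intro h
    refine hbH ?_
    -- an element fixing the three pairs is inner modulo the centralizer
    obtain ⟨h1, h2, -⟩ := h
    rw [hσP] at h1 h2
    have hgen : ∀ c : G, c * D.gw * c⁻¹ = D.gw → c * D.gy i * c⁻¹ = D.gy i → c ∈ centralizer (Q : Set G) := by
      intro c e1 e2
      refine mem_centralizer_iff.2 fun u hu => (mul_inv_eq_iff_eq_mul.1 ?_).symm
      have hz : c * D.gz * c⁻¹ = D.gz := by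
        rw [← D.gw_sq, show c * (D.gw * D.gw) * c⁻¹ = (c * D.gw * c⁻¹) * (c * D.gw * c⁻¹) by group, e1]
      have hp : c * (D.gw * D.gy i) * c⁻¹ = D.gw * D.gy i := by
        rw [show c * (D.gw * D.gy i) * c⁻¹ = (c * D.gw * c⁻¹) * (c * D.gy i * c⁻¹) by group, e1, e2]
      rcases hmem u hu with rfl | rfl | hu
      · group
      · exact hz
      simp only [Set.mem_insert_iff, Set.mem_singleton_iff] at hu
      rcases hu with rfl | rfl | rfl | rfl | rfl | rfl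
      exacts [e1, by rw [← conj_inv, e1], e2, by rw [← conj_inv, e2], hp, by rw [← conj_inv, hp]]
    have hinv : ∀ a v : G, a * v * a⁻¹ = v⁻¹ → a⁻¹ * v⁻¹ * a = v := fun a v h => by rw [← h]; group
    have hyw : D.gy i * D.gw * (D.gy i)⁻¹ = D.gw⁻¹ := congrArg Subtype.val (D.refl_conj_w i)
    have hwy' : D.gw * D.gy i * D.gw⁻¹ = (D.gy i)⁻¹ := by
      rcases quat_conj eQ hwQ hyQ with e | e
      · exfalso
        have hc : D.gy i * D.gw * (D.gy i)⁻¹ = D.gw := by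
          rw [← mul_inv_eq_iff_eq_mul.1 e, mul_inv_cancel_right]
        rw [hyw] at hc
        exact (hord _ D.gw_order).1 (by
          have h4 : D.gw * D.gw = 1 := by nth_rw 1 [← hc]; exact inv_mul_cancel _
          rw [D.gw_sq] at h4
          exact absurd h4 (CfsgLib.Invol.ne_one D.gz_order))
      · exact e
    obtain ⟨u, hu, hu1, hu2⟩ : ∃ u ∈ Q, u * D.gw * u⁻¹ = b * D.gw * b⁻¹ ∧ u * D.gy i * u⁻¹ = b * D.gy i * b⁻¹ := by
      rcases hPeq h1 with f1 | f1 <;> rcases hPeq h2 with f2 | f2 <;> rw [f1, f2]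
      · exact ⟨1, one_mem Q, by group, by group⟩
      · exact ⟨D.gw, hwQ, by group, hwy'⟩
      · exact ⟨D.gy i, hyQ, hyw, by group⟩
      · refine ⟨D.gw * D.gy i, hwyQ, ?_, ?_⟩
        · rw [show D.gw * D.gy i * D.gw * (D.gw * D.gy i)⁻¹ = D.gw * (D.gy i * D.gw * (D.gy i)⁻¹) * D.gw⁻¹ by group, hyw]
          group
        · rw [show D.gw * D.gy i * D.gy i * (D.gw * D.gy i)⁻¹ = D.gw * D.gy i * D.gw⁻¹ by group, hwy']
    have hc : u⁻¹ * b ∈ centralizer (Q : Set G) := by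
      refine hgen _ ?_ ?_
      · rw [show u⁻¹ * b * D.gw * (u⁻¹ * b)⁻¹ = u⁻¹ * (b * D.gw * b⁻¹) * u by group, ← hu1]; group
      · rw [show u⁻¹ * b * D.gy i * (u⁻¹ * b)⁻¹ = u⁻¹ * (b * D.gy i * b⁻¹) * u by group, ← hu2]; group
    have := mul_mem (mem_sup_left hu : u ∈ H) (mem_sup_right hc : u⁻¹ * b ∈ H)
    rwa [mul_inv_cancel_left] at this
  rcases SylowKernel.three_points (σ := σ) d1 d2 d3 (hcases _ hwQ D.gw_order)
      (hcases _ hyQ (D.gy_order_four hi)) (hcases _ hwyQ hwy) (hb3' _ hwQ) (hb3' _ hyQ) (hb3' _ hwyQ)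
      hnofix with ⟨h1, h2, -⟩ | ⟨h1, -, h2⟩
  · rw [hσP] at h1 h2
    exact Or.inl ⟨hPeq h1, hPeq h2⟩
  · rw [hσP] at h1 h2
    exact Or.inr ⟨hPeq h2, hPeq h1⟩

include hQS eQ in
theorem quat_conj_six (h : (Q ⊔ centralizer (Q : Set G)).relIndex (normalizer (Q : Set G)) = 6) :
    IsConj D.gw (D.gy 1) := by
  obtain ⟨i, hi, b, -, hb⟩ := D.quat_cycle hQS eQ (h ▸ by norm_num)
  refine IsConj.trans ?_ (D.gy_isConj (i := i) (j := 1) (by omega))
  have hwi : IsConj D.gw⁻¹ D.gw := D.gw_inv_isConj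
  rcases hb with ⟨h1 | h1, -⟩ | ⟨h1 | h1, -⟩
  · exact isConj_iff.2 ⟨b, h1⟩
  · exact hwi.symm.trans (isConj_iff.2 ⟨b, by rw [← conj_inv, h1, inv_inv]⟩)
  · exact (isConj_iff.2 ⟨b, h1⟩ : IsConj (D.gy i) D.gw).symm
  · exact hwi.symm.trans (isConj_iff.2 ⟨b, h1⟩ : IsConj (D.gy i) D.gw⁻¹).symm

include hQS eQ in
theorem quat_not_conj (h : (Q ⊔ centralizer (Q : Set G)).relIndex (normalizer (Q : Set G)) = 2) :
    ¬ IsConj D.gw (D.gy 1) := by
  intro hconj
  obtain ⟨i, hi, hwQ, hyQ, -⟩ := D.quat_mem hQS eQ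
  obtain ⟨g, hg⟩ := isConj_iff.1 ((D.gy_isConj (i := i) (j := 1) (by omega)).trans hconj.symm)
  set W := normalizer (zpowers D.gw : Set G)
  have hQ' : Nonempty (Q.subgroupOf (S : Subgroup G) ≃* QuaternionGroup 2) := ⟨(subgroupOfEquivOfLe hQS).trans eQ⟩
  obtain ⟨hC, hr⟩ := D.quaternion_centralizer hQ'
  obtain ⟨n₀, hn₀, hn₀Q⟩ := SetLike.not_le_iff_exists.1 (fun hle => absurd hr
    (by rw [relIndex_eq_one.2 hle]; norm_num))
  have hn₀N : (n₀ : G) ∈ normalizer (Q : Set G) := mem_normalizer_of_conj fun a ha =>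
    mem_subgroupOf.1 ((mem_normalizer_iff.1 hn₀ ⟨a, hQS ha⟩).1 (mem_subgroupOf.2 ha))
  have hCW : centralizer (Q : Set G) ≤ W := fun c hc => mem_normalizer_zpowers (by
    rw [mul_inv_eq_iff_eq_mul.2 (mem_centralizer_iff.1 hc _ hwQ).symm]; exact mem_zpowers _)
  have hn₀H : (n₀ : G) ∉ Q ⊔ centralizer (Q : Set G) := by
    intro hm
    haveI := AutomizerSix.centralizer_normal Q
    have hm' : (⟨n₀, hn₀N⟩ : normalizer (Q : Set G)) ∈ Q.subgroupOf _ ⊔ (centralizer (Q : Set G)).subgroupOf _ := by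
      rw [← subgroupOf_sup le_normalizer (centralizer_le_normalizer _)]
      exact mem_subgroupOf.2 hm
    obtain ⟨q, hq, c, hc, hqc⟩ := mem_sup_of_normal_right.1 hm'
    have hqn : (q : G) * c = n₀ := congrArg Subtype.val hqc
    have hcS : (c : G) ∈ (S : Subgroup G) := by
      rw [show (c : G) = (q : G)⁻¹ * n₀ by rw [← hqn]; group]
      exact mul_mem (inv_mem (hQS (mem_subgroupOf.1 hq))) n₀.2
    have h1 : (⟨(c : G), hcS⟩ : (S : Subgroup G)) ∈ centralizer ((Q.subgroupOf (S : Subgroup G)) : Set (S : Subgroup G)) :=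
      mem_centralizer_iff.2 fun v hv => Subtype.ext (mem_centralizer_iff.1 (mem_subgroupOf.1 hc) v (mem_subgroupOf.1 hv))
    rw [hC] at h1
    refine hn₀Q (mem_subgroupOf.2 ?_)
    rw [← hqn]
    exact mul_mem (mem_subgroupOf.1 hq) (mem_subgroupOf.1 (map_subtype_le _ h1 :
      (⟨(c : G), hcS⟩ : (S : Subgroup G)) ∈ Q.subgroupOf (S : Subgroup G)))
  have hNW : normalizer (Q : Set G) ≤ W := SylowKernel.le_of_relIndex_two h
    (sup_le (quat_le_normalizer eQ hwQ) hCW) hn₀N hn₀H (D.sylow_le_norm_gw n₀.2)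
  set R := Q.map (MulAut.conj g).toMonoidHom with hR
  have hRW : R ≤ W := by
    rintro _ ⟨a, ha, rfl⟩
    refine mem_normalizer_zpowers ?_
    show g * a * g⁻¹ * D.gw * (g * a * g⁻¹)⁻¹ ∈ zpowers D.gw
    rw [show g * a * g⁻¹ * D.gw * (g * a * g⁻¹)⁻¹ = g * (a * (g⁻¹ * D.gw * g) * a⁻¹) * g⁻¹ by group,
      show g⁻¹ * D.gw * g = D.gy i by rw [← hg]; group]
    rcases quat_conj eQ ha hyQ with e | e <;> rw [e]
    · rw [hg]; exact mem_zpowers _
    · rw [← conj_inv, hg]; exact inv_mem (mem_zpowers _)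
  obtain ⟨c, hc, hcS⟩ := SylowKernel.conj_into S D.sylow_le_norm_gw hRW
    (IsPGroup.of_card (n := 3) (by
      rw [hR, card_map_of_injective (f := (MulAut.conj g).toMonoidHom) (MulAut.conj g).injective,
        Nat.card_congr eQ.toEquiv, Nat.card_eq_fintype_card, QuaternionGroup.card]; norm_num))
  set R' := Q.map (MulAut.conj (c * g)).toMonoidHom with hR'
  have hR'S : R' ≤ (S : Subgroup G) := by
    rintro _ ⟨a, ha, rfl⟩
    have := hcS _ (⟨a, ha, rfl⟩ : MulAut.conj g a ∈ R)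
    show c * g * a * (c * g)⁻¹ ∈ _
    rwa [show c * g * a * (c * g)⁻¹ = c * (g * a * g⁻¹) * c⁻¹ by group]
  obtain ⟨s, hs⟩ := D.quaternion_conj (Q₁ := R'.subgroupOf (S : Subgroup G))
    ⟨((subgroupOfEquivOfLe hR'S).trans (equivMapOfInjective Q _ (MulAut.conj (c * g)).injective).symm).trans eQ⟩ hQ'
  have hn : (s : G) * (c * g) ∈ normalizer (Q : Set G) := mem_normalizer_of_conj fun a ha => by
    have h1 : (MulAut.conj s) ⟨_, hR'S ⟨a, ha, rfl⟩⟩ ∈ Q.subgroupOf (S : Subgroup G) := by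
      rw [← hs]
      exact ⟨⟨_, hR'S ⟨a, ha, rfl⟩⟩, ⟨a, ha, rfl⟩, rfl⟩
    have h2 := mem_subgroupOf.1 h1
    change (s : G) * (c * g * a * (c * g)⁻¹) * (s : G)⁻¹ ∈ Q at h2
    rwa [show (s : G) * (c * g) * a * ((s : G) * (c * g))⁻¹ = (s : G) * (c * g * a * (c * g)⁻¹) * (s : G)⁻¹ by group]
  have h1 : (s : G) * (c * g) * D.gy i * ((s : G) * (c * g))⁻¹ ∈ zpowers D.gw := by
    rw [show (s : G) * (c * g) * D.gy i * ((s : G) * (c * g))⁻¹ = (s : G) * c * (g * D.gy i * g⁻¹) * ((s : G) * c)⁻¹ by group, hg]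
    exact (mem_normalizer_iff.1 (mul_mem (D.sylow_le_norm_gw s.2) hc) _).1 (mem_zpowers _)
  have h2 := (mem_normalizer_iff.1 (hNW hn) _).2 h1
  obtain ⟨j, hj⟩ := mem_zpowers_iff.1 h2
  refine D.gy_not_rot i (2 * (D.q : ℤ) * j) ?_
  rw [← hj]
  show ((D.w : (S : Subgroup G)) : G) ^ j = _
  rw [← Subgroup.coe_zpow, w, ← zpow_mul]
  rfl

end CfsgLib.QD.Data
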