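import Cfsg.Agent.ZJ.SL2Basic

/-!
Elementary facts on `SL₂(F)` for `2 ≠ 0`: no homomorphism onto a group of order two, the centre, and
two commuting normal subgroups cannot both be noncentral.
-/

set_option autoImplicit false

namespace CfsgLib.SL2Factors

open CfsgLib.ZJ

variable {K : Type*} [Field K]

lemma hom_trivial (h2 : (2 : K) ≠ 0) {X : Type*} [Group X] (f : SL2 K →* X)
    (hX : ∀ x : X, x ^ 2 = 1) : ∀ g, f g = 1 := by
  intro g
  refine MonoidHom.mem_ker.mp (sl2_upper_lower_induction g f.ker (fun a => ?_) (fun a => ?_))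
  · have : upper a = upper (a / 2) ^ 2 := by
      rw [upper_pow]; congr 1; push_cast; field_simp
    rw [MonoidHom.mem_ker, this, map_pow, hX]
  · have : lower a = lower (a / 2) ^ 2 := by
      rw [lower_pow]; congr 1; push_cast; field_simp
    rw [MonoidHom.mem_ker, this, map_pow, hX]

lemma upper_apply (a : K) : upper a 0 0 = 1 ∧ upper a 0 1 = a ∧ upper a 1 0 = 0 ∧ upper a 1 1 = 1 :=
  ⟨rfl, rfl, rfl, rfl⟩

lemma lower_apply (a : K) : lower a 0 0 = 1 ∧ lower a 0 1 = 0 ∧ lower a 1 0 = a ∧ lower a 1 1 = 1 :=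
  ⟨rfl, rfl, rfl, rfl⟩

lemma central_eq {g : SL2 K} (hg : g ∈ Subgroup.center (SL2 K)) : g = 1 ∨ g = -1 := by
  have hu := Subgroup.mem_center_iff.mp hg (upper 1)
  have hl := Subgroup.mem_center_iff.mp hg (lower 1)
  have a := congrArg (fun M : SL2 K => M 0 0) hu
  have b := congrArg (fun M : SL2 K => M 0 1) hu
  have c := congrArg (fun M : SL2 K => M 0 0) hl
  simp only [sl2_mul, upper_apply, lower_apply] at a b c
  simp at a b c
  have hd := sl2_det g
  rw [a, c, show g 1 1 = g 0 0 from by linear_combination b] at hd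
  rcases mul_self_eq_one_iff.mp (show g 0 0 * g 0 0 = 1 by linear_combination hd) with h | h
  · exact Or.inl (sl2_ext (by simpa using h) (by simpa using c) (by simpa using a)
      (by simp; linear_combination b + h))
  · exact Or.inr (sl2_ext (by simpa using h) (by simpa using c) (by simpa using a)
      (by simp; linear_combination b + h))

lemma neg_one_ne_one (h2 : (2 : K) ≠ 0) : (-1 : SL2 K) ≠ 1 := by
  intro h
  have := congrArg (fun M : SL2 K => M 0 0) h
  simp at this
  exact h2 (by linear_combination -this)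

/-- matrices commuting with a noncentral `g` are in the span of `1` and `g` -/
lemma commutant {g h : SL2 K} (hg : g 0 1 ≠ 0 ∨ g 1 0 ≠ 0 ∨ g 0 0 ≠ g 1 1) (hc : g * h = h * g) :
    ∃ a b : K, h 0 0 = a + b * g 0 0 ∧ h 0 1 = b * g 0 1 ∧ h 1 0 = b * g 1 0 ∧
      h 1 1 = a + b * g 1 1 := by
  have e00 := congrArg (fun M : SL2 K => M 0 0) hc
  have e01 := congrArg (fun M : SL2 K => M 0 1) hc
  have e10 := congrArg (fun M : SL2 K => M 1 0) hc
  simp [sl2_mul] at e00 e01 e10
  rcases hg with h01 | h10 | hd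
  · refine ⟨h 0 0 - h 0 1 / g 0 1 * g 0 0, h 0 1 / g 0 1, by ring, by field_simp, ?_, ?_⟩
    · field_simp; linear_combination e00
    · field_simp; linear_combination e01
  · refine ⟨h 0 0 - h 1 0 / g 1 0 * g 0 0, h 1 0 / g 1 0, by ring, ?_, by field_simp, ?_⟩
    · field_simp; linear_combination -e00
    · field_simp; linear_combination -e10
  · have hd' : g 0 0 - g 1 1 ≠ 0 := sub_ne_zero.mpr hd
    refine ⟨h 0 0 - (h 0 0 - h 1 1) / (g 0 0 - g 1 1) * g 0 0, (h 0 0 - h 1 1) / (g 0 0 - g 1 1),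
      by ring, ?_, ?_, ?_⟩
    · field_simp; linear_combination e01
    · field_simp; linear_combination -e10
    · field_simp; ring

lemma noncentral_entries {g : SL2 K} (hg : g ∉ Subgroup.center (SL2 K)) :
    g 0 1 ≠ 0 ∨ g 1 0 ≠ 0 ∨ g 0 0 ≠ g 1 1 := by
  by_contra h
  push Not at h
  apply hg
  rw [Subgroup.mem_center_iff]
  intro u
  apply sl2_ext <;> simp [sl2_mul, h.1, h.2.1, h.2.2] <;> ring

/-- Two normal subgroups which commute are not both noncentral. -/
lemma commuting_normal (h2 : (2 : K) ≠ 0) (A B : Subgroup (SL2 K)) (hA : A.Normal) (hB : B.Normal)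
    (hc : ∀ a ∈ A, ∀ b ∈ B, a * b = b * a) (hAnc : ¬ A ≤ Subgroup.center (SL2 K)) :
    B ≤ Subgroup.center (SL2 K) := by
  by_contra hBnc
  obtain ⟨h, hh, hhc⟩ := SetLike.not_le_iff_exists.mp hBnc
  obtain ⟨g, hg, hgc⟩ := SetLike.not_le_iff_exists.mp hAnc
  -- every conjugate of `g` lies in the span of `1` and `h`
  have key : ∀ u : SL2 K, ∃ a b : K, (u * g * u⁻¹) 0 0 = a + b * h 0 0 ∧
      (u * g * u⁻¹) 0 1 = b * h 0 1 ∧ (u * g * u⁻¹) 1 0 = b * h 1 0 ∧
      (u * g * u⁻¹) 1 1 = a + b * h 1 1 := fun u =>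
    commutant (noncentral_entries hhc) (hc _ (hA.conj_mem g hg u) h hh).symm
  obtain ⟨a0, b0, e1, e2, e3, e4⟩ := key 1
  simp at e1 e2 e3 e4
  have hb0 : b0 ≠ 0 := by
    intro hb
    rw [hb] at e1 e2 e3 e4
    rcases noncentral_entries hgc with z | z | z
    · exact z (by linear_combination e2)
    · exact z (by linear_combination e3)
    · exact z (by linear_combination e1 - e4)
  obtain ⟨a1, b1, f1, f2, f3, f4⟩ := key (upper 1)
  obtain ⟨a2, b2, k1, k2, k3, k4⟩ := key (lower 1)
  have hu : (upper (1:K))⁻¹ = upper (-1) := inv_eq_of_mul_eq_one_right (by rw [upper_mul]; simp [upper_zero])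
  have hl : (lower (1:K))⁻¹ = lower (-1) := inv_eq_of_mul_eq_one_right (by rw [lower_mul]; simp [lower_zero])
  rw [hu] at f1 f2 f3 f4
  rw [hl] at k1 k2 k3 k4
  simp only [sl2_mul, upper_apply] at f1 f2 f3 f4
  simp at f1 f2 f3 f4
  simp only [sl2_mul, lower_apply] at k1 k2 k3 k4
  simp at k1 k2 k3 k4
  rw [e1, e3] at f1
  rw [e1, e2, e3, e4] at f2
  rw [e3] at f3
  rw [e3, e4] at f4
  rw [e1, e2] at k1
  rw [e2] at k2
  rw [e1, e2, e3, e4] at k3
  rw [e2, e4] at k4
  have h10 : h 1 0 = 0 := by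
    by_contra hne
    have hb : b1 = b0 := mul_right_cancel₀ hne (by linear_combination -f3)
    subst hb
    have h2' : 2 * (b1 * h 1 0) = 0 := by linear_combination f1 - f4
    exact hne ((mul_eq_zero.mp ((mul_eq_zero.mp h2').resolve_left h2)).resolve_left hb0)
  have h01 : h 0 1 = 0 := by
    by_contra hne
    have hb : b2 = b0 := mul_right_cancel₀ hne (by linear_combination -k2)
    subst hb
    have h2' : 2 * (b2 * h 0 1) = 0 := by linear_combination k4 - k1
    exact hne ((mul_eq_zero.mp ((mul_eq_zero.mp h2').resolve_left h2)).resolve_left hb0)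
  rw [h10, h01] at f2
  rcases noncentral_entries hhc with z | z | z
  · exact z h01
  · exact z h10
  · exact z (sub_eq_zero.mp ((mul_eq_zero.mp (show b0 * (h 0 0 - h 1 1) = 0 by
      linear_combination -f2)).resolve_left hb0))

end CfsgLib.SL2Factors
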