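import Cfsg.Agent.Invol.StandardCriterion
import Cfsg.Agent.Classical.Transvections

/-!
The involution diag(-1, …, -1, 1) of SL(m+1, F), m even, and the SL(m, F) in its centralizer.
-/

set_option autoImplicit false

namespace CfsgLib.SLStd

open Matrix

variable {F : Type*} [Field F]

/-- The block matrix diag(A, 1). -/
def blk {m : ℕ} (A : Matrix (Fin m) (Fin m) F) : Matrix (Fin (m + 1)) (Fin (m + 1)) F :=
  Matrix.of fun i j => Fin.lastCases (Fin.lastCases (1 : F) (fun _ => 0) j)
    (fun i' => Fin.lastCases 0 (A i') j) i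

theorem blk_mul {m : ℕ} (A B : Matrix (Fin m) (Fin m) F) : blk (A * B) = blk A * blk B := by
  ext i j
  refine Fin.lastCases ?_ (fun i => ?_) i <;> refine Fin.lastCases ?_ (fun j => ?_) j <;>
    simp [blk, Matrix.mul_apply, Fin.sum_univ_castSucc]

theorem blk_one {m : ℕ} : blk (1 : Matrix (Fin m) (Fin m) F) = 1 := by
  ext i j
  refine Fin.lastCases ?_ (fun i => ?_) i <;> refine Fin.lastCases ?_ (fun j => ?_) j <;>
    simp [blk, Matrix.one_apply, Fin.castSucc_ne_last, (Fin.castSucc_ne_last _).symm, Fin.castSucc_inj]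

theorem det_blk {m : ℕ} (A : Matrix (Fin m) (Fin m) F) : (blk A).det = A.det := by
  rw [Matrix.det_succ_row _ (Fin.last m), Fin.sum_univ_castSucc]
  simp [blk, Matrix.submatrix]
  rfl

/-- SL(m) inside SL(m+1). -/
def emb (m : ℕ) : Matrix.SpecialLinearGroup (Fin m) F →* Matrix.SpecialLinearGroup (Fin (m + 1)) F where
  toFun A := ⟨blk A.1, by rw [det_blk, A.2]⟩
  map_one' := Subtype.ext blk_one
  map_mul' A B := Subtype.ext (blk_mul A.1 B.1)

theorem emb_injective (m : ℕ) : Function.Injective (emb (F := F) m) := by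
  intro A B h
  ext i j
  have := congrArg (fun x : Matrix.SpecialLinearGroup (Fin (m + 1)) F =>
    (x : Matrix (Fin (m + 1)) (Fin (m + 1)) F) i.castSucc j.castSucc) h
  change blk A.1 i.castSucc j.castSucc = blk B.1 i.castSucc j.castSucc at this
  simpa [blk] using this

theorem standard [Fintype F] [DecidableEq F] (hpar : (2 : F) ≠ 0) (m : ℕ) (hm : 3 ≤ m) (hev : Even m)
    (t : Matrix.SpecialLinearGroup (Fin (m + 1)) F)
    (ht : (t : Matrix (Fin (m + 1)) (Fin (m + 1)) F) =
      Matrix.diagonal (Fin.lastCases (1 : F) (fun _ => -1))) :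
    Cfsg.IsStandardSubgroup ((Cfsg.layer ↥(Subgroup.centralizer ({t} : Set (Matrix.SpecialLinearGroup (Fin (m + 1)) F)))).map
      (Subgroup.centralizer ({t} : Set (Matrix.SpecialLinearGroup (Fin (m + 1)) F))).subtype) := by
  classical
  let d : Fin (m + 1) → F := Fin.lastCases (1 : F) (fun _ => -1)
  have hne : (-1 : F) ≠ 1 := fun h => hpar (by linear_combination -h)
  have ht2 : orderOf t = 2 := by
    refine orderOf_eq_prime ?_ ?_
    · apply Subtype.ext
      show ((t ^ 2 : Matrix.SpecialLinearGroup (Fin (m + 1)) F) : Matrix (Fin (m + 1)) (Fin (m + 1)) F) = 1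
      rw [pow_two, Matrix.SpecialLinearGroup.coe_mul, ht, Matrix.diagonal_mul_diagonal, ← Matrix.diagonal_one]
      congr 1
      funext i
      refine Fin.lastCases ?_ (fun i => ?_) i <;> simp
    · intro h
      have := congrArg (fun x : Matrix.SpecialLinearGroup (Fin (m + 1)) F =>
        (x : Matrix (Fin (m + 1)) (Fin (m + 1)) F) (⟨0, by omega⟩ : Fin m).castSucc (⟨0, by omega⟩ : Fin m).castSucc) h
      simp only [ht, Matrix.diagonal_apply_eq, Fin.lastCases_castSucc, Matrix.SpecialLinearGroup.coe_one,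
        Matrix.one_apply_eq] at this
      exact hne this
  set C := Subgroup.centralizer ({t} : Set (Matrix.SpecialLinearGroup (Fin (m + 1)) F)) with hC
  have hmem : ∀ g ∈ C, ∀ j : Fin m,
      (g : Matrix (Fin (m + 1)) (Fin (m + 1)) F) (Fin.last m) j.castSucc = 0 ∧
      (g : Matrix (Fin (m + 1)) (Fin (m + 1)) F) j.castSucc (Fin.last m) = 0 := by
    intro g hg j
    have h := congrArg (fun x : Matrix.SpecialLinearGroup (Fin (m + 1)) F => (x : Matrix (Fin (m + 1)) (Fin (m + 1)) F))
      (Subgroup.mem_centralizer_singleton_iff.1 hg).symm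
    simp only [Matrix.SpecialLinearGroup.coe_mul, ht] at h
    have h1 := congrFun (congrFun h (Fin.last m)) j.castSucc
    have h2 := congrFun (congrFun h j.castSucc) (Fin.last m)
    rw [Matrix.diagonal_mul, Matrix.mul_diagonal] at h1 h2
    simp only [Fin.lastCases_last, Fin.lastCases_castSucc] at h1 h2
    constructor
    · exact (mul_eq_zero.1 (show (2 : F) * _ = 0 by linear_combination h1)).resolve_left hpar
    · exact (mul_eq_zero.1 (show (-2 : F) * _ = 0 by linear_combination h2)).resolve_left (by simpa using hpar)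
  have hembC : ∀ A, emb m A ∈ C := fun A => by
    rw [Subgroup.mem_centralizer_singleton_iff]
    apply Subtype.ext
    show blk A.1 * (t : Matrix (Fin (m + 1)) (Fin (m + 1)) F) = (t : Matrix (Fin (m + 1)) (Fin (m + 1)) F) * blk A.1
    rw [ht]
    ext i j
    rw [Matrix.diagonal_mul, Matrix.mul_diagonal]
    refine Fin.lastCases ?_ (fun i => ?_) i <;> refine Fin.lastCases ?_ (fun j => ?_) j <;> simp [blk]
  let e : Matrix.SpecialLinearGroup (Fin m) F →* C := (emb m).codRestrict C hembC
  have he : Function.Injective e := fun A B h => emb_injective m (congrArg Subtype.val h)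
  have hKn : e.range.Normal := ⟨by
    rintro _ ⟨A, rfl⟩ g
    have hg := hmem g.1 g.2
    have hg' := hmem g.1⁻¹ (inv_mem g.2)
    have hinv : (g.1 : Matrix (Fin (m + 1)) (Fin (m + 1)) F) *
        ((g.1⁻¹ : Matrix.SpecialLinearGroup (Fin (m + 1)) F) : Matrix (Fin (m + 1)) (Fin (m + 1)) F) = 1 := by
      rw [← Matrix.SpecialLinearGroup.coe_mul, mul_inv_cancel, Matrix.SpecialLinearGroup.coe_one]
    set X : Matrix (Fin (m + 1)) (Fin (m + 1)) F := (g.1 : Matrix (Fin (m + 1)) (Fin (m + 1)) F) * blk A.1 *
      ((g.1⁻¹ : Matrix.SpecialLinearGroup (Fin (m + 1)) F) : Matrix (Fin (m + 1)) (Fin (m + 1)) F) with hX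
    let B : Matrix (Fin m) (Fin m) F := Matrix.of fun i j => X i.castSucc j.castSucc
    have hb : blk B = X := by
      have h00 := congrFun (congrFun hinv (Fin.last m)) (Fin.last m)
      simp only [B, hX]
      revert hg' h00
      generalize ((g.1⁻¹ : Matrix.SpecialLinearGroup (Fin (m + 1)) F) :
        Matrix (Fin (m + 1)) (Fin (m + 1)) F) = Y
      intro hg' h00
      simp [Matrix.mul_apply, Fin.sum_univ_castSucc, hg, hg'] at h00
      ext i j
      refine Fin.lastCases ?_ (fun i => ?_) i <;> refine Fin.lastCases ?_ (fun j => ?_) j <;>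
        simp [blk, Matrix.mul_apply, Fin.sum_univ_castSucc, hg, hg', h00]
    have hdet : B.det = 1 := by
      rw [← det_blk, hb, hX, Matrix.det_mul, Matrix.det_mul, det_blk, A.2, mul_one, ← Matrix.det_mul, hinv,
        Matrix.det_one]
    exact ⟨⟨B, hdet⟩, Subtype.ext (Subtype.ext hb)⟩⟩
  have hx3 : 3 ≤ Fintype.card (Fin m) := by rw [Fintype.card_fin]; exact hm
  haveI : Nontrivial (Fin m) := Fin.nontrivial_iff_two_le.mpr (by omega)
  have hQ : Cfsg.IsQuasisimple (Matrix.SpecialLinearGroup (Fin m) F) :=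
    ⟨⟨CfsgLib.Linear.commutator_SL_eq_top (Or.inl hx3)⟩, CfsgLib.Linear.isSimpleGroup_PSL (Or.inl hx3)⟩
  have hL : e.range.map C.subtype = (emb m).range := by
    rw [MonoidHom.range_eq_map, Subgroup.map_map, MonoidHom.range_eq_map]
    rfl
  have hdiag : ∀ x ∈ Subgroup.centralizer (((e.range.map C.subtype) : Subgroup _) : Set (Matrix.SpecialLinearGroup (Fin (m + 1)) F)),
      ∃ a b : F, (x : Matrix (Fin (m + 1)) (Fin (m + 1)) F) = Matrix.diagonal (Fin.lastCases b (fun _ => a)) := by
    intro x hx
    rw [hL] at hx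
    have key : ∀ p q : Fin m, p ≠ q →
        (x : Matrix (Fin (m + 1)) (Fin (m + 1)) F) * Matrix.single p.castSucc q.castSucc (1 : F) =
        Matrix.single p.castSucc q.castSucc (1 : F) * (x : Matrix (Fin (m + 1)) (Fin (m + 1)) F) := by
      intro p q hpq
      have hb : ((emb m (Matrix.SpecialLinearGroup.transvection hpq (1 : F))) :
          Matrix (Fin (m + 1)) (Fin (m + 1)) F) = 1 + Matrix.single p.castSucc q.castSucc 1 := by
        ext i j
        show blk (Matrix.transvection p q (1 : F)) i j = _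
        refine Fin.lastCases ?_ (fun i => ?_) i <;> refine Fin.lastCases ?_ (fun j => ?_) j <;>
          simp [blk, Matrix.transvection, Matrix.single_apply, Matrix.one_apply, Fin.castSucc_ne_last,
            (Fin.castSucc_ne_last _).symm, Fin.castSucc_inj]
      have h := congrArg (fun y : Matrix.SpecialLinearGroup (Fin (m + 1)) F => (y : Matrix (Fin (m + 1)) (Fin (m + 1)) F))
        (Subgroup.mem_centralizer_iff.1 hx (emb m (Matrix.SpecialLinearGroup.transvection hpq (1 : F))) ⟨_, rfl⟩)
      simp only [Matrix.SpecialLinearGroup.coe_mul, hb, mul_add, add_mul, mul_one, one_mul, add_right_inj] at h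
      exact h.symm
    have hoff : ∀ i (p : Fin m), i ≠ p.castSucc →
        (x : Matrix (Fin (m + 1)) (Fin (m + 1)) F) i p.castSucc = 0 ∧
        (x : Matrix (Fin (m + 1)) (Fin (m + 1)) F) p.castSucc i = 0 := by
      intro i p hip
      obtain ⟨q, hq⟩ := exists_ne p
      constructor
      · have h := congrFun (congrFun (key p q hq.symm) i) q.castSucc
        rwa [Matrix.mul_single_apply_same, mul_one, Matrix.single_mul_apply_of_ne _ _ _ _ _ hip] at h
      · have h := congrFun (congrFun (key q p hq) q.castSucc) i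
        rw [Matrix.mul_single_apply_of_ne _ _ _ _ _ hip, Matrix.single_mul_apply_same, one_mul] at h
        exact h.symm
    refine ⟨(x : Matrix (Fin (m + 1)) (Fin (m + 1)) F) (⟨0, by omega⟩ : Fin m).castSucc (⟨0, by omega⟩ : Fin m).castSucc,
      (x : Matrix (Fin (m + 1)) (Fin (m + 1)) F) (Fin.last m) (Fin.last m), ?_⟩
    ext i j
    by_cases hij : i = j
    · subst hij
      rw [Matrix.diagonal_apply_eq]
      refine Fin.lastCases ?_ (fun i => ?_) i
      · rw [Fin.lastCases_last]
      · rw [Fin.lastCases_castSucc]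
        by_cases hi : i = (⟨0, by omega⟩ : Fin m)
        · rw [hi]
        · have h := congrFun (congrFun (key i _ hi) i.castSucc) (⟨0, by omega⟩ : Fin m).castSucc
          rwa [Matrix.mul_single_apply_same, mul_one, Matrix.single_mul_apply_same, one_mul] at h
    · rw [Matrix.diagonal_apply_ne _ hij]
      induction j using Fin.lastCases with
      | last =>
        induction i using Fin.lastCases with
        | last => exact absurd rfl hij
        | cast i => exact (hoff _ i (Fin.castSucc_ne_last i).symm).2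
      | cast j => exact (hoff i j hij).1
  refine StdCrit.standard_of_centralizer ht2 e.range hKn
    (Comp.isQuasisimple_of_equiv (MonoidHom.ofInjective he) hQ) ?_ ?_ ?_
  · intro x hx y hy
    obtain ⟨a, b, hxe⟩ := hdiag x hx
    obtain ⟨a', b', hye⟩ := hdiag y hy
    apply Subtype.ext
    show ((x * y : Matrix.SpecialLinearGroup (Fin (m + 1)) F) : Matrix (Fin (m + 1)) (Fin (m + 1)) F) =
      ((y * x : Matrix.SpecialLinearGroup (Fin (m + 1)) F) : Matrix (Fin (m + 1)) (Fin (m + 1)) F)
    rw [Matrix.SpecialLinearGroup.coe_mul, Matrix.SpecialLinearGroup.coe_mul, hxe, hye,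
      Matrix.diagonal_mul_diagonal, Matrix.diagonal_mul_diagonal]
    congr 1
    funext i
    exact mul_comm _ _
  · rw [hL]
    rintro _ ⟨A, rfl⟩
    exact Subgroup.mem_centralizer_singleton_iff.1 (hembC A)
  · intro x hx hx2
    obtain ⟨a, b, hxe⟩ := hdiag x hx
    have hsq : x ^ 2 = 1 := hx2 ▸ pow_orderOf_eq_one x
    have h := congrArg (fun y : Matrix.SpecialLinearGroup (Fin (m + 1)) F => (y : Matrix (Fin (m + 1)) (Fin (m + 1)) F)) hsq
    simp only [pow_two, Matrix.SpecialLinearGroup.coe_mul, hxe, Matrix.diagonal_mul_diagonal,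
      Matrix.SpecialLinearGroup.coe_one] at h
    have ha2 := congrFun (congrFun h (⟨0, by omega⟩ : Fin m).castSucc) (⟨0, by omega⟩ : Fin m).castSucc
    rw [Matrix.diagonal_apply_eq, Fin.lastCases_castSucc, Matrix.one_apply_eq] at ha2
    have hd := x.2
    rw [hxe, Matrix.det_diagonal, Fin.prod_univ_castSucc] at hd
    simp only [Fin.lastCases_last, Fin.lastCases_castSucc, Finset.prod_const, Finset.card_univ,
      Fintype.card_fin] at hd
    obtain ⟨k, rfl⟩ := hev
    rw [pow_add, ← mul_pow, ha2, one_pow, one_mul] at hd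
    rcases mul_self_eq_one_iff.1 ha2 with ha | ha
    · exfalso
      have : x = 1 := by
        apply Subtype.ext
        show (x : Matrix (Fin (k + k + 1)) (Fin (k + k + 1)) F) = 1
        rw [hxe, ← Matrix.diagonal_one]
        congr 1
        funext i
        refine Fin.lastCases ?_ (fun i => ?_) i <;> simp [ha, hd]
      rw [this, orderOf_one] at hx2
      omega
    · apply Subtype.ext
      show (x : Matrix (Fin (k + k + 1)) (Fin (k + k + 1)) F) = (t : Matrix (Fin (k + k + 1)) (Fin (k + k + 1)) F)
      rw [hxe, ht, ha, hd]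

end CfsgLib.SLStd
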