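import Cfsg.Prelude.Def_Local
import Cfsg.Agent.Comp.Basic

/-!
A quasisimple normal subgroup of an involution centralizer with small centralizer is standard.
-/

set_option autoImplicit false

namespace CfsgLib.StdCrit

open Subgroup

variable {G : Type*} [Group G] [Finite G]

theorem standard_of_centralizer {t : G} (ht : orderOf t = 2)
    (K : Subgroup ↥(centralizer ({t} : Set G))) (hKn : K.Normal) (hKq : Cfsg.IsQuasisimple K)
    (hab : ∀ x ∈ centralizer ((K.map (centralizer ({t} : Set G)).subtype : Subgroup G) : Set G),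
      ∀ y ∈ centralizer ((K.map (centralizer ({t} : Set G)).subtype : Subgroup G) : Set G), x * y = y * x)
    (htZ : t ∈ centralizer ((K.map (centralizer ({t} : Set G)).subtype : Subgroup G) : Set G))
    (huniq : ∀ x ∈ centralizer ((K.map (centralizer ({t} : Set G)).subtype : Subgroup G) : Set G),
      orderOf x = 2 → x = t) :
    Cfsg.IsStandardSubgroup ((Cfsg.layer ↥(centralizer ({t} : Set G))).map
      (centralizer ({t} : Set G)).subtype) := by
  have hcK : Cfsg.IsComponent K := ⟨hKn.isSubnormal, hKq⟩
  have hlay : Cfsg.layer ↥(centralizer ({t} : Set G)) = K := by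
    refine le_antisymm (sSup_le fun L hL => ?_) (le_sSup hcK)
    rcases Comp.component_le_or_commutator_eq_bot hL hKn.isSubnormal with h | h
    · exact h
    · exfalso
      have hle : L ≤ centralizer (K : Set ↥(centralizer ({t} : Set G))) :=
        commutator_eq_bot_iff_le_centralizer.1 h
      refine Comp.component_not_comm hL (commutator_eq_bot_iff_le_centralizer.2 fun x hx y hy => ?_)
      have hm : ∀ z : ↥(centralizer ({t} : Set G)), z ∈ L → (z : G) ∈ centralizer
          ((K.map (centralizer ({t} : Set G)).subtype : Subgroup G) : Set G) := by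
        intro z hz k hk
        obtain ⟨k', hk', rfl⟩ := mem_map.1 hk
        exact congrArg Subtype.val (hle hz k' hk')
      exact Subtype.ext (hab _ (hm y hy) _ (hm x hx))
  rw [hlay]
  set L := K.map (centralizer ({t} : Set G)).subtype with hL
  have hq : Cfsg.IsQuasisimple L :=
    Comp.isQuasisimple_of_equiv (K.equivMapOfInjective _ (subtype_injective _)) hKq
  have hNL : centralizer ({t} : Set G) ≤ normalizer (L : Set G) := by
    intro g hg
    rw [mem_normalizer_iff]
    intro x
    rw [hL, mem_map, mem_map]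
    constructor
    · rintro ⟨k, hk, rfl⟩
      exact ⟨⟨g, hg⟩ * k * ⟨g, hg⟩⁻¹, hKn.conj_mem k hk _, rfl⟩
    · rintro ⟨k, hk, hke⟩
      refine ⟨⟨g, hg⟩⁻¹ * k * (⟨g, hg⟩⁻¹)⁻¹, hKn.conj_mem k hk _, ?_⟩
      simp only [map_mul, map_inv, coe_subtype, inv_inv] at *
      rw [hke]
      group
  have hNC : ∀ g : G, g ∈ normalizer (L : Set G) → g ∈ normalizer ((centralizer (L : Set G) : Subgroup G) : Set G) := by
    intro g hg
    rw [mem_normalizer_iff] at hg ⊢
    intro x
    rw [mem_centralizer_iff, mem_centralizer_iff]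
    constructor
    · intro h k hk
      have := h (g⁻¹ * k * g) ((hg _).2 (by simpa [mul_assoc] using hk))
      calc k * (g * x * g⁻¹) = g * ((g⁻¹ * k * g) * x) * g⁻¹ := by group
        _ = g * (x * (g⁻¹ * k * g)) * g⁻¹ := by rw [this]
        _ = (g * x * g⁻¹) * k := by group
    · intro h k hk
      have := h (g * k * g⁻¹) ((hg k).1 hk)
      calc k * x = g⁻¹ * ((g * k * g⁻¹) * (g * x * g⁻¹)) * g := by group
        _ = g⁻¹ * ((g * x * g⁻¹) * (g * k * g⁻¹)) * g := by rw [this]
        _ = x * k := by group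
  have hfix : ∀ g : G, g * t * g⁻¹ ∈ centralizer (L : Set G) → g ∈ normalizer (L : Set G) := by
    intro g hg
    refine hNL (mem_centralizer_singleton_iff.2 ?_)
    have h := huniq _ hg (by rw [show g * t * g⁻¹ = MulAut.conj g t from rfl, MulEquiv.orderOf_eq, ht])
    exact (mul_inv_eq_iff_eq_mul.1 h)
  refine ⟨hq, ⟨?_, ?_⟩, ?_, ?_⟩
  · refine even_iff_two_dvd.2 ?_
    have h := Subgroup.orderOf_coe (⟨t, htZ⟩ : centralizer (L : Set G))
    simp only [ht] at h
    rw [h]
    exact orderOf_dvd_natCard _
  · intro g hg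
    by_contra hodd
    haveI : Fact (Nat.Prime 2) := ⟨Nat.prime_two⟩
    obtain ⟨⟨u, hu⟩, hu2⟩ := exists_prime_orderOf_dvd_card' (G := ↥(centralizer (L : Set G) ⊓
      (centralizer (L : Set G)).map (MulAut.conj g).toMonoidHom)) 2
      (Nat.not_odd_iff_even.1 hodd).two_dvd
    rw [← Subgroup.orderOf_coe] at hu2
    obtain ⟨hu1, v, hv, hvu⟩ := hu
    have h1 := huniq u hu1 hu2
    have h2 : v = t := huniq v hv (by
      rw [← orderOf_injective (MulAut.conj g).toMonoidHom (MulAut.conj g).injective v]
      exact hvu.symm ▸ hu2)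
    apply hg
    refine hNC g (hfix g ?_)
    change g * t * g⁻¹ ∈ _
    rw [← h2, show g * v * g⁻¹ = u from hvu]
    exact hu1
  · intro g _ h
    rw [commutator_eq_bot_iff_le_centralizer, le_centralizer_iff] at h
    apply Comp.quasisimple_center_ne_top hq
    rw [eq_top_iff]
    intro x _
    rw [mem_center_iff]
    intro y
    have hc := hab _ (h (mem_map_of_mem (MulAut.conj g).toMonoidHom y.2)) _
      (h (mem_map_of_mem (MulAut.conj g).toMonoidHom x.2))
    rw [← map_mul, ← map_mul] at hc
    exact Subtype.ext ((MulAut.conj g).injective hc)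
  · refine le_antisymm (fun g hg => hNC g hg) fun g hg => ?_
    exact hfix g ((mem_normalizer_iff.1 hg t).1 htZ)

end CfsgLib.StdCrit
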