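import Cfsg.Agent.Signalizer.Basic
import Cfsg.Agent.Solvable.Fitting
import Cfsg.Agent.Comp.Fitting
import Cfsg.Agent.Invol.Dihedral

/-!
Thompson's dihedral lemma.
-/

set_option autoImplicit false
set_option linter.unusedSectionVars false
set_option linter.deprecated false
set_option linter.style.haveILetI false

namespace CfsgLib.ThompsonDihedral

open Subgroup CfsgLib.Signalizer

variable {G : Type*} [Group G] [Finite G] {A L : Subgroup G}

theorem eq_one_of_sq {X : Subgroup G} (hX : Odd (Nat.card X)) {y : G} (hy : y ∈ X) (h : y * y = 1) :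
    y = 1 := by
  have h1 : orderOf y ∣ 2 := orderOf_dvd_of_pow_eq_one (by rw [sq, h])
  have h2 : orderOf y ∣ Nat.card X := orderOf_dvd_natCard X hy
  exact orderOf_eq_one_iff.1 (Nat.eq_one_of_dvd_coprimes (Nat.coprime_two_left.2 hX) h1 h2)

/-- An involution centralizing a self-centralizing normal subgroup of an odd order group
centralizes the group. -/
theorem le_centralizer_of_selfCentralizing {K X : Subgroup G} {a : G} (ha : a * a = 1)
    (haK : a ∈ normalizer (K : Set G)) (hodd : Odd (Nat.card K)) (hXK : X ≤ K)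
    (hKX : K ≤ normalizer (X : Set G)) (hC : K ⊓ centralizer (X : Set G) ≤ X)
    (haX : X ≤ centralizer {a}) : K ≤ centralizer {a} := by
  intro k hk
  have hai : a⁻¹ = a := inv_eq_of_mul_eq_one_right ha
  set y := a * k * a⁻¹ * k⁻¹ with hy
  have hyK : y ∈ K := mul_mem ((mem_normalizer_iff.1 haK k).1 hk) (inv_mem hk)
  have hyX : y ∈ X := by
    refine hC ⟨hyK, mem_centralizer_iff.2 fun x hx => ?_⟩
    have h1 : a * x = x * a := (mem_centralizer_singleton_iff.1 (haX hx)).symm
    have h2' : k⁻¹ * x * k ∈ X := by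
      simpa using (mem_normalizer_iff.1 (hKX (inv_mem hk)) x).1 hx
    have h2 : a * (k⁻¹ * x * k) = (k⁻¹ * x * k) * a := (mem_centralizer_singleton_iff.1 (haX h2')).symm
    rw [hy]
    calc x * (a * k * a⁻¹ * k⁻¹) = (x * a) * k * a⁻¹ * k⁻¹ := by group
      _ = (a * x) * k * a⁻¹ * k⁻¹ := by rw [h1]
      _ = a * k * ((k⁻¹ * x * k) * a⁻¹) * k⁻¹ := by group
      _ = a * k * (a⁻¹ * (k⁻¹ * x * k)) * k⁻¹ := by
        rw [(Commute.inv_left (show Commute a (k⁻¹ * x * k) from h2)).eq]
      _ = a * k * a⁻¹ * k⁻¹ * x := by group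
  have h3 : a * y = y * a := (mem_centralizer_singleton_iff.1 (haX hyX)).symm
  have h4 : y * y = 1 := by
    have h5 : a * k * a⁻¹ = y * k := by rw [hy]; group
    rw [hai] at h5
    have h6 : k = y * (a * k * a) := by
      calc k = (a * a) * k * (a * a) := by rw [ha, one_mul, mul_one]
        _ = a * (a * k * a) * a := by group
        _ = a * (y * k) * a := by rw [h5]
        _ = (a * y) * k * a := by group
        _ = (y * a) * k * a := by rw [h3]
        _ = y * (a * k * a) := by group
    rw [h5, ← mul_assoc] at h6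
    exact mul_eq_right.1 h6.symm
  have h7 : y = 1 := eq_one_of_sq hodd hyK h4
  rw [hy, mul_inv_eq_one, mul_inv_eq_iff_eq_mul] at h7
  exact mem_centralizer_singleton_iff.2 h7.symm

/-- The hyperplanes of `A` with an inverted nontrivial fixed point in `W`. -/
def IsGood (A W B : Subgroup G) : Prop :=
  B ≤ A ∧ B.relIndex A = 2 ∧
    ∃ x, x ∈ W ⊓ centralizer (B : Set G) ∧ x ≠ 1 ∧ ∀ a ∈ A, a ∉ B → a * x * a⁻¹ = x⁻¹

variable (hA : Cfsg.IsElementaryAbelian 2 A)
include hA

theorem mul_self {a : G} (ha : a ∈ A) : a * a = 1 := by rw [← sq]; exact hA.2 a ha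

/-- Either `c` is centralized by `A`, or `c⁻¹ (a c a⁻¹)` is inverted outside `B`. -/
theorem inverted {B : Subgroup G} (hB : B ≤ A) (hi : B.relIndex A = 2) {a b c : G} (ha : a ∈ A)
    (haB : a ∉ B) (hb : b ∈ A) (hbB : b ∉ B) (hc : c ∈ centralizer (B : Set G))
    (hcomm : c * (a * c * a⁻¹) = (a * c * a⁻¹) * c) :
    b * (c⁻¹ * (a * c * a⁻¹)) * b⁻¹ = (c⁻¹ * (a * c * a⁻¹))⁻¹ := by
  haveI : (B.subgroupOf A).Normal := (normal_subgroupOf_iff_le_normalizer hB).2 fun x hx => by
    refine mem_normalizer_iff.2 fun y => ⟨fun hy => ?_, fun hy => ?_⟩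
    · rw [commute hA hx (hB hy), mul_inv_cancel_right]; exact hy
    · have h1 := commute hA hx (hB hy)
      have : y = x * y * x⁻¹ := by
        have h2 := congrArg (fun t => x⁻¹ * t) h1
        simpa [mul_assoc] using h2.symm
      rw [this]; exact hy
  have hba : b * a ∈ B := by
    have h := Subgroup.mul_mem_iff_of_index_two (H := B.subgroupOf A) hi (a := ⟨b, hb⟩) (b := ⟨a, ha⟩)
    exact h.2 ⟨fun h => absurd h hbB, fun h => absurd h haB⟩
  have hai : a⁻¹ = a := inv_eq_of_mul_eq_one_right (mul_self hA ha)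
  set w := a * c * a⁻¹ with hw
  have hz : ∀ z ∈ B, z * (c⁻¹ * w) * z⁻¹ = c⁻¹ * w := by
    intro z hz
    have h1 : z * c = c * z := mem_centralizer_iff.1 hc z hz
    have h2 : z * w = w * z := by
      rw [hw]
      calc z * (a * c * a⁻¹) = (z * a) * c * a⁻¹ := by group
        _ = (a * z) * c * a⁻¹ := by rw [commute hA (hB hz) ha]
        _ = a * (z * c) * a⁻¹ := by group
        _ = a * (c * z) * a⁻¹ := by rw [h1]
        _ = a * c * (z * a⁻¹) := by group
        _ = a * c * (a⁻¹ * z) := by rw [commute hA (hB hz) (inv_mem ha)]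
        _ = a * c * a⁻¹ * z := by group
    rw [((Commute.inv_right (show Commute z c from h1)).mul_right (show Commute z w from h2)).eq,
      mul_inv_cancel_right]
  have haw : a * w * a⁻¹ = c := by
    rw [hw]
    calc a * (a * c * a⁻¹) * a⁻¹ = (a * a) * c * (a * a)⁻¹ := by group
      _ = c := by rw [mul_self hA ha]; group
  have hinv : a * (c⁻¹ * w) * a⁻¹ = (c⁻¹ * w)⁻¹ := by
    calc a * (c⁻¹ * w) * a⁻¹ = (a * c * a⁻¹)⁻¹ * (a * w * a⁻¹) := by group
      _ = w⁻¹ * c := by rw [← hw, haw]
      _ = (c⁻¹ * w)⁻¹ := by group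
  calc b * (c⁻¹ * w) * b⁻¹ = (b * a) * (a * (c⁻¹ * w) * a⁻¹) * (b * a)⁻¹ := by
        rw [show (b * a) * (a * (c⁻¹ * w) * a⁻¹) * (b * a)⁻¹ = b * (a * a) * (c⁻¹ * w) * (a * a)⁻¹ * b⁻¹ by group,
          mul_self hA ha]
        group
    _ = (b * a) * (c⁻¹ * w)⁻¹ * (b * a)⁻¹ := by rw [hinv]
    _ = (c⁻¹ * w)⁻¹ := by
      have := hz _ hba
      rw [← conj_inv, this]

/-- A hyperplane is moved by no more than a factor two. -/
theorem card_le_two_mul {C B : Subgroup G} (hC : C ≤ A) (hB : B ≤ A) (hi : B.relIndex A = 2) :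
    Nat.card C ≤ 2 * Nat.card ↥(C ⊓ B) := by
  have h1 : (C ⊓ B).relIndex C * Nat.card ↥(C ⊓ B) = Nat.card C := by
    rw [← relIndex_bot_left, ← relIndex_bot_left, mul_comm]
    exact relIndex_mul_relIndex _ _ _ bot_le inf_le_left
  have h2 : (C ⊓ B).relIndex C ≤ 2 := by
    rw [inf_comm, inf_relIndex_right, ← hi]
    exact relIndex_le_of_le_right hC (by omega)
  calc Nat.card C = (C ⊓ B).relIndex C * Nat.card ↥(C ⊓ B) := h1.symm
    _ ≤ 2 * Nat.card ↥(C ⊓ B) := Nat.mul_le_mul_right _ h2

theorem thompson_dihedral (hLs : Group.IsSolvable L) (hLodd : Odd (Nat.card L))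
    (hAL : A ≤ normalizer (L : Set G)) (hfaith : A ⊓ centralizer (L : Set G) = ⊥) {d : ℕ}
    (hAd : Nat.card A = 2 ^ d) :
    ∃ (Ai : Fin d → Subgroup G) (Li : Fin d → Subgroup G) (n : Fin d → ℕ),
      (∀ i, Ai i ≤ A ∧ Nat.card ↥(Ai i) = 2 ∧ Li i ≤ L ∧ Odd (n i) ∧ 3 ≤ n i ∧
        Nonempty (↥(Ai i ⊔ Li i) ≃* DihedralGroup (n i))) ∧
      (⨆ i, Ai i) = A ∧ ∀ i j, i ≠ j → ∀ x ∈ Ai i ⊔ Li i, ∀ y ∈ Ai j ⊔ Li j, x * y = y * x := by
  classical
  haveI := hLs
  haveI : Fact (Nat.Prime 2) := ⟨Nat.prime_two⟩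
  set F := (Cfsg.fittingSubgroup L).map L.subtype with hF
  have hFL : F ≤ L := map_subtype_le _
  have hAF : A ≤ normalizer (F : Set G) := by
    refine le_normalizer_of_conj_mem ?_
    rintro a ha _ ⟨x, hx, rfl⟩
    let φ : MulAut L :=
      { toFun := fun z => ⟨a * z * a⁻¹, (mem_normalizer_iff.1 (hAL ha) z).1 z.2⟩
        invFun := fun z => ⟨a⁻¹ * z * a, by simpa using (mem_normalizer_iff.1 (hAL (inv_mem ha)) z).1 z.2⟩
        left_inv := fun z => Subtype.ext (by simp [mul_assoc])
        right_inv := fun z => Subtype.ext (by simp [mul_assoc])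
        map_mul' := fun z w => Subtype.ext (by simp [mul_assoc]) }
    have h : (Cfsg.fittingSubgroup L).map φ.toMonoidHom ≤ Cfsg.fittingSubgroup L :=
      Comp.le_fitting (Subgroup.Normal.map (by rw [Comp.fitting_eq_iSup_pCore]; infer_instance) φ.toMonoidHom φ.surjective)
        ((Group.isNilpotent_congr ((Cfsg.fittingSubgroup L).equivMapOfInjective φ.toMonoidHom φ.injective)).1 Comp.fitting_isNilpotent)
    exact ⟨φ x, h ⟨x, hx, rfl⟩, rfl⟩
  have hFn : Group.IsNilpotent F :=
    (Group.isNilpotent_congr ((Cfsg.fittingSubgroup L).equivMapOfInjective L.subtype L.subtype_injective)).1 Comp.fitting_isNilpotent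
  have hodd : ∀ X : Subgroup G, X ≤ L → Odd (Nat.card X) := fun X hX =>
    hLodd.of_dvd_nat (card_dvd_of_le hX)
  have hnd : ∀ X : Subgroup G, X ≤ L → ¬ 2 ∣ Nat.card X := fun X hX h =>
    Nat.not_even_iff_odd.2 (hodd X hX) (even_iff_two_dvd.2 h)
  -- a maximal abelian invariant subgroup of `F`
  obtain ⟨W, -, ⟨hWF, hWA, hWab⟩, hWmax⟩ := exists_maximal_ge_of_wellFoundedGT
    (fun W : Subgroup G => W ≤ F ∧ A ≤ normalizer (W : Set G) ∧ W ≤ centralizer (W : Set G)) ⊥
    ⟨bot_le, le_normalizer_of_conj_mem fun b _ u hu => by simp [mem_bot.1 hu], bot_le⟩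
  have hWL : W ≤ L := hWF.trans hFL
  have hCW : F ⊓ centralizer (W : Set G) ≤ W := by
    set D := F ⊓ centralizer (W : Set G) with hDdef
    have hDA : A ≤ normalizer (D : Set G) := by
      refine (le_inf hAF ?_).trans inf_normalizer_le_normalizer_inf
      exact hWA.trans (CharP.normalizer_le_normalizer_centralizer' W)
    refine le_of_forall_hyperplane hA hDA (hnd D (inf_le_left.trans hFL)) fun B hB hi => ?_
    have hfix : D ⊓ centralizer (A : Set G) ≤ W := by
      intro c hc
      set W' := W ⊔ zpowers c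
      refine hWmax (y := W') ⟨sup_le hWF (zpowers_le.2 hc.1.1), ?_, ?_⟩ le_sup_left (mem_sup_right (mem_zpowers c))
      · refine le_trans (le_inf hWA ?_) (normalizer_inf_normalizer_le_normalizer_sup _ _)
        refine le_trans (fun a ha => ?_) (centralizer_le_normalizer _)
        refine mem_centralizer_iff.2 fun z hz => ?_
        obtain ⟨i, rfl⟩ := mem_zpowers_iff.1 hz
        exact ((Commute.zpow_left (show Commute c a from (mem_centralizer_iff.1 hc.2 a ha).symm) i)).eq
      · refine sup_le ?_ (zpowers_le.2 ?_)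
        · rw [le_centralizer_iff]
          exact sup_le hWab (zpowers_le.2 hc.1.2)
        · refine mem_centralizer_iff.2 fun z hz => ?_
          exact mem_centralizer_singleton_iff.1
            ((sup_le (fun w hw => mem_centralizer_singleton_iff.2 (mem_centralizer_iff.1 hc.1.2 w hw))
              (zpowers_le.2 (mem_centralizer_singleton_iff.2 rfl)) : W' ≤ centralizer {c}) hz)
    rcases Nat.lt_or_ge (B.relIndex A) 2 with h2 | h2
    · have h1 : B.relIndex A = 1 := by
        have : B.relIndex A ≠ 0 := index_ne_zero_of_finite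
        omega
      rw [le_antisymm hB (relIndex_eq_one.1 h1)]
      exact hfix
    have hi2 : B.relIndex A = 2 := le_antisymm hi h2
    intro c hc
    obtain ⟨a, ha, haB⟩ : ∃ a ∈ A, a ∉ B := by
      by_contra h
      push Not at h
      rw [relIndex_eq_one.2 h] at hi2
      omega
    by_contra hcW
    set w := a * c * a⁻¹ with hw
    have hwD : w ∈ D := (mem_normalizer_iff.1 (hDA ha) c).1 hc.1
    set y := c⁻¹ * w with hy
    -- first, `y ∈ W`
    have hcy : ∀ b ∈ A, b ∈ B → b * y * b⁻¹ = y := by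
      intro b hb hbB
      have h1 : b * c = c * b := mem_centralizer_iff.1 hc.2 b hbB
      have h2 : b * w = w * b := by
        rw [hw]
        calc b * (a * c * a⁻¹) = (b * a) * c * a⁻¹ := by group
          _ = a * (b * c) * a⁻¹ := by rw [commute hA hb ha]; group
          _ = a * c * (b * a⁻¹) := by rw [h1]; group
          _ = a * c * (a⁻¹ * b) := by rw [commute hA hb (inv_mem ha)]
          _ = a * c * a⁻¹ * b := by group
      rw [((Commute.inv_right (show Commute b c from h1)).mul_right (show Commute b w from h2)).eq,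
        mul_inv_cancel_right]
    have hyinv : a * y * a⁻¹ = y⁻¹ := by
      rw [hy, hw]
      calc a * (c⁻¹ * (a * c * a⁻¹)) * a⁻¹ = (a * c * a⁻¹)⁻¹ * ((a * a) * c * (a * a)⁻¹) := by group
        _ = (a * c * a⁻¹)⁻¹ * c := by rw [mul_self hA ha]; group
        _ = _ := by group
    have hyD : y ∈ D := mul_mem (inv_mem hc.1) hwD
    haveI : (B.subgroupOf A).Normal := (normal_subgroupOf_iff_le_normalizer hB).2
      ((le_centralizer_of_le hA hB).trans (centralizer_le_normalizer _))
    have hyA : ∀ b ∈ A, b * y * b⁻¹ = y ∨ b * y * b⁻¹ = y⁻¹ := by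
      intro b hb
      by_cases hbB : b ∈ B
      · exact Or.inl (hcy b hb hbB)
      · right
        have hba : b * a ∈ B :=
          (Subgroup.mul_mem_iff_of_index_two (H := B.subgroupOf A) hi2 (a := ⟨b, hb⟩) (b := ⟨a, ha⟩)).2
            ⟨fun h => absurd h hbB, fun h => absurd h haB⟩
        have h3 := hcy _ (mul_mem hb ha) hba
        calc b * y * b⁻¹ = b * (a * y⁻¹ * a⁻¹) * b⁻¹ := by
              rw [show a * y⁻¹ * a⁻¹ = (a * y * a⁻¹)⁻¹ by group, hyinv, inv_inv]
          _ = (b * a) * y⁻¹ * (b * a)⁻¹ := by group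
          _ = y⁻¹ := by rw [show (b * a) * y⁻¹ * (b * a)⁻¹ = ((b * a) * y * (b * a)⁻¹)⁻¹ by group, h3]
    have hyW : y ∈ W := by
      set W' := W ⊔ zpowers y
      refine hWmax (y := W') ⟨sup_le hWF (zpowers_le.2 hyD.1), ?_, ?_⟩ le_sup_left (mem_sup_right (mem_zpowers y))
      · refine le_trans (le_inf hWA ?_) (normalizer_inf_normalizer_le_normalizer_sup _ _)
        refine le_normalizer_of_conj_mem fun b hb u hu => ?_
        obtain ⟨i, rfl⟩ := mem_zpowers_iff.1 hu
        rw [← conj_zpow]
        rcases hyA b hb with h | h <;> rw [h]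
        · exact zpow_mem (mem_zpowers y) i
        · exact zpow_mem (inv_mem (mem_zpowers y)) i
      · refine sup_le ?_ (zpowers_le.2 ?_)
        · rw [le_centralizer_iff]
          exact sup_le hWab (zpowers_le.2 hyD.2)
        · refine mem_centralizer_iff.2 fun z hz => ?_
          exact mem_centralizer_singleton_iff.1
            ((sup_le (fun u hu => mem_centralizer_singleton_iff.2 (mem_centralizer_iff.1 hyD.2 u hu))
              (zpowers_le.2 (mem_centralizer_singleton_iff.2 rfl)) : W' ≤ centralizer {y}) hz)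
    -- then correct `c` by a square root of `y`
    obtain ⟨m, hm⟩ := (hodd (zpowers y) ((zpowers_le.2 hyW).trans hWL))
    rw [Nat.card_zpowers] at hm
    set v := y ^ (m + 1)
    have hvW : v ∈ W := pow_mem hyW _
    have hvv : v * v = y := by
      show y ^ (m + 1) * y ^ (m + 1) = y
      rw [← pow_add, show m + 1 + (m + 1) = orderOf y + 1 by omega, pow_succ, pow_orderOf_eq_one, one_mul]
    have hav : a * v * a⁻¹ = v⁻¹ := by
      show a * y ^ (m + 1) * a⁻¹ = (y ^ (m + 1))⁻¹
      rw [← conj_pow, hyinv, inv_pow]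
    have hcv : a * (c * v) * a⁻¹ = c * v := by
      have h1 : w = c * y := by rw [hy]; group
      calc a * (c * v) * a⁻¹ = w * (a * v * a⁻¹) := by rw [hw]; group
        _ = c * y * v⁻¹ := by rw [hav, h1]
        _ = c * v := by rw [← hvv]; group
    have hvB : v ∈ centralizer (B : Set G) := by
      refine mem_centralizer_iff.2 fun b hb => ?_
      exact (Commute.pow_right (show Commute b y from mul_inv_eq_iff_eq_mul.1 (hcy b (hB hb) hb)) _).eq
    have hvA : c * v ∈ centralizer (A : Set G) := by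
      refine mem_centralizer_iff.2 fun b hb => ?_
      by_cases hbB : b ∈ B
      · exact mem_centralizer_iff.1 (mul_mem hc.2 hvB) b hbB
      · have hba : b * a ∈ B :=
          (Subgroup.mul_mem_iff_of_index_two (H := B.subgroupOf A) hi2 (a := ⟨b, hb⟩) (b := ⟨a, ha⟩)).2
            ⟨fun h => absurd h hbB, fun h => absurd h haB⟩
        have h4 : Commute (b * a) (c * v) := mem_centralizer_iff.1 (mul_mem hc.2 hvB) (b * a) hba
        have h5 : Commute a (c * v) := mul_inv_eq_iff_eq_mul.1 hcv
        have h6 := h4.mul_left h5.inv_left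
        rwa [mul_inv_cancel_right] at h6
    have hcvD : c * v ∈ D :=
      mul_mem hc.1 ⟨hWF hvW, hWab hvW⟩
    exact hcW (by simpa using mul_mem (hfix ⟨hcvD, hvA⟩) (inv_mem hvW))
  -- `A` is faithful on `W`
  have hfW : ∀ a ∈ A, W ≤ centralizer {a} → a = 1 := by
    intro a ha haW
    obtain ⟨X, hWX, ⟨hXF, haX⟩, hXmax⟩ := exists_maximal_ge_of_wellFoundedGT
      (fun X : Subgroup G => X ≤ F ∧ X ≤ centralizer {a}) W ⟨hWF, haW⟩
    have hXFeq : X = F := by
      by_contra hne
      haveI := hFn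
      have hlt : X.subgroupOf F < ⊤ := lt_top_iff_ne_top.2 fun h => hne (le_antisymm hXF (subgroupOf_eq_top.1 h))
      obtain ⟨x, hxN, hxX⟩ := SetLike.exists_of_lt (Group.normalizerCondition_of_isNilpotent _ hlt)
      have hxN' : (x : G) ∈ normalizer (X : Set G) := by
        have h2 := le_normalizer_map F.subtype (mem_map_of_mem F.subtype hxN)
        rwa [map_subgroupOf_eq_of_le hXF] at h2
      set K := F ⊓ normalizer (X : Set G)
      have haN : a ∈ normalizer (X : Set G) := by
        refine centralizer_le_normalizer _ (mem_centralizer_iff.2 fun z hz => ?_)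
        exact mem_centralizer_singleton_iff.1 (haX hz)
      have hK : K ≤ centralizer {a} := le_centralizer_of_selfCentralizing (mul_self hA ha)
        (inf_normalizer_le_normalizer_inf ⟨hAF ha, le_normalizer haN⟩) (hodd K (inf_le_left.trans hFL))
        (le_inf hXF le_normalizer) inf_le_right
        ((inf_le_inf inf_le_left (centralizer_le hWX)).trans (hCW.trans hWX)) haX
      exact hxX (hXmax ⟨inf_le_left, hK⟩ (le_inf hXF le_normalizer) ⟨x.2, hxN'⟩)
    subst hXFeq
    have hL : L ≤ centralizer {a} := le_centralizer_of_selfCentralizing (mul_self hA ha) (hAL ha) hLodd hFL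
      (Comp.normal_map_subtype_iff.1 (by rw [Comp.fitting_eq_iSup_pCore]; infer_instance)) (by
        rintro x ⟨hxL, hxC⟩
        refine ⟨⟨x, hxL⟩, Fitting.centralizer_fittingSubgroup_le_of_solvable (mem_centralizer_iff.2 ?_), rfl⟩
        intro z hz
        exact Subtype.ext (mem_centralizer_iff.1 hxC z ⟨z, hz, rfl⟩)) haX
    exact mem_bot.1 (hfaith ▸ (⟨ha, mem_centralizer_iff.2 fun z hz => mem_centralizer_singleton_iff.1 (hL hz)⟩ : a ∈ A ⊓ centralizer (L : Set G)))
  have hgood : ∀ a ∈ A, a ≠ 1 → ∃ B, IsGood A W B ∧ a ∉ B := by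
    intro a ha ha1
    by_contra hcon
    push Not at hcon
    refine ha1 (hfW a ha (le_of_forall_hyperplane hA hWA (hnd W hWL) fun B hB hi => ?_))
    intro c hc
    refine mem_centralizer_singleton_iff.2 ?_
    by_cases haB : a ∈ B
    · exact (mem_centralizer_iff.1 hc.2 a haB).symm
    have h2 : B.relIndex A = 2 := by
      refine le_antisymm hi ?_
      have h0 : B.relIndex A ≠ 0 := index_ne_zero_of_finite
      have h1 : B.relIndex A ≠ 1 := fun h => haB (relIndex_eq_one.1 h ha)
      omega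
    have hwW : a * c * a⁻¹ ∈ W := (mem_normalizer_iff.1 (hWA ha) c).1 hc.1
    by_contra hne
    refine haB (hcon B ⟨hB, h2, c⁻¹ * (a * c * a⁻¹), ⟨W.mul_mem (W.inv_mem hc.1) hwW, ?_⟩, ?_,
      fun b hb hbB => inverted hA hB h2 ha haB hb hbB hc.2 (mem_centralizer_iff.1 (hWab hwW) c hc.1)⟩)
    · refine (centralizer (B : Set G)).mul_mem ((centralizer (B : Set G)).inv_mem hc.2) (mem_centralizer_iff.2 fun b hb => ?_)
      calc b * (a * c * a⁻¹) = (b * a) * c * a⁻¹ := by group
        _ = a * (b * c) * a⁻¹ := by rw [commute hA (hB hb) ha]; group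
        _ = a * c * (b * a⁻¹) := by rw [mem_centralizer_iff.1 hc.2 b hb]; group
        _ = a * c * (a⁻¹ * b) := by rw [commute hA (hB hb) (inv_mem ha)]
        _ = a * c * a⁻¹ * b := by group
    · intro h
      rw [inv_mul_eq_one, eq_mul_inv_iff_mul_eq] at h
      exact hne h
  have hsel : ∀ n, ∀ C : Subgroup G, C ≤ A → Nat.card C ≤ 2 ^ n → ∀ B₀, IsGood A W B₀ →
      ∃ B : Fin n → Subgroup G, (∀ i, IsGood A W (B i)) ∧ ∀ x ∈ C, (∀ i, x ∈ B i) → x = 1 := by
    intro n
    induction n with
    | zero =>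
      intro C hC hc B₀ _
      refine ⟨Fin.elim0, fun i => i.elim0, fun x hx _ => ?_⟩
      have : Nat.card C = 1 := le_antisymm (by simpa using hc) Nat.card_pos
      exact mem_bot.1 ((card_eq_one.1 this) ▸ hx)
    | succ n ih =>
      intro C hC hc B₀ hB₀
      by_cases h : C = ⊥
      · exact ⟨fun _ => B₀, fun _ => hB₀, fun x hx _ => mem_bot.1 (h ▸ hx)⟩
      obtain ⟨⟨a, ha⟩, hne⟩ := ne_bot_iff_exists_ne_one.1 h
      obtain ⟨B, hB, haB⟩ := hgood a (hC ha) fun e => hne (Subtype.ext e)
      have hlt : C ⊓ B < C := lt_of_le_of_ne inf_le_left fun e => haB ((e.ge ha).2)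
      have hd : 2 * Nat.card ↥(C ⊓ B) ≤ Nat.card C := by
        obtain ⟨k, hk⟩ := card_dvd_of_le hlt.le
        have h1 := Solvable.card_lt_of_lt hlt
        rcases Nat.lt_or_ge k 2 with hk2 | hk2
        · interval_cases k <;> omega
        · rw [hk, mul_comm 2]; exact Nat.mul_le_mul_left _ hk2
      obtain ⟨Bs, hBs, hBs'⟩ := ih (C ⊓ B) (inf_le_left.trans hC) (by rw [pow_succ] at hc; omega) B₀ hB₀
      exact ⟨Fin.cons B Bs, Fin.cases hB hBs, fun x hx hall => hBs' x ⟨hx, by simpa using hall 0⟩ fun i => by simpa using hall i.succ⟩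
  rcases Nat.eq_zero_or_pos d with rfl | hd
  · refine ⟨Fin.elim0, Fin.elim0, Fin.elim0, fun i => i.elim0, ?_, fun i => i.elim0⟩
    rw [card_eq_one.1 (by simpa using hAd : Nat.card A = 1)]
    exact le_bot_iff.1 (iSup_le fun i => i.elim0)
  obtain ⟨⟨a₀, ha₀⟩, hne₀⟩ : ∃ a : A, a ≠ 1 := ne_bot_iff_exists_ne_one.1 fun h => by
    rw [h, card_bot] at hAd
    have : 1 < 2 ^ d := Nat.one_lt_two_pow (by omega)
    omega
  obtain ⟨B₀, hB₀, -⟩ := hgood a₀ ha₀ fun e => hne₀ (Subtype.ext e)
  obtain ⟨B, hB, hBinj⟩ := hsel d A le_rfl hAd.le B₀ hB₀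
  set Ai : Fin d → Subgroup G := fun i => A ⊓ (Finset.univ.erase i).inf B with hAi
  have hmem : ∀ i x, x ∈ Ai i ↔ x ∈ A ∧ ∀ j, j ≠ i → x ∈ B j := by
    intro i x
    simp only [hAi, mem_inf]
    refine and_congr_right fun _ => ?_
    rw [Finset.inf_eq_iInf]
    simp [mem_iInf]
  have hlow : ∀ s : Finset (Fin d), Nat.card A ≤ 2 ^ s.card * Nat.card ↥(A ⊓ s.inf B) := by
    intro s
    induction s using Finset.induction with
    | empty => simp
    | @insert i s hi ih =>
      refine ih.trans ?_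
      have h1 := card_le_two_mul hA (C := A ⊓ s.inf B) inf_le_left (hB i).1 (hB i).2.1
      rw [Finset.inf_insert, Finset.card_insert_of_notMem hi, pow_succ, mul_assoc]
      refine Nat.mul_le_mul_left _ (h1.trans (le_of_eq ?_))
      rw [inf_assoc, inf_comm (s.inf B)]
  have hcard : ∀ i, Nat.card (Ai i) = 2 := by
    intro i
    refine le_antisymm ?_ ?_
    · have h1 := card_le_two_mul hA (C := Ai i) inf_le_left (hB i).1 (hB i).2.1
      have h2 : Ai i ⊓ B i = ⊥ := by
        refine (Subgroup.eq_bot_iff_forall _).2 fun x hx => hBinj x ((hmem i x).1 hx.1).1 fun j => ?_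
        by_cases hj : j = i
        · exact hj ▸ hx.2
        · exact ((hmem i x).1 hx.1).2 j hj
      rw [h2, card_bot] at h1
      exact h1
    · have h1 := hlow (Finset.univ.erase i)
      rw [Finset.card_erase_of_mem (Finset.mem_univ i), Finset.card_univ, Fintype.card_fin, hAd] at h1
      have h2 : 2 ^ d = 2 ^ (d - 1) * 2 := by rw [← pow_succ, Nat.sub_add_cancel hd]
      rw [h2] at h1
      exact Nat.le_of_mul_le_mul_left h1 (by positivity)
  have hgen : ∀ i, ∃ a, a ∈ Ai i ∧ a ∉ B i ∧ Ai i = zpowers a ∧ orderOf a = 2 := by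
    intro i
    obtain ⟨⟨a, ha⟩, hne⟩ : ∃ a : Ai i, a ≠ 1 := ne_bot_iff_exists_ne_one.1 fun h => by
      have := hcard i
      rw [h, card_bot] at this
      omega
    have ha1 : a ≠ 1 := fun e => hne (Subtype.ext e)
    have ho : orderOf a = 2 := Invol.orderOf_eq_two (mul_self hA ha.1) ha1
    refine ⟨a, ha, fun hab => ha1 (hBinj a ha.1 fun j => ?_), (Solvable.eq_of_le_of_card_le (zpowers_le.2 ha) (by rw [hcard, Nat.card_zpowers, ho])).symm, ho⟩
    by_cases hj : j = i
    · exact hj ▸ hab
    · exact ((hmem i a).1 ha).2 j hj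
  choose a ha haB hAa hao using hgen
  choose x hx hx1 hxinv using fun i => (hB i).2.2
  refine ⟨Ai, fun i => zpowers (x i), fun i => orderOf (x i), fun i => ?_, ?_, ?_⟩
  · have hxL : x i ∈ L := hWL (hx i).1
    have ho : Odd (orderOf (x i)) := hLodd.of_dvd_nat (orderOf_dvd_natCard L hxL)
    have h3 : 3 ≤ orderOf (x i) := by
      have h1 : orderOf (x i) ≠ 1 := fun h => hx1 i (orderOf_eq_one_iff.1 h)
      obtain ⟨k, hk⟩ := ho
      omega
    refine ⟨inf_le_left, hcard i, zpowers_le.2 hxL, ho, h3, ?_⟩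
    have hinv := hxinv i (a i) ((hmem i _).1 (ha i)).1 (haB i)
    have hai : (a i)⁻¹ = a i := Invol.inv_eq_self (hao i)
    have hy2 : a i * x i * (a i * x i) = 1 := by
      have := Invol.mul_zpow_mul_self (Invol.mul_self_eq_one (hao i)) hinv 1
      simpa using this
    have hne : a i ≠ a i * x i := fun h => hx1 i (mul_eq_left.1 h.symm)
    have hy : orderOf (a i * x i) = 2 := Invol.orderOf_eq_two hy2 fun h => by
      have hxa : x i = a i := by
        have := congrArg (fun t => a i * t) h
        simpa [← mul_assoc, Invol.mul_self_eq_one (hao i)] using this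
      rw [hxa, hao i] at h3
      omega
    have e : Ai i ⊔ zpowers (x i) = closure ({a i, a i * x i} : Set G) := by
      rw [hAa i]
      refine le_antisymm (sup_le (zpowers_le.2 (subset_closure (Set.mem_insert _ _))) (zpowers_le.2 ?_)) ?_
      · have h := mul_mem (inv_mem (subset_closure (Set.mem_insert (a i) {a i * x i})))
          (subset_closure (Set.mem_insert_of_mem (a i) (Set.mem_singleton (a i * x i))))
        rwa [inv_mul_cancel_left] at h
      · rw [closure_le]
        rintro z (rfl | rfl)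
        · exact mem_sup_left (mem_zpowers _)
        · exact mul_mem (mem_sup_left (mem_zpowers _)) (mem_sup_right (mem_zpowers _))
    obtain ⟨φ⟩ := Invol.nonempty_dihedral_equiv (hao i) hy hne
    rw [← mul_assoc, Invol.mul_self_eq_one (hao i), one_mul] at φ
    rw [e]
    exact ⟨φ⟩
  · refine le_antisymm (iSup_le fun i => inf_le_left) fun z hz => ?_
    suffices ∀ s : Finset (Fin d), ∀ z ∈ A, (∀ j ∉ s, z ∈ B j) → z ∈ ⨆ i, Ai i from
      this Finset.univ z hz fun j hj => absurd (Finset.mem_univ j) hj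
    intro s
    induction s using Finset.induction with
    | empty =>
      intro z hz h
      rw [hBinj z hz fun j => h j (Finset.notMem_empty j)]
      exact one_mem _
    | @insert i s hi ih =>
      intro z hz h
      by_cases hzi : z ∈ B i
      · refine ih z hz fun j hj => ?_
        by_cases hji : j = i
        · exact hji ▸ hzi
        · exact h j (by simp [hji, hj])
      · have haA := ((hmem i _).1 (ha i)).1
        have h1 : z * a i ∈ ⨆ i, Ai i := by
          refine ih _ (mul_mem hz haA) fun j hj => ?_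
          by_cases hji : j = i
          · subst hji
            haveI : ((B j).subgroupOf A).Normal := (normal_subgroupOf_iff_le_normalizer (hB j).1).2
              ((le_centralizer_of_le hA (hB j).1).trans (centralizer_le_normalizer _))
            exact (Subgroup.mul_mem_iff_of_index_two (H := (B j).subgroupOf A) (hB j).2.1 (a := ⟨z, hz⟩) (b := ⟨a j, haA⟩)).2
              ⟨fun h => absurd h hzi, fun h => absurd h (haB j)⟩
          · exact mul_mem (h j (by simp [hji, hj])) (((hmem i _).1 (ha i)).2 j hji)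
        have h2 : a i ∈ ⨆ i, Ai i := le_iSup Ai i (ha i)
        simpa using mul_mem h1 (inv_mem h2)
  · intro i j hij
    have hax : ∀ i j, i ≠ j → Commute (a i) (x j) := fun i j hij =>
      mem_centralizer_iff.1 (hx j).2 (a i) (((hmem i _).1 (ha i)).2 j hij.symm)
    have hgi : Ai i ⊔ zpowers (x i) ≤ centralizer ((Ai j ⊔ zpowers (x j) : Subgroup G) : Set G) := by
      rw [le_centralizer_iff, hAa i, hAa j]
      refine sup_le (zpowers_le.2 ?_) (zpowers_le.2 ?_) <;> refine mem_centralizer_iff.2 fun u hu => ?_ <;>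
        refine (Commute.eq ?_)
      · exact (show zpowers (a i) ⊔ zpowers (x i) ≤ centralizer {a j} from sup_le
          (zpowers_le.2 (mem_centralizer_singleton_iff.2 (commute hA ((hmem i _).1 (ha i)).1 ((hmem j _).1 (ha j)).1)))
          (zpowers_le.2 (mem_centralizer_singleton_iff.2 (hax j i hij.symm).eq.symm))) hu |> mem_centralizer_singleton_iff.1
      · exact (show zpowers (a i) ⊔ zpowers (x i) ≤ centralizer {x j} from sup_le
          (zpowers_le.2 (mem_centralizer_singleton_iff.2 (hax i j hij).eq))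
          (zpowers_le.2 (mem_centralizer_singleton_iff.2 (mem_centralizer_iff.1 (hWab (hx j).1) (x i) (hx i).1)))) hu |> mem_centralizer_singleton_iff.1
    intro u hu v hv
    exact (mem_centralizer_iff.1 (hgi hu) v hv).symm

end CfsgLib.ThompsonDihedral
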