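import Cfsg.Agent.AutPSU.Sylow
import Cfsg.Agent.Unitary.Special
import Cfsg.Agent.Unitary.Generation

/-!
An automorphism of square inner of a Sylow 2-subgroup of `SU_3(q)`, `q` even, fixes the centre.
-/

set_option autoImplicit false
set_option linter.style.haveILetI false

namespace CfsgLib.Invol.U3Center

open Matrix CfsgLib.Unitary CfsgLib.AutPSU CfsgLib.Forms

/-- sign of an element of the field with two elements -/
def sgn (z : ZMod 2) : ℤ := if z = 0 then 1 else -1

theorem sgn_add : ∀ a b : ZMod 2, sgn (a + b) = sgn a * sgn b := by decide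

theorem sgn_zero : sgn 0 = 1 := rfl

theorem sum_sgn_eq_zero {A : Type*} [AddGroup A] [Fintype A] (f : A → ZMod 2)
    (hadd : ∀ a b, f (a + b) = f a + f b) {a₀ : A} (h : f a₀ ≠ 0) : ∑ a, sgn (f a) = 0 := by
  have h1 : sgn (f a₀) = -1 := by simp [sgn, h]
  have h2 : ∑ a, sgn (f (a₀ + a)) = ∑ a, sgn (f a) := Fintype.sum_equiv (Equiv.addLeft a₀) (fun a => sgn (f (a₀ + a))) (fun a => sgn (f a)) fun _ => rfl
  simp only [hadd, sgn_add, h1, neg_one_mul, Finset.sum_neg_distrib] at h2
  omega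

variable {F : Type*} [Field F] [Finite F] {q : ℕ} (hF : Nat.card F = q ^ 2) [CharP F 2]
include hF

theorem exists_pairing {z u : F} (hz : z ^ q = z) (hu : u ≠ 0) :
    ∃ w : F, w * u ^ q + u * w ^ q = z := by
  obtain ⟨t, ht⟩ := exists_trace_eq hF hz
  refine ⟨t / u ^ q, ?_⟩
  rw [div_pow, pow_q_q hF, div_mul_cancel₀ t (pow_ne_zero _ hu), mul_div_cancel₀ _ hu, ht]

omit [CharP F 2] in
theorem norm_add (w u : F) :
    (w + u) ^ (q + 1) = w ^ (q + 1) + u ^ (q + 1) + (w * u ^ q + u * w ^ q) := by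
  rw [pow_succ, add_pow_q hF, pow_succ, pow_succ]
  ring

omit [CharP F 2] in
theorem norm_fixed (w : F) : (w ^ (q + 1)) ^ q = w ^ (q + 1) := by
  rw [pow_right_comm, pow_succ (w ^ q) q, pow_q_q hF, pow_succ, mul_comm]

omit [CharP F 2] in
theorem card_fixed : Nat.card {x : F // x ^ q = x} = q := by
  classical
  have hq := two_le_q hF
  let e : {x : F // x ^ q = x} ≃ Option ↥(powMonoidHom (q - 1) : Fˣ →* Fˣ).ker :=
    { toFun := fun x => if h : x.1 = 0 then none else some ⟨Units.mk0 x.1 h, by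
        refine MonoidHom.mem_ker.2 (Units.ext (mul_left_cancel₀ h ?_))
        rw [powMonoidHom_apply, Units.val_pow_eq_pow_val, Units.val_mk0, Units.val_one, mul_one, ← pow_succ',
          Nat.sub_add_cancel (by omega), x.2]⟩
      invFun := fun o => match o with
        | none => ⟨0, zero_pow (by omega)⟩
        | some u => ⟨u.1, by
            have h := congrArg Units.val (MonoidHom.mem_ker.1 u.2)
            rw [powMonoidHom_apply, Units.val_pow_eq_pow_val, Units.val_one] at h
            calc ((u.1 : Fˣ) : F) ^ q = ((u.1 : Fˣ) : F) ^ (q - 1) * (u.1 : Fˣ) := by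
                  rw [← pow_succ, Nat.sub_add_cancel (by omega : 1 ≤ q)]
              _ = _ := by rw [h, one_mul]⟩
      left_inv := fun x => by
        by_cases h : x.1 = 0
        · simp [h, Subtype.ext_iff]
        · simp [h]
      right_inv := fun o => by
        rcases o with _ | u
        · simp
        · simp [Subtype.ext_iff, Units.ext_iff] }
  rw [Nat.card_congr e, Finite.card_option, IsCyclic.card_powMonoidHom_ker, card_units_eq hF,
    Nat.gcd_mul_left_left]
  omega

/-- The norm form has no totally singular subgroup of half the order. -/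
theorem norm_span (U M : AddSubgroup F) (hU : q ≤ Nat.card U) (hM : ∀ z ∈ M, z ^ q = z)
    (hN : ∀ u ∈ U, u ^ (q + 1) ∈ M) : ∀ z : F, z ^ q = z → z ∈ M := by
  classical
  intro z₀ hz₀
  by_contra hz₀M
  letI := Fintype.ofFinite F
  letI : Module (ZMod 2) F := AddCommGroup.zmodModule fun x => by
    rw [two_nsmul, CharTwo.add_self_eq_zero]
  let Ms : Submodule (ZMod 2) F :=
    { M with
      smul_mem' := fun c x hx => by
        rcases (by decide : ∀ c : ZMod 2, c = 0 ∨ c = 1) c with rfl | rfl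
        · rw [zero_smul]; exact M.zero_mem
        · rwa [one_smul] }
  obtain ⟨lam, hlam, hlamM⟩ := Submodule.exists_dual_map_eq_bot_of_notMem (p := Ms) hz₀M inferInstance
  have hlam0 : ∀ z ∈ M, lam z = 0 := fun z hz => (Submodule.mem_bot (ZMod 2)).1 (by rw [← hlamM]; exact ⟨z, hz, rfl⟩)
  let f : F → ℤ := fun w => sgn (lam (w ^ (q + 1)))
  let g : F → F → ℤ := fun w u => sgn (lam (w * u ^ q + u * w ^ q))
  have hf : ∀ w u, f (w + u) = f w * f u * g w u := by
    intro w u
    show sgn _ = _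
    rw [norm_add hF, map_add, map_add, sgn_add, sgn_add]
  have hfU : ∀ u ∈ U, f u = 1 := fun u hu => by
    show sgn _ = 1
    rw [hlam0 _ (hN u hu), sgn_zero]
  -- the sum over the field
  let K := Finset.univ.filter fun z : F => z ^ q = z
  have hKcard : K.card = q := by
    rw [← Fintype.card_subtype, ← Nat.card_eq_fintype_card]; exact card_fixed hF
  have hKsum : ∑ z ∈ K, sgn (lam z) = 0 := by
    let KA : AddSubgroup F :=
      { carrier := {z | z ^ q = z}
        add_mem' := fun {a b} (ha : a ^ q = a) (hb : b ^ q = b) => by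
          show (a + b) ^ q = a + b
          rw [add_pow_q hF, ha, hb]
        zero_mem' := zero_pow (q_ne_zero hF)
        neg_mem' := fun {a} (ha : a ^ q = a) => by
          show (-a) ^ q = -a
          rw [CharTwo.neg_eq, ha] }
    have h := sum_sgn_eq_zero (fun z : KA => lam z) (fun a b => map_add lam _ _) (a₀ := ⟨z₀, hz₀⟩) hlam
    rw [← h]
    exact Finset.sum_subtype K (fun x => by simp [K, KA]) fun z => sgn (lam z)
  have hS : ∑ w, f w = -(q : ℤ) := by
    rw [← Finset.sum_fiberwise_of_maps_to (t := K) (g := fun w : F => w ^ (q + 1))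
      (fun w _ => by simp [K, norm_fixed hF])]
    have h0 : (0 : F) ∈ K := by simp [K, q_ne_zero hF]
    have hfib : ∀ z ∈ K, ∑ w ∈ Finset.univ.filter (fun w : F => w ^ (q + 1) = z), f w =
        sgn (lam z) * (if z = 0 then 1 else (q : ℤ) + 1) := by
      intro z hz
      rw [Finset.sum_congr rfl (g := fun _ => sgn (lam z)) (fun w hw => by
        show sgn _ = _
        rw [(Finset.mem_filter.1 hw).2]), Finset.sum_const, nsmul_eq_mul, mul_comm]
      congr 1
      split_ifs with h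
      · rw [show (Finset.univ.filter fun w : F => w ^ (q + 1) = z) = {0} by
          ext w; simp [h]]
        simp
      · rw [← Fintype.card_subtype, ← Nat.card_eq_fintype_card,
          card_norm_fiber hF h (Finset.mem_filter.1 hz).2]
        push_cast; ring
    rw [Finset.sum_congr rfl hfib, ← Finset.add_sum_erase K _ h0, if_pos rfl, map_zero, sgn_zero,
      Finset.sum_congr rfl (g := fun z => sgn (lam z) * ((q : ℤ) + 1)) (fun z hz => by
        rw [if_neg (Finset.ne_of_mem_erase hz)]), ← Finset.sum_mul]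
    have hs := Finset.add_sum_erase K (fun z => sgn (lam z)) h0
    rw [hKsum, map_zero, sgn_zero] at hs
    rw [show ∑ z ∈ K.erase 0, sgn (lam z) = -1 by omega]
    ring
  -- the two ways of counting
  let P := Finset.univ.filter fun w : F => ∀ u : U, g w u = 1
  have hgadd : ∀ w u v, g w (u + v) = g w u * g w v := by
    intro w u v
    show sgn _ = sgn _ * sgn _
    rw [← sgn_add, ← map_add, add_pow_q hF]
    congr 2; ring
  have hgU : ∀ w, ∑ u : U, g w u = if w ∈ P then (Nat.card U : ℤ) else 0 := by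
    intro w
    split_ifs with h
    · rw [Finset.sum_congr rfl (g := fun _ => (1 : ℤ)) (fun u _ => (Finset.mem_filter.1 h).2 u),
        Finset.sum_const, nsmul_eq_mul, mul_one, Finset.card_univ, Nat.card_eq_fintype_card]
    · simp only [P, Finset.mem_filter, Finset.mem_univ, true_and, not_forall] at h
      obtain ⟨u₀, hu₀⟩ := h
      refine sum_sgn_eq_zero (fun u : U => lam (w * (u : F) ^ q + u * w ^ q))
        (fun a b => by rw [← map_add, AddSubgroup.coe_add, add_pow_q hF]; congr 1; ring) (a₀ := u₀)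
        fun h0 => hu₀ (by show sgn _ = 1; rw [h0, sgn_zero])
  have hPU : (P.card : ℤ) * Nat.card U = (q : ℤ) ^ 2 := by
    have h1 : ∑ w, ∑ u : U, g w u = (P.card : ℤ) * Nat.card U := by
      rw [Finset.sum_congr rfl (fun w _ => hgU w), Finset.sum_ite_mem, Finset.univ_inter,
        Finset.sum_const, nsmul_eq_mul]
    rw [← h1, Finset.sum_comm, ← Finset.add_sum_erase _ _ (Finset.mem_univ (0 : U))]
    have hz : ∀ u ∈ Finset.univ.erase (0 : U), ∑ w, g w u = 0 := by
      intro u hu
      obtain ⟨w₀, hw₀⟩ := exists_pairing hF hz₀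
        (show (u : F) ≠ 0 from fun h => Finset.ne_of_mem_erase hu (Subtype.ext h))
      refine sum_sgn_eq_zero (fun w : F => lam (w * (u : F) ^ q + u * w ^ q))
        (fun a b => by rw [← map_add, add_pow_q hF]; congr 1; ring) (a₀ := w₀) ?_
      show lam (w₀ * (u : F) ^ q + u * w₀ ^ q) ≠ 0
      rw [hw₀]; exact hlam
    rw [Finset.sum_eq_zero hz, add_zero]
    have h2 : ∀ w, g w ((0 : U) : F) = 1 := fun w => by
      show sgn _ = 1
      rw [AddSubgroup.coe_zero, zero_pow (q_ne_zero hF), mul_zero, zero_mul, add_zero, map_zero, sgn_zero]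
    rw [Finset.sum_congr rfl (fun w _ => h2 w), Finset.sum_const, nsmul_eq_mul, mul_one, Finset.card_univ,
      ← Nat.card_eq_fintype_card, hF]
    push_cast; rfl
  have hUP : Finset.univ.filter (fun w : F => w ∈ U) ⊆ P := by
    intro w hw
    refine Finset.mem_filter.2 ⟨Finset.mem_univ _, fun u => ?_⟩
    have hwU := (Finset.mem_filter.1 hw).2
    have := hf w u
    rw [hfU _ (add_mem hwU u.2), hfU _ hwU, hfU _ u.2, one_mul, one_mul] at this
    exact this.symm
  have hUcard : (Finset.univ.filter fun w : F => w ∈ U).card = Nat.card U := by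
    rw [← Fintype.card_subtype, ← Nat.card_eq_fintype_card]
  have hPeq : Finset.univ.filter (fun w : F => w ∈ U) = P := by
    refine Finset.eq_of_subset_of_card_le hUP ?_
    rw [hUcard]
    have hq := two_le_q hF
    have h3 : P.card * Nat.card U = q * q := by
      have : ((P.card * Nat.card U : ℕ) : ℤ) = ((q * q : ℕ) : ℤ) := by
        push_cast; rw [hPU]; ring
      exact_mod_cast this
    refine le_trans ?_ hU
    exact Nat.le_of_mul_le_mul_right (by rw [h3]; exact Nat.mul_le_mul_left q hU) (by omega : 0 < Nat.card U)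
  have hdouble : (Nat.card U : ℤ) * ∑ w, f w = (Nat.card U : ℤ) * P.card := by
    have h1 : ∑ u : U, ∑ w, f (w + u) = (Nat.card U : ℤ) * ∑ w, f w := by
      rw [Finset.sum_congr rfl (fun (u : U) _ => Fintype.sum_equiv (Equiv.addRight (u : F)) (fun w => f (w + u)) f fun _ => rfl), Finset.sum_const,
        nsmul_eq_mul, Finset.card_univ, Nat.card_eq_fintype_card]
    rw [← h1, Finset.sum_comm, Finset.sum_congr rfl (g := fun w => f w * if w ∈ P then (Nat.card U : ℤ) else 0)
      (fun w _ => by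
        rw [← hgU w, Finset.mul_sum]
        exact Finset.sum_congr rfl fun u _ => by rw [hf, hfU _ u.2, mul_one])]
    simp only [mul_ite, mul_zero]
    rw [Finset.sum_ite_mem, Finset.univ_inter, Finset.sum_congr rfl (g := fun _ => (Nat.card U : ℤ)) (fun w hw => by
      rw [hfU w (Finset.mem_filter.1 (hPeq.symm ▸ hw)).2, one_mul]), Finset.sum_const, nsmul_eq_mul]
    ring
  rw [hS] at hdouble
  have hq := two_le_q hF
  have := mul_left_cancel₀ (by exact_mod_cast (show Nat.card U ≠ 0 by omega)) hdouble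
  omega

/-- Abstract form: squaring is the norm. -/
theorem fixes_center {T : Type*} [Group T] (φ ι : T → F) (hφ : ∀ x y, φ (x * y) = φ x + φ y)
    (hsurj : ∀ w, ∃ x, φ x = w) (hsq : ∀ x, ι (x * x) = φ x ^ (q + 1))
    (hιadd : ∀ x y, φ x = 0 → φ y = 0 → ι (x * y) = ι x + ι y)
    (hιinj : ∀ x y, φ x = 0 → φ y = 0 → ι x = ι y → x = y)
    (hιmem : ∀ x, φ x = 0 → ι x ^ q = ι x)
    (hcen : ∀ x y, φ x = 0 → x * y = y * x)
    (α : MulAut T) (hα : ∀ x, φ (α (α x)) = φ x) : ∀ z ∈ Subgroup.center T, α z = z := by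
  classical
  have hφ1 : φ 1 = 0 := by
    have := hφ 1 1
    rwa [mul_one, left_eq_add] at this
  have hι1 : ι 1 = 0 := by
    have := hιadd 1 1 hφ1 hφ1
    rwa [mul_one, left_eq_add] at this
  have hinv : ∀ x, φ x⁻¹ = φ x := fun x => by
    have := hφ x⁻¹ x
    rw [inv_mul_cancel, hφ1] at this
    rw [← CharTwo.neg_eq (φ x)]
    exact eq_neg_of_add_eq_zero_left this.symm
  have hmem : ∀ x, x ∈ Subgroup.center T ↔ φ x = 0 := by
    intro x
    refine ⟨fun hx => ?_, fun hx => Subgroup.mem_center_iff.2 fun y => (hcen x y hx).symm⟩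
    by_contra h0
    obtain ⟨w, hw⟩ := exists_pairing hF (z := 1) (one_pow q) h0
    obtain ⟨y, rfl⟩ := hsurj w
    have hc := Subgroup.mem_center_iff.1 hx y
    have hsqk : ∀ v, φ (v * v) = 0 := fun v => by rw [hφ, CharTwo.add_self_eq_zero]
    have h1 := hsq (y * x)
    rw [show y * x * (y * x) = (y * y) * (x * x) by rw [mul_assoc y x, ← mul_assoc x y x, ← hc]; group,
      hιadd _ _ (hsqk _) (hsqk _), hsq, hsq, hφ, norm_add hF, left_eq_add, hw] at h1
    exact one_ne_zero h1
  have hαz : ∀ x, φ x = 0 → φ (α x) = 0 := by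
    intro x hx
    rw [← hmem, Subgroup.mem_center_iff]
    intro y
    have := congrArg α (Subgroup.mem_center_iff.1 ((hmem x).2 hx) (α.symm y))
    simpa using this
  have hdep : ∀ x y, φ x = φ y → φ (α x) = φ (α y) := by
    intro x y h
    have h0 : φ (x * y⁻¹) = 0 := by rw [hφ, hinv, h, CharTwo.add_self_eq_zero]
    have h1 := hαz _ h0
    rw [map_mul, map_inv, hφ, hinv] at h1
    exact CharTwo.add_eq_zero.1 h1
  choose sec hsec using hsurj
  let A : F →+ F := AddMonoidHom.mk' (fun w => φ (α (sec w)) + w) fun a b => by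
    rw [hdep (sec (a + b)) (sec a * sec b) (by rw [hsec, hφ, hsec, hsec]), map_mul, hφ]
    ring
  let M : AddSubgroup F :=
    { carrier := {c | ∃ z, φ z = 0 ∧ α z = z ∧ ι z = c}
      add_mem' := by
        rintro _ _ ⟨z, hz, hza, rfl⟩ ⟨y, hy, hya, rfl⟩
        exact ⟨z * y, by rw [hφ, hz, hy, add_zero], by rw [map_mul, hza, hya], hιadd z y hz hy⟩
      zero_mem' := ⟨1, hφ1, map_one α, hι1⟩
      neg_mem' := fun {c} hc => by rwa [CharTwo.neg_eq] }
  have hcard : q ≤ Nat.card A.ker := by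
    have h1 : A.range ≤ A.ker := by
      rintro _ ⟨w, rfl⟩
      rw [AddMonoidHom.mem_ker]
      show φ (α (sec (φ (α (sec w)) + w))) + (φ (α (sec w)) + w) = 0
      rw [hdep (sec (φ (α (sec w)) + w)) (α (sec w) * sec w) (by rw [hsec, hφ, hsec]), map_mul, hφ,
        hα, hsec, add_comm w, CharTwo.add_self_eq_zero]
    have h2 := AddSubgroup.card_eq_card_quotient_mul_card_addSubgroup A.ker
    rw [Nat.card_congr (QuotientAddGroup.quotientKerEquivRange A).toEquiv, hF] at h2
    have h3 : Nat.card A.range ≤ Nat.card A.ker := AddSubgroup.card_le_of_le h1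
    by_contra hlt
    have := Nat.mul_le_mul h3 (le_refl (Nat.card A.ker))
    nlinarith
  have hNM : ∀ u ∈ A.ker, u ^ (q + 1) ∈ M := by
    intro u hu
    have hu' : φ (α (sec u)) = u := CharTwo.add_eq_zero.1 (AddMonoidHom.mem_ker.1 hu)
    set x := sec u with hx
    have hxu : φ x = u := hsec u
    set k := x⁻¹ * α x with hk
    have hk0 : φ k = 0 := by rw [hk, hφ, hinv, hxu, hu', CharTwo.add_self_eq_zero]
    have hkk : k * k = 1 := hιinj _ _ (by rw [hφ, hk0, add_zero]) hφ1
      (by rw [hsq, hk0, zero_pow (Nat.succ_ne_zero q), hι1])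
    have hxx : φ (x * x) = 0 := by rw [hφ, CharTwo.add_self_eq_zero]
    refine ⟨x * x, hxx, ?_, by rw [hsq, hxu]⟩
    have hαx : α x = x * k := by rw [hk, mul_inv_cancel_left]
    calc α (x * x) = (x * k) * (x * k) := by rw [map_mul, hαx]
      _ = x * (k * x) * k := by group
      _ = x * x * (k * k) := by rw [hcen k x hk0]; group
      _ = x * x := by rw [hkk, mul_one]
  have hM := norm_span hF A.ker M hcard (by rintro _ ⟨z, hz, -, rfl⟩; exact hιmem z hz) hNM
  intro z hz
  have hz0 := (hmem z).1 hz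
  obtain ⟨z', hz'0, hz', he⟩ := hM (ι z) (hιmem z hz0)
  rwa [hιinj z z' hz0 hz'0 he.symm]

/-- The Sylow 2-subgroups of `SU_3(q)`. -/
theorem sylow_model {n : ℕ} (hn : n ≠ 0) (hq : q = 2 ^ n) (P : Sylow 2 (Cfsg.SU 3 F q)) :
    ∃ φ ι : ↥(P : Subgroup (Cfsg.SU 3 F q)) → F, (∀ x y, φ (x * y) = φ x + φ y) ∧ (∀ w, ∃ x, φ x = w) ∧
      (∀ x, ι (x * x) = φ x ^ (q + 1)) ∧ (∀ x y, φ x = 0 → φ y = 0 → ι (x * y) = ι x + ι y) ∧
      (∀ x y, φ x = 0 → φ y = 0 → ι x = ι y → x = y) ∧ (∀ x, φ x = 0 → ι x ^ q = ι x) ∧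
      (∀ x y, φ x = 0 → x * y = y * x) := by
  classical
  obtain ⟨e, he0, hee⟩ : ∃ v : Fin 3 → F, v ≠ 0 ∧ Cfsg.hermForm 3 F q v v = 0 := by
    obtain ⟨a, ha⟩ := exists_norm_eq hF (one_pow q)
    refine ⟨![1, a, 0], fun h => one_ne_zero (congrFun h 0), ?_⟩
    simp [Cfsg.hermForm, Fin.sum_univ_three, q_ne_zero hF, ← pow_succ', ha, CharTwo.add_self_eq_zero]
  obtain ⟨f, H⟩ := exists_hyp hF he0 hee
  obtain ⟨d, hd, b, Fr⟩ := exists_frame hF H
  obtain rfl : d = 1 := by omega
  have hsum : ∀ a, InW q e f a → a = Cfsg.hermForm 3 F q a (b 0) • b 0 := by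
    intro a ha
    have := Fr.expand a
    rwa [Fin.sum_univ_one, ha.1, ha.2, zero_smul, zero_smul, zero_add, zero_add] at this
  let R := radical hF e H.ee
  let φ' : Cfsg.SU 3 F q → F := fun A => Cfsg.hermForm 3 F q (suMat A *ᵥ f) (b 0)
  let ι' : Cfsg.SU 3 F q → F := fun A => Cfsg.hermForm 3 F q (suMat A *ᵥ f) f
  have hform : ∀ A ∈ R, ∃ a s, InW q e f a ∧ suMat A = eichMat q e a s ∧ φ' A = Cfsg.hermForm 3 F q a (b 0) ∧
      ι' A = s ∧ a = φ' A • b 0 ∧ s + s ^ q + φ' A ^ (q + 1) = 0 := by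
    intro A hA
    obtain ⟨a, s, ha, hs⟩ := (mem_radical hF H).1 hA
    have h1 : φ' A = Cfsg.hermForm 3 F q a (b 0) := by
      simp only [φ', hs, eichMat_apply_f hF H ha, herm_add_left, herm_smul_left,
        hf_swap_zero hF (Fr.inW 0).1, hf_swap_zero hF (Fr.inW 0).2, mul_zero, zero_add, add_zero]
    refine ⟨a, s, ha, hs, h1, ?_, by rw [h1]; exact hsum a ha, ?_⟩
    · simp only [ι', hs, eichMat_apply_f hF H ha, herm_add_left, herm_smul_left, H.ff, H.ef, ha.2,
        mul_one, zero_add]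
    · have h2 := eich_cond hF H ha hs
      rw [hsum a ha, herm_smul_left, herm_smul_right hF, Fr.on, if_pos rfl, mul_one, ← h1, ← pow_succ'] at h2
      exact h2
  have hmk : ∀ w s : F, s + s ^ q + w ^ (q + 1) = 0 → ∃ A ∈ R, φ' A = w ∧ ι' A = s := by
    intro w s hws
    have ha : InW q e f (w • b 0) := ⟨by rw [herm_smul_left, (Fr.inW 0).1, mul_zero],
      by rw [herm_smul_left, (Fr.inW 0).2, mul_zero]⟩
    let A := eich hF e (w • b 0) s H.ee ha.1 (by
      rw [herm_smul_left, herm_smul_right hF, Fr.on, if_pos rfl, mul_one, ← pow_succ']; exact hws)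
    refine ⟨A, ⟨_, s, ha.1, rfl⟩, ?_, ?_⟩
    · show Cfsg.hermForm 3 F q (eichMat q e (w • b 0) s *ᵥ f) (b 0) = w
      simp only [eichMat_apply_f hF H ha, herm_add_left, herm_smul_left, Fr.on, if_pos,
        hf_swap_zero hF (Fr.inW 0).1, hf_swap_zero hF (Fr.inW 0).2, mul_zero, zero_add, add_zero, mul_one]
    · show Cfsg.hermForm 3 F q (eichMat q e (w • b 0) s *ᵥ f) f = s
      simp only [eichMat_apply_f hF H ha, herm_add_left, herm_smul_left, H.ff, H.ef, (Fr.inW 0).2,
        mul_zero, mul_one, zero_add]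
  have hmul : ∀ A ∈ R, ∀ B ∈ R, φ' (A * B) = φ' A + φ' B ∧ ι' (A * B) = ι' A + ι' B - φ' B * φ' A ^ q := by
    intro A hA B hB
    obtain ⟨a, s, ha, hs, h1, h2, ha', -⟩ := hform A hA
    obtain ⟨c, r, hc, hr, g1, g2, hc', -⟩ := hform B hB
    obtain ⟨x, t, hx, ht, k1, k2, -, -⟩ := hform _ (mul_mem hA hB)
    have he : suMat (A * B) = eichMat q e (a + c) (s + r - Cfsg.hermForm 3 F q c a) := by
      rw [suMat_mul, hs, hr, eichMat_mul hF H.ee ha.1 hc.1]
    have hac : InW q e f (a + c) := ⟨by rw [herm_add_left, ha.1, hc.1, add_zero],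
      by rw [herm_add_left, ha.2, hc.2, add_zero]⟩
    constructor
    · show Cfsg.hermForm 3 F q (suMat (A * B) *ᵥ f) (b 0) = _
      simp only [he, eichMat_apply_f hF H hac, herm_add_left, herm_smul_left, h1, g1,
        hf_swap_zero hF (Fr.inW 0).1, hf_swap_zero hF (Fr.inW 0).2, mul_zero, zero_add, add_zero]
    · show Cfsg.hermForm 3 F q (suMat (A * B) *ᵥ f) f = _
      simp only [he, eichMat_apply_f hF H hac, herm_add_left, herm_smul_left, H.ff, H.ef, ha.2, hc.2,
        mul_one, zero_add]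
      rw [h2, g2]
      conv_lhs => rw [ha', hc', herm_smul_left, herm_smul_right hF, Fr.on, if_pos rfl, mul_one]
  have hext : ∀ A ∈ R, ∀ B ∈ R, φ' A = φ' B → ι' A = ι' B → A = B := by
    intro A hA B hB e1 e2
    obtain ⟨a, s, -, hs, -, h2, ha', -⟩ := hform A hA
    obtain ⟨c, r, -, hr, -, g2, hc', -⟩ := hform B hB
    exact suMat_inj (by rw [hs, hr, ha', hc', e1, ← h2, ← g2, e2])
  -- the radical is a Sylow subgroup
  have hRp : IsPGroup 2 R := radical_pGroup hF H.ee
  have hRcard : Nat.card R = q ^ 3 := by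
    have hroot : ∀ w : F, ∃ s, s + s ^ q + w ^ (q + 1) = 0 := fun w => exists_root hF (norm_fixed hF w)
    choose s₀ hs₀ using hroot
    have key : ∀ w s : F, s + s ^ q + w ^ (q + 1) = 0 → (s - s₀ w) ^ q = s - s₀ w := by
      intro w s h
      rw [← frobQ_apply hF, map_sub, frobQ_apply, frobQ_apply, CharTwo.sub_eq_add, CharTwo.sub_eq_add]
      have h0 := hs₀ w
      have : s + s₀ w + (s ^ q + s₀ w ^ q) = 0 := by linear_combination h + h0 - CharTwo.add_self_eq_zero (w ^ (q + 1))
      exact (CharTwo.add_eq_zero.1 this).symm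
    let E : R ≃ F × {x : F // x ^ q = x} :=
      Equiv.ofBijective (fun A => (φ' A.1, ⟨ι' A.1 - s₀ (φ' A.1), by
        obtain ⟨a, s, -, -, -, h2, -, h3⟩ := hform A.1 A.2
        rw [h2]; exact key _ _ h3⟩)) ⟨by
      rintro ⟨A, hA⟩ ⟨B, hB⟩ h
      obtain ⟨e1, e2⟩ := Prod.mk.injEq .. ▸ h
      have e3 : ι' A - s₀ (φ' A) = ι' B - s₀ (φ' B) := congrArg Subtype.val e2
      rw [e1, sub_left_inj] at e3
      exact Subtype.ext (hext A hA B hB e1 e3), by
      rintro ⟨w, x, hx⟩
      obtain ⟨A, hA, e1, e2⟩ := hmk w (s₀ w + x) (by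
        rw [add_pow_q hF, hx]
        linear_combination hs₀ w + CharTwo.add_self_eq_zero x)
      exact ⟨⟨A, hA⟩, Prod.ext e1 (Subtype.ext (by show ι' A - s₀ (φ' A) = x; rw [e1, e2, add_sub_cancel_left]))⟩⟩
    rw [Nat.card_congr E, Nat.card_prod, hF, card_fixed hF]; ring
  have hSU : Nat.card (Cfsg.SU 3 F q) = q ^ 3 * ((q ^ 2 - 1) * (q ^ 3 + 1)) := by
    have h := card_SU_mul hF (n := 3) (by norm_num)
    rw [card_GU hF, Finset.prod_range_succ, Finset.prod_range_succ, Finset.prod_range_one] at h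
    norm_num [show ¬ Even 1 from by decide, show Even 2 from by decide] at h
    apply Nat.eq_of_mul_eq_mul_left (show 0 < q + 1 by omega)
    rw [h]; ring
  have hidx : ¬ 2 ∣ R.index := by
    have h := R.card_mul_index
    rw [hRcard, hSU] at h
    have hqpos : 0 < q ^ 3 := by rw [hq]; positivity
    rw [Nat.eq_of_mul_eq_mul_left hqpos h]
    have h2 : 2 ∣ q := hq ▸ dvd_pow_self 2 hn
    rw [Nat.prime_two.dvd_mul]
    rintro (hd | hd)
    · have h4 : 2 ∣ q ^ 2 := dvd_pow h2 two_ne_zero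
      have : 1 ≤ q ^ 2 := Nat.one_le_pow _ _ (by rw [hq]; positivity)
      omega
    · have h8 : 2 ∣ q ^ 3 := dvd_pow h2 three_ne_zero
      omega
  let θ : ↥(P : Subgroup (Cfsg.SU 3 F q)) ≃* R := P.equiv (hRp.toSylow hidx)
  refine ⟨fun x => φ' (θ x).1, fun x => ι' (θ x).1, fun x y => ?_, fun w => ?_, fun x => ?_,
    fun x y hx hy => ?_, fun x y hx hy h => ?_, fun x hx => ?_, fun x y hx => ?_⟩
  · simp only [map_mul]; exact (hmul _ (θ x).2 _ (θ y).2).1
  · obtain ⟨s, hs⟩ := exists_root hF (norm_fixed hF w)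
    obtain ⟨A, hA, e1, -⟩ := hmk w s hs
    exact ⟨θ.symm ⟨A, hA⟩, by simp only [MulEquiv.apply_symm_apply]; exact e1⟩
  · simp only [map_mul]
    refine (hmul _ (θ x).2 _ (θ x).2).2.trans ?_
    rw [CharTwo.add_self_eq_zero, zero_sub, CharTwo.neg_eq, ← pow_succ']
  · simp only [map_mul]
    refine (hmul _ (θ x).2 _ (θ y).2).2.trans ?_
    rw [show φ' (θ y).1 = 0 from hy, zero_mul, sub_zero]
  · exact θ.injective (Subtype.ext (hext _ (θ x).2 _ (θ y).2 (hx.trans hy.symm) h))
  · obtain ⟨a, s, -, -, -, h2, -, h3⟩ := hform _ (θ x).2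
    rw [show φ' (θ x).1 = 0 from hx, zero_pow (Nat.succ_ne_zero q), add_zero] at h3
    show ι' _ ^ q = ι' _
    rw [h2]; exact (CharTwo.add_eq_zero.1 h3).symm
  · apply θ.injective
    rw [map_mul, map_mul]
    apply Subtype.ext
    apply hext _ (mul_mem (θ x).2 (θ y).2) _ (mul_mem (θ y).2 (θ x).2)
    · rw [(hmul _ (θ x).2 _ (θ y).2).1, (hmul _ (θ y).2 _ (θ x).2).1, add_comm]
    · rw [(hmul _ (θ x).2 _ (θ y).2).2, (hmul _ (θ y).2 _ (θ x).2).2, show φ' (θ x).1 = 0 from hx,
        zero_pow (q_ne_zero hF), mul_zero, zero_mul, add_comm]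

end CfsgLib.Invol.U3Center
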