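import Cfsg.Agent.Invol.Dihedral
import Cfsg.Agent.Blocks.Section
import Cfsg.Agent.Blocks.BlockSize
import Cfsg.Agent.Blocks.Congr
import Cfsg.Agent.Char.Kernel
import Cfsg.Prelude.Def_Local
import Mathlib.LinearAlgebra.Matrix.ToLinearEquiv
import Mathlib.GroupTheory.PGroup

/-!
# A central weakly closed 2-subgroup and the involutions of a coset

If `W` is weakly closed in `T` and central, it is strongly closed, products of a conjugate of an
involution of `W` with an involution of `W t` lie in sections of such involutions, and principal block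
orthogonality on these sections contradicts simplicity.
-/

set_option autoImplicit false
set_option linter.unusedSectionVars false
set_option linter.style.haveILetI false

namespace CfsgLib.WeakCoset

open Finset CfsgLib.Block CfsgLib.Block.Chr CfsgLib.Char
open scoped ComplexConjugate

universe u

variable {G : Type u} [Group G] [Finite G] (T : Sylow 2 G) (W : Subgroup G)

/-- `W` is central and weakly closed in `T`. -/
structure Setup : Prop where
  le : W ≤ (T : Subgroup G)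
  cent : ∀ a ∈ W, ∀ b ∈ (T : Subgroup G), a * b = b * a
  closed : ∀ h : G, (∀ a ∈ W, h * a * h⁻¹ ∈ (T : Subgroup G)) → ∀ a ∈ W, h * a * h⁻¹ ∈ W

variable {T W}

theorem exists_conj_le {P : Subgroup G} (hP : IsPGroup 2 P) :
    ∃ h : G, ∀ a ∈ P, h * a * h⁻¹ ∈ (T : Subgroup G) := by
  haveI : Fact (Nat.Prime 2) := ⟨Nat.prime_two⟩
  obtain ⟨Q, hQ⟩ := hP.exists_le_sylow
  obtain ⟨h, hh⟩ := MulAction.exists_smul_eq G Q T
  refine ⟨h, fun a ha => ?_⟩
  rw [← hh, Sylow.coe_subgroup_smul]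
  exact Subgroup.smul_mem_pointwise_smul a _ _ (hQ ha)

variable (hS : Setup T W)
include hS

/-- An element of a centralizer conjugate by a single element into `W`, once inside a 2-subgroup with `W`. -/
theorem exists_fuse {y : G} (hyW : ∀ a ∈ W, a * y = y * a) {g : G}
    (hg : ∀ a ∈ W, (g * a * g⁻¹) * y = y * (g * a * g⁻¹)) :
    ∃ c : G, c * y = y * c ∧ ∀ a ∈ W, (c * g) * a * (c * g)⁻¹ ∈ W := by
  haveI : Fact (Nat.Prime 2) := ⟨Nat.prime_two⟩
  have h2 : IsPGroup 2 W := T.2.to_le hS.le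
  set C := Subgroup.centralizer ({y} : Set G)
  have hWC : W ≤ C := fun a ha => Subgroup.mem_centralizer_singleton_iff.2 (hyW a ha)
  set W' : Subgroup G := W.map (MulAut.conj g).toMonoidHom
  have hW'C : W' ≤ C := by
    rintro _ ⟨a, ha, rfl⟩
    exact Subgroup.mem_centralizer_singleton_iff.2 (hg a ha)
  obtain ⟨P, hP⟩ := (h2.comap_of_injective C.subtype C.subtype_injective).exists_le_sylow
  obtain ⟨Q, hQ⟩ := ((h2.map (MulAut.conj g).toMonoidHom).comap_of_injective C.subtype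
    C.subtype_injective).exists_le_sylow
  obtain ⟨c, hc⟩ := MulAction.exists_smul_eq C Q P
  obtain ⟨h, hh⟩ := exists_conj_le (T := T) (P.2.map C.subtype)
  refine ⟨c, Subgroup.mem_centralizer_singleton_iff.1 c.2, ?_⟩
  have hW : ∀ a ∈ W, h * a * h⁻¹ ∈ W :=
    hS.closed h fun a ha => hh a ⟨⟨a, hWC ha⟩, hP (show (⟨a, hWC ha⟩ : C) ∈ W.comap C.subtype from ha), rfl⟩
  have hWg : ∀ a ∈ W, (h * (c * g)) * a * (h * (c * g))⁻¹ ∈ W :=
    hS.closed _ fun a ha => by
      have hm : (⟨g * a * g⁻¹, hW'C ⟨a, ha, rfl⟩⟩ : C) ∈ W'.comap C.subtype := ⟨a, ha, rfl⟩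
      have hm2 : c * ⟨g * a * g⁻¹, hW'C ⟨a, ha, rfl⟩⟩ * c⁻¹ ∈ (P : Subgroup C) := by
        rw [← hc, Sylow.coe_subgroup_smul]
        exact Subgroup.smul_mem_pointwise_smul _ _ _ (hQ hm)
      have := hh _ ⟨_, hm2, rfl⟩
      simpa [mul_assoc] using this
  intro a ha
  let f : W → W := fun w => ⟨h * w * h⁻¹, hW _ w.2⟩
  have hf : Function.Injective f := fun w w' e => Subtype.ext (by simpa [f] using e)
  obtain ⟨w, hw⟩ := Finite.injective_iff_surjective.1 hf ⟨_, hWg a ha⟩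
  have e : h * (w : G) * h⁻¹ = (h * (c * g)) * a * (h * (c * g))⁻¹ := congrArg Subtype.val hw
  have : (c : G) * g * a * ((c : G) * g)⁻¹ = w := by
    rw [show (h * ((c : G) * g)) * a * (h * ((c : G) * g))⁻¹ = h * ((c : G) * g * a * ((c : G) * g)⁻¹) * h⁻¹
      by group] at e
    exact (mul_left_cancel (mul_right_cancel e)).symm
  exact this ▸ w.2

theorem strongly_closed {a g : G} (ha : a ∈ W) (hg : g * a * g⁻¹ ∈ (T : Subgroup G)) : g * a * g⁻¹ ∈ W := by
  set b := g * a * g⁻¹ with hb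
  obtain ⟨c, hc, hcW⟩ := exists_fuse hS (y := b) (fun w hw => hS.cent w hw b hg) (g := g) fun w hw => by
    have : w * a = a * w := hS.cent w hw a (hS.le ha)
    rw [hb, show g * w * g⁻¹ * (g * a * g⁻¹) = g * (w * a) * g⁻¹ by group, this]; group
  have := hcW a ha
  rwa [show c * g * a * (c * g)⁻¹ = c * b * c⁻¹ by rw [hb]; group, hc, mul_inv_cancel_right] at this

/-- A conjugate of an element of `W` centralizes every 2-subgroup containing it. -/
theorem commute_of_mem {P : Subgroup G} (hP : IsPGroup 2 P) {w g : G} (hw : w ∈ W)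
    (ha : g * w * g⁻¹ ∈ P) {b : G} (hb : b ∈ P) : g * w * g⁻¹ * b = b * (g * w * g⁻¹) := by
  obtain ⟨h, hh⟩ := exists_conj_le (T := T) hP
  have h1 : (h * g) * w * (h * g)⁻¹ ∈ (T : Subgroup G) := by
    rw [show (h * g) * w * (h * g)⁻¹ = h * (g * w * g⁻¹) * h⁻¹ by group]; exact hh _ ha
  have h2 := hS.cent _ (strongly_closed hS hw h1) _ (hh b hb)
  calc g * w * g⁻¹ * b = h⁻¹ * ((h * g) * w * (h * g)⁻¹ * (h * b * h⁻¹)) * h := by group
    _ = b * (g * w * g⁻¹) := by rw [h2]; group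

variable {t : G} (ht2 : orderOf t = 2) (htT : t ∈ (T : Subgroup G)) (htW : t ∉ W)
  (hcos : ∀ w ∈ W, orderOf (w * t) = 2 →
    W.subgroupOf (Subgroup.centralizer ({w * t} : Set G)) ≤
      Cfsg.pPrimePCore 2 ↥(Subgroup.centralizer ({w * t} : Set G)))

/-- The involutions of the coset `W t`. -/
def cosetInv (W : Subgroup G) (t : G) : Set G := {x | orderOf x = 2 ∧ ∃ w ∈ W, w * t = x}

include htT htW in
theorem mem_T {x : G} (hx : x ∈ cosetInv W t) : x ∈ (T : Subgroup G) ∧ x ∉ W := by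
  obtain ⟨-, w, hw, rfl⟩ := hx
  exact ⟨mul_mem (hS.le hw) htT, fun h => htW (by simpa using mul_mem (inv_mem hw) h)⟩

include htT htW hcos in
/-- The product with a conjugate of an involution of `W` lies in the section of an involution of the coset. -/
theorem exists_section {w₀ : G} (hw₀ : w₀ ∈ W) (ho : orderOf w₀ = 2) {x : G} (hx : x ∈ cosetInv W t) (g : G) :
    ∃ x' ∈ cosetInv W t, ∃ c : G, ∃ r ∈ Cfsg.centralizerPPrimeCore 2 x',
      c * (g * w₀ * g⁻¹ * x) * c⁻¹ = x' * r := by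
  haveI : Fact (Nat.Prime 2) := ⟨Nat.prime_two⟩
  obtain ⟨hxT, hxW⟩ := mem_T hS htT htW hx
  obtain ⟨a, hadef⟩ : ∃ a, a = g * w₀ * g⁻¹ := ⟨_, rfl⟩
  rw [← hadef]
  have ha : orderOf a = 2 := by rw [hadef, Invol.orderOf_conj_eq, ho]
  have haa : a * a = 1 := Invol.mul_self_eq_one ha
  have hxx : x * x = 1 := Invol.mul_self_eq_one hx.1
  have hnc : ¬ IsConj a x := fun h => by
    obtain ⟨k, hk⟩ := isConj_iff.1 h
    have e : (k * g) * w₀ * (k * g)⁻¹ = x := by rw [← hk, hadef]; group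
    exact hxW (e ▸ strongly_closed hS hw₀ (e.symm ▸ hxT))
  obtain ⟨ρ, hρ⟩ : ∃ ρ, ρ = a * x := ⟨_, rfl⟩
  rw [← hρ]
  have hev : ¬ Odd (orderOf ρ) := fun h => hnc (Invol.isConj_of_odd ha hx.1 (hρ ▸ h))
  obtain ⟨m, hm⟩ := Nat.not_odd_iff_even.1 hev
  have hai : a * ρ * a⁻¹ = ρ⁻¹ := by
    rw [hρ, mul_inv_rev, ← mul_assoc, haa, one_mul, Invol.inv_eq_self ha, Invol.inv_eq_self hx.1]
  have hak : ∀ j : ℕ, a * ρ ^ j * a⁻¹ = (ρ ^ j)⁻¹ := fun j => by rw [← conj_pow, hai, inv_pow]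
  have hm0 : m ≠ 0 := fun h => by
    have := (isOfFinOrder_of_finite ρ).orderOf_pos
    omega
  have hz2 : ρ ^ m * ρ ^ m = 1 := by rw [← pow_add, ← hm, pow_orderOf_eq_one]
  have hza : Commute (ρ ^ m) a := by
    have := hak m
    rw [inv_eq_of_mul_eq_one_right hz2, mul_inv_eq_iff_eq_mul] at this
    exact this.symm
  have hmodd : Odd m := by
    by_contra h
    obtain ⟨k, hk⟩ := Nat.not_odd_iff_even.1 h
    set c := ρ ^ k with hc
    have hcm : c * c = ρ ^ m := by rw [hc, ← pow_add, ← hk]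
    have hA : IsPGroup 2 (Subgroup.zpowers a) := IsPGroup.of_card (n := 1) (by rw [Nat.card_zpowers, ha]; rfl)
    have hC : IsPGroup 2 (Subgroup.zpowers c) := by
      obtain ⟨j, -, hj⟩ := (Nat.dvd_prime_pow Nat.prime_two).1
        (orderOf_dvd_of_pow_eq_one (x := c) (n := 2 ^ 2) (by
          rw [show (2 : ℕ) ^ 2 = 2 + 2 from rfl, pow_add, pow_two, hcm, hz2]))
      exact IsPGroup.of_card (n := j) (by rw [Nat.card_zpowers, hj])
    have hN : Subgroup.zpowers a ≤ Subgroup.normalizer ((Subgroup.zpowers c : Subgroup G) : Set G) := by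
      rw [Subgroup.zpowers_le, Subgroup.mem_normalizer_iff]
      have hmap : ∀ v ∈ Subgroup.zpowers c, a * v * a⁻¹ ∈ Subgroup.zpowers c := by
        rintro v ⟨i, rfl⟩
        exact ⟨-i, by simp only; rw [← conj_zpow, hak k, inv_zpow, zpow_neg]⟩
      intro v
      refine ⟨hmap v, fun hv => ?_⟩
      have := hmap _ hv
      rwa [Invol.inv_eq_self ha, show a * (a * v * a) * a = (a * a) * v * (a * a) by group, haa, one_mul,
        mul_one] at this
    have hP : IsPGroup 2 (Subgroup.zpowers a ⊔ Subgroup.zpowers c : Subgroup G) :=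
      hA.to_sup_of_normal_right' hC hN
    have hcomm := commute_of_mem hS hP (w := w₀) (g := g) hw₀
      (hadef ▸ le_sup_left (b := Subgroup.zpowers c) (Subgroup.mem_zpowers a))
      (le_sup_right (a := Subgroup.zpowers a) (Subgroup.mem_zpowers c))
    rw [← hadef] at hcomm
    have hcc : c * c = 1 := by
      have h1 := hak k
      rw [show a * c = c * a from hcomm, mul_inv_cancel_right] at h1
      nth_rewrite 1 [h1]
      exact inv_mul_cancel c
    rw [hcm] at hcc
    have := Nat.le_of_dvd (by omega) (orderOf_dvd_of_pow_eq_one hcc)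
    omega
  obtain ⟨k, hk⟩ := hmodd
  obtain ⟨z, hzdef⟩ : ∃ z, z = ρ ^ m := ⟨_, rfl⟩
  rw [← hzdef] at hz2 hza
  have hzρ : Commute z ρ := hzdef ▸ (Commute.refl ρ).pow_left m
  have hzx : z * x = ρ ^ k * a * (ρ ^ k)⁻¹ := by
    have h1 : x = ρ⁻¹ * a := by
      rw [hρ, mul_inv_rev, Invol.inv_eq_self ha, mul_assoc, haa, mul_one, Invol.inv_eq_self hx.1]
    have h2 : a * (ρ ^ k)⁻¹ = ρ ^ k * a := by
      have h3 := hak k
      rw [mul_inv_eq_iff_eq_mul] at h3
      calc a * (ρ ^ k)⁻¹ = a * ((ρ ^ k)⁻¹ * a) * a := by simp [mul_assoc, haa]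
        _ = a * (a * ρ ^ k) * a := by rw [h3]
        _ = ρ ^ k * a := by rw [← mul_assoc a a, haa, one_mul]
    rw [mul_assoc, h2, h1, ← mul_assoc, ← mul_assoc, hzdef, hk, ← pow_add, pow_succ, mul_inv_cancel_right,
      two_mul]
  have hzxc : Commute z x := by
    have e : x = a * ρ := by rw [hρ, ← mul_assoc, haa, one_mul]
    rw [e]; exact hza.mul_right hzρ
  have hyW : ∀ b ∈ W, b * x = x * b := fun b hb => hS.cent b hb x hxT
  -- conjugate the element `z * x` of `C(x)` into `W`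
  have hzxC : (z * x) * x = x * (z * x) := by rw [← mul_assoc x z, ← hzxc.eq]
  obtain ⟨h', hh'⟩ : ∃ h : G, (∀ b ∈ W, h * b * h⁻¹ ∈ W) ∧ ∃ c : G, c * x = x * c ∧
      h * (c * (z * x) * c⁻¹) * h⁻¹ ∈ (T : Subgroup G) := by
    set C := Subgroup.centralizer ({x} : Set G)
    have hWC : W ≤ C := fun b hb => Subgroup.mem_centralizer_singleton_iff.2 (hyW b hb)
    obtain ⟨P, hP⟩ := ((T.2.to_le hS.le).comap_of_injective C.subtype C.subtype_injective).exists_le_sylow
    set zx : C := ⟨z * x, Subgroup.mem_centralizer_singleton_iff.2 hzxC⟩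
    have hzx2 : orderOf zx = 2 := by
      rw [← Subgroup.orderOf_coe]
      show orderOf (z * x) = 2
      rw [hzx, Invol.orderOf_conj_eq, ha]
    obtain ⟨Q, hQ⟩ := (IsPGroup.of_card (n := 1) (p := 2) (G := Subgroup.zpowers zx)
      (by rw [Nat.card_zpowers, hzx2]; rfl)).exists_le_sylow
    obtain ⟨c, hc⟩ := MulAction.exists_smul_eq C Q P
    obtain ⟨h, hh⟩ := exists_conj_le (T := T) (P.2.map C.subtype)
    refine ⟨h, hS.closed h fun b hb => hh b ⟨⟨b, hWC hb⟩, hP (show (⟨b, hWC hb⟩ : C) ∈ W.comap C.subtype from hb), rfl⟩, c,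
      Subgroup.mem_centralizer_singleton_iff.1 c.2, ?_⟩
    have hm2 : c * zx * c⁻¹ ∈ (P : Subgroup C) := by
      rw [← hc, Sylow.coe_subgroup_smul]
      exact Subgroup.smul_mem_pointwise_smul _ _ _ (hQ (Subgroup.mem_zpowers zx))
    simpa using hh _ ⟨_, hm2, rfl⟩
  obtain ⟨hhW, c, hc, hhT⟩ := hh'
  obtain ⟨u, hu⟩ : ∃ u, u = c * (z * x) * c⁻¹ := ⟨_, rfl⟩
  rw [← hu] at hhT
  have huW : u ∈ W := by
    have h1 : h' * u * h'⁻¹ ∈ W := by
      have e : h' * u * h'⁻¹ = (h' * c * ρ ^ k * g) * w₀ * (h' * c * ρ ^ k * g)⁻¹ := by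
        rw [hu, hzx, hadef]; group
      rw [e] at hhT ⊢
      exact strongly_closed hS hw₀ hhT
    let f : W → W := fun w => ⟨h' * w * h'⁻¹, hhW _ w.2⟩
    have hf : Function.Injective f := fun w w' e => Subtype.ext (by simpa [f] using e)
    obtain ⟨w, hw⟩ := Finite.injective_iff_surjective.1 hf ⟨_, h1⟩
    have e : h' * (w : G) * h'⁻¹ = h' * u * h'⁻¹ := congrArg Subtype.val hw
    exact (mul_left_cancel (mul_right_cancel e) : (w : G) = u) ▸ w.2
  obtain ⟨x', hx'⟩ : ∃ x', x' = c * z * c⁻¹ := ⟨_, rfl⟩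
  have hcx : c * x * c⁻¹ = x := by rw [hc, mul_inv_cancel_right]
  have hux : u = x' * x := by
    rw [hu, hx', ← show c * z * c⁻¹ * (c * x * c⁻¹) = c * (z * x) * c⁻¹ by group, hcx]
  have hzo : orderOf z = 2 := Invol.orderOf_eq_two hz2 fun h1 => by
    have := Nat.le_of_dvd (by omega) (orderOf_dvd_of_pow_eq_one (hzdef ▸ h1 : ρ ^ m = 1))
    omega
  have hx'S : x' ∈ cosetInv W t := by
    refine ⟨by rw [hx', Invol.orderOf_conj_eq, hzo], ?_⟩
    obtain ⟨-, v, hv, rfl⟩ := hx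
    refine ⟨u * v, mul_mem huW hv, ?_⟩
    rw [mul_assoc, hux, mul_assoc, hxx, mul_one]
  obtain ⟨-, v', hv', hv't⟩ := id hx'S
  obtain ⟨a', ha'⟩ : ∃ a', a' = c * a * c⁻¹ := ⟨_, rfl⟩
  obtain ⟨ρ', hρ'⟩ : ∃ ρ', ρ' = c * ρ * c⁻¹ := ⟨_, rfl⟩
  have hρ'x' : Commute ρ' x' := by rw [hρ', hx']; exact (hzρ.symm.map (MulAut.conj c))
  have hρa : ρ' = a' * x := by
    rw [hρ', hρ, ha', ← show c * a * c⁻¹ * (c * x * c⁻¹) = c * (a * x) * c⁻¹ by group, hcx]
  have ha'x' : a' * x' = x' * a' := by rw [ha', hx']; exact (hza.symm.map (MulAut.conj c)).eq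
  refine ⟨x', hx'S, c, x' * ρ', ?_, ?_⟩
  swap
  · rw [← hρ']
    rw [← mul_assoc, Invol.mul_self_eq_one hx'S.1, one_mul]
  set C' := Subgroup.centralizer ({x'} : Set G)
  have hr : x' * ρ' = a' * u := by rw [hρa, hux, ← mul_assoc, ← mul_assoc, ha'x']
  have hodd : Odd (orderOf (x' * ρ')) := by
    refine Odd.of_dvd_nat ⟨k, hk⟩ (orderOf_dvd_of_pow_eq_one ?_)
    rw [show x' * ρ' = c * (z * ρ) * c⁻¹ by rw [hx', hρ']; group, conj_pow, hzρ.mul_pow, hk, pow_succ, pow_mul,
      pow_two, hz2, one_pow, one_mul, ← hk, ← hzdef, hz2, mul_one, mul_inv_cancel]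
  have huC : u ∈ C' := by
    refine Subgroup.mem_centralizer_singleton_iff.2 ?_
    exact hS.cent u huW x' (mem_T hS htT htW hx'S).1
  have haC : a' ∈ C' := Subgroup.mem_centralizer_singleton_iff.2 ha'x'
  have hρC : ρ' ∈ C' := Subgroup.mem_centralizer_singleton_iff.2 hρ'x'.eq
  have hWR : (⟨u, huC⟩ : C') ∈ Cfsg.pPrimePCore 2 ↥C' := by
    have hord : orderOf (v' * t) = 2 := by rw [hv't]; exact hx'S.1
    have := hcos v' hv' hord
    rw [hv't] at this
    exact this (show u ∈ W from huW)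
  haveI hRn : (Cfsg.pPrimePCore 2 ↥C').Normal := by
    haveI := CfsgLib.Solvable.pPrimeCore_normal (G := ↥C') 2
    haveI := CfsgLib.Solvable.pCore_normal (G := ↥C' ⧸ Cfsg.pPrimeCore 2 ↥C') 2
    exact Subgroup.Normal.comap inferInstance _
  have haR : (⟨a', haC⟩ : C') ∈ Cfsg.pPrimePCore 2 ↥C' := by
    have := hRn.conj_mem _ hWR ((⟨ρ', hρC⟩ : C') ^ k)⁻¹
    refine (congrArg (· ∈ Cfsg.pPrimePCore 2 ↥C') (Subtype.ext ?_)).mp this
    push_cast
    show (ρ' ^ k)⁻¹ * u * ((ρ' ^ k)⁻¹)⁻¹ = a'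
    rw [hu, hzx, hρ', conj_pow, ha']
    group
  have hrR : (⟨a', haC⟩ : C') * ⟨u, huC⟩ ∈ Cfsg.pPrimePCore 2 ↥C' := mul_mem haR hWR
  refine ⟨⟨a', haC⟩ * ⟨u, huC⟩, ?_, hr.symm⟩
  set s : C' := ⟨a', haC⟩ * ⟨u, huC⟩ with hsdef
  have hso : Odd (orderOf s) := by
    rw [← Subgroup.orderOf_coe]
    show Odd (orderOf (a' * u))
    rwa [← hr]
  haveI := CfsgLib.Solvable.pPrimeCore_normal (G := ↥C') 2
  rw [SetLike.mem_coe, ← QuotientGroup.eq_one_iff (N := Cfsg.pPrimeCore 2 ↥C'), ← orderOf_eq_one_iff]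
  obtain ⟨n, hn⟩ := (CfsgLib.Solvable.isPGroup_pCore 2 (G := ↥C' ⧸ Cfsg.pPrimeCore 2 ↥C')) ⟨_, hrR⟩
  have h1 : orderOf (s : ↥C' ⧸ Cfsg.pPrimeCore 2 ↥C') ∣ 2 ^ n :=
    orderOf_dvd_of_pow_eq_one (congrArg Subtype.val hn)
  exact Nat.eq_one_of_dvd_coprimes ((Nat.coprime_two_left.2 hso).pow_left n) h1
    (orderOf_map_dvd (QuotientGroup.mk' _) s)

include ht2 htT htW hcos in
/-- The group is not simple. -/
theorem not_isSimpleGroup (hW1 : W ≠ ⊥) : ¬ IsSimpleGroup G := by
  classical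
  intro hsimple
  haveI := Fintype.ofFinite G
  haveI : Fact (Nat.Prime 2) := ⟨Nat.prime_two⟩
  letI := irrFintype (G := G)
  obtain ⟨w₀, hw₀, ho⟩ : ∃ w₀ ∈ W, orderOf w₀ = 2 := by
    haveI : Nontrivial W := W.nontrivial_iff_ne_bot.2 hW1
    obtain ⟨n, hn⟩ := IsPGroup.iff_card.1 (T.2.to_le hS.le)
    have hn0 : n ≠ 0 := fun h => by
      have := Finite.one_lt_card (α := W)
      rw [hn, h, pow_zero] at this
      omega
    obtain ⟨w, hw⟩ := exists_prime_orderOf_dvd_card' (G := W) 2 (hn ▸ dvd_pow_self 2 hn0)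
    exact ⟨w, w.2, by rwa [Subgroup.orderOf_coe]⟩
  obtain ⟨M, hM⟩ := exists_isPModular Nat.prime_two
  haveI := hM.2.1.isPrime
  set B := univ.filter (· ∈ Cfsg.principalBlock M G) with hB
  -- representatives of the classes meeting the coset
  let pick : ConjClasses G → G := fun K =>
    if h : ∃ x ∈ cosetInv W t, ConjClasses.mk x = K then h.choose else t
  let R : Finset G := (univ.filter (· ∈ cosetInv W t)).image (fun x => pick (ConjClasses.mk x))
  have hpick : ∀ x ∈ cosetInv W t, pick (ConjClasses.mk x) ∈ cosetInv W t ∧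
      IsConj (pick (ConjClasses.mk x)) x := fun x hx => by
    have h : ∃ y ∈ cosetInv W t, ConjClasses.mk y = ConjClasses.mk x := ⟨x, hx, rfl⟩
    simp only [pick, dif_pos h]
    exact ⟨h.choose_spec.1, ConjClasses.mk_eq_mk_iff_isConj.1 h.choose_spec.2⟩
  have hRS : ∀ x ∈ R, x ∈ cosetInv W t := fun x hx => by
    obtain ⟨y, hy, rfl⟩ := mem_image.1 hx
    exact (hpick y (mem_filter.1 hy).2).1
  have hRsep : ∀ x ∈ R, ∀ y ∈ R, IsConj x y → x = y := fun x hx y hy h => by
    obtain ⟨a, ha, rfl⟩ := mem_image.1 hx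
    obtain ⟨b, hb, rfl⟩ := mem_image.1 hy
    rw [ConjClasses.mk_eq_mk_iff_isConj.2 (((hpick a (mem_filter.1 ha).2).2.symm.trans h).trans
      (hpick b (mem_filter.1 hb).2).2)]
  have hRcard : R.card ≤ Nat.card W := by
    refine le_trans Finset.card_image_le ?_
    rw [Nat.card_eq_fintype_card]
    refine le_trans (card_le_card (t := (univ : Finset W).image fun w : W => (w : G) * t) fun x hx => ?_)
      Finset.card_image_le
    obtain ⟨-, w, hw, rfl⟩ := (mem_filter.1 hx).2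
    exact mem_image.2 ⟨⟨w, hw⟩, mem_univ _, rfl⟩
  have hRne : R.Nonempty := ⟨_, mem_image.2 ⟨t, mem_filter.2 ⟨mem_univ _, ht2, 1, one_mem W, one_mul t⟩, rfl⟩⟩
  haveI : Nonempty R := hRne.to_subtype
  -- the value of a product, up to the section
  have key : ∀ (g : G) (x : R), ∃ j : R, ∀ χ ∈ B,
      (χ : G → ℂ) (g * w₀ * g⁻¹ * x) = (χ : G → ℂ) (j : G) := by
    intro g x
    obtain ⟨x', hx', c, r, hr, he⟩ := exists_section hS htT htW hcos hw₀ ho (hRS x x.2) g
    refine ⟨⟨pick (ConjClasses.mk x'), mem_image.2 ⟨x', mem_filter.2 ⟨mem_univ _, hx'⟩, rfl⟩⟩, fun χ hχ => ?_⟩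
    rw [← isClassFunction_irr χ (g * w₀ * g⁻¹ * x) c, he,
      principal_apply_mul_core hM (show orderOf x' = 2 ^ 1 by rw [hx'.1]; rfl) hr (mem_filter.1 hχ).2]
    obtain ⟨d, hd⟩ := isConj_iff.1 (hpick x' hx').2.symm
    exact (isClassFunction_irr χ x' d).symm.trans (congrArg (χ : G → ℂ) hd)
  choose φ hφ using key
  let Q : Matrix R R ℂ := fun x j => ((univ.filter fun g : G => φ g x = j).card : ℂ) / Fintype.card G
  have hG0 : (Fintype.card G : ℂ) ≠ 0 := Nat.cast_ne_zero.2 Fintype.card_ne_zero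
  have hQv : ∀ χ ∈ B, ∀ x : R,
      ∑ j : R, Q x j * (χ : G → ℂ) (j : G) = (∑ g : G, (χ : G → ℂ) (g * w₀ * g⁻¹ * x)) / Fintype.card G := by
    intro χ hχ x
    simp only [Q, div_mul_eq_mul_div, ← Finset.sum_div]
    congr 1
    rw [Finset.sum_congr rfl fun g _ => hφ g x χ hχ, ← Finset.sum_fiberwise univ (fun g => φ g x)]
    refine Finset.sum_congr rfl fun j _ => ?_
    rw [Finset.sum_congr rfl fun g hg => by rw [(mem_filter.1 hg).2], Finset.sum_const, nsmul_eq_mul]
  have havg : ∀ (χ : Cfsg.IrrCharacter G) (x : G),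
      (∑ g : G, (χ : G → ℂ) (g * w₀ * g⁻¹ * x)) * (χ : G → ℂ) 1 =
        (Fintype.card G : ℂ) * (χ : G → ℂ) w₀ * (χ : G → ℂ) x := by
    intro χ x
    have hcl : Cfsg.IsClassFunction G (fun h : G => ((univ.filter fun g : G => g * w₀ * g⁻¹ = h).card : ℂ)) := by
      intro h v
      show ((univ.filter fun g : G => g * w₀ * g⁻¹ = v * h * v⁻¹).card : ℂ) = _
      congr 1
      refine Finset.card_bij (fun g _ => v⁻¹ * g) (fun g hg => mem_filter.2 ⟨mem_univ _, ?_⟩)
        (fun _ _ _ _ e => mul_left_cancel e) fun g hg => ⟨v * g, mem_filter.2 ⟨mem_univ _, ?_⟩, by group⟩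
      · rw [show v⁻¹ * g * w₀ * (v⁻¹ * g)⁻¹ = v⁻¹ * (g * w₀ * g⁻¹) * v by group, (mem_filter.1 hg).2]; group
      · rw [show v * g * w₀ * (v * g)⁻¹ = v * (g * w₀ * g⁻¹) * v⁻¹ by group, (mem_filter.1 hg).2]
    have hfib : ∀ f : G → ℂ, ∑ h : G, ((univ.filter fun g : G => g * w₀ * g⁻¹ = h).card : ℂ) * f h =
        ∑ g : G, f (g * w₀ * g⁻¹) := fun f => by
      rw [← Finset.sum_fiberwise univ (fun g : G => g * w₀ * g⁻¹) fun g => f (g * w₀ * g⁻¹)]
      refine Finset.sum_congr rfl fun h _ => ?_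
      rw [Finset.sum_congr rfl fun g hg => by rw [(mem_filter.1 hg).2], Finset.sum_const, nsmul_eq_mul]
    have h := class_mul χ hcl (fun k => if k = x then 1 else 0)
    simp only [mul_ite, mul_one, mul_zero, ite_mul, zero_mul, Finset.sum_ite_eq', mem_univ, if_true,
      one_mul] at h
    rw [hfib fun h => (χ : G → ℂ) (h * x), hfib fun h => (χ : G → ℂ) h,
      Finset.sum_congr rfl fun g _ => isClassFunction_irr χ w₀ g, Finset.sum_const, card_univ,
      nsmul_eq_mul] at h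
    exact h
  -- a left fixed vector
  obtain ⟨π, hπ0, hπ⟩ : ∃ π : R → ℂ, π ≠ 0 ∧ Matrix.vecMul π (Q - 1) = 0 := by
    refine Matrix.exists_vecMul_eq_zero_iff.2 (Matrix.exists_mulVec_eq_zero_iff.1 ⟨fun _ => 1, ?_, ?_⟩)
    · intro h
      exact one_ne_zero (congrFun h (Classical.arbitrary R))
    · funext x
      have h := hQv (oneIrr G) (mem_filter.2 ⟨mem_univ _, oneIrr_mem_principalBlock⟩) x
      simp only [oneIrr_coe, mul_one, Finset.sum_const, card_univ, nsmul_eq_mul] at h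
      rw [Matrix.sub_mulVec, Matrix.one_mulVec]
      simp only [Pi.sub_apply, Pi.zero_apply, Matrix.mulVec, dotProduct, mul_one]
      rw [h, div_self hG0, sub_self]
  have hvanish : ∀ χ ∈ B, χ ≠ oneIrr G → ∑ j : R, π j * (χ : G → ℂ) (j : G) = 0 := by
    intro χ hχ hne
    set lam := (χ : G → ℂ) w₀ / (χ : G → ℂ) 1 with hlam
    have h1 : ∀ x : R, ∑ j : R, Q x j * (χ : G → ℂ) (j : G) = lam * (χ : G → ℂ) (x : G) := by
      intro x
      rw [hQv χ hχ x, hlam]
      have := havg χ (x : G)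
      have h10 := irr_one_ne_zero χ
      field_simp
      linear_combination this
    have hlam1 : lam ≠ 1 := by
      intro h
      rw [hlam, div_eq_one_iff_eq (irr_one_ne_zero χ)] at h
      have hc := isCharacter_irr χ
      rcases (kerSubgroup_normal hc).eq_bot_or_eq_top with hb | htop
      · have := (mem_kerSubgroup hc w₀).2 h
        rw [hb, Subgroup.mem_bot] at this
        rw [this, orderOf_one] at ho
        omega
      · refine hne (Subtype.ext (funext fun g => ?_))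
        have hconst : ∀ g : G, (χ : G → ℂ) g = (χ : G → ℂ) 1 := fun g =>
          (mem_kerSubgroup hc g).1 (htop ▸ Subgroup.mem_top g)
        by_contra hg
        have horth := classInner_irr χ (oneIrr G)
        rw [if_neg hne, Cfsg.classInner] at horth
        simp only [oneIrr_coe, hconst, map_one, mul_one, Finset.sum_const, card_univ, nsmul_eq_mul,
          Nat.card_eq_fintype_card] at horth
        have h10 := irr_one_ne_zero χ
        field_simp at horth
        exact h10 horth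
    have h2 : ∑ x : R, π x * (∑ j : R, Q x j * (χ : G → ℂ) (j : G)) = ∑ j : R, π j * (χ : G → ℂ) (j : G) := by
      simp only [Finset.mul_sum]
      rw [Finset.sum_comm]
      refine Finset.sum_congr rfl fun j _ => ?_
      have := congrFun hπ j
      rw [Matrix.vecMul_sub, Matrix.vecMul_one, Pi.sub_apply, Pi.zero_apply, sub_eq_zero] at this
      simp only [Matrix.vecMul, dotProduct] at this
      rw [← this, Finset.sum_mul]
      exact Finset.sum_congr rfl fun x _ => by ring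
    simp only [h1, mul_left_comm _ lam, ← Finset.mul_sum] at h2
    have : (lam - 1) * ∑ j : R, π j * (χ : G → ℂ) (j : G) = 0 := by rw [sub_mul, h2, one_mul, sub_self]
    exact (mul_eq_zero.1 this).resolve_left (sub_ne_zero.2 hlam1)
  -- the norms of the columns
  have hc : ∀ j : R, ∃ c : ℕ, R.card < c ∧
      ∑ χ ∈ B, (χ : G → ℂ) (j : G) * conj ((χ : G → ℂ) (j : G)) = (c : ℂ) := by
    intro j
    obtain ⟨hjT, hjW⟩ := mem_T hS htT htW (hRS j j.2)
    set C := Subgroup.centralizer ({(j : G)} : Set G)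
    haveI : Fintype C := Fintype.ofFinite _
    letI := irrFintype (G := C)
    have hsum := principal_section_kernel hM (show orderOf (j : G) = 2 ^ 1 by rw [(hRS j j.2).1]; rfl)
      (1 : C) 1 (by rw [orderOf_one]; norm_num) (by rw [orderOf_one]; norm_num)
    rw [OneMemClass.coe_one, mul_one] at hsum
    refine ⟨∑ᶠ χ ∈ Cfsg.principalBlock M C, Cfsg.charDegree (χ : C → ℂ) ^ 2, ?_, ?_⟩
    swap
    · rw [hsum, finsum_set_eq, Nat.cast_sum]
      exact Finset.sum_congr rfl fun χ _ => by rw [(irr_one χ).1, map_natCast, Nat.cast_pow, sq]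
    have hfac := sum_degree_sq_factorization hM (isPBlock_principalBlock (M := M) (G := C))
    set n := ∑ᶠ χ ∈ Cfsg.principalBlock M C, Cfsg.charDegree (χ : C → ℂ) ^ 2
    have hn : n ≠ 0 := by
      intro h0
      simp only [n, finsum_set_eq, Finset.sum_eq_zero_iff] at h0
      have := h0 (oneIrr C) (mem_filter.2 ⟨mem_univ _, oneIrr_mem_principalBlock⟩)
      have h10 := irr_one_ne_zero (oneIrr C)
      rw [(irr_one (oneIrr C)).1, Nat.cast_ne_zero] at h10
      exact h10 (eq_zero_of_pow_eq_zero this)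
    let P : Subgroup G := W ⊔ Subgroup.zpowers (j : G)
    have hPT : P ≤ (T : Subgroup G) := sup_le hS.le (Subgroup.zpowers_le.2 hjT)
    have hPC : P ≤ C := sup_le (fun a ha => Subgroup.mem_centralizer_singleton_iff.2 (hS.cent a ha _ hjT))
      (Subgroup.zpowers_le.2 (Subgroup.mem_centralizer_singleton_iff.2 rfl))
    obtain ⟨e, he⟩ := IsPGroup.iff_card.1 (T.2.to_le hPT)
    have hlt : Nat.card W < 2 ^ e := by
      rw [← he]
      refine lt_of_le_of_ne (Subgroup.card_le_of_le le_sup_left) fun h => hjW ?_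
      rw [Subgroup.eq_of_le_of_card_ge (le_sup_left : W ≤ P) h.ge]
      exact le_sup_right (a := W) (Subgroup.mem_zpowers (j : G))
    have hdvd : 2 ^ e ∣ n := by
      refine (Nat.prime_two.pow_dvd_iff_le_factorization hn).2 ?_
      have h1 : e ≤ (Nat.card C).factorization 2 :=
        (Nat.prime_two.pow_dvd_iff_le_factorization Nat.card_pos.ne').1 (he ▸ Subgroup.card_dvd_of_le hPC)
      have h2 : Cfsg.blockDefect 2 (Cfsg.principalBlock M C) ≤ (Nat.card C).factorization 2 := Nat.sub_le _ _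
      omega
    exact lt_of_le_of_lt hRcard (lt_of_lt_of_le hlt (Nat.le_of_dvd (Nat.pos_of_ne_zero hn) hdvd))
  choose c hclt hc' using hc
  have horth : ∀ i j : R, i ≠ j → ∑ χ ∈ B, (χ : G → ℂ) (i : G) * conj ((χ : G → ℂ) (j : G)) = 0 := by
    intro i j hij
    refine block_orth hM (isIntClass_blockCoeff (isPBlock_principalBlock (M := M) (G := G))) (x := (i : G))
      (y := (j : G)) ⟨1, mul_one _, Commute.one_right _, ⟨1, (hRS i i.2).1⟩, by rw [orderOf_one]; norm_num⟩
      ⟨1, mul_one _, Commute.one_right _, ⟨1, (hRS j j.2).1⟩, by rw [orderOf_one]; norm_num⟩ ?_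
    exact fun h => hij (Subtype.ext (hRsep i i.2 j j.2 h))
  have h1 : ∑ χ ∈ B, (∑ i : R, π i * (χ : G → ℂ) (i : G)) * conj (∑ i : R, π i * (χ : G → ℂ) (i : G)) =
      ∑ i : R, (π i * conj (π i)) * (c i : ℂ) := by
    simp only [map_sum, map_mul, Finset.sum_mul_sum]
    rw [Finset.sum_comm]
    refine Finset.sum_congr rfl fun i _ => ?_
    rw [Finset.sum_comm, Finset.sum_eq_single i]
    · rw [← hc' i, Finset.mul_sum]
      exact Finset.sum_congr rfl fun χ _ => by ring
    · intro j _ hji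
      calc _ = π i * conj (π j) * ∑ χ ∈ B, (χ : G → ℂ) (i : G) * conj ((χ : G → ℂ) (j : G)) := by
            rw [Finset.mul_sum]; exact Finset.sum_congr rfl fun χ _ => by ring
        _ = 0 := by rw [horth i j (Ne.symm hji), mul_zero]
    · simp
  rw [Finset.sum_eq_single (oneIrr G) (fun χ hχ hne => by rw [hvanish χ hχ hne, zero_mul])
    (fun h => absurd (mem_filter.2 ⟨mem_univ _, oneIrr_mem_principalBlock⟩) h)] at h1
  simp only [oneIrr_coe, mul_one, Complex.mul_conj] at h1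
  have h2 : Complex.normSq (∑ i : R, π i) = ∑ i : R, Complex.normSq (π i) * (c i : ℝ) := by
    exact_mod_cast h1
  have h3 : Complex.normSq (∑ i : R, π i) ≤ (R.card : ℝ) * ∑ i : R, Complex.normSq (π i) := by
    simp only [Complex.normSq_eq_norm_sq]
    calc ‖∑ i : R, π i‖ ^ 2 ≤ (∑ i : R, ‖π i‖) ^ 2 := pow_le_pow_left₀ (norm_nonneg _) (norm_sum_le _ _) 2
      _ ≤ _ := by
        have := sq_sum_le_card_mul_sum_sq (s := (univ : Finset R)) (f := fun i => ‖π i‖)
        rwa [card_univ, Fintype.card_coe] at this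
  obtain ⟨i₀, hi₀⟩ := Function.ne_iff.1 hπ0
  have h4 : (R.card : ℝ) * ∑ i : R, Complex.normSq (π i) < ∑ i : R, Complex.normSq (π i) * (c i : ℝ) := by
    rw [Finset.mul_sum]
    refine Finset.sum_lt_sum (fun i _ => ?_) ⟨i₀, mem_univ _, ?_⟩
    · rw [mul_comm]
      exact mul_le_mul_of_nonneg_left (Nat.cast_le.2 (hclt i).le) (Complex.normSq_nonneg _)
    · rw [mul_comm]
      exact mul_lt_mul_of_pos_left (Nat.cast_lt.2 (hclt i₀)) (Complex.normSq_pos.2 hi₀)
  linarith

end CfsgLib.WeakCoset
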