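import Cfsg.Agent.Invol.WreathedLocal
import Cfsg.Agent.Invol.CentricFusion
import Cfsg.Agent.Invol.QDFusionCases
import Cfsg.Agent.Invol.SylowKernel
import Cfsg.Agent.Invol.CentralWeak

/-!
# The four fusion patterns of a wreathed Sylow 2-subgroup
-/

set_option autoImplicit false

namespace CfsgLib.Wreath.Data

open Subgroup
open scoped commutatorElement

variable {G : Type*} [Group G] [Finite G] {S : Sylow 2 G} (D : CfsgLib.Wreath.Data (S : Subgroup G))

/-- Reflections, in `G`. -/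
def gref (i j : ℤ) : G := ((D.e i j * D.t : (S : Subgroup G)) : G)

theorem gref_mem (i j : ℤ) : D.gref i j ∈ (S : Subgroup G) := (D.e i j * D.t).2

theorem S_le_normalizer_gbase : (S : Subgroup G) ≤ normalizer (D.gbase : Set G) := by
  haveI := Subgroup.normal_of_index_eq_two D.index_base
  intro s hs
  refine mem_normalizer_iff_map_conj_eq.2 (Subgroup.eq_of_le_of_card_ge ?_ ?_)
  · rintro _ ⟨_, ⟨u, hu, rfl⟩, rfl⟩
    exact ⟨_, Normal.conj_mem inferInstance u hu ⟨s, hs⟩, rfl⟩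
  · exact (card_map_of_injective (f := (MulAut.conj s).toMonoidHom) (MulAut.conj s).injective).ge

section Model

variable {X : Subgroup (S : Subgroup G)} (hb : ∀ i j : ℤ, D.e i j ∈ X ↔ D.h ∣ i - j)
  {a : ℤ} (hr : D.e a (-a) * D.t ∈ X)

/-- `|N(U) : C(U)| = 2`: a central element of `S` is fused only to itself. -/
theorem center_invariant
    (hb : ∀ i j : ℤ, D.e i j ∈ X ↔ D.h ∣ i - j) (hr : D.e a (-a) * D.t ∈ X)
    (h2U : (centralizer (D.gbase : Set G)).relIndex (normalizer (D.gbase : Set G)) = 2)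
    {w g : G} (hw : w ∈ D.gcenter) (hg : g * w * g⁻¹ ∈ (S : Subgroup G)) : g * w * g⁻¹ = w := by
  classical
  let F : G → Option G := fun u => if u ∈ D.gcenter then some u else none
  have hfix : ∀ (x u : G), (∀ v ∈ D.gcenter, x * v * x⁻¹ = v) → (∀ v ∈ D.gcenter, x⁻¹ * v * x⁻¹⁻¹ = v) →
      F (x * u * x⁻¹) = F u := by
    intro x u h1 h2
    show (if _ then _ else _) = (if _ then _ else _)
    by_cases hu : u ∈ D.gcenter
    · rw [h1 u hu]
    · have h3 : x * u * x⁻¹ ∉ D.gcenter := fun h => hu (by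
        have h4 := h2 _ h
        rw [show x⁻¹ * (x * u * x⁻¹) * x⁻¹⁻¹ = u by group] at h4
        rwa [h4])
      rw [if_neg hu, if_neg h3]
  have hS : ∀ s ∈ (S : Subgroup G), ∀ u ∈ (S : Subgroup G), F (s * u * s⁻¹) = F u := fun s hs u _ =>
    hfix s u (fun v hv => D.gcenter_comm hv hs) fun v hv => D.gcenter_comm hv (inv_mem hs)
  have h1 := D.fusion_invariant hb hr F hS
    (fun x hx u hu => by
      obtain ⟨s, hs, h⟩ := D.base_inner h2U hx
      rw [h u hu]
      exact hS s hs u (D.gbase_le hu))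
    (fun x hx u _ => hfix x u (fun v hv => D.model_fix_center hb hr hx hv)
      fun v hv => D.model_fix_center hb hr (inv_mem hx) hv) (D.gcenter_le hw) hg
  simp only [F, if_pos hw] at h1
  split_ifs at h1
  exact Option.some.inj h1

/-- `|N(V) : V C(V)| = 2`: the base is invariant under fusion. -/
theorem base_invariant
    (hb : ∀ i j : ℤ, D.e i j ∈ X ↔ D.h ∣ i - j) (hr : D.e a (-a) * D.t ∈ X)
    (h2V : (X.map (S : Subgroup G).subtype ⊔ centralizer (X.map (S : Subgroup G).subtype : Set G)).relIndex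
        (normalizer (X.map (S : Subgroup G).subtype : Set G)) = 2)
    {u g : G} (hu : u ∈ (S : Subgroup G)) (hg : g * u * g⁻¹ ∈ (S : Subgroup G)) :
    g * u * g⁻¹ ∈ D.gbase ↔ u ∈ D.gbase := by
  have hN : ∀ x ∈ normalizer (D.gbase : Set G), ∀ v, (x * v * x⁻¹ ∈ D.gbase) = (v ∈ D.gbase) :=
    fun x hx v => propext (mem_normalizer_iff.1 hx v).symm
  have hS : ∀ s ∈ (S : Subgroup G), ∀ v ∈ (S : Subgroup G), (s * v * s⁻¹ ∈ D.gbase) = (v ∈ D.gbase) :=
    fun s hs v _ => hN s (D.S_le_normalizer_gbase hs) v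
  refine Eq.to_iff (D.fusion_invariant hb hr (fun v => v ∈ D.gbase) hS (fun x hx v _ => hN x hx v)
    (fun x hx v hv => ?_) hu hg)
  obtain ⟨s, hs, h⟩ := D.model_inner hb hr h2V hx
  show (x * v * x⁻¹ ∈ D.gbase) = _
  rw [h v hv]
  exact hS s hs v (map_subtype_le _ hv)

/-- A non-central square root of the central involution lies in the quaternion subgroup. -/
theorem quat_of_sq {w : (S : Subgroup G)} (hw : w * w = D.e D.h D.h) (hnc : w ∉ center (S : Subgroup G)) :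
    w ∈ D.quat := by
  rcases D.cases w with ⟨i, j, rfl⟩ | ⟨i, j, rfl⟩
  · rw [D.e_mul, D.e_eq_iff] at hw
    obtain ⟨⟨c, hc⟩, ⟨d, hd⟩⟩ := hw
    have hN : D.N = 4 * (D.q : ℤ) := rfl
    have hh : D.h = 2 * (D.q : ℤ) := rfl
    rcases Int.even_or_odd (c - d) with ⟨m, hm⟩ | ⟨m, hm⟩
    · refine absurd (D.mem_center_iff'.2 ⟨m, ?_⟩) hnc
      have e1 : i - j = 2 * (D.q : ℤ) * (c - d) := by
        rw [hN, hh] at hc hd
        linarith
      rw [e1, hm, hN]; ring
    · refine ⟨i, j, Or.inl ⟨rfl, d + m + 1, ?_⟩⟩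
      have e1 : i + j = 2 * (D.q : ℤ) * (1 + (c + d)) := by
        rw [hN, hh] at hc hd
        linarith
      rw [e1, show c + d = 2 * m + 1 + 2 * d by linarith, hN]; ring
  · rw [D.refl_sq, D.e_eq_iff] at hw
    exact ⟨i, j, Or.inr ⟨rfl, hw.1⟩⟩

include hb hr in
/-- The normalizer of the model preserves cosets of the quaternion subgroup. -/
theorem quat_coset_model {A : Type*} [Group A] (φ : (S : Subgroup G) →* A) (hφ : ∀ w ∈ D.quat, φ w = 1)
    {x : G} (hx : x ∈ normalizer (X.map (S : Subgroup G).subtype : Set G)) {v : (S : Subgroup G)} (hv : v ∈ X)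
    (h : x * v * x⁻¹ ∈ (S : Subgroup G)) : φ ⟨_, h⟩ = φ v := by
  have hXS : ∀ w : X, x * ((w : (S : Subgroup G)) : G) * x⁻¹ ∈ (S : Subgroup G) := fun w =>
    map_subtype_le _ ((mem_normalizer_iff.1 hx _).1 ⟨_, w.2, rfl⟩)
  let ψ : X →* A := MonoidHom.mk' (fun w => φ ⟨_, hXS w⟩) fun w w' => by
    rw [← map_mul]; congr 1; exact Subtype.ext (by push_cast; group)
  have hψ : ∀ w : X, ψ w = φ ⟨_, hXS w⟩ := fun w => rfl
  suffices hs : ∀ w : X, ψ w = φ (w : (S : Subgroup G)) from hs ⟨v, hv⟩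
  have hN : D.N = 4 * (D.q : ℤ) := rfl
  have hh : D.h = 2 * (D.q : ℤ) := rfl
  have hcen : ∀ c : ℤ, ψ ⟨_, D.diag_mem_model hb c⟩ = φ (D.e c c) := fun c => by
    rw [hψ]
    congr 1
    exact Subtype.ext (D.model_fix_center hb hr hx (D.mem_gcenter.2 ⟨c, rfl⟩))
  -- elements of order four of the quaternion subgroup inside `X`
  have hquat : ∀ w : X, (w : (S : Subgroup G)) * w = D.e D.h D.h → (w : (S : Subgroup G)) ∉ center (S : Subgroup G) →
      ψ w = φ (w : (S : Subgroup G)) := by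
    intro w hw hwc
    rw [hψ, hφ _ (D.quat_of_sq hw hwc), hφ]
    refine D.quat_of_sq (Subtype.ext ?_) fun hc => hwc ?_
    · have h1 : x * ((w : (S : Subgroup G)) : G) * x⁻¹ * (x * ((w : (S : Subgroup G)) : G) * x⁻¹) =
          x * (((w : (S : Subgroup G)) * w : (S : Subgroup G)) : G) * x⁻¹ := by push_cast; group
      refine h1.trans ?_
      rw [hw]
      exact D.model_fix_center hb hr hx D.z_mem_gcenter
    · have h2 := D.model_fix_center hb hr (inv_mem hx) (⟨_, hc, rfl⟩ : _ ∈ D.gcenter)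
      simp only [coe_subtype] at h2
      rw [show x⁻¹ * (x * ((w : (S : Subgroup G)) : G) * x⁻¹) * x⁻¹⁻¹ = ((w : (S : Subgroup G)) : G) by group] at h2
      obtain ⟨c, hc', e⟩ : ((w : (S : Subgroup G)) : G) ∈ D.gcenter := by rw [h2]; exact ⟨_, hc, rfl⟩
      exact (Subtype.ext e : c = (w : (S : Subgroup G))) ▸ hc'
  have hq' : ¬ D.N ∣ 2 * (D.q : ℤ) := fun h => D.not_dvd_h (hh ▸ h)
  -- the two basic involutions
  have hf : ψ ⟨_, (hb D.h 0).2 (by simp)⟩ = φ (D.e D.h 0) := by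
    have hg : D.e (D.q : ℤ) (-(D.q : ℤ)) ∈ X := (hb _ _).2 ⟨1, by rw [hh]; ring⟩
    have he : (⟨_, (hb D.h 0).2 (by simp)⟩ : X) = ⟨_, hg⟩ * ⟨_, D.diag_mem_model hb (D.q : ℤ)⟩ :=
      Subtype.ext (show D.e D.h 0 = D.e _ _ * D.e _ _ by
        rw [D.e_mul, show (D.q : ℤ) + D.q = D.h by rw [hh]; ring, neg_add_cancel])
    rw [he, map_mul, hcen, hquat, ← map_mul]
    · congr 1
      rw [D.e_mul, show (D.q : ℤ) + D.q = D.h by rw [hh]; ring, neg_add_cancel]
    · show D.e _ _ * D.e _ _ = _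
      rw [D.e_mul, D.e_eq_iff, hN, hh]
      exact ⟨⟨0, by ring⟩, ⟨-1, by ring⟩⟩
    · intro hc
      exact hq' (by simpa [two_mul] using D.mem_center_iff'.1 hc)
  have hr0 : ψ ⟨_, D.rinv_mem hb hr 0⟩ = φ (D.rinv a 0) := by
    have hrr : D.e (a + D.q) (-a + D.q) * D.t ∈ X := by
      rw [D.refl_mem_model hb hr]
      exact ⟨0, by ring⟩
    have he : (⟨_, D.rinv_mem hb hr 0⟩ : X) = ⟨_, D.diag_mem_model hb (-(D.q : ℤ))⟩ * ⟨_, hrr⟩ :=
      Subtype.ext (show D.rinv a 0 = D.e _ _ * (D.e _ _ * D.t) by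
        rw [rinv, ← mul_assoc, D.e_mul, D.refl_eq_iff]
        exact ⟨⟨0, by ring⟩, ⟨0, by ring⟩⟩)
    rw [he, map_mul, hcen, hquat, ← map_mul]
    · congr 1
      exact (congrArg Subtype.val he).symm
    · show D.e _ _ * D.t * (D.e _ _ * D.t) = _
      rw [D.refl_sq, D.e_eq_iff, hN, hh]
      exact ⟨⟨0, by ring⟩, ⟨0, by ring⟩⟩
    · intro hc
      obtain ⟨c, hc'⟩ := D.center_mem_base hc
      exact D.refl_not_mem (a + D.q) (-a + D.q) ((show D.e (a + D.q) (-a + D.q) * D.t = D.e c c from hc').symm ▸ D.e_mem c c)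
  intro w
  obtain ⟨c, m, l, hw⟩ := D.model_generators hb hr w.2
  have he : w = ⟨_, D.diag_mem_model hb c⟩ * (⟨_, (hb D.h 0).2 (by simp)⟩ : X) ^ m *
      (⟨_, D.rinv_mem hb hr 0⟩ : X) ^ l := Subtype.ext (by push_cast; exact hw)
  rw [he, map_mul, map_mul, map_zpow, map_zpow, hcen, hf, hr0]
  push_cast
  rw [map_mul, map_mul, map_zpow, map_zpow]

/-- `|N(U) : C(U)| = 2`: the cosets of the quaternion subgroup are invariant under fusion. -/
theorem quat_invariant
    (hb : ∀ i j : ℤ, D.e i j ∈ X ↔ D.h ∣ i - j) (hr : D.e a (-a) * D.t ∈ X)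
    (h2U : (centralizer (D.gbase : Set G)).relIndex (normalizer (D.gbase : Set G)) = 2)
    {A : Type*} [CommGroup A] (φ : (S : Subgroup G) →* A) (hφ : ∀ w ∈ D.quat, φ w = 1)
    (u : (S : Subgroup G)) (g : G) (hg : g * u * g⁻¹ ∈ (S : Subgroup G)) : φ ⟨_, hg⟩ = φ u := by
  classical
  let F : G → A := fun v => if hv : v ∈ (S : Subgroup G) then φ ⟨v, hv⟩ else 1
  have hF : ∀ v (hv : v ∈ (S : Subgroup G)), F v = φ ⟨v, hv⟩ := fun v hv => dif_pos hv
  have hS : ∀ s ∈ (S : Subgroup G), ∀ v ∈ (S : Subgroup G), F (s * v * s⁻¹) = F v := fun s hs v hv => by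
    rw [hF _ (mul_mem (mul_mem hs hv) (inv_mem hs)), hF _ hv,
      show (⟨s * v * s⁻¹, mul_mem (mul_mem hs hv) (inv_mem hs)⟩ : (S : Subgroup G)) =
        ⟨s, hs⟩ * ⟨v, hv⟩ * (⟨s, hs⟩ : (S : Subgroup G))⁻¹ from rfl, map_mul, map_mul, map_inv,
      mul_inv_cancel_comm]
  have h1 := D.fusion_invariant hb hr F hS
    (fun x hx v hv => by
      obtain ⟨s, hs, h⟩ := D.base_inner h2U hx
      rw [h v hv]
      exact hS s hs v (D.gbase_le hv))
    (fun x hx v hv => by
      obtain ⟨w, hw, rfl⟩ := hv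
      have h2 : x * (w : G) * x⁻¹ ∈ (S : Subgroup G) :=
        map_subtype_le _ ((mem_normalizer_iff.1 hx _).1 ⟨w, hw, rfl⟩)
      show F (x * (w : G) * x⁻¹) = F (w : G)
      rw [hF _ h2, hF _ w.2]
      exact D.quat_coset_model hb hr φ hφ hx hw h2) u.2 hg
  rwa [hF _ hg, hF _ u.2] at h1

/-! ### The classes of involutions -/

theorem refl_invol_conj {i j k l : ℤ} (h : D.N ∣ (i + j) - (k + l)) : IsConj (D.gref i j) (D.gref k l) :=
  isConj_iff.2 ⟨(D.e (k - i) 0 : G), congrArg Subtype.val (D.refl_isConj h)⟩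

/-- An involution of `G` is conjugate to the central involution, a basic one, or a reflection. -/
theorem invol_conj_cases {u : G} (hu : orderOf u = 2) :
    IsConj u (D.ge D.h D.h) ∨ IsConj u (D.ge D.h 0) ∨ IsConj u (D.gref 0 0) := by
  haveI : Fact (Nat.Prime 2) := ⟨Nat.prime_two⟩
  obtain ⟨x, hx⟩ := CentralWeak.exists_conj_sylow S (H := zpowers u)
    (IsPGroup.of_card (n := 1) (by rw [Nat.card_zpowers, hu, pow_one]))
  have hxu := hx u (mem_zpowers u)
  have hc : IsConj u (x * u * x⁻¹) := isConj_iff.2 ⟨x, rfl⟩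
  have ho : orderOf (⟨_, hxu⟩ : (S : Subgroup G)) = 2 := by
    rw [Subgroup.orderOf_mk, CfsgLib.Invol.orderOf_conj_eq, hu]
  have hne : (⟨_, hxu⟩ : (S : Subgroup G)) ≠ 1 := fun h => by rw [h, orderOf_one] at ho; omega
  rcases D.cases ⟨_, hxu⟩ with ⟨i, j, e⟩ | ⟨i, j, e⟩
  · have hsq : D.e i j * D.e i j = 1 := by rw [← e]; exact CfsgLib.Invol.mul_self_eq_one ho
    rcases D.base_invol_cases hsq with e' | e' | e' | e' <;>
      have e'' : x * u * x⁻¹ = _ := congrArg Subtype.val (e.trans e')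
    · exact absurd (e.trans e') hne
    · exact Or.inr (Or.inl (hc.trans (by rw [e'']; rfl)))
    · refine Or.inr (Or.inl (hc.trans (isConj_iff.2 ⟨(D.t : G), ?_⟩)))
      rw [e'']; exact D.t_conj_ge 0 D.h
    · exact Or.inl (hc.trans (by rw [e'']; rfl))
  · right; right
    rw [e] at ho
    have e'' : x * u * x⁻¹ = _ := congrArg Subtype.val e
    refine hc.trans ?_
    rw [e'']
    exact D.refl_invol_conj (by simpa using D.refl_invol_iff.1 ho)

theorem gref_order : orderOf (D.gref 0 0) = 2 := by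
  rw [gref, Subgroup.orderOf_coe, D.refl_invol_iff]; simp

theorem gref_not_gbase : D.gref 0 0 ∉ D.gbase := fun ⟨v, hv, e⟩ =>
  D.refl_not_mem 0 0 ((Subtype.ext e : v = D.e 0 0 * D.t) ▸ hv)

theorem f_ne_z : D.ge D.h 0 ≠ D.ge D.h D.h := fun h => D.not_dvd_h (by simpa using (D.ge_eq_iff.1 h).2)

/-- An element with an odd order lies in a normal subgroup of index a power of two. -/
theorem mem_of_odd_pow {K : Subgroup G} [K.Normal] {c : ℕ} (hK : K.index = 2 ^ c) {g : G}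
    (hg : Odd (orderOf g)) : g ∈ K := by
  rw [← QuotientGroup.eq_one_iff, ← orderOf_eq_one_iff]
  refine Nat.eq_one_of_dvd_coprimes ((Nat.coprime_two_left.2 hg).pow_left c)
    ?_ (orderOf_map_dvd (QuotientGroup.mk' K) g)
  have h := orderOf_dvd_natCard ((QuotientGroup.mk' K) g)
  rw [← Subgroup.index_eq_card, hK] at h
  exact h

theorem parity {K : Subgroup G} [K.Normal] {c : ℕ} (hK : K.index = 2 ^ c) {L : Subgroup K} (hL : L.index = 2)
    {b v v' : G} (hb : Odd (orderOf b)) (hv : v ∈ K) (hv' : v' ∈ K) (h : b * v * b⁻¹ = v') :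
    (⟨v, hv⟩ : K) ∈ L ↔ (⟨v', hv'⟩ : K) ∈ L := by
  haveI : L.Normal := normal_of_index_eq_two hL
  exact CfsgLib.QD.Data.step_mem (b := (⟨b, mem_of_odd_pow hK hb⟩ : K)) (Or.inl (Subtype.ext h))

/-- A subgroup of index two of `K` does not contain `K ⊓ S`. -/
theorem not_inf_le {K : Subgroup G} [K.Normal] {M : Subgroup G} (hM : K ⊓ (S : Subgroup G) = M)
    {L : Subgroup K} (hL : L.index = 2) (hle : ∀ v (hv : v ∈ M), (⟨v, (hM.symm ▸ hv : v ∈ K ⊓ _).1⟩ : K) ∈ L) :
    False := by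
  haveI : Fact (Nat.Prime 2) := ⟨Nat.prime_two⟩
  have h1 : M ≤ L.map K.subtype := fun v hv => ⟨_, hle v hv, rfl⟩
  have h2 := index_dvd_of_le h1
  rw [index_map_subtype, hL] at h2
  have h3 : M.index ∣ K.index * (S : Subgroup G).index := by
    rw [← relIndex_mul_index (show M ≤ (S : Subgroup G) from hM ▸ inf_le_right), ← hM, inf_relIndex_right]
    exact mul_dvd_mul_right (relIndex_dvd_index_of_normal K _) _
  have h4 := h2.trans h3
  rw [mul_comm K.index] at h4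
  have h5 : 2 ∣ (S : Subgroup G).index := Nat.dvd_of_mul_dvd_mul_right (Nat.pos_of_ne_zero K.index_ne_zero_of_finite) h4
  exact S.not_dvd_index h5

/-! ### The cases -/

/-- `|N(V) : V C(V)| = 6`: the reflections fuse to the basic involution. -/
theorem refl_conj_f
    (hb : ∀ i j : ℤ, D.e i j ∈ X ↔ D.h ∣ i - j)
    (hr : D.e a (-a) * D.t ∈ X)
    (hV : (X.map (S : Subgroup G).subtype ⊔ centralizer (X.map (S : Subgroup G).subtype : Set G)).relIndex
      (normalizer (X.map (S : Subgroup G).subtype : Set G)) = 6) :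
    IsConj (D.gref 0 0) (D.ge D.h 0) := by
  have hgr : ∀ i, IsConj (D.gref 0 0) (D.grinv a i) := fun i => D.refl_invol_conj (by simp)
  have hf' : IsConj (D.ge D.h 0 * D.ge D.h D.h) (D.ge D.h 0) := by
    refine isConj_iff.2 ⟨(D.t : G), ?_⟩
    rw [D.ge_mul, D.t_conj_ge, D.ge_eq_iff, CfsgLib.Wreath.Data.h]
    exact ⟨⟨0, by ring⟩, ⟨1, by rw [N]; ring⟩⟩
  obtain ⟨b, -, -, ⟨e, -⟩ | ⟨e, -⟩⟩ := D.model_cycle hb hr hV
  · refine IsConj.trans ?_ (isConj_iff.2 ⟨b, rfl⟩ : IsConj (D.ge D.h 0) _).symm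
    rcases e with e | e <;> rw [e]
    · exact hgr 0
    · rw [show D.grinv a 0 * D.ge D.h D.h = D.grinv a (0 + 2) from congrArg Subtype.val (D.rinv_z a 0)]
      exact hgr _
  · refine (hgr 0).trans ((isConj_iff.2 ⟨b, rfl⟩ : IsConj (D.grinv a 0) _).trans ?_)
    rcases e with e | e <;> rw [e]
    exact hf'

theorem exists_case_six_six
    (hb : ∀ i j : ℤ, D.e i j ∈ X ↔ D.h ∣ i - j) (hr : D.e a (-a) * D.t ∈ X)
    (hU : (centralizer (D.gbase : Set G)).relIndex (normalizer (D.gbase : Set G)) = 6)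
    (hV : (X.map (S : Subgroup G).subtype ⊔ centralizer (X.map (S : Subgroup G).subtype : Set G)).relIndex
        (normalizer (X.map (S : Subgroup G).subtype : Set G)) = 6) :
    (∀ H : Subgroup G, H.index ≠ 2) ∧
      Nat.card {C : ConjClasses G // ∃ t : G, orderOf t = 2 ∧ ConjClasses.mk t = C} = 1 := by
  have hzf : IsConj (D.ge D.h D.h) (D.ge D.h 0) := by
    obtain ⟨b, -, -, ⟨e, -⟩ | ⟨e, -⟩⟩ := D.base_cycle hU
    · exact isConj_iff.2 ⟨b, e⟩
    · exact (isConj_iff.2 ⟨b, e⟩).symm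
  have hft := D.refl_conj_f hb hr hV
  refine ⟨fun H hH => ?_, CfsgLib.QD.Data.card_one_class (a := D.ge D.h D.h) D.z_order fun t ht => ?_⟩
  · haveI := normal_of_index_eq_two hH
    have hconj : ∀ u v : G, IsConj u v → (u ∈ H ↔ v ∈ H) := fun u v h => by
      obtain ⟨c, rfl⟩ := isConj_iff.1 h
      exact (SylowKernel.conj_mem_iff c u).symm
    have hsq : ∀ i j : ℤ, D.ge (i + i) (j + j) ∈ H := fun i j => by
      rw [← D.ge_mul]; exact mul_self_mem_of_index_two hH _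
    have hz : D.ge D.h D.h ∈ H := by
      have hh : D.h = (D.q : ℤ) + D.q := by rw [h]; ring
      rw [hh]; exact hsq _ _
    have hf : D.ge D.h 0 ∈ H := (hconj _ _ hzf).1 hz
    have ht : D.gref 0 0 ∈ H := (hconj _ _ hft).2 hf
    have hanti : ∀ c, D.ge c (-c) ∈ H := fun c => by
      have h1 : D.gref c (-c) ∈ H := (hconj _ _ (D.refl_invol_conj (i := 0) (j := 0) (by simp))).1 ht
      have h2 : D.gref c (-c) = D.ge c (-c) * D.gref 0 0 :=
        congrArg Subtype.val (show D.e c (-c) * D.t = D.e c (-c) * (D.e 0 0 * D.t) by rw [D.e_zero, one_mul])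
      rwa [h2, mul_mem_cancel_right ht] at h1
    have h10 : D.ge 1 0 ∈ H := by
      obtain ⟨b, -, -, ⟨-, i, j, e, hi, hj⟩ | ⟨-, i, j, e, hi, hj⟩⟩ := D.base_cycle hU
      · have h11 : D.ge 1 1 ∈ H := by
          rw [show D.ge 1 1 = D.ge 1 (-1) * D.ge (0 + 0) (1 + 1) by rw [D.ge_mul]; norm_num]
          exact mul_mem (hanti 1) (hsq 0 1)
        have h1 : D.ge i j ∈ H := e ▸ (SylowKernel.conj_mem_iff b _).2 h11
        obtain ⟨m, rfl⟩ : ∃ m, i = 1 + (m + m) := ⟨(i - 1) / 2, by omega⟩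
        obtain ⟨l, rfl⟩ : ∃ l, j = l + l := ⟨j / 2, by omega⟩
        rw [show D.ge (1 + (m + m)) (l + l) = D.ge 1 0 * D.ge (m + m) (l + l) by rw [D.ge_mul, zero_add],
          mul_mem_cancel_right (hsq m l)] at h1
        exact h1
      · obtain ⟨m, rfl⟩ : ∃ m, i = 1 + (m + m) := ⟨(i - 1) / 2, by omega⟩
        obtain ⟨l, rfl⟩ : ∃ l, j = -1 + (l + l) := ⟨(j + 1) / 2, by omega⟩
        refine (SylowKernel.conj_mem_iff b _).1 ?_
        rw [e, ← D.ge_mul]
        exact mul_mem (hanti 1) (hsq m l)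
    have h01 : D.ge 0 1 ∈ H := D.t_conj_ge 1 0 ▸ (SylowKernel.conj_mem_iff _ _).2 h10
    have hbase : ∀ i j, D.ge i j ∈ H := fun i j => by
      rw [show D.ge i j = D.ge 1 0 ^ i * D.ge 0 1 ^ j by rw [D.ge_zpow, D.ge_zpow, D.ge_mul]; simp]
      exact mul_mem (zpow_mem h10 i) (zpow_mem h01 j)
    refine SylowKernel.not_sylow_le S hH fun s hs => ?_
    rcases D.cases ⟨s, hs⟩ with ⟨i, j, e⟩ | ⟨i, j, e⟩
    · have h2 : s = D.ge i j := congrArg Subtype.val e
      exact h2 ▸ hbase i j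
    · have h2 : s = D.ge i j * D.gref 0 0 := by
        refine (congrArg Subtype.val e).trans ?_
        exact congrArg Subtype.val (show D.e i j * D.t = D.e i j * (D.e 0 0 * D.t) by rw [D.e_zero, one_mul])
      exact h2 ▸ mul_mem (hbase i j) ht
  · rcases D.invol_conj_cases ht with h | h | h
    · exact h
    · exact h.trans hzf.symm
    · exact h.trans (hft.trans hzf.symm)

theorem case_two_six
    (hb : ∀ i j : ℤ, D.e i j ∈ X ↔ D.h ∣ i - j) (hr : D.e a (-a) * D.t ∈ X)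
    (hU : (centralizer (D.gbase : Set G)).relIndex (normalizer (D.gbase : Set G)) = 2)
    (hV : (X.map (S : Subgroup G).subtype ⊔ centralizer (X.map (S : Subgroup G).subtype : Set G)).relIndex
        (normalizer (X.map (S : Subgroup G).subtype : Set G)) = 6) :
    (∃ K : Subgroup G, K.Normal ∧ K.index = 2 ^ (D.k + 2) ∧
      (∀ P : Sylow 2 ↥K, ∃ m : ℕ, 1 ≤ m ∧ Nonempty ((P : Subgroup ↥K) ≃* QuaternionGroup (2 ^ m))) ∧
      (∀ H : Subgroup ↥K, H.index ≠ 2)) ∧
    (∀ Z₀ : Subgroup G, Z₀ ≤ D.gcenter → Cfsg.IsWeaklyClosed Z₀ (S : Subgroup G)) ∧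
      Nat.card {C : ConjClasses G // ∃ t : G, orderOf t = 2 ∧ ConjClasses.mk t = C} = 2 := by
  haveI : Fact (Nat.Prime 2) := ⟨Nat.prime_two⟩
  haveI := D.quat_normal
  have hcom : commutator (S : Subgroup G) ≤ D.quat := by
    rw [D.commutator_eq, zpowers_le]
    exact ⟨1, -1, Or.inl ⟨rfl, by simp⟩⟩
  letI : CommGroup ((S : Subgroup G) ⧸ D.quat) :=
    { (inferInstance : Group ((S : Subgroup G) ⧸ D.quat)) with
      mul_comm := by
        rintro ⟨u⟩ ⟨v⟩
        refine QuotientGroup.eq.2 (hcom ?_)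
        rw [show (u * v)⁻¹ * (v * u) = ⁅v⁻¹, u⁻¹⁆ by rw [commutatorElement_def]; group]
        exact commutator_mem_commutator (mem_top _) (mem_top _) }
  set φ := QuotientGroup.mk' D.quat with hφdef
  obtain ⟨K, hKn, hKi, hKS⟩ := CentricFusion.exists_kernel_hom S φ
    (D.quat_invariant hb hr hU φ fun w hw => (QuotientGroup.eq_one_iff w).2 hw)
  haveI := hKn
  rw [QuotientGroup.ker_mk'] at hKi hKS
  have hqi : D.quat.index = 2 ^ (D.k + 2) := by
    have h1 := D.quat.index_mul_card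
    rw [D.quat_iso.1, D.card_eq] at h1
    refine Nat.eq_of_mul_eq_mul_right (show 0 < 2 * (4 * D.q) by have := D.q_pos; omega) (h1.trans ?_)
    rw [D.hq]; ring
  rw [hqi] at hKi
  have hM : K ⊓ (S : Subgroup G) = D.quat.map (S : Subgroup G).subtype := by
    rw [← hKS, subgroupOf_map_subtype]
  refine ⟨⟨K, hKn, hKi, fun P => ?_, fun L hL => ?_⟩, fun Z₀ hZ => ⟨hZ.trans D.gcenter_le, fun g hg => ?_⟩, ?_⟩
  · obtain ⟨e⟩ := CentricFusion.kernel_sylow_equiv S hM P
    obtain ⟨e'⟩ := D.quat_iso.2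
    refine ⟨D.k + 1, by omega, ⟨(e.trans (equivMapOfInjective _ _ (S : Subgroup G).subtype_injective).symm).trans ?_⟩⟩
    rw [show (2 : ℕ) ^ (D.k + 1) = 2 * D.q by rw [D.hq]; ring]
    exact e'
  · haveI : L.Normal := normal_of_index_eq_two hL
    have hK : ∀ {v : (S : Subgroup G)}, v ∈ D.quat → (v : G) ∈ K := fun {v} hv => mem_subgroupOf.1 (hKS ▸ hv)
    have hgm : D.e D.q (-(D.q : ℤ)) ∈ D.quat := ⟨_, _, Or.inl ⟨rfl, by simp⟩⟩
    have hrm : D.e (a + D.q) (-a + D.q) * D.t ∈ D.quat :=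
      ⟨_, _, Or.inr ⟨rfl, ⟨0, by rw [CfsgLib.Wreath.Data.h]; ring⟩⟩⟩
    have hrm' := mul_mem hgm hrm
    have hqeq : D.e D.q (-(D.q : ℤ)) * (D.e (a + D.q) (-a + D.q) * D.t) = D.e (a + D.h) (-a) * D.t := by
      rw [← mul_assoc, D.e_mul, D.refl_eq_iff, CfsgLib.Wreath.Data.h]
      exact ⟨⟨0, by ring⟩, ⟨0, by ring⟩⟩
    -- all three basic elements lie in every subgroup of index two
    have hall : ∀ M : Subgroup K, M.index = 2 → (⟨_, hK hrm⟩ : K) ∈ M ∧ (⟨_, hK hgm⟩ : K) ∈ M := by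
      intro M hM2
      haveI : M.Normal := normal_of_index_eq_two hM2
      have hprod : (⟨_, hK hgm⟩ : K) * ⟨_, hK hrm⟩ = ⟨_, hK hrm'⟩ := Subtype.ext (by push_cast; rfl)
      have hzm : (⟨_, hK (mul_mem hgm hgm)⟩ : K) ∈ M := by
        rw [show (⟨_, hK (mul_mem hgm hgm)⟩ : K) = ⟨_, hK hgm⟩ * ⟨_, hK hgm⟩ from Subtype.ext (by push_cast; rfl)]
        exact mul_self_mem_of_index_two hM2 _
      have hzq : D.e D.q (-(D.q : ℤ)) * D.e D.q (-(D.q : ℤ)) = D.e D.h D.h := by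
        rw [D.e_mul, D.e_eq_iff, CfsgLib.Wreath.Data.h, N]
        exact ⟨⟨0, by ring⟩, ⟨-1, by ring⟩⟩
      -- conjugation images differ at most by the central involution
      have hstep : ∀ {b : G} {v w : (S : Subgroup G)} (hv : v ∈ D.quat) (hw : w ∈ D.quat), Odd (orderOf b) →
          (b * v * b⁻¹ = w ∨ b * v * b⁻¹ = (w : G) * D.ge D.h D.h) →
          ((⟨_, hK hv⟩ : K) ∈ M ↔ (⟨_, hK hw⟩ : K) ∈ M) := by
        intro b v w hv hw hbo h
        rcases h with h | h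
        · exact parity hKi hM2 hbo (hK hv) (hK hw) h
        · have hwz : (w : G) * D.ge D.h D.h = ((w * (D.e D.q (-(D.q : ℤ)) * D.e D.q (-(D.q : ℤ))) : (S : Subgroup G)) : G) := by
            rw [hzq]; rfl
          rw [parity hKi hM2 hbo (hK hv) (hK (mul_mem hw (mul_mem hgm hgm))) (h.trans hwz),
            show (⟨_, hK (mul_mem hw (mul_mem hgm hgm))⟩ : K) = ⟨_, hK hw⟩ * ⟨_, hK (mul_mem hgm hgm)⟩ from
              Subtype.ext (by push_cast; rfl), mul_mem_cancel_right hzm]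
      obtain ⟨b, hbN, hbo, hcase⟩ := D.model_cycle hb hr hV
      have hc : ∀ c : ℤ, b * D.ge c c * b⁻¹ = D.ge c c := fun c =>
        D.model_fix_center hb hr hbN (D.mem_gcenter.2 ⟨c, rfl⟩)
      have hfg : ((D.e D.q (-(D.q : ℤ)) : (S : Subgroup G)) : G) = D.ge D.h 0 * D.ge (-(D.q : ℤ)) (-(D.q : ℤ)) := by
        rw [D.ge_mul]
        refine congrArg Subtype.val (D.e_eq_iff.2 ?_)
        rw [CfsgLib.Wreath.Data.h]
        exact ⟨⟨0, by ring⟩, ⟨0, by ring⟩⟩
      have hrg : ((D.e (a + D.q) (-a + D.q) * D.t : (S : Subgroup G)) : G) = D.grinv a 0 * D.ge D.q D.q := by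
        refine congrArg Subtype.val (show _ = D.rinv a 0 * D.e D.q D.q from ?_)
        rw [rinv, mul_assoc _ D.t, D.t_e, ← mul_assoc, D.e_mul, D.refl_eq_iff]
        exact ⟨⟨0, by ring⟩, ⟨0, by ring⟩⟩
      have hzneg : D.ge (-(D.q : ℤ)) (-(D.q : ℤ)) = D.ge D.q D.q * D.ge D.h D.h := by
        rw [D.ge_mul, D.ge_eq_iff, CfsgLib.Wreath.Data.h, N]
        exact ⟨⟨-1, by ring⟩, ⟨-1, by ring⟩⟩
      have hr'g : ((D.e D.q (-(D.q : ℤ)) * (D.e (a + D.q) (-a + D.q) * D.t) : (S : Subgroup G)) : G) =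
          D.grinv a 1 * D.ge D.q D.q := by
        refine congrArg Subtype.val (show _ = D.rinv a 1 * D.e D.q D.q from ?_)
        rw [hqeq, rinv, mul_assoc _ D.t, D.t_e, ← mul_assoc, D.e_mul, D.refl_eq_iff, CfsgLib.Wreath.Data.h]
        exact ⟨⟨0, by ring⟩, ⟨0, by ring⟩⟩
      have hkey : ((⟨_, hK hgm⟩ : K) ∈ M ↔ (⟨_, hK hrm⟩ : K) ∈ M) ∧ ((⟨_, hK hrm⟩ : K) ∈ M ↔ (⟨_, hK hrm'⟩ : K) ∈ M) ∨
          ((⟨_, hK hrm⟩ : K) ∈ M ↔ (⟨_, hK hgm⟩ : K) ∈ M) ∧ ((⟨_, hK hgm⟩ : K) ∈ M ↔ (⟨_, hK hrm'⟩ : K) ∈ M) := by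
        have hzc : ∀ w : G, w ∈ (S : Subgroup G) → w * D.ge D.h D.h = D.ge D.h D.h * w := fun w hw =>
          mul_inv_eq_iff_eq_mul.1 (D.gcenter_comm D.z_mem_gcenter hw)
        have hqS := D.ge_mem (D.q : ℤ) D.q
        have hsw : ∀ {p : G}, p * D.ge D.h D.h * D.ge D.q D.q = p * D.ge D.q D.q * D.ge D.h D.h := fun {p} => by
          rw [mul_assoc, ← hzc _ hqS, ← mul_assoc]
        rcases hcase with ⟨h1, h2⟩ | ⟨h1, h2⟩
        · refine Or.inl ⟨hstep hgm hrm hbo ?_, hstep hrm hrm' hbo ?_⟩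
          · rw [hfg, ← conj_mul, hc, hrg, hzneg]
            rcases h1 with h1 | h1 <;> rw [h1]
            · exact Or.inr (mul_assoc _ _ _).symm
            · left
              rw [← mul_assoc, hsw, mul_assoc, D.z_sq, mul_one]
          · rw [hrg, ← conj_mul, hc, hr'g]
            rcases h2 with h2 | h2 <;> rw [h2]
            · exact Or.inl rfl
            · exact Or.inr hsw
        · refine Or.inr ⟨hstep hrm hgm hbo ?_, hstep hgm hrm' hbo ?_⟩
          · rw [hrg, ← conj_mul, hc, hfg, hzneg]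
            rcases h1 with h1 | h1 <;> rw [h1]
            · right
              rw [← mul_assoc, mul_assoc _ (D.ge D.h D.h), D.z_sq, mul_one]
            · left
              rw [hsw, ← mul_assoc]
          · rw [hfg, ← conj_mul, hc, hr'g, hzneg]
            rcases h2 with h2 | h2 <;> rw [h2]
            · exact Or.inr (mul_assoc _ _ _).symm
            · left
              rw [← mul_assoc, hsw, mul_assoc, D.z_sq, mul_one]
      have hiff : (⟨_, hK hrm'⟩ : K) ∈ M ↔ ((⟨_, hK hgm⟩ : K) ∈ M ↔ (⟨_, hK hrm⟩ : K) ∈ M) := by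
        rw [← hprod]; exact mul_mem_iff_of_index_two hM2
      tauto
    refine not_inf_le hM hL fun v hv => ?_
    obtain ⟨w, hw, rfl⟩ := hv
    have hrefl : ∀ (i j : ℤ) (hij : D.e i j * D.t ∈ D.quat), (⟨_, hK hij⟩ : K) ∈ L := by
      intro i j hij
      obtain ⟨k, l, ⟨e, h⟩ | ⟨e, h⟩⟩ := id hij
      · exact absurd (e ▸ D.e_mem k l) (D.refl_not_mem i j)
      · obtain ⟨hik, hjl⟩ := D.refl_eq_iff.1 e
        have hN : D.N ∣ (a + D.q + (-a + D.q)) - (i + j) := by
          rw [show (a + (D.q : ℤ) + (-a + D.q)) - (i + j) = -((i - k) + (j - l) + (k + l - D.h)) by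
            rw [CfsgLib.Wreath.Data.h]; ring]
          exact (dvd_add (dvd_add hik hjl) h).neg_right
        have he := congrArg Subtype.val (D.refl_isConj hN)
        convert CfsgLib.QD.Data.all_conj_mem (hK hrm) ((D.e (i - (a + D.q)) 0 : (S : Subgroup G)) : G)
          (fun M hM2 => (hall M hM2).1) L hL using 1
        exact Subtype.ext he.symm
    rcases D.cases w with ⟨i, j, rfl⟩ | ⟨i, j, rfl⟩
    · have hwr := mul_mem hw hrm
      have heq : D.e i j * (D.e (a + D.q) (-a + D.q) * D.t) = D.e (i + (a + D.q)) (j + (-a + D.q)) * D.t := by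
        rw [← mul_assoc, D.e_mul]
      rw [heq] at hwr
      refine (mul_mem_cancel_right (hall L hL).1).1 ?_
      convert hrefl _ _ hwr using 1
      exact Subtype.ext (by push_cast; exact congrArg Subtype.val heq)
    · exact hrefl i j hw
  · refine Subgroup.eq_of_le_of_card_ge ?_ ?_
    · rintro _ ⟨w, hw, rfl⟩
      have h1 : g * w * g⁻¹ = w := D.center_invariant hb hr hU (hZ hw) (hg ⟨w, hw, rfl⟩)
      show g * w * g⁻¹ ∈ Z₀
      rw [h1]; exact hw
    · exact (card_map_of_injective (f := (MulAut.conj g).toMonoidHom) (MulAut.conj g).injective).ge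
  · refine CfsgLib.QD.Data.card_two_classes (a := D.ge D.h D.h) (b := D.ge D.h 0) D.z_order D.f_order
      (fun h => ?_) fun t ht => ?_
    · obtain ⟨c, hc⟩ := isConj_iff.1 h
      have h1 := D.center_invariant hb hr hU (g := c) D.z_mem_gcenter (by rw [hc]; exact D.ge_mem _ _)
      exact D.f_ne_z (hc.symm.trans h1)
    · rcases D.invol_conj_cases ht with h | h | h
      · exact Or.inl h
      · exact Or.inr h
      · exact Or.inr (h.trans (D.refl_conj_f hb hr hV))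

/-- A homomorphism to `ZMod 2` with the base as its kernel. -/
noncomputable def chi (D : CfsgLib.Wreath.Data (S : Subgroup G)) : (S : Subgroup G) →* Multiplicative (ZMod 2) :=
  haveI : DecidablePred (· ∈ D.base) := Classical.decPred _
  MonoidHom.mk' (fun g => if g ∈ D.base then 1 else Multiplicative.ofAdd 1) fun g h => by
    have h1 := mul_mem_iff_of_index_two D.index_base (a := g) (b := h)
    have h2 : (Multiplicative.ofAdd (1 : ZMod 2)) * Multiplicative.ofAdd 1 = 1 := by decide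
    by_cases hg : g ∈ D.base <;> by_cases hh : h ∈ D.base <;> simp_all

theorem chi_eq_one {g : (S : Subgroup G)} : D.chi g = 1 ↔ g ∈ D.base := by
  classical
  have h2 : (Multiplicative.ofAdd (1 : ZMod 2)) ≠ 1 := by decide
  show (if _ then _ else _) = _ ↔ _
  split_ifs with h
  · exact iff_of_true rfl h
  · exact iff_of_false h2 h

theorem chi_invariant
    (hb : ∀ i j : ℤ, D.e i j ∈ X ↔ D.h ∣ i - j) (hr : D.e a (-a) * D.t ∈ X)
    (hV : (X.map (S : Subgroup G).subtype ⊔ centralizer (X.map (S : Subgroup G).subtype : Set G)).relIndex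
        (normalizer (X.map (S : Subgroup G).subtype : Set G)) = 2)
    (u : (S : Subgroup G)) (g : G) (hg : g * u * g⁻¹ ∈ (S : Subgroup G)) : D.chi ⟨_, hg⟩ = D.chi u := by
  classical
  have h := D.base_invariant hb hr hV u.2 hg
  have hiff : ∀ w : (S : Subgroup G), (w : G) ∈ D.gbase ↔ w ∈ D.base := fun w =>
    mem_map_iff_mem (S : Subgroup G).subtype_injective
  rw [hiff u] at h
  have h' : (⟨_, hg⟩ : (S : Subgroup G)) ∈ D.base ↔ u ∈ D.base := (hiff _).symm.trans h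
  show (if _ then _ else _) = (if _ then _ else _)
  by_cases hu : u ∈ D.base
  · rw [if_pos hu, if_pos (h'.2 hu)]
  · rw [if_neg hu, if_neg (mt h'.1 hu)]

theorem case_six_two
    (hb : ∀ i j : ℤ, D.e i j ∈ X ↔ D.h ∣ i - j) (hr : D.e a (-a) * D.t ∈ X)
    (hU : (centralizer (D.gbase : Set G)).relIndex (normalizer (D.gbase : Set G)) = 6)
    (hV : (X.map (S : Subgroup G).subtype ⊔ centralizer (X.map (S : Subgroup G).subtype : Set G)).relIndex
        (normalizer (X.map (S : Subgroup G).subtype : Set G)) = 2) :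
    (∃ K : Subgroup G, K.Normal ∧ K.index = 2 ∧ D.gbase ≤ K ∧ (∀ H : Subgroup ↥K, H.index ≠ 2)) ∧
      Nat.card {C : ConjClasses G // ∃ t : G, orderOf t = 2 ∧ ConjClasses.mk t = C} = 2 := by
  haveI : Fact (Nat.Prime 2) := ⟨Nat.prime_two⟩
  obtain ⟨K, hKn, hKi, hKS⟩ := CentricFusion.exists_kernel_hom S D.chi (D.chi_invariant hb hr hV)
  haveI := hKn
  have hker : D.chi.ker = D.base := Subgroup.ext fun g => MonoidHom.mem_ker.trans D.chi_eq_one
  rw [hker] at hKi hKS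
  rw [D.index_base] at hKi
  have hKi' : K.index = 2 ^ 1 := hKi
  have hM : K ⊓ (S : Subgroup G) = D.gbase := by rw [gbase, ← hKS, subgroupOf_map_subtype]
  have hzf : IsConj (D.ge D.h D.h) (D.ge D.h 0) := by
    obtain ⟨b, -, -, ⟨e, -⟩ | ⟨e, -⟩⟩ := D.base_cycle hU
    · exact isConj_iff.2 ⟨b, e⟩
    · exact (isConj_iff.2 ⟨b, e⟩).symm
  refine ⟨⟨K, hKn, hKi, hM ▸ inf_le_left, fun L hL => ?_⟩, ?_⟩
  · have hK : ∀ i j, D.ge i j ∈ K := fun i j => (hM.symm ▸ D.mem_gbase.2 ⟨i, j, rfl⟩ : D.ge i j ∈ K ⊓ _).1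
    have hmul : ∀ i j k l, (⟨_, hK i j⟩ : K) * ⟨_, hK k l⟩ = ⟨_, hK (i + k) (j + l)⟩ := fun i j k l =>
      Subtype.ext (D.ge_mul i j k l)
    have hsq : ∀ M : Subgroup K, M.index = 2 → ∀ i j, (⟨_, hK (i + i) (j + j)⟩ : K) ∈ M := fun M hM2 i j => by
      rw [← hmul]; exact mul_self_mem_of_index_two hM2 _
    have h01 : ∀ M : Subgroup K, M.index = 2 → (⟨_, hK 0 1⟩ : K) ∈ M := by
      intro M hM2
      haveI : M.Normal := normal_of_index_eq_two hM2
      obtain ⟨b, -, hbo, ⟨-, i, j, e, hi, hj⟩ | ⟨-, i, j, e, hi, hj⟩⟩ := D.base_cycle hU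
      · obtain ⟨m, rfl⟩ : ∃ m, i = 1 + (m + m) := ⟨(i - 1) / 2, by omega⟩
        obtain ⟨l, rfl⟩ : ∃ l, j = 0 + (l + l) := ⟨j / 2, by omega⟩
        have h1 := parity hKi' hM2 hbo (hK 1 1) (hK _ _) e
        rw [← hmul 1 0 (m + m) (l + l), mul_mem_cancel_right (hsq M hM2 m l),
          show (⟨_, hK 1 1⟩ : K) = ⟨_, hK 1 0⟩ * ⟨_, hK 0 1⟩ from Subtype.ext (D.ge_mul 1 0 0 1).symm,
          mul_mem_iff_of_index_two hM2] at h1
        tauto
      · obtain ⟨m, rfl⟩ : ∃ m, i = 1 + (m + m) := ⟨(i - 1) / 2, by omega⟩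
        obtain ⟨l, rfl⟩ : ∃ l, j = 1 + (l + l) := ⟨(j - 1) / 2, by omega⟩
        have h1 := parity hKi' hM2 hbo (hK 1 0) (hK _ _) e
        rw [← hmul 1 1 (m + m) (l + l), mul_mem_cancel_right (hsq M hM2 m l),
          show (⟨_, hK 1 1⟩ : K) = ⟨_, hK 1 0⟩ * ⟨_, hK 0 1⟩ from Subtype.ext (D.ge_mul 1 0 0 1).symm,
          mul_mem_iff_of_index_two hM2] at h1
        tauto
    have h10 : (⟨_, hK 1 0⟩ : K) ∈ L := by
      convert CfsgLib.QD.Data.all_conj_mem (hK 0 1) (D.t : G) h01 L hL using 1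
      exact Subtype.ext (D.t_conj_ge 0 1).symm
    refine not_inf_le hM hL fun v hv => ?_
    obtain ⟨i, j, rfl⟩ := D.mem_gbase.1 hv
    have he : (⟨_, hK i j⟩ : K) = ⟨_, hK 1 0⟩ ^ i * (⟨_, hK 0 1⟩ : K) ^ j := Subtype.ext (by
      push_cast
      rw [D.ge_zpow, D.ge_zpow, D.ge_mul]; simp)
    rw [show (⟨D.ge i j, _⟩ : K) = _ from he]
    exact mul_mem (zpow_mem h10 i) (zpow_mem (h01 L hL) j)
  · refine CfsgLib.QD.Data.card_two_classes (a := D.ge D.h 0) (b := D.gref 0 0) D.f_order D.gref_order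
      (fun h => ?_) fun t ht => ?_
    · obtain ⟨c, hc⟩ := isConj_iff.1 h
      have h1 := (D.base_invariant hb hr hV (g := c) (D.ge_mem _ _) (by rw [hc]; exact D.gref_mem _ _)).2
        (D.mem_gbase.2 ⟨_, _, rfl⟩)
      rw [hc] at h1
      exact D.gref_not_gbase h1
    · rcases D.invol_conj_cases ht with h | h | h
      · exact Or.inl (h.trans hzf)
      · exact Or.inl h
      · exact Or.inr h

theorem case_two_two
    (hb : ∀ i j : ℤ, D.e i j ∈ X ↔ D.h ∣ i - j) (hr : D.e a (-a) * D.t ∈ X)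
    (hU : (centralizer (D.gbase : Set G)).relIndex (normalizer (D.gbase : Set G)) = 2)
    (hV : (X.map (S : Subgroup G).subtype ⊔ centralizer (X.map (S : Subgroup G).subtype : Set G)).relIndex
        (normalizer (X.map (S : Subgroup G).subtype : Set G)) = 2) :
    Cfsg.HasNormalPComplement 2 G ∧
      Nat.card {C : ConjClasses G // ∃ t : G, orderOf t = 2 ∧ ConjClasses.mk t = C} = 3 := by
  haveI : Fact (Nat.Prime 2) := ⟨Nat.prime_two⟩
  haveI := D.quat_normal
  have hcom : commutator (S : Subgroup G) ≤ D.quat := by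
    rw [D.commutator_eq, zpowers_le]
    exact ⟨1, -1, Or.inl ⟨rfl, by simp⟩⟩
  letI : CommGroup ((S : Subgroup G) ⧸ D.quat) :=
    { (inferInstance : Group ((S : Subgroup G) ⧸ D.quat)) with
      mul_comm := by
        rintro ⟨u⟩ ⟨v⟩
        refine QuotientGroup.eq.2 (hcom ?_)
        rw [show (u * v)⁻¹ * (v * u) = ⁅v⁻¹, u⁻¹⁆ by rw [commutatorElement_def]; group]
        exact commutator_mem_commutator (mem_top _) (mem_top _) }
  set ψ := QuotientGroup.mk' D.quat with hψdef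
  have hψ := D.quat_invariant hb hr hU ψ fun w hw => (QuotientGroup.eq_one_iff w).2 hw
  obtain ⟨K, hKn, hKi, hKS⟩ := CentricFusion.exists_kernel_hom S (ψ.prod D.chi) fun u g hg => by
    rw [MonoidHom.prod_apply, MonoidHom.prod_apply, hψ u g hg, D.chi_invariant hb hr hV u g hg]
  haveI := hKn
  have hker : (ψ.prod D.chi).ker = zpowers (D.e 1 (-1)) := by
    ext g
    rw [MonoidHom.mem_ker, MonoidHom.prod_apply, Prod.mk_eq_one, D.chi_eq_one, hψdef, QuotientGroup.mk'_apply,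
      QuotientGroup.eq_one_iff, mem_zpowers_iff]
    constructor
    · rintro ⟨⟨i, j, ⟨rfl, h⟩ | ⟨rfl, -⟩⟩, hbase⟩
      · refine ⟨i, ?_⟩
        rw [D.e_zpow, D.e_eq_iff]
        exact ⟨⟨0, by ring⟩, by rw [show -1 * i - j = -(i + j) by ring]; exact h.neg_right⟩
      · exact absurd hbase (D.refl_not_mem i j)
    · rintro ⟨k, rfl⟩
      rw [D.e_zpow]
      exact ⟨⟨_, _, Or.inl ⟨rfl, by simp⟩⟩, D.e_mem _ _⟩
  obtain ⟨m, hm⟩ := D.isPGroup.index (ψ.prod D.chi).ker
  rw [hker] at hKS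
  refine ⟨CentricFusion.complement_of_cyclic S (M := (zpowers (D.e 1 (-1))).map (S : Subgroup G).subtype)
    (hKi.trans hm) (by rw [← hKS, subgroupOf_map_subtype]) ?_ ?_, ?_⟩
  · exact (equivMapOfInjective _ _ (S : Subgroup G).subtype_injective).isCyclic.1 inferInstance
  · rw [Ne, map_eq_bot_iff_of_injective _ (S : Subgroup G).subtype_injective, zpowers_eq_bot]
    intro h
    have := D.orderOf_antidiag
    rw [h, orderOf_one] at this
    have := D.q_pos
    omega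
  · have hzf : ¬ IsConj (D.ge D.h D.h) (D.ge D.h 0) := fun h => by
      obtain ⟨c, hc⟩ := isConj_iff.1 h
      have h1 := D.center_invariant hb hr hU (g := c) D.z_mem_gcenter (by rw [hc]; exact D.ge_mem _ _)
      exact D.f_ne_z (hc.symm.trans h1)
    have hzt : ¬ IsConj (D.ge D.h D.h) (D.gref 0 0) := fun h => by
      obtain ⟨c, hc⟩ := isConj_iff.1 h
      have h1 := D.center_invariant hb hr hU (g := c) D.z_mem_gcenter (by rw [hc]; exact D.gref_mem _ _)
      exact D.gref_not_gbase (hc.symm.trans h1 ▸ D.mem_gbase.2 ⟨_, _, rfl⟩)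
    have hft : ¬ IsConj (D.ge D.h 0) (D.gref 0 0) := fun h => by
      obtain ⟨c, hc⟩ := isConj_iff.1 h
      have h1 := (D.base_invariant hb hr hV (g := c) (D.ge_mem _ _) (by rw [hc]; exact D.gref_mem _ _)).2
        (D.mem_gbase.2 ⟨_, _, rfl⟩)
      rw [hc] at h1
      exact D.gref_not_gbase h1
    have hset : {C : ConjClasses G | ∃ t : G, orderOf t = 2 ∧ ConjClasses.mk t = C} =
        {ConjClasses.mk (D.ge D.h D.h), ConjClasses.mk (D.ge D.h 0), ConjClasses.mk (D.gref 0 0)} := by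
      ext C
      constructor
      · rintro ⟨t, ht, rfl⟩
        rcases D.invol_conj_cases ht with h | h | h
        · exact Or.inl (ConjClasses.mk_eq_mk_iff_isConj.2 h)
        · exact Or.inr (Or.inl (ConjClasses.mk_eq_mk_iff_isConj.2 h))
        · exact Or.inr (Or.inr (ConjClasses.mk_eq_mk_iff_isConj.2 h))
      · rintro (rfl | rfl | rfl)
        exacts [⟨_, D.z_order, rfl⟩, ⟨_, D.f_order, rfl⟩, ⟨_, D.gref_order, rfl⟩]
    show Nat.card ↥{C : ConjClasses G | ∃ t : G, orderOf t = 2 ∧ ConjClasses.mk t = C} = 3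
    rw [Nat.card_coe_set_eq, hset, Set.ncard_eq_three]
    exact ⟨_, _, _, fun e => hzf (ConjClasses.mk_eq_mk_iff_isConj.1 e), fun e => hzt (ConjClasses.mk_eq_mk_iff_isConj.1 e),
      fun e => hft (ConjClasses.mk_eq_mk_iff_isConj.1 e), rfl⟩

end Model

end CfsgLib.Wreath.Data
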