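import Cfsg.Agent.Invol.WreathedAut
import Cfsg.Agent.Invol.AutomizerSix
import Cfsg.Agent.Invol.CentricFusion

/-!
The local subgroups deciding fusion in a group with a wreathed Sylow 2-subgroup.
-/

set_option autoImplicit false
set_option linter.unusedSectionVars false
set_option linter.deprecated false
set_option linter.style.haveILetI false
set_option linter.style.multiGoal false

namespace CfsgLib.Wreath.Data

open Subgroup

/-! ### Inside the Sylow subgroup -/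

section Inner

variable {S : Type*} [Group S] [Finite S] (D : CfsgLib.Wreath.Data S)

theorem quaternion_shape {Q : Subgroup S} (eQ : Q ≃* QuaternionGroup 2) :
    Q ≤ D.quat ∧ (∀ i j : ℤ, D.e i j ∈ Q → D.h ∣ i - j) ∧
      (∃ c : ℤ, D.e c (-c) ∈ Q ∧ D.N ∣ 2 * c - D.h) ∧
      ∃ a b : ℤ, D.e a b * D.t ∈ Q ∧ D.N ∣ a + b - D.h := by
  have tr : ∀ {P : QuaternionGroup 2 → QuaternionGroup 2 → Prop}, (∀ x y, P x y) → ∀ u v : Q, P (eQ u) (eQ v) :=
    fun h u v => h _ _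
  have c2 : ∀ x y : QuaternionGroup 2, x * x = 1 → x * y = y * x := by decide
  have cc : ∀ x y : QuaternionGroup 2, x * x ≠ 1 → x * y = y * x →
      y = 1 ∨ y = x * x ∨ y = x ∨ y = x * x * x := by decide
  have ci : ∀ x y : QuaternionGroup 2, x * y * x⁻¹ = y ∨ x * y * x⁻¹ = y⁻¹ := by decide
  have cs : ∀ x y : QuaternionGroup 2, x * x ≠ 1 → y * y ≠ 1 → x * x = y * y := by decide
  have c4 : ∀ x : QuaternionGroup 2, x * x * (x * x) = 1 := by decide
  have back : ∀ {u v : Q}, eQ u = eQ v → (u : S) = v := fun h => congrArg Subtype.val (eQ.injective h)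
  have hsq2 : ∀ u ∈ Q, u * u = 1 → ∀ v ∈ Q, u * v = v * u := fun u hu h v hv => by
    have := back (u := ⟨u, hu⟩ * ⟨v, hv⟩) (v := ⟨v, hv⟩ * ⟨u, hu⟩) (by
      rw [map_mul, map_mul]
      exact c2 _ _ (by rw [← map_mul, show (⟨u, hu⟩ : Q) * ⟨u, hu⟩ = 1 from Subtype.ext h, map_one]))
    exact this
  obtain ⟨u₀, v₀, hne⟩ : ∃ u v : Q, u * v ≠ v * u := by
    have : ∃ x y : QuaternionGroup 2, x * y ≠ y * x := by decide
    obtain ⟨x, y, h⟩ := this
    exact ⟨eQ.symm x, eQ.symm y, fun h' => h (by simpa using congrArg eQ h')⟩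
  obtain ⟨a, b, hr⟩ : ∃ a b : ℤ, D.e a b * D.t ∈ Q := by
    by_contra hcon
    push Not at hcon
    have hb : ∀ u : Q, (u : S) ∈ D.base := fun u => by
      rcases D.cases (u : S) with ⟨i, j, h⟩ | ⟨i, j, h⟩
      · exact h ▸ D.e_mem i j
      · exact absurd (h ▸ u.2) (hcon i j)
    exact hne (Subtype.ext (D.base_comm (hb u₀) (hb v₀)))
  set r := D.e a b * D.t with hrdef
  have hr2 : r * r ≠ 1 := by
    intro h
    refine hne (Subtype.ext ?_)
    show (u₀ : S) * v₀ = v₀ * u₀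
    have key : ∀ u : Q, ∃ c ∈ D.base, (c ∈ Q) ∧ ((u : S) = c ∨ (u : S) = c * r) := fun u => by
      rcases D.cases (u : S) with ⟨i, j, e'⟩ | ⟨i, j, e'⟩
      · exact ⟨_, e' ▸ D.e_mem i j, u.2, Or.inl rfl⟩
      · refine ⟨(u : S) * r⁻¹, ?_, mul_mem u.2 (inv_mem hr), Or.inr (by group)⟩
        exact (mul_mem_iff_of_index_two D.index_base).2
          (iff_of_false (e' ▸ D.refl_not_mem i j) (fun h' => D.refl_not_mem a b (inv_mem_iff.1 h')))
    obtain ⟨c, hc, hcQ, hu⟩ := key u₀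
    obtain ⟨d, hd, hdQ, hv⟩ := key v₀
    have hcd : Commute c d := D.base_comm hc hd
    have hcr : Commute c r := (hsq2 r hr h c hcQ).symm
    have hdr : Commute d r := (hsq2 r hr h d hdQ).symm
    show Commute (u₀ : S) (v₀ : S)
    rcases hu with hu | hu <;> rcases hv with hv | hv <;> rw [hu, hv]
    · exact hcd
    · exact hcd.mul_right hcr
    · exact hcd.mul_left hdr.symm
    · exact (hcd.mul_right hcr).mul_left (hdr.symm.mul_right (Commute.refl r))
  have hr4 : r * r * (r * r) = 1 := by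
    have := back (u := (⟨r, hr⟩ : Q) * ⟨r, hr⟩ * (⟨r, hr⟩ * ⟨r, hr⟩)) (v := 1)
      (by rw [map_mul, map_mul, map_one]; exact c4 _)
    exact this
  have hab : D.N ∣ a + b - D.h := by
    rw [hrdef, D.refl_sq] at hr2 hr4
    rw [D.e_mul, D.e_eq_one_iff, ← two_mul] at hr4
    exact (D.double_dvd hr4.1).resolve_left fun h => hr2 (D.e_eq_one_iff.2 ⟨h, h⟩)
  have hrsq : r * r = D.e D.h D.h := by
    rw [hrdef, D.refl_sq, D.e_eq_iff]; exact ⟨hab, hab⟩
  have hne2 : ∀ {u : S} (hu : u ∈ Q), u * u ≠ 1 → eQ ⟨u, hu⟩ * eQ ⟨u, hu⟩ ≠ 1 := fun hu h h' =>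
    h (congrArg Subtype.val (eQ.injective ((map_mul eQ _ _).trans (h'.trans (map_one eQ).symm))))
  -- the elements of `Q` in the base
  have hbase : ∀ i j : ℤ, D.e i j ∈ Q → D.N ∣ i + j ∧ D.h ∣ i - j := by
    intro i j hu
    have hN : D.h ∣ D.N := Dvd.intro_left 2 D.h_two
    have hz : ∀ k : ℤ, D.e i j = D.e k k → D.N ∣ k + k → D.N ∣ i + j ∧ D.h ∣ i - j := fun k h hk => by
      obtain ⟨h1, h2⟩ := D.e_eq_iff.1 h
      exact ⟨by rw [show i + j = (i - k) + (j - k) + (k + k) by ring]; exact dvd_add (dvd_add h1 h2) hk,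
        by rw [show i - j = (i - k) - (j - k) by ring]; exact dvd_sub (hN.trans h1) (hN.trans h2)⟩
    rcases ci (eQ ⟨r, hr⟩) (eQ ⟨D.e i j, hu⟩) with h | h
    · have hcomm : r * D.e i j = D.e i j * r := by
        have := back (u := (⟨r, hr⟩ : Q) * ⟨D.e i j, hu⟩) (v := ⟨D.e i j, hu⟩ * ⟨r, hr⟩)
          (by rw [map_mul, map_mul]; exact mul_inv_eq_iff_eq_mul.1 h)
        exact this
      have hv := cc (eQ ⟨r, hr⟩) (eQ ⟨D.e i j, hu⟩) (hne2 hr hr2) (mul_inv_eq_iff_eq_mul.1 h)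
      rw [← map_mul, ← map_mul, ← map_one eQ] at hv
      rcases hv with hv | hv | hv | hv
      · exact hz 0 ((back hv).trans D.e_zero.symm) (by simp)
      · exact hz D.h ((back hv).trans hrsq) (by rw [← two_mul, D.h_two])
      · refine absurd ?_ (D.refl_not_mem a b)
        have e : D.e i j = r := back hv
        rw [← hrdef, ← e]
        exact D.e_mem i j
      · have h3 : r * r * r ∈ D.base := by
          have e : D.e i j = r * r * r := back hv
          rw [← e]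
          exact D.e_mem i j
        rw [hrsq] at h3
        exact absurd ((mul_mem_cancel_left (D.e_mem _ _)).1 h3) (D.refl_not_mem a b)
    · rw [← map_inv, ← map_inv, ← map_mul, ← map_mul] at h
      have h1 : r * D.e i j * r⁻¹ = (D.e i j)⁻¹ := back h
      rw [hrdef, D.base_conj_refl, D.e_inv, D.e_eq_iff, sub_neg_eq_add] at h1
      refine ⟨by rw [add_comm]; exact h1.1, ?_⟩
      have h4 : D.e i j * D.e i j * (D.e i j * D.e i j) = 1 := by
        have := back (u := (⟨D.e i j, hu⟩ : Q) * ⟨_, hu⟩ * (⟨_, hu⟩ * ⟨_, hu⟩)) (v := 1)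
          (by rw [map_mul, map_mul, map_one]; exact c4 _)
        exact this
      rw [D.e_mul, D.e_mul, D.e_eq_one_iff] at h4
      obtain ⟨m, hm⟩ := h4.1
      obtain ⟨m', hm'⟩ := h1.1
      have hN4 : D.N = 4 * (D.q : ℤ) := rfl
      have hh : D.h = 2 * (D.q : ℤ) := rfl
      exact ⟨m - 2 * m', by rw [hN4] at hm hm'; rw [hh]; linarith⟩
  refine ⟨fun u hu => ?_, fun i j hu => (hbase i j hu).2, ?_, a, b, hr, hab⟩
  · rcases D.cases u with ⟨i, j, rfl⟩ | ⟨i, j, rfl⟩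
    · exact ⟨i, j, Or.inl ⟨rfl, (hbase i j hu).1⟩⟩
    · refine ⟨i, j, Or.inr ⟨rfl, ?_⟩⟩
      have h1 : D.e (i - a) (j - b) ∈ Q := by
        refine (mul_mem_cancel_right hr).1 ?_
        rw [hrdef, ← mul_assoc, D.e_mul, sub_add_cancel, sub_add_cancel]
        exact hu
      rw [show i + j - D.h = (i - a + (j - b)) + (a + b - D.h) by ring]
      exact dvd_add (hbase _ _ h1).1 hab
  · obtain ⟨u, hu, hur⟩ : ∃ u ∈ Q, r * u ≠ u * r := by
      by_contra hcon
      push Not at hcon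
      have h := fun y => cc (eQ ⟨r, hr⟩) y (hne2 hr hr2) (by
        obtain ⟨v, rfl⟩ := eQ.surjective y
        rw [← map_mul, ← map_mul]
        exact congrArg eQ (Subtype.ext (hcon v v.2)))
      have : ∀ x : QuaternionGroup 2, ∃ y, ¬ (y = 1 ∨ y = x * x ∨ y = x ∨ y = x * x * x) := by decide
      obtain ⟨y, hy⟩ := this (eQ ⟨r, hr⟩)
      exact hy (h y)
    obtain ⟨c, d, hcdQ, hcd⟩ : ∃ c d : ℤ, D.e c d ∈ Q ∧ r * D.e c d ≠ D.e c d * r := by
      rcases D.cases u with ⟨i, j, rfl⟩ | ⟨i, j, rfl⟩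
      · exact ⟨i, j, hu, hur⟩
      · refine ⟨i - a, j - b, ?_, fun h => hur ?_⟩
        · refine (mul_mem_cancel_right hr).1 ?_
          rw [hrdef, ← mul_assoc, D.e_mul, sub_add_cancel, sub_add_cancel]
          exact hu
        · rw [show D.e i j * D.t = D.e (i - a) (j - b) * r by
            rw [hrdef, ← mul_assoc, D.e_mul, sub_add_cancel, sub_add_cancel], ← mul_assoc, h]
    obtain ⟨h1, h2⟩ := hbase c d hcdQ
    have he : D.e c d = D.e c (-c) := D.e_eq_iff.2 ⟨⟨0, by ring⟩, by rw [sub_neg_eq_add, add_comm]; exact h1⟩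
    refine ⟨c, he ▸ hcdQ, ?_⟩
    have hv2 : D.e c (-c) * D.e c (-c) ≠ 1 := fun h => hcd (by
      rw [← he] at h
      exact (hsq2 _ hcdQ h r hr).symm)
    have h3 := back (u := (⟨r, hr⟩ : Q) * ⟨r, hr⟩) (v := ⟨_, he ▸ hcdQ⟩ * ⟨_, he ▸ hcdQ⟩) (by
      rw [map_mul, map_mul]
      exact cs _ _ (hne2 hr hr2) (hne2 (he ▸ hcdQ) hv2))
    change r * r = D.e c (-c) * D.e c (-c) at h3
    rw [hrsq, D.e_mul, D.e_eq_iff] at h3
    rw [show 2 * c - D.h = -(D.h - (c + c)) by ring]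
    exact h3.1.neg_right

/-- The subgroup `Q * Z(S)`. -/
theorem shape_sup_center {Q : Subgroup S} (eQ : Q ≃* QuaternionGroup 2) :
    (∀ i j : ℤ, D.e i j ∈ Q ⊔ center S ↔ D.h ∣ i - j) ∧ ∃ a : ℤ, D.e a (-a) * D.t ∈ Q ⊔ center S := by
  obtain ⟨-, hb, ⟨c, hc, hc2⟩, a, b, hr, hab⟩ := D.quaternion_shape eQ
  refine ⟨fun i j => ⟨fun h => ?_, fun h => ?_⟩, ?_⟩
  · obtain ⟨u, hu, z, hz, huz⟩ := mem_sup_of_normal_right.1 h
    obtain ⟨k, rfl⟩ := D.center_mem_base hz
    have hu' : D.e (i - k) (j - k) ∈ Q := by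
      rw [show D.e (i - k) (j - k) = u by
        rw [sub_eq_add_neg i, sub_eq_add_neg j, ← D.e_mul, ← D.e_inv, ← huz, mul_inv_cancel_right]]
      exact hu
    have := hb _ _ hu'
    rwa [sub_sub_sub_cancel_right] at this
  · obtain ⟨m, hm⟩ := h
    have h0 : D.e D.h 0 ∈ Q ⊔ center S := by
      have h1 := mul_mem (mem_sup_left hc : D.e c (-c) ∈ Q ⊔ center S) (mem_sup_right (D.diag_mem_center c))
      rw [D.e_mul, neg_add_cancel] at h1
      rwa [D.e_eq_iff.2 (⟨by rw [show c + c - D.h = 2 * c - D.h by ring]; exact hc2, by simp⟩ :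
        D.N ∣ c + c - D.h ∧ D.N ∣ (0 : ℤ) - 0)] at h1
    have h2 := mul_mem (zpow_mem h0 m) (mem_sup_right (D.diag_mem_center j) : D.e j j ∈ Q ⊔ center S)
    rwa [D.e_zpow, D.e_mul, zero_mul, zero_add, ← hm, sub_add_cancel] at h2
  · obtain ⟨k, hk⟩ := hab
    have hh : D.h = 2 * (D.q : ℤ) := rfl
    have hN : D.N = 4 * (D.q : ℤ) := rfl
    refine ⟨a - (D.q : ℤ) - 2 * (D.q : ℤ) * k, ?_⟩
    have h1 := mul_mem (mem_sup_right (D.diag_mem_center (-(D.q : ℤ) - 2 * (D.q : ℤ) * k)) :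
      D.e _ _ ∈ Q ⊔ center S) (mem_sup_left hr)
    rwa [← mul_assoc, D.e_mul, show -(D.q : ℤ) - 2 * (D.q : ℤ) * k + a = a - D.q - 2 * D.q * k by ring,
      show -(D.q : ℤ) - 2 * (D.q : ℤ) * k + b = -(a - D.q - 2 * D.q * k) by
        rw [hh, hN] at hk; linarith] at h1

variable {X : Subgroup S} (hb : ∀ i j : ℤ, D.e i j ∈ X ↔ D.h ∣ i - j) {a : ℤ} (hr : D.e a (-a) * D.t ∈ X)

include hb hr in
theorem refl_mem_model {c d : ℤ} : D.e c d * D.t ∈ X ↔ D.h ∣ (c - a) - (d + a) := by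
  rw [show D.e c d * D.t = D.e (c - a) (d + a) * (D.e a (-a) * D.t) by
    rw [← mul_assoc, D.e_mul, sub_add_cancel, add_neg_cancel_right], mul_mem_cancel_right hr, hb]

include hb in
theorem diag_mem_model (c : ℤ) : D.e c c ∈ X := (hb c c).2 (by simp)

include hb hr in
theorem model_not_comm : ¬ IsMulCommutative X := fun h => by
  have h1 := congrArg Subtype.val (h.is_comm.comm (⟨D.e D.h 0, (hb _ _).2 (by simp)⟩ : X) ⟨_, hr⟩)
  exact D.not_dvd_h (by simpa using D.refl_commute_iff.1 h1)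

/-- The reflections `e(a + i q, -(a + i q)) t`. -/
def rinv (a i : ℤ) : S := D.e (a + i * (D.q : ℤ)) (-(a + i * (D.q : ℤ))) * D.t

include hb hr in
theorem rinv_mem (i : ℤ) : D.rinv a i ∈ X := by
  rw [rinv, D.refl_mem_model hb hr]
  exact ⟨i, by rw [show D.h = 2 * (D.q : ℤ) from rfl]; ring⟩

theorem rinv_invol (a i : ℤ) : orderOf (D.rinv a i) = 2 := D.refl_invol_iff.2 (by simp)

theorem rinv_z (a i : ℤ) : D.rinv a i * D.e D.h D.h = D.rinv a (i + 2) := by
  rw [rinv, rinv, mul_assoc, D.t_e, ← mul_assoc, D.e_mul, D.refl_eq_iff]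
  have hN : D.N = 4 * (D.q : ℤ) := rfl
  have hh : D.h = 2 * (D.q : ℤ) := rfl
  exact ⟨⟨0, by rw [hh]; ring⟩, ⟨1, by rw [hh, hN]; ring⟩⟩

include hb hr in
/-- The involutions of `X`. -/
theorem model_invol {u : S} (hu : u ∈ X) (h2 : orderOf u = 2) :
    u = D.e D.h D.h ∨ u = D.e D.h 0 ∨ u = D.e D.h 0 * D.e D.h D.h ∨ u = D.rinv a 0 ∨
      u = D.rinv a 0 * D.e D.h D.h ∨ u = D.rinv a 1 ∨ u = D.rinv a 1 * D.e D.h D.h := by
  rcases D.cases u with ⟨i, j, rfl⟩ | ⟨i, j, rfl⟩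
  · have hf : D.e D.h 0 * D.e D.h D.h = D.e 0 D.h := by
      rw [D.e_mul, D.e_eq_iff]; exact ⟨by rw [sub_zero, ← two_mul, D.h_two], by simp⟩
    rcases D.base_invol_cases (CfsgLib.Invol.mul_self_eq_one h2) with e | e | e | e
    · exact absurd e (CfsgLib.Invol.ne_one h2)
    · exact Or.inr (Or.inl e)
    · exact Or.inr (Or.inr (Or.inl (e.trans hf.symm)))
    · exact Or.inl e
  · have hs := D.refl_invol_iff.1 h2
    obtain ⟨m, hm⟩ := (D.refl_mem_model hb hr).1 hu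
    obtain ⟨k, hk⟩ := hs
    have hN : D.N = 4 * (D.q : ℤ) := rfl
    have hh : D.h = 2 * (D.q : ℤ) := rfl
    have hi : i = a + (m + 2 * k) * (D.q : ℤ) := by rw [hh] at hm; rw [hN] at hk; linarith
    have he : D.e i j * D.t = D.rinv a (m + 2 * k) := by
      rw [rinv, D.refl_eq_iff]
      exact ⟨⟨0, by rw [hi]; ring⟩, ⟨k, by rw [hi] at hk; linarith⟩⟩
    have hper : ∀ l : ℤ, D.rinv a (m + 2 * k) = D.rinv a (m + 2 * k - 4 * l) := fun l => by
      rw [rinv, rinv, D.refl_eq_iff, hN]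
      exact ⟨⟨l, by ring⟩, ⟨-l, by ring⟩⟩
    right; right; right
    rw [he, hper ((m + 2 * k) / 4), D.rinv_z, D.rinv_z]
    have h4 : m + 2 * k - 4 * ((m + 2 * k) / 4) = (m + 2 * k) % 4 := by rw [Int.emod_def]
    rw [h4]
    rcases (show (m + 2 * k) % 4 = 0 ∨ (m + 2 * k) % 4 = 2 ∨ (m + 2 * k) % 4 = 1 ∨ (m + 2 * k) % 4 = 3 by omega) with
      e | e | e | e <;> rw [e]
    · exact Or.inl rfl
    · exact Or.inr (Or.inl (by norm_num))
    · exact Or.inr (Or.inr (Or.inl rfl))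
    · exact Or.inr (Or.inr (Or.inr (by norm_num)))

include hb hr in
/-- Elements commuting with the two basic involutions and the centre centralize `X`. -/
theorem model_generators {u : S} (hu : u ∈ X) :
    ∃ c m l : ℤ, u = D.e c c * D.e D.h 0 ^ m * D.rinv a 0 ^ l := by
  have hr0 : D.rinv a 0 = D.e a (-a) * D.t := by rw [rinv, zero_mul, add_zero]
  rcases D.cases u with ⟨i, j, rfl⟩ | ⟨i, j, rfl⟩
  · obtain ⟨m, hm⟩ := (hb i j).1 hu
    refine ⟨j, m, 0, ?_⟩
    rw [zpow_zero, mul_one, D.e_zpow, D.e_mul, zero_mul, add_zero, ← hm, add_sub_cancel]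
  · obtain ⟨m, hm⟩ := (D.refl_mem_model hb hr).1 hu
    refine ⟨j + a, m, 1, ?_⟩
    rw [zpow_one, hr0, D.e_zpow, D.e_mul, zero_mul, add_zero, ← hm, ← mul_assoc, D.e_mul, D.refl_eq_iff]
    exact ⟨⟨0, by ring⟩, ⟨0, by ring⟩⟩

end Inner

/-! ### In the whole group -/

variable {G : Type*} [Group G] [Finite G] {S : Sylow 2 G} (D : CfsgLib.Wreath.Data (S : Subgroup G))

/-- Base elements, in `G`. -/
def ge (i j : ℤ) : G := ((D.e i j : (S : Subgroup G)) : G)

/-- The base, in `G`. -/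
def gbase (D : CfsgLib.Wreath.Data (S : Subgroup G)) : Subgroup G := D.base.map (S : Subgroup G).subtype

/-- The centre of `S`, in `G`. -/
def gcenter (_D : CfsgLib.Wreath.Data (S : Subgroup G)) : Subgroup G := (center (S : Subgroup G)).map (S : Subgroup G).subtype

theorem mem_gcenter {w : G} : w ∈ D.gcenter ↔ ∃ c : ℤ, w = D.ge c c := by
  constructor
  · rintro ⟨v, hv, rfl⟩
    obtain ⟨c, rfl⟩ := D.center_mem_base hv
    exact ⟨c, rfl⟩
  · rintro ⟨c, rfl⟩
    exact ⟨_, D.diag_mem_center c, rfl⟩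

theorem gcenter_comm {w u : G} (hw : w ∈ D.gcenter) (hu : u ∈ (S : Subgroup G)) : u * w * u⁻¹ = w := by
  obtain ⟨v, hv, rfl⟩ := hw
  exact mul_inv_eq_iff_eq_mul.2 (congrArg Subtype.val (mem_center_iff.1 hv ⟨u, hu⟩))

theorem ge_mem (i j : ℤ) : D.ge i j ∈ (S : Subgroup G) := (D.e i j).2

theorem ge_mul (i j k l : ℤ) : D.ge i j * D.ge k l = D.ge (i + k) (j + l) :=
  congrArg Subtype.val (D.e_mul i j k l)

theorem ge_zpow (i j m : ℤ) : D.ge i j ^ m = D.ge (i * m) (j * m) := by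
  rw [ge, ← Subgroup.coe_zpow, D.e_zpow]; rfl

/-! #### The model subgroup -/

variable {X : Subgroup (S : Subgroup G)} (hb : ∀ i j : ℤ, D.e i j ∈ X ↔ D.h ∣ i - j)
  {a : ℤ} (hr : D.e a (-a) * D.t ∈ X)

theorem isPGroup_sup_zpowers {V : Subgroup G} (hV : IsPGroup 2 V) {x : G} (hx : x ∈ normalizer (V : Set G))
    (hp : IsPGroup 2 (zpowers x)) : IsPGroup 2 (V ⊔ zpowers x : Subgroup G) :=
  hV.to_sup_of_normal_left' hp (zpowers_le.2 hx)

include hb hr in
theorem center_of_model {v : G} (hv : v ∈ (X.map (S : Subgroup G).subtype : Subgroup G)) (hc : ∀ u ∈ (X.map (S : Subgroup G).subtype : Subgroup G), u * v = v * u) : v ∈ D.gcenter := by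
  obtain ⟨w, hw, rfl⟩ := hv
  refine ⟨w, D.center_map_le (D.model_not_comm hb hr) ⟨⟨w, hw⟩, mem_center_iff.2 fun u => ?_, rfl⟩, rfl⟩
  exact Subtype.ext (Subtype.ext (hc _ ⟨u, u.2, rfl⟩))

include hb hr in
/-- The normalizer of the model centralizes the centre of `S`. -/
theorem model_fix_center {x : G} (hx : x ∈ normalizer ((X.map (S : Subgroup G).subtype : Subgroup G) : Set G)) {w : G} (hw : w ∈ D.gcenter) :
    x * w * x⁻¹ = w := by
  haveI : Fact (Nat.Prime 2) := ⟨Nat.prime_two⟩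
  have hwV : ∀ {v : G}, v ∈ D.gcenter → v ∈ (X.map (S : Subgroup G).subtype : Subgroup G) := fun {v} hv => by
    obtain ⟨c, rfl⟩ := D.mem_gcenter.1 hv
    exact ⟨_, D.diag_mem_model hb c, rfl⟩
  have hVS : (X.map (S : Subgroup G).subtype : Subgroup G) ≤ (S : Subgroup G) := map_subtype_le _
  have hstab : ∀ {y : G}, y ∈ normalizer ((X.map (S : Subgroup G).subtype : Subgroup G) : Set G) → ∀ {v : G}, v ∈ D.gcenter → y * v * y⁻¹ ∈ D.gcenter := by
    intro y hy v hv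
    refine D.center_of_model hb hr ((mem_normalizer_iff.1 hy v).1 (hwV hv)) fun u hu => ?_
    have hu' : y⁻¹ * u * y ∈ (X.map (S : Subgroup G).subtype : Subgroup G) := by simpa using (mem_normalizer_iff.1 (inv_mem hy) u).1 hu
    have h1 := mul_inv_eq_iff_eq_mul.1 (D.gcenter_comm hv (hVS hu'))
    calc u * (y * v * y⁻¹) = y * ((y⁻¹ * u * y) * v) * y⁻¹ := by group
      _ = y * (v * (y⁻¹ * u * y)) * y⁻¹ := by rw [h1]
      _ = y * v * y⁻¹ * u := by group
  -- a 2-element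
  have htwo : ∀ {y : G}, y ∈ normalizer ((X.map (S : Subgroup G).subtype : Subgroup G) : Set G) → IsPGroup 2 (zpowers y) → ∀ {v : G}, v ∈ D.gcenter →
      y * v * y⁻¹ = v := by
    intro y hy hyp v hv
    obtain ⟨g, hg⟩ := CentralWeak.exists_conj_sylow S (isPGroup_sup_zpowers ((S.2.to_le hVS)) hy hyp)
    set Y : Subgroup (S : Subgroup G) := (((X.map (S : Subgroup G).subtype : Subgroup G)).map (MulAut.conj g).toMonoidHom).subgroupOf (S : Subgroup G)
    have hmemY : ∀ {u : G} (hu : u ∈ (X.map (S : Subgroup G).subtype : Subgroup G)), (⟨g * u * g⁻¹, hg u (mem_sup_left hu)⟩ : (S : Subgroup G)) ∈ Y :=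
      fun hu => ⟨_, hu, rfl⟩
    have hYnc : ¬ IsMulCommutative Y := by
      intro h
      refine D.model_not_comm hb hr ⟨⟨fun p q => ?_⟩⟩
      have h1 := congrArg (fun k : Y => ((k : (S : Subgroup G)) : G)) (h.is_comm.comm ⟨_, hmemY ⟨p, p.2, rfl⟩⟩ ⟨_, hmemY ⟨q, q.2, rfl⟩⟩)
      change g * ((p : (S : Subgroup G)) : G) * g⁻¹ * (g * ((q : (S : Subgroup G)) : G) * g⁻¹) =
        g * ((q : (S : Subgroup G)) : G) * g⁻¹ * (g * ((p : (S : Subgroup G)) : G) * g⁻¹) at h1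
      rw [conj_mul, conj_mul] at h1
      exact Subtype.ext (Subtype.ext (mul_left_cancel (mul_right_cancel h1)))
    have hgv : (⟨g * v * g⁻¹, hg v (mem_sup_left (hwV hv))⟩ : (S : Subgroup G)) ∈ center (S : Subgroup G) := by
      refine D.center_map_le hYnc ⟨⟨_, hmemY (hwV hv)⟩, mem_center_iff.2 fun k => Subtype.ext (Subtype.ext ?_), rfl⟩
      obtain ⟨u, hu, hku⟩ := k.2
      show ((k : (S : Subgroup G)) : G) * (g * v * g⁻¹) = g * v * g⁻¹ * ((k : (S : Subgroup G)) : G)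
      rw [show ((k : (S : Subgroup G)) : G) = g * u * g⁻¹ from hku.symm, conj_mul, conj_mul,
        mul_inv_eq_iff_eq_mul.1 (D.gcenter_comm hv (hVS hu))]
    have h2 := congrArg Subtype.val (mem_center_iff.1 hgv ⟨g * y * g⁻¹, hg y (mem_sup_right (mem_zpowers y))⟩)
    change g * y * g⁻¹ * (g * v * g⁻¹) = g * v * g⁻¹ * (g * y * g⁻¹) at h2
    rw [conj_mul, conj_mul] at h2
    exact mul_inv_eq_iff_eq_mul.2 (mul_left_cancel (mul_right_cancel h2))
  obtain ⟨y, b, hyb, ⟨i₁, hi₁⟩, ⟨i₂, hi₂⟩, ⟨k, hk⟩, hbo⟩ := CfsgLib.FGSBSmall.exists_prime_split Nat.prime_two x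
  simp only at hi₁ hi₂
  have hyN : y ∈ normalizer ((X.map (S : Subgroup G).subtype : Subgroup G) : Set G) := hi₁ ▸ zpow_mem hx i₁
  have hbN : b ∈ normalizer ((X.map (S : Subgroup G).subtype : Subgroup G) : Set G) := hi₂ ▸ zpow_mem hx i₂
  have hbfix : ∀ {v : G}, v ∈ D.gcenter → b * v * b⁻¹ = v := by
    have hz1 : D.ge 1 1 ∈ D.gcenter := D.mem_gcenter.2 ⟨1, rfl⟩
    obtain ⟨i, hi⟩ := D.mem_gcenter.1 (hstab hbN hz1)
    have hi' : b * D.ge 1 1 * b⁻¹ = D.ge 1 1 ^ i := by rw [hi, D.ge_zpow, one_mul]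
    have hpow : ∀ j : ℕ, b ^ j * D.ge 1 1 * (b ^ j)⁻¹ = D.ge 1 1 ^ (i ^ j) := by
      intro j
      induction j with
      | zero => simp
      | succ j ih =>
        rw [show b ^ (j + 1) * D.ge 1 1 * (b ^ (j + 1))⁻¹ = b * (b ^ j * D.ge 1 1 * (b ^ j)⁻¹) * b⁻¹ by
          rw [pow_succ']; group, ih, ← conj_zpow, hi', ← zpow_mul, pow_succ']
    have h1 := hpow (orderOf b)
    rw [pow_orderOf_eq_one, one_mul, inv_one, mul_one, eq_comm, ← mul_inv_eq_one, ← zpow_sub_one,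
      ← orderOf_dvd_iff_zpow_eq_one] at h1
    have ho : orderOf (D.ge 1 1) = 2 ^ (D.k + 2) := by
      rw [ge, Subgroup.orderOf_coe, D.orderOf_diag, D.hq]; ring
    rw [ho] at h1
    have h2 : ((i : ZMod (2 ^ (D.k + 2)))) ^ orderOf b = 1 := by
      rw [← Int.cast_pow, ← Int.cast_one, eq_comm, ZMod.intCast_eq_intCast_iff_dvd_sub]
      exact h1
    have h3 := zmod_eq_one (Nat.coprime_two_right.1 hbo) h2
    rw [← Int.cast_one, eq_comm, ZMod.intCast_eq_intCast_iff_dvd_sub, ← ho, orderOf_dvd_iff_zpow_eq_one,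
      zpow_sub_one, mul_inv_eq_one] at h3
    intro v hv
    obtain ⟨c, rfl⟩ := D.mem_gcenter.1 hv
    rw [show D.ge c c = D.ge 1 1 ^ c by rw [D.ge_zpow, one_mul], ← conj_zpow, hi', h3]
  rw [← hyb, show y * b * w * (y * b)⁻¹ = y * (b * w * b⁻¹) * y⁻¹ by group, hbfix hw]
  refine htwo hyN (IsPGroup.of_card (n := k) (by rw [Nat.card_zpowers, hk])) hw

/-! #### The base -/

theorem gcenter_le : D.gcenter ≤ (S : Subgroup G) := map_subtype_le _

theorem gbase_le : D.gbase ≤ (S : Subgroup G) := map_subtype_le _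

theorem mem_gbase {u : G} : u ∈ D.gbase ↔ ∃ i j : ℤ, u = D.ge i j := by
  constructor
  · rintro ⟨v, ⟨i, j, rfl⟩, rfl⟩; exact ⟨i, j, rfl⟩
  · rintro ⟨i, j, rfl⟩; exact ⟨_, D.e_mem i j, rfl⟩

theorem ge_eq_iff {i j k l : ℤ} : D.ge i j = D.ge k l ↔ D.N ∣ i - k ∧ D.N ∣ j - l := by
  rw [ge, ge, Subtype.coe_inj, D.e_eq_iff]

theorem eq_gbase {U : Subgroup G} (hUS : U ≤ (S : Subgroup G)) (hUab : IsMulCommutative U) {n : ℕ}
    (hn : Nat.card (S : Subgroup G) = 2 ^ (2 * n + 1)) (hUcard : Nat.card U = 2 ^ (2 * n)) : U = D.gbase := by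
  have hn' : n = D.k + 2 := by
    have h1 := D.card_eq
    rw [hn, D.hq, show 2 * (4 * 2 ^ D.k) ^ 2 = 2 ^ (2 * (D.k + 2) + 1) by ring] at h1
    have := Nat.pow_right_injective le_rfl h1
    omega
  have h : U.subgroupOf (S : Subgroup G) = D.base := by
    refine D.abelian_eq_base ?_ ?_
    · exact ⟨⟨fun p q => Subtype.ext (Subtype.ext
        (show ((p : (S : Subgroup G)) : G) * (q : (S : Subgroup G)) = (q : (S : Subgroup G)) * (p : (S : Subgroup G))
        from congrArg Subtype.val (hUab.is_comm.comm ⟨_, mem_subgroupOf.1 p.2⟩ ⟨_, mem_subgroupOf.1 q.2⟩)))⟩⟩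
    · rw [Nat.card_congr (subgroupOfEquivOfLe hUS).toEquiv, hUcard, hn', D.hq]; ring
  rw [gbase, ← h, map_subgroupOf_eq_of_le hUS]

theorem t_conj_ge (i j : ℤ) : (D.t : G) * D.ge i j * (D.t : G)⁻¹ = D.ge j i :=
  congrArg Subtype.val (show D.t * D.e i j * D.t⁻¹ = D.e j i by rw [D.t_e, mul_inv_cancel_right])

theorem t_norm_gbase : (D.t : G) ∈ normalizer (D.gbase : Set G) := by
  refine mem_normalizer_iff_map_conj_eq.2 (Subgroup.eq_of_le_of_card_ge ?_ ?_)
  · rintro _ ⟨u, hu, rfl⟩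
    obtain ⟨i, j, rfl⟩ := D.mem_gbase.1 hu
    exact D.mem_gbase.2 ⟨j, i, D.t_conj_ge i j⟩
  · exact (card_map_of_injective (f := (MulAut.conj (D.t : G)).toMonoidHom) (MulAut.conj (D.t : G)).injective).ge

theorem t_not_centralizer : (D.t : G) ∉ centralizer (D.gbase : Set G) := fun h => by
  have h1 := mem_centralizer_iff.1 h (D.ge D.h 0) (D.mem_gbase.2 ⟨_, _, rfl⟩)
  have h2 := D.t_conj_ge D.h 0
  rw [← h1, mul_inv_cancel_right, D.ge_eq_iff] at h2
  exact D.not_dvd_h (by simpa using h2.1)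

/-- With index two the normalizer of the base acts as `S` does. -/
theorem base_inner (h2 : (centralizer (D.gbase : Set G)).relIndex (normalizer (D.gbase : Set G)) = 2) {x : G}
    (hx : x ∈ normalizer (D.gbase : Set G)) : ∃ s ∈ (S : Subgroup G), ∀ u ∈ D.gbase, x * u * x⁻¹ = s * u * s⁻¹ := by
  by_cases hxC : x ∈ centralizer (D.gbase : Set G)
  · exact ⟨1, one_mem _, fun u hu => by
      rw [mul_inv_eq_iff_eq_mul.2 (mem_centralizer_iff.1 hxC u hu).symm]; group⟩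
  have hm : (⟨(D.t : G)⁻¹, inv_mem D.t_norm_gbase⟩ : normalizer (D.gbase : Set G)) * ⟨x, hx⟩ ∈
      (centralizer (D.gbase : Set G)).subgroupOf _ :=
    (mul_mem_iff_of_index_two h2).2 (iff_of_false (fun h => D.t_not_centralizer (inv_mem_iff.1 (mem_subgroupOf.1 h)))
      (fun h => hxC (mem_subgroupOf.1 h)))
  refine ⟨D.t, D.t.2, fun u hu => ?_⟩
  have h1 := mem_centralizer_iff.1 (mem_subgroupOf.1 hm) u hu
  change u * ((D.t : G)⁻¹ * x) = (D.t : G)⁻¹ * x * u at h1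
  calc x * u * x⁻¹ = (D.t : G) * ((D.t : G)⁻¹ * x * u) * x⁻¹ := by group
    _ = (D.t : G) * (u * ((D.t : G)⁻¹ * x)) * x⁻¹ := by rw [h1]
    _ = (D.t : G) * u * (D.t : G)⁻¹ := by group

theorem base_invol_fixed {y : G} (hy : y ∈ normalizer (D.gbase : Set G)) (hodd : Odd (orderOf y))
    (h1 : y * D.ge D.h 0 * y⁻¹ = D.ge D.h 0) (h2 : y * D.ge 0 D.h * y⁻¹ = D.ge 0 D.h) :
    y ∈ centralizer (D.gbase : Set G) := by
  have hfour : ∀ d ∈ D.gbase, d * d = 1 → y * d * y⁻¹ = d := by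
    intro d hd hdd
    obtain ⟨i, j, rfl⟩ := D.mem_gbase.1 hd
    rw [D.ge_mul] at hdd
    have hdd' : D.e i j * D.e i j = 1 := Subtype.ext (by rw [D.e_mul]; exact hdd)
    rcases D.base_invol_cases hdd' with e | e | e | e <;> rw [ge, e]
    · simp
    · exact h1
    · exact h2
    · rw [show ((D.e D.h D.h : (S : Subgroup G)) : G) = D.ge D.h 0 * D.ge 0 D.h by
        rw [D.ge_mul, add_zero, zero_add]; rfl, ← conj_mul, h1, h2]
  have hcomm : ∀ {u v : G}, u ∈ D.gbase → v ∈ D.gbase → u * v = v * u := fun hu hv => by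
    obtain ⟨i, j, rfl⟩ := D.mem_gbase.1 hu
    obtain ⟨k, l, rfl⟩ := D.mem_gbase.1 hv
    rw [D.ge_mul, D.ge_mul, add_comm i, add_comm j]
  have key : ∀ (k : ℕ) (u : G), u ∈ D.gbase → u ^ 2 ^ k = 1 → y * u * y⁻¹ = u := by
    intro k
    induction k with
    | zero => intro u _ hu; rw [pow_zero, pow_one] at hu; simp [hu]
    | succ k ih =>
      intro u hu hk
      have hsq := ih (u * u) (mul_mem hu hu) (by rw [← sq, ← pow_mul, ← pow_succ']; exact hk)
      have hyu : y * u * y⁻¹ ∈ D.gbase := (mem_normalizer_iff.1 hy u).1 hu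
      set d := u⁻¹ * (y * u * y⁻¹) with hd
      have hdU : d ∈ D.gbase := mul_mem (inv_mem hu) hyu
      have hdd : d * d = 1 := by
        have hc : Commute u⁻¹ (y * u * y⁻¹) := hcomm (inv_mem hu) hyu
        rw [hd, hc.symm.mul_mul_mul_comm, ← mul_inv_rev,
          show y * u * y⁻¹ * (y * u * y⁻¹) = y * (u * u) * y⁻¹ by group, hsq, inv_mul_cancel]
      have hyd := hfour d hdU hdd
      have hyu' : y * u * y⁻¹ = u * d := by rw [hd, mul_inv_cancel_left]
      have hpow : ∀ j : ℕ, y ^ j * u * (y ^ j)⁻¹ = u * d ^ j := by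
        intro j
        induction j with
        | zero => simp
        | succ j ih' =>
          rw [show y ^ (j + 1) * u * (y ^ (j + 1))⁻¹ = y * (y ^ j * u * (y ^ j)⁻¹) * y⁻¹ by rw [pow_succ']; group,
            ih', show y * (u * d ^ j) * y⁻¹ = (y * u * y⁻¹) * (y * d * y⁻¹) ^ j by rw [conj_pow]; group, hyu', hyd,
            mul_assoc, ← pow_succ']
      have h3 := hpow (orderOf y)
      rw [pow_orderOf_eq_one, one_mul, inv_one, mul_one, left_eq_mul] at h3
      obtain ⟨m, hm⟩ := hodd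
      rw [hm, pow_succ, pow_mul, sq, hdd, one_pow, one_mul] at h3
      rw [hyu', h3, mul_one]
  refine mem_centralizer_iff.2 fun u hu => ?_
  obtain ⟨k, hk⟩ := S.2 ⟨u, D.gbase_le hu⟩
  exact (mul_inv_eq_iff_eq_mul.1 (key k u hu (congrArg Subtype.val hk))).symm

theorem base_norm_invols {x : G} (hx : x ∈ normalizer (D.gbase : Set G)) {u : G} (hu : u ∈ D.gbase)
    (h2 : orderOf u = 2) : x * u * x⁻¹ = D.ge D.h 0 ∨ x * u * x⁻¹ = D.ge 0 D.h ∨ x * u * x⁻¹ = D.ge D.h D.h := by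
  obtain ⟨i, j, hij⟩ := D.mem_gbase.1 ((mem_normalizer_iff.1 hx u).1 hu)
  have ho : orderOf (D.e i j) = 2 := by
    rw [← Subgroup.orderOf_coe, ← show x * u * x⁻¹ = (D.e i j : G) from hij, CfsgLib.Invol.orderOf_conj_eq, h2]
  rcases D.base_invol_cases (CfsgLib.Invol.mul_self_eq_one ho) with e | e | e | e
  · exact absurd e (CfsgLib.Invol.ne_one ho)
  · exact Or.inl (hij.trans (congrArg Subtype.val e))
  · exact Or.inr (Or.inl (hij.trans (congrArg Subtype.val e)))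
  · exact Or.inr (Or.inr (hij.trans (congrArg Subtype.val e)))

theorem f_order : orderOf (D.ge D.h 0) = 2 := by rw [ge, Subgroup.orderOf_coe, D.eh0_invol]

theorem f'_order : orderOf (D.ge 0 D.h) = 2 := by rw [ge, Subgroup.orderOf_coe, D.e0h_invol]

theorem z_order : orderOf (D.ge D.h D.h) = 2 := by rw [ge, Subgroup.orderOf_coe, D.ehh_invol]

theorem base_index_cases : (centralizer (D.gbase : Set G)).relIndex (normalizer (D.gbase : Set G)) = 2 ∨
    (centralizer (D.gbase : Set G)).relIndex (normalizer (D.gbase : Set G)) = 6 := by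
  haveI : Fact (Nat.Prime 2) := ⟨Nat.prime_two⟩
  set C := centralizer (D.gbase : Set G)
  set N := normalizer (D.gbase : Set G)
  haveI hCn : (C.subgroupOf N).Normal := AutomizerSix.centralizer_normal _
  set F := D.four.map (S : Subgroup G).subtype
  have hF : IsKleinFour F := by
    haveI := D.four_klein
    exact ⟨(card_map_of_injective (S : Subgroup G).subtype_injective).trans D.four_klein.card_four,
      (Monoid.exponent_eq_of_mulEquiv (equivMapOfInjective D.four _ (S : Subgroup G).subtype_injective)).symm.trans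
        D.four_klein.exponent_two⟩
  have hFmem : ∀ u : G, u ∈ F ↔ u ∈ D.gbase ∧ u * u = 1 := fun u => by
    constructor
    · rintro ⟨v, hv, rfl⟩
      obtain ⟨h1, h2⟩ := D.mem_four.1 hv
      exact ⟨⟨v, h1, rfl⟩, congrArg Subtype.val h2⟩
    · rintro ⟨⟨v, hv, rfl⟩, h2⟩
      exact ⟨v, D.mem_four.2 ⟨hv, Subtype.ext h2⟩, rfl⟩
  have hNF : N ≤ normalizer (F : Set G) := fun x hx => by
    refine mem_normalizer_iff_map_conj_eq.2 (Subgroup.eq_of_le_of_card_ge ?_ ?_)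
    · rintro _ ⟨u, hu, rfl⟩
      obtain ⟨h1, h2⟩ := (hFmem u).1 hu
      exact (hFmem _).2 ⟨(mem_normalizer_iff.1 hx u).1 h1, by
        show MulAut.conj x u * MulAut.conj x u = 1
        rw [← map_mul, h2, map_one]⟩
    · exact (card_map_of_injective (f := (MulAut.conj x).toMonoidHom) (MulAut.conj x).injective).ge
  set K := centralizer (F : Set G) ⊓ N
  have hCK : C ≤ K := le_inf (centralizer_le fun u hu => ((hFmem u).1 hu).1) (centralizer_le_normalizer _)
  have h6 : K.relIndex N ∣ 6 := by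
    rw [inf_relIndex_right, ← relIndex_subgroupOf hNF]
    haveI : ((centralizer (F : Set G)).subgroupOf (normalizer (F : Set G))).Normal :=
      AutomizerSix.centralizer_normal F
    exact (relIndex_dvd_index_of_normal _ _).trans (AutomizerSix.klein_six hF)
  obtain ⟨j, hj⟩ : ∃ j, C.relIndex K = 2 ^ j := by
    haveI : (C.subgroupOf K).Normal := normal_subgroupOf_of_le_normalizer (fun x hx => by
      have h := normal_subgroupOf_iff (centralizer_le_normalizer _ : C ≤ N) |>.1 hCn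
      exact mem_normalizer_of_conj' fun c hc => h c x hc hx.2)
    have hp : IsPGroup 2 (K ⧸ C.subgroupOf K) := by
      intro q
      obtain ⟨⟨x, hx⟩, rfl⟩ := QuotientGroup.mk'_surjective (C.subgroupOf K) q
      obtain ⟨e, m, hm, hem⟩ := Nat.exists_eq_two_pow_mul_odd (orderOf_pos x).ne'
      refine ⟨e, ?_⟩
      rw [← map_pow]
      refine (QuotientGroup.eq_one_iff _).2 (mem_subgroupOf.2 ?_)
      have ho : Odd (orderOf (x ^ 2 ^ e)) := by
        rw [orderOf_pow_of_dvd (pow_ne_zero _ two_ne_zero) ⟨m, hem⟩, hem,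
          Nat.mul_div_cancel_left _ (Nat.two_pow_pos e)]
        exact hm
      have hfix : ∀ u ∈ F, x ^ 2 ^ e * u * (x ^ 2 ^ e)⁻¹ = u := fun u hu =>
        mul_inv_eq_iff_eq_mul.2 (mem_centralizer_iff.1 (pow_mem hx.1 _) u hu).symm
      exact D.base_invol_fixed (pow_mem hx.2 _) ho
        (hfix _ ((hFmem _).2 ⟨D.mem_gbase.2 ⟨_, _, rfl⟩, CfsgLib.Invol.mul_self_eq_one D.f_order⟩))
        (hfix _ ((hFmem _).2 ⟨D.mem_gbase.2 ⟨_, _, rfl⟩, CfsgLib.Invol.mul_self_eq_one D.f'_order⟩))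
    obtain ⟨j, hj⟩ := IsPGroup.iff_card.1 hp
    exact ⟨j, hj⟩
  have hmul := relIndex_mul_relIndex C K N hCK inf_le_right
  obtain ⟨k, hk⟩ := S.2 D.t
  have heven : 2 ∣ C.relIndex N := AutomizerSix.two_dvd_relIndex hCn D.t_norm_gbase D.t_not_centralizer
    (k := k) (congrArg Subtype.val hk)
  have hfour : ¬ 4 ∣ C.relIndex N := by
    intro h4
    have hUC : D.gbase ≤ C := fun u hu => mem_centralizer_iff.2 fun v hv => by
      obtain ⟨i, j, rfl⟩ := D.mem_gbase.1 hu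
      obtain ⟨i', j', rfl⟩ := D.mem_gbase.1 hv
      rw [D.ge_mul, D.ge_mul, add_comm i, add_comm j]
    have e1 : C.relIndex N * Nat.card C = Nat.card N := by
      rw [← Nat.card_congr (subgroupOfEquivOfLe (centralizer_le_normalizer _ : C ≤ N)).toEquiv, relIndex,
        index_mul_card]
    have h1 : 4 * (4 * D.q) ^ 2 ∣ Nat.card G := by
      refine (Nat.mul_dvd_mul h4 ?_).trans ((dvd_of_eq e1).trans N.card_subgroup_dvd_card)
      have h2 := card_dvd_of_le hUC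
      rwa [gbase, card_map_of_injective (S : Subgroup G).subtype_injective, D.card_base] at h2
    rw [D.hq, show 4 * (4 * 2 ^ D.k) ^ 2 = 2 ^ (2 * D.k + 6) by ring] at h1
    have hS := D.card_eq
    rw [D.hq, show 2 * (4 * 2 ^ D.k) ^ 2 = 2 ^ (2 * D.k + 5) by ring, Sylow.card_eq_multiplicity] at hS
    have h3 := (Nat.prime_two.pow_dvd_iff_le_factorization Nat.card_pos.ne').1 h1
    have h4' := Nat.pow_right_injective le_rfl hS
    omega
  rw [hj] at hmul
  obtain ⟨m, hm⟩ := heven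
  have hmodd : Odd m := Nat.not_even_iff_odd.1 fun ⟨l, hl⟩ => hfour ⟨l, by rw [hm, hl]; ring⟩
  have h3 : m ∣ 3 := by
    have h1 : m ∣ 2 ^ j * 6 := (Dvd.intro_left 2 hm.symm).trans (hmul ▸ Nat.mul_dvd_mul_left _ h6)
    rw [show 2 ^ j * 6 = 2 ^ (j + 1) * 3 by ring] at h1
    exact ((Nat.coprime_two_right.2 hmodd).pow_right _).dvd_of_dvd_mul_left h1
  rcases (Nat.dvd_prime Nat.prime_three).1 h3 with rfl | rfl
  · exact Or.inl (by rw [hm])
  · exact Or.inr (by rw [hm])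
where
  mem_normalizer_of_conj' {A : Subgroup G} {n : G} (h : ∀ c ∈ A, n * c * n⁻¹ ∈ A) :
      n ∈ normalizer (A : Set G) := by
    refine mem_normalizer_iff_map_conj_eq.2 (Subgroup.eq_of_le_of_card_ge ?_ ?_)
    · rintro _ ⟨c, hc, rfl⟩; exact h c hc
    · exact (card_map_of_injective (f := (MulAut.conj n).toMonoidHom) (MulAut.conj n).injective).ge

/-- The odd element cycling the involutions of the base, as seen on elements of maximal order. -/
theorem base_cycle (h6 : (centralizer (D.gbase : Set G)).relIndex (normalizer (D.gbase : Set G)) = 6) :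
    ∃ b ∈ normalizer (D.gbase : Set G), Odd (orderOf b) ∧
      ((b * D.ge D.h D.h * b⁻¹ = D.ge D.h 0 ∧ ∃ i j : ℤ, b * D.ge 1 1 * b⁻¹ = D.ge i j ∧ ¬ 2 ∣ i ∧ 2 ∣ j) ∨
        (b * D.ge D.h 0 * b⁻¹ = D.ge D.h D.h ∧ ∃ i j : ℤ, b * D.ge 1 0 * b⁻¹ = D.ge i j ∧ ¬ 2 ∣ i ∧ ¬ 2 ∣ j)) := by
  obtain ⟨b, hbN, hbC, hb3, hbo⟩ := SylowKernel.odd_cycle (AutomizerSix.centralizer_normal D.gbase)
    (h6 ▸ by norm_num)
  refine ⟨b, hbN, hbo, ?_⟩
  have hm : ∀ i j, D.ge i j ∈ D.gbase := fun i j => D.mem_gbase.2 ⟨i, j, rfl⟩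
  have hcyc := SylowKernel.three_points (σ := fun u : G => b * u * b⁻¹) (a := D.ge D.h 0) (b := D.ge 0 D.h)
    (c := D.ge D.h D.h)
    (fun h => D.not_dvd_h (by simpa using (D.ge_eq_iff.1 h).1))
    (fun h => D.not_dvd_h (by simpa using (D.ge_eq_iff.1 h).2))
    (fun h => D.not_dvd_h (by simpa using (D.ge_eq_iff.1 h).1))
    (D.base_norm_invols hbN (hm _ _) D.f_order) (D.base_norm_invols hbN (hm _ _) D.f'_order)
    (D.base_norm_invols hbN (hm _ _) D.z_order) (fix3 hb3 (hm _ _)) (fix3 hb3 (hm _ _)) (fix3 hb3 (hm _ _))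
    (fun h => hbC (D.base_invol_fixed hbN hbo h.1 h.2.1))
  have himg : ∀ u ∈ D.gbase, ∃ i j, b * u * b⁻¹ = D.ge i j := fun u hu =>
    D.mem_gbase.1 ((mem_normalizer_iff.1 hbN u).1 hu)
  have hdv : ∀ i : ℤ, D.N ∣ i * D.h ↔ 2 ∣ i := fun i => by
    rw [← D.h_two]
    exact mul_dvd_mul_iff_right D.h_ne_zero
  have hh : ∀ u i j : ℤ, ∀ v : G, b * D.ge u i * b⁻¹ = v → b * D.ge (u * j) (i * j) * b⁻¹ = v ^ j :=
    fun u i j v h => by rw [← D.ge_zpow, ← conj_zpow, h]
  rcases hcyc with ⟨-, -, hc⟩ | ⟨hc, -, -⟩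
  · left
    refine ⟨hc, ?_⟩
    obtain ⟨i, j, hij⟩ := himg _ (hm 1 1)
    have h1 := hh 1 1 D.h _ hij
    rw [one_mul, hc, D.ge_zpow, D.ge_eq_iff] at h1
    refine ⟨i, j, hij, fun hi => ?_, (hdv j).1 (by simpa using h1.2.neg_right)⟩
    refine D.not_dvd_h ?_
    have := dvd_add h1.1 ((hdv i).2 hi)
    rwa [sub_add_cancel] at this
  · right
    refine ⟨hc, ?_⟩
    obtain ⟨i, j, hij⟩ := himg _ (hm 1 0)
    have h1 := hh 1 0 D.h _ hij
    rw [one_mul, zero_mul, hc, D.ge_zpow, D.ge_eq_iff] at h1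
    refine ⟨i, j, hij, fun hi => ?_, fun hj => ?_⟩
    · refine D.not_dvd_h ?_
      have := dvd_add h1.1 ((hdv i).2 hi)
      rwa [sub_add_cancel] at this
    · refine D.not_dvd_h ?_
      have := dvd_add h1.2 ((hdv j).2 hj)
      rwa [sub_add_cancel] at this
where
  fix3 {b u : G} (hb3 : b * (b * b) ∈ centralizer (D.gbase : Set G)) (hu : u ∈ D.gbase) :
      b * (b * (b * u * b⁻¹) * b⁻¹) * b⁻¹ = u := by
    rw [show b * (b * (b * u * b⁻¹) * b⁻¹) * b⁻¹ = b * (b * b) * u * (b * (b * b))⁻¹ by group]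
    exact mul_inv_eq_iff_eq_mul.2 (mem_centralizer_iff.1 hb3 u hu).symm

/-! #### The model subgroup, continued -/

/-- The pair `{u, u z}`. -/
def gpair (u : G) : Set G := {u, u * D.ge D.h D.h}

/-- The reflection involutions, in `G`. -/
def grinv (a i : ℤ) : G := ((D.rinv a i : (S : Subgroup G)) : G)

theorem z_mem_gcenter : D.ge D.h D.h ∈ D.gcenter := D.mem_gcenter.2 ⟨_, rfl⟩

theorem z_sq : D.ge D.h D.h * D.ge D.h D.h = 1 := CfsgLib.Invol.mul_self_eq_one D.z_order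

theorem gpair_mul_z (u : G) : D.gpair (u * D.ge D.h D.h) = D.gpair u := by
  show ({_, _} : Set G) = {_, _}
  rw [mul_assoc, D.z_sq, mul_one, Set.pair_comm]

theorem gpair_eq {u v : G} (h : u ∈ D.gpair v) : D.gpair u = D.gpair v := by
  rcases h with h | h <;> rw [h]
  exact D.gpair_mul_z v

theorem mem_gpair_self (u : G) : u ∈ D.gpair u := Or.inl rfl

theorem grinv_conj_f (a : ℤ) : D.grinv a 0 * D.ge D.h 0 * (D.grinv a 0)⁻¹ = D.ge D.h 0 * D.ge D.h D.h := by
  show ((D.rinv a 0 * D.e D.h 0 * (D.rinv a 0)⁻¹ : (S : Subgroup G)) : G) = _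
  rw [rinv, D.base_conj_refl, D.ge_mul, ← ge, D.ge_eq_iff]
  exact ⟨by rw [show (0 : ℤ) - (D.h + D.h) = -(2 * D.h) by ring, D.h_two]; exact dvd_rfl.neg_right, by simp⟩

theorem f_conj_grinv (a : ℤ) : D.ge D.h 0 * D.grinv a 0 * (D.ge D.h 0)⁻¹ = D.grinv a 0 * D.ge D.h D.h := by
  rw [mul_inv_eq_iff_eq_mul, mul_assoc (D.grinv a 0), D.ge_mul]
  show ((D.e D.h 0 * D.rinv a 0 : (S : Subgroup G)) : G) = ((D.rinv a 0 * D.e (D.h + D.h) (D.h + 0) : (S : Subgroup G)) : G)
  congr 1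
  rw [rinv, ← mul_assoc, D.e_mul, mul_assoc, D.t_e, ← mul_assoc, D.e_mul, D.refl_eq_iff]
  exact ⟨⟨0, by ring⟩, ⟨-1, by rw [← D.h_two]; ring⟩⟩

theorem grinv_ne {a i : ℤ} {u : G} (hu : u ∈ D.gbase) : D.grinv a i ≠ u := fun h => by
  obtain ⟨v, hv, rfl⟩ := hu
  exact D.refl_not_mem _ _ ((Subtype.ext h : D.rinv a i = v) ▸ hv)

include hb hr in
theorem model_pair_cases {x : G} (hx : x ∈ normalizer (X.map (S : Subgroup G).subtype : Set G)) {u : G}
    (hu : u ∈ X.map (S : Subgroup G).subtype) (h2 : orderOf u = 2) (huz : u ≠ D.ge D.h D.h) :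
    x * u * x⁻¹ ∈ D.gpair (D.ge D.h 0) ∨ x * u * x⁻¹ ∈ D.gpair (D.grinv a 0) ∨ x * u * x⁻¹ ∈ D.gpair (D.grinv a 1) := by
  obtain ⟨v, hv, hvu⟩ := (mem_normalizer_iff.1 hx u).1 hu
  change (v : G) = x * u * x⁻¹ at hvu
  have ho : orderOf v = 2 := by rw [← Subgroup.orderOf_coe, hvu, CfsgLib.Invol.orderOf_conj_eq, h2]
  rcases D.model_invol hb hr hv ho with e | e | e | e | e | e | e <;> rw [← hvu, e]
  · refine absurd ((MulAut.conj x).injective ?_) huz
    show x * u * x⁻¹ = x * D.ge D.h D.h * x⁻¹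
    rw [D.model_fix_center hb hr hx D.z_mem_gcenter, ← hvu, e]
    rfl
  · exact Or.inl (Or.inl rfl)
  · exact Or.inl (Or.inr rfl)
  · exact Or.inr (Or.inl (Or.inl rfl))
  · exact Or.inr (Or.inl (Or.inr rfl))
  · exact Or.inr (Or.inr (Or.inl rfl))
  · exact Or.inr (Or.inr (Or.inr rfl))

include hb hr in
theorem f_mem_model : D.ge D.h 0 ∈ X.map (S : Subgroup G).subtype :=
  ⟨_, (hb _ _).2 (by simp), rfl⟩

include hb hr in
theorem grinv_mem_model (i : ℤ) : D.grinv a i ∈ X.map (S : Subgroup G).subtype :=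
  ⟨_, D.rinv_mem hb hr i, rfl⟩

include hb hr in
theorem model_inner_kernel {k : G} (hk : k ∈ normalizer (X.map (S : Subgroup G).subtype : Set G))
    (h1 : k * D.ge D.h 0 * k⁻¹ ∈ D.gpair (D.ge D.h 0)) (h2 : k * D.grinv a 0 * k⁻¹ ∈ D.gpair (D.grinv a 0)) :
    k ∈ X.map (S : Subgroup G).subtype ⊔ centralizer (X.map (S : Subgroup G).subtype : Set G) := by
  set V := X.map (S : Subgroup G).subtype with hV
  have hf := D.f_mem_model hb hr
  have hr0 := D.grinv_mem_model hb hr 0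
  obtain ⟨u, hu, hu1, hu2⟩ : ∃ u ∈ V, u * D.ge D.h 0 * u⁻¹ = k * D.ge D.h 0 * k⁻¹ ∧
      u * D.grinv a 0 * u⁻¹ = k * D.grinv a 0 * k⁻¹ := by
    rcases h1 with f1 | f1 <;> rcases h2 with f2 | f2 <;> rw [f1, f2]
    · exact ⟨1, one_mem V, by group, by group⟩
    · exact ⟨D.ge D.h 0, hf, by group, D.f_conj_grinv a⟩
    · exact ⟨D.grinv a 0, hr0, D.grinv_conj_f a, by group⟩
    · refine ⟨D.ge D.h 0 * D.grinv a 0, mul_mem hf hr0, ?_, ?_⟩
      · rw [show D.ge D.h 0 * D.grinv a 0 * D.ge D.h 0 * (D.ge D.h 0 * D.grinv a 0)⁻¹ =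
          D.ge D.h 0 * (D.grinv a 0 * D.ge D.h 0 * (D.grinv a 0)⁻¹) * (D.ge D.h 0)⁻¹ by group, D.grinv_conj_f,
          ← conj_mul, D.gcenter_comm D.z_mem_gcenter (D.ge_mem _ _)]
        group
      · rw [show D.ge D.h 0 * D.grinv a 0 * D.grinv a 0 * (D.ge D.h 0 * D.grinv a 0)⁻¹ =
          D.ge D.h 0 * D.grinv a 0 * (D.ge D.h 0)⁻¹ by group, D.f_conj_grinv]
  have huN : u ∈ normalizer (V : Set G) := le_normalizer hu
  have hc : u⁻¹ * k ∈ centralizer (V : Set G) := by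
    set c := u⁻¹ * k
    have e1 : c * D.ge D.h 0 * c⁻¹ = D.ge D.h 0 := by
      rw [show c * D.ge D.h 0 * c⁻¹ = u⁻¹ * (k * D.ge D.h 0 * k⁻¹) * u by simp [c, mul_assoc], ← hu1]; group
    have e2 : c * D.grinv a 0 * c⁻¹ = D.grinv a 0 := by
      rw [show c * D.grinv a 0 * c⁻¹ = u⁻¹ * (k * D.grinv a 0 * k⁻¹) * u by simp [c, mul_assoc], ← hu2]; group
    refine mem_centralizer_iff.2 fun v hv => (mul_inv_eq_iff_eq_mul.1 ?_).symm
    obtain ⟨w, hw, rfl⟩ := hv
    obtain ⟨i, m, l, rfl⟩ := D.model_generators hb hr hw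
    show c * (D.ge i i * D.ge D.h 0 ^ m * D.grinv a 0 ^ l) * c⁻¹ = D.ge i i * D.ge D.h 0 ^ m * D.grinv a 0 ^ l
    rw [← conj_mul, ← conj_mul, ← conj_zpow, ← conj_zpow, e1, e2,
      D.model_fix_center hb hr (mul_mem (inv_mem huN) hk) (D.mem_gcenter.2 ⟨i, rfl⟩)]
  have := mul_mem (mem_sup_left hu : u ∈ V ⊔ centralizer (V : Set G)) (mem_sup_right hc)
  rwa [mul_inv_cancel_left] at this

include hb hr in
/-- The group `V C(V)` fixes the three pairs. -/
theorem model_pair_fixed {x : G}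
    (hx : x ∈ X.map (S : Subgroup G).subtype ⊔ centralizer (X.map (S : Subgroup G).subtype : Set G)) :
    (fun u => x * u * x⁻¹) '' D.gpair (D.ge D.h 0) = D.gpair (D.ge D.h 0) ∧
      (fun u => x * u * x⁻¹) '' D.gpair (D.grinv a 0) = D.gpair (D.grinv a 0) := by
  set V := X.map (S : Subgroup G).subtype
  have hz : ∀ y ∈ normalizer (V : Set G), y * D.ge D.h D.h * y⁻¹ = D.ge D.h D.h := fun y hy =>
    D.model_fix_center hb hr hy D.z_mem_gcenter
  let stab (p : G) : Subgroup G :=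
    { carrier := {y | y ∈ normalizer (V : Set G) ∧ y * p * y⁻¹ ∈ D.gpair p}
      one_mem' := ⟨one_mem _, Or.inl (by group)⟩
      mul_mem' := fun {y y'} hy hy' => ⟨mul_mem hy.1 hy'.1, by
        rw [show y * y' * p * (y * y')⁻¹ = y * (y' * p * y'⁻¹) * y⁻¹ by group]
        rcases hy'.2 with e | e <;> rw [e]
        · exact hy.2
        · rw [← conj_mul, hz y hy.1]
          rcases hy.2 with e' | e' <;> rw [e']
          · exact Or.inr rfl
          · exact Or.inl (by rw [mul_assoc, D.z_sq, mul_one])⟩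
      inv_mem' := fun {y} hy => ⟨inv_mem hy.1, by
        rcases hy.2 with e | e
        · exact Or.inl (by rw [inv_inv]; conv_lhs => rw [← e]
                           group)
        · refine Or.inr ?_
          have h3 : y⁻¹ * (p * D.ge D.h D.h) * y = p := by rw [← e]; group
          have h4 : y⁻¹ * D.ge D.h D.h * y = D.ge D.h D.h := by simpa using hz y⁻¹ (inv_mem hy.1)
          have h5 : y⁻¹ * p * y * D.ge D.h D.h = p := by
            calc y⁻¹ * p * y * D.ge D.h D.h = y⁻¹ * p * y * (y⁻¹ * D.ge D.h D.h * y) := by rw [h4]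
              _ = y⁻¹ * (p * D.ge D.h D.h) * y := by group
              _ = p := h3
          rw [inv_inv]
          calc y⁻¹ * p * y = y⁻¹ * p * y * D.ge D.h D.h * D.ge D.h D.h := by
                rw [mul_assoc (y⁻¹ * p * y), D.z_sq, mul_one]
            _ = p * D.ge D.h D.h := by rw [h5]⟩ }
  have hle : ∀ p, (p = D.ge D.h 0 ∨ p = D.grinv a 0) → V ⊔ centralizer (V : Set G) ≤ stab p := by
    intro p hp
    have hpV : p ∈ V := by
      rcases hp with rfl | rfl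
      exacts [D.f_mem_model hb hr, D.grinv_mem_model hb hr 0]
    refine sup_le (fun v hv => ?_) fun c hc => ⟨centralizer_le_normalizer _ hc,
      Or.inl (mul_inv_eq_iff_eq_mul.2 (mem_centralizer_iff.1 hc p hpV).symm)⟩
    obtain ⟨w, hw, rfl⟩ := hv
    obtain ⟨i, m, l, rfl⟩ := D.model_generators hb hr hw
    show D.ge i i * D.ge D.h 0 ^ m * D.grinv a 0 ^ l ∈ stab p
    refine mul_mem (mul_mem ?_ (zpow_mem ?_ _)) (zpow_mem ?_ _)
    · refine ⟨le_normalizer ⟨_, D.diag_mem_model hb i, rfl⟩, Or.inl ?_⟩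
      refine mul_inv_eq_iff_eq_mul.2 ?_
      exact (mul_inv_eq_iff_eq_mul.1 (D.gcenter_comm (D.mem_gcenter.2 ⟨i, rfl⟩) (map_subtype_le _ hpV))).symm
    · refine ⟨le_normalizer (D.f_mem_model hb hr), ?_⟩
      rcases hp with rfl | rfl
      · exact Or.inl (by group)
      · exact Or.inr (D.f_conj_grinv a)
    · refine ⟨le_normalizer (D.grinv_mem_model hb hr 0), ?_⟩
      rcases hp with rfl | rfl
      · exact Or.inr (D.grinv_conj_f a)
      · exact Or.inl (by group)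
  have key : ∀ p, (p = D.ge D.h 0 ∨ p = D.grinv a 0) → (fun u => x * u * x⁻¹) '' D.gpair p = D.gpair p := by
    intro p hp
    obtain ⟨hxN, hxp⟩ := hle p hp hx
    show (fun u => x * u * x⁻¹) '' {p, p * D.ge D.h D.h} = _
    rw [Set.image_pair, ← conj_mul, hz x hxN]
    exact D.gpair_eq hxp
  exact ⟨key _ (Or.inl rfl), key _ (Or.inr rfl)⟩

theorem image_gpair {x : G} (hz : x * D.ge D.h D.h * x⁻¹ = D.ge D.h D.h) (u : G) :
    (fun v => x * v * x⁻¹) '' D.gpair u = D.gpair (x * u * x⁻¹) := by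
  show (fun v => x * v * x⁻¹) '' {u, u * D.ge D.h D.h} = {_, _}
  rw [Set.image_pair, ← conj_mul, hz]

theorem pairs_distinct (a : ℤ) : D.gpair (D.ge D.h 0) ≠ D.gpair (D.grinv a 0) ∧
    D.gpair (D.ge D.h 0) ≠ D.gpair (D.grinv a 1) ∧ D.gpair (D.grinv a 0) ≠ D.gpair (D.grinv a 1) := by
  have hne : ∀ i, D.gpair (D.ge D.h 0) ≠ D.gpair (D.grinv a i) := fun i h => by
    have h1 : D.grinv a i ∈ D.gpair (D.ge D.h 0) := h ▸ D.mem_gpair_self _
    rcases h1 with h1 | h1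
    · exact D.grinv_ne (D.mem_gbase.2 ⟨_, _, rfl⟩) h1
    · exact D.grinv_ne (D.mem_gbase.2 ⟨_, _, D.ge_mul _ _ _ _⟩) h1
  refine ⟨hne 0, hne 1, fun h => ?_⟩
  have h1 : D.grinv a 1 ∈ D.gpair (D.grinv a 0) := h ▸ D.mem_gpair_self _
  have hdiv : ∀ i, (i = 0 ∨ i = 2) → D.rinv a 1 ≠ D.rinv a i := fun i hi e => by
    obtain ⟨⟨c, hc⟩, -⟩ := D.refl_eq_iff.1 e
    have hN : D.N = 4 * (D.q : ℤ) := rfl
    have hq : (D.q : ℤ) ≠ 0 := by exact_mod_cast D.q_pos.ne'
    rcases hi with rfl | rfl <;> rw [hN] at hc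
    · have := mul_left_cancel₀ hq (show (D.q : ℤ) * (4 * c) = D.q * 1 by linarith)
      omega
    · have := mul_left_cancel₀ hq (show (D.q : ℤ) * (4 * c) = D.q * (-1) by linarith)
      omega
  rcases h1 with h1 | h1
  · exact hdiv 0 (Or.inl rfl) (Subtype.ext h1)
  · refine hdiv 2 (Or.inr rfl) (Subtype.ext ?_)
    rw [show (2 : ℤ) = 0 + 2 by norm_num, ← D.rinv_z]
    exact h1

include hb hr in
theorem exists_outer : ∃ n ∈ normalizer (X.map (S : Subgroup G).subtype : Set G), n ∈ (S : Subgroup G) ∧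
    n ∉ X.map (S : Subgroup G).subtype ⊔ centralizer (X.map (S : Subgroup G).subtype : Set G) := by
  set V := X.map (S : Subgroup G).subtype with hV
  have hrel := D.relIndex_normalizer_nonabelian hb hr
  obtain ⟨n, hn, hnX⟩ := SetLike.not_le_iff_exists.1 (fun hle => absurd hrel (by rw [relIndex_eq_one.2 hle]; norm_num))
  have hnN : (n : G) ∈ normalizer (V : Set G) := by
    refine mem_normalizer_iff_map_conj_eq.2 (Subgroup.eq_of_le_of_card_ge ?_ ?_)
    · rintro _ ⟨_, ⟨w, hw, rfl⟩, rfl⟩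
      exact ⟨n * w * n⁻¹, (mem_normalizer_iff.1 hn w).1 hw, rfl⟩
    · exact (card_map_of_injective (f := (MulAut.conj (n : G)).toMonoidHom) (MulAut.conj (n : G)).injective).ge
  refine ⟨n, hnN, n.2, fun hm => hnX ?_⟩
  haveI := AutomizerSix.centralizer_normal V
  have hm' : (⟨n, hnN⟩ : normalizer (V : Set G)) ∈ V.subgroupOf _ ⊔ (centralizer (V : Set G)).subgroupOf _ := by
    rw [← subgroupOf_sup le_normalizer (centralizer_le_normalizer _)]
    exact mem_subgroupOf.2 hm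
  obtain ⟨v, hv, c, hc, hvc⟩ := mem_sup_of_normal_right.1 hm'
  have hvn : (v : G) * c = n := congrArg Subtype.val hvc
  obtain ⟨w, hw, hwv⟩ := mem_subgroupOf.1 hv
  have hcS : (c : G) ∈ (S : Subgroup G) := by
    rw [show (c : G) = (v : G)⁻¹ * n by rw [← hvn]; group, ← hwv]
    exact mul_mem (inv_mem w.2) n.2
  set c' : (S : Subgroup G) := ⟨c, hcS⟩
  have hcom : ∀ u ∈ X, Commute c' u := fun u hu =>
    Subtype.ext (mem_centralizer_iff.1 (mem_subgroupOf.1 hc) _ ⟨u, hu, rfl⟩).symm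
  have hcX : c' ∈ X := by
    obtain ⟨i, e | e⟩ := D.refl_centralizer (hcom _ hr)
    · rw [e]; exact D.diag_mem_model hb i
    · rw [e]; exact mul_mem (D.diag_mem_model hb i) hr
  rw [show n = w * c' from Subtype.ext (by rw [Subgroup.coe_mul, ← hvn, ← hwv]; rfl)]
  exact mul_mem hw hcX

include hb hr in
theorem model_index_cases :
    (X.map (S : Subgroup G).subtype ⊔ centralizer (X.map (S : Subgroup G).subtype : Set G)).relIndex
        (normalizer (X.map (S : Subgroup G).subtype : Set G)) = 2 ∨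
      (X.map (S : Subgroup G).subtype ⊔ centralizer (X.map (S : Subgroup G).subtype : Set G)).relIndex
        (normalizer (X.map (S : Subgroup G).subtype : Set G)) = 6 := by
  set V := X.map (S : Subgroup G).subtype with hV
  set H := V ⊔ centralizer (V : Set G)
  set N := normalizer (V : Set G)
  have hHn : (H.subgroupOf N).Normal := by
    rw [subgroupOf_sup le_normalizer (centralizer_le_normalizer _)]
    haveI := AutomizerSix.centralizer_normal V
    haveI : (V.subgroupOf N).Normal := normal_in_normalizer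
    infer_instance
  obtain ⟨n, hn, hnS, hnH⟩ := D.exists_outer hb hr
  obtain ⟨k, hk⟩ := S.2 ⟨n, hnS⟩
  refine AutomizerSix.six_cases ?_ (AutomizerSix.two_dvd_relIndex hHn hn hnH (k := k) (congrArg Subtype.val hk))
  let P : Set G → Prop := fun A => A = D.gpair (D.ge D.h 0) ∨ A = D.gpair (D.grinv a 0) ∨ A = D.gpair (D.grinv a 1)
  have hclosed : ∀ x ∈ N, ∀ A, P A → P ((fun v => x * v * x⁻¹) '' A) := by
    intro x hx A hA
    have hz := D.model_fix_center hb hr hx D.z_mem_gcenter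
    have key : ∀ u, u ∈ V → orderOf u = 2 → u ≠ D.ge D.h D.h → P ((fun v => x * v * x⁻¹) '' D.gpair u) := by
      intro u hu h2 huz
      rw [D.image_gpair hz]
      rcases D.model_pair_cases hb hr hx hu h2 huz with e | e | e
      · exact Or.inl (D.gpair_eq e)
      · exact Or.inr (Or.inl (D.gpair_eq e))
      · exact Or.inr (Or.inr (D.gpair_eq e))
    rcases hA with rfl | rfl | rfl
    · exact key _ (D.f_mem_model hb hr) D.f_order fun h => D.not_dvd_h (by simpa using (D.ge_eq_iff.1 h).2)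
    · exact key _ (D.grinv_mem_model hb hr 0) (by rw [grinv, Subgroup.orderOf_coe, D.rinv_invol])
        (D.grinv_ne (D.mem_gbase.2 ⟨_, _, rfl⟩))
    · exact key _ (D.grinv_mem_model hb hr 1) (by rw [grinv, Subgroup.orderOf_coe, D.rinv_invol])
        (D.grinv_ne (D.mem_gbase.2 ⟨_, _, rfl⟩))
  let act : N → {A : Set G // P A} → {A : Set G // P A} := fun x A =>
    ⟨(fun v => (x : G) * v * (x : G)⁻¹) '' A.1, hclosed x x.2 A.1 A.2⟩
  have hact : ∀ (x y : N) (A : {A : Set G // P A}), act (x * y) A = act x (act y A) := fun x y A => Subtype.ext (by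
    show _ '' A.1 = _ '' (_ '' A.1)
    rw [Set.image_image]
    exact Set.image_congr fun v _ => by simp [mul_assoc])
  have hone : ∀ A, act 1 A = A := fun A => Subtype.ext (by
    show _ '' A.1 = A.1
    simp)
  let φ : N →* Equiv.Perm {A : Set G // P A} := MonoidHom.mk'
    (fun x => ⟨act x, act x⁻¹, fun A => by rw [← hact, inv_mul_cancel, hone],
      fun A => by rw [← hact, mul_inv_cancel, hone]⟩)
    (fun x y => Equiv.ext fun A => hact x y A)
  have hker : φ.ker ≤ H.subgroupOf N := by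
    intro x hx
    have h1 := fun A => congrArg Subtype.val (DFunLike.congr_fun (MonoidHom.mem_ker.1 hx) A)
    have hz := D.model_fix_center hb hr x.2 D.z_mem_gcenter
    refine mem_subgroupOf.2 (D.model_inner_kernel hb hr x.2 ?_ ?_)
    · have h2 : _ = D.gpair (D.ge D.h 0) := h1 ⟨_, Or.inl rfl⟩
      change (fun v => (x : G) * v * (x : G)⁻¹) '' _ = _ at h2
      rw [D.image_gpair hz] at h2
      exact h2 ▸ D.mem_gpair_self _
    · have h2 : _ = D.gpair (D.grinv a 0) := h1 ⟨_, Or.inr (Or.inl rfl)⟩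
      change (fun v => (x : G) * v * (x : G)⁻¹) '' _ = _ at h2
      rw [D.image_gpair hz] at h2
      exact h2 ▸ D.mem_gpair_self _
  refine (index_dvd_of_le hker).trans ?_
  rw [index_ker]
  refine (card_subgroup_dvd_card _).trans (dvd_of_eq ?_)
  rw [Nat.card_perm, show Nat.card {A : Set G // P A} = 3 from ?_]
  · rfl
  show Nat.card ({A | P A} : Set (Set G)) = 3
  rw [Nat.card_coe_set_eq, Set.ncard_eq_three]
  obtain ⟨d1, d2, d3⟩ := D.pairs_distinct a
  exact ⟨_, _, _, d1, d2, d3, Set.ext fun A => by simp [P]⟩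

include hb hr in
/-- The odd element cycling the three pairs. -/
theorem model_cycle
    (h6 : (X.map (S : Subgroup G).subtype ⊔ centralizer (X.map (S : Subgroup G).subtype : Set G)).relIndex
        (normalizer (X.map (S : Subgroup G).subtype : Set G)) = 6) :
    ∃ b ∈ normalizer (X.map (S : Subgroup G).subtype : Set G), Odd (orderOf b) ∧
      ((b * D.ge D.h 0 * b⁻¹ ∈ D.gpair (D.grinv a 0) ∧ b * D.grinv a 0 * b⁻¹ ∈ D.gpair (D.grinv a 1)) ∨
        (b * D.grinv a 0 * b⁻¹ ∈ D.gpair (D.ge D.h 0) ∧ b * D.ge D.h 0 * b⁻¹ ∈ D.gpair (D.grinv a 1))) := by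
  set V := X.map (S : Subgroup G).subtype with hV
  have hHn : ((V ⊔ centralizer (V : Set G)).subgroupOf (normalizer (V : Set G))).Normal := by
    rw [subgroupOf_sup le_normalizer (centralizer_le_normalizer _)]
    haveI := AutomizerSix.centralizer_normal V
    haveI : (V.subgroupOf (normalizer (V : Set G))).Normal := normal_in_normalizer
    infer_instance
  obtain ⟨b, hbN, hbH, hb3, hbo⟩ := SylowKernel.odd_cycle hHn (h6 ▸ by norm_num)
  refine ⟨b, hbN, hbo, ?_⟩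
  have hz := D.model_fix_center hb hr hbN D.z_mem_gcenter
  set σ : Set G → Set G := fun A => (fun v => b * v * b⁻¹) '' A
  have hσ : ∀ u, σ (D.gpair u) = D.gpair (b * u * b⁻¹) := fun u => D.image_gpair hz u
  have hcases : ∀ u, u ∈ V → orderOf u = 2 → u ≠ D.ge D.h D.h → σ (D.gpair u) = D.gpair (D.ge D.h 0) ∨
      σ (D.gpair u) = D.gpair (D.grinv a 0) ∨ σ (D.gpair u) = D.gpair (D.grinv a 1) := by
    intro u hu h2 huz
    rw [hσ]
    rcases D.model_pair_cases hb hr hbN hu h2 huz with e | e | e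
    · exact Or.inl (D.gpair_eq e)
    · exact Or.inr (Or.inl (D.gpair_eq e))
    · exact Or.inr (Or.inr (D.gpair_eq e))
  have ho : ∀ i, orderOf (D.grinv a i) = 2 := fun i => by rw [grinv, Subgroup.orderOf_coe, D.rinv_invol]
  have hcf := hcases _ (D.f_mem_model hb hr) D.f_order fun h => D.not_dvd_h (by simpa using (D.ge_eq_iff.1 h).2)
  have hc0 := hcases _ (D.grinv_mem_model hb hr 0) (ho 0) (D.grinv_ne (D.mem_gbase.2 ⟨_, _, rfl⟩))
  have hc1 := hcases _ (D.grinv_mem_model hb hr 1) (ho 1) (D.grinv_ne (D.mem_gbase.2 ⟨_, _, rfl⟩))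
  obtain ⟨hx1, hx2⟩ := D.model_pair_fixed hb hr hb3
  have hσ3 : ∀ A, σ (σ (σ A)) = (fun v => b * (b * b) * v * (b * (b * b))⁻¹) '' A := fun A => by
    show _ '' (_ '' (_ '' A)) = _
    rw [Set.image_image, Set.image_image]
    exact Set.image_congr fun v _ => by group
  have h3f : σ (σ (σ (D.gpair (D.ge D.h 0)))) = D.gpair (D.ge D.h 0) := (hσ3 _).trans hx1
  have h30 : σ (σ (σ (D.gpair (D.grinv a 0)))) = D.gpair (D.grinv a 0) := (hσ3 _).trans hx2
  obtain ⟨d1, d2, d3⟩ := D.pairs_distinct a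
  have hinj : Function.Injective σ :=
    Set.image_injective.2 (MulAut.conj b).injective
  have h31 : σ (σ (σ (D.gpair (D.grinv a 1)))) = D.gpair (D.grinv a 1) := by
    have hc3 : ∀ A, (A = D.gpair (D.ge D.h 0) ∨ A = D.gpair (D.grinv a 0) ∨ A = D.gpair (D.grinv a 1)) →
        (σ A = D.gpair (D.ge D.h 0) ∨ σ A = D.gpair (D.grinv a 0) ∨ σ A = D.gpair (D.grinv a 1)) := by
      rintro A (rfl | rfl | rfl)
      exacts [hcf, hc0, hc1]
    rcases hc3 _ (hc3 _ hc1) with e | e | e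
    · exact absurd (hinj (hinj (hinj (e.trans h3f.symm)))) d2.symm
    · exact absurd (hinj (hinj (hinj (e.trans h30.symm)))) d3.symm
    · exact e
  rcases SylowKernel.three_points (σ := σ) d1 d2 d3 hcf hc0 hc1 h3f h30 h31
      (fun h => hbH (D.model_inner_kernel hb hr hbN (memPair h.1 hσ) (memPair h.2.1 hσ))) with ⟨h1, h2, -⟩ | ⟨h1, -, h2⟩
  · exact Or.inl ⟨memPair h1 hσ, memPair h2 hσ⟩
  · exact Or.inr ⟨memPair h2 hσ, memPair h1 hσ⟩
where
  memPair {σ : Set G → Set G} {b u v : G} (h : σ (D.gpair u) = D.gpair v)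
      (hσ : ∀ u, σ (D.gpair u) = D.gpair (b * u * b⁻¹)) : b * u * b⁻¹ ∈ D.gpair v := by
    rw [← h, hσ]; exact D.mem_gpair_self _

include hb hr in
theorem model_inner
    (h2 : (X.map (S : Subgroup G).subtype ⊔ centralizer (X.map (S : Subgroup G).subtype : Set G)).relIndex
        (normalizer (X.map (S : Subgroup G).subtype : Set G)) = 2)
    {x : G} (hx : x ∈ normalizer (X.map (S : Subgroup G).subtype : Set G)) :
    ∃ s ∈ (S : Subgroup G), ∀ u ∈ X.map (S : Subgroup G).subtype, x * u * x⁻¹ = s * u * s⁻¹ := by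
  set V := X.map (S : Subgroup G).subtype with hV
  have hH : ∀ {y : G}, y ∈ normalizer (V : Set G) → y ∈ V ⊔ centralizer (V : Set G) →
      ∃ v ∈ V, ∀ u ∈ V, y * u * y⁻¹ = v * u * v⁻¹ := by
    intro y hyN hy
    haveI := AutomizerSix.centralizer_normal V
    have hm' : (⟨y, hyN⟩ : normalizer (V : Set G)) ∈ V.subgroupOf _ ⊔ (centralizer (V : Set G)).subgroupOf _ := by
      rw [← subgroupOf_sup le_normalizer (centralizer_le_normalizer _)]
      exact mem_subgroupOf.2 hy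
    obtain ⟨v, hv, c, hc, hvc⟩ := mem_sup_of_normal_right.1 hm'
    have hvy : (v : G) * c = y := congrArg Subtype.val hvc
    refine ⟨v, mem_subgroupOf.1 hv, fun u hu => ?_⟩
    rw [← hvy, show (v : G) * c * u * ((v : G) * c)⁻¹ = (v : G) * ((c : G) * u * (c : G)⁻¹) * (v : G)⁻¹ by group,
      mul_inv_eq_iff_eq_mul.2 (mem_centralizer_iff.1 (mem_subgroupOf.1 hc) u hu).symm]
  by_cases hxH : x ∈ V ⊔ centralizer (V : Set G)
  · obtain ⟨v, hv, h⟩ := hH hx hxH
    exact ⟨v, map_subtype_le _ hv, h⟩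
  obtain ⟨n, hn, hnS, hnH⟩ := D.exists_outer hb hr
  have hm : (⟨n⁻¹, inv_mem hn⟩ : normalizer (V : Set G)) * ⟨x, hx⟩ ∈ (V ⊔ centralizer (V : Set G)).subgroupOf _ :=
    (mul_mem_iff_of_index_two h2).2 (iff_of_false (fun h => hnH (inv_mem_iff.1 (mem_subgroupOf.1 h)))
      (fun h => hxH (mem_subgroupOf.1 h)))
  obtain ⟨v, hv, h⟩ := hH (mul_mem (inv_mem hn) hx) (mem_subgroupOf.1 hm)
  refine ⟨n * v, mul_mem hnS (map_subtype_le _ hv), fun u hu => ?_⟩
  have h1 := h u hu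
  calc x * u * x⁻¹ = n * (n⁻¹ * x * u * (n⁻¹ * x)⁻¹) * n⁻¹ := by group
    _ = n * (v * u * v⁻¹) * n⁻¹ := by rw [h1]
    _ = n * v * u * (n * v)⁻¹ := by group

include hb hr in
/-- Fusion invariance needs to be checked only for the base and the model. -/
theorem fusion_invariant {β : Type*} (F : G → β)
    (hS : ∀ s ∈ (S : Subgroup G), ∀ u ∈ (S : Subgroup G), F (s * u * s⁻¹) = F u)
    (hU : ∀ x ∈ normalizer (D.gbase : Set G), ∀ u ∈ D.gbase, F (x * u * x⁻¹) = F u)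
    (hV : ∀ x ∈ normalizer (X.map (S : Subgroup G).subtype : Set G), ∀ u ∈ X.map (S : Subgroup G).subtype,
      F (x * u * x⁻¹) = F u)
    {u g : G} (hu : u ∈ (S : Subgroup G)) (hg : g * u * g⁻¹ ∈ (S : Subgroup G)) : F (g * u * g⁻¹) = F u := by
  refine CentricFusion.invariant_of_local S F hS (fun E hES hC hA x hx u hu => ?_) hu hg
  have hA' : ¬ IsPGroup 2 (MulAut (E.subgroupOf (S : Subgroup G))) := fun h =>
    hA (h.of_equiv (MulAut.congr (subgroupOfEquivOfLe hES)))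
  have hC' : centralizer ((E.subgroupOf (S : Subgroup G)) : Set (S : Subgroup G)) ≤ E.subgroupOf (S : Subgroup G) := by
    intro v hv
    refine mem_subgroupOf.2 (hC ⟨v.2, mem_centralizer_iff.2 fun e he => ?_⟩)
    exact congrArg Subtype.val (mem_centralizer_iff.1 hv ⟨e, hES he⟩ (mem_subgroupOf.2 he))
  by_cases hab : IsMulCommutative (E.subgroupOf (S : Subgroup G))
  · have hEb : E = D.gbase := by
      rw [gbase, ← D.isMulCommutative_case hC' hA' hab, map_subgroupOf_eq_of_le hES]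
    subst hEb
    exact hU x hx u hu
  obtain ⟨hb', c, d, hcd, hr'⟩ := D.nonabelian_structure hC' hA' hab
  obtain ⟨s, hs⟩ := D.nonabelian_conj hb hb' (by ring : a + -a = 0) hcd hr hr'
  have hE : E = (X.map (S : Subgroup G).subtype).map (MulAut.conj (s : G)).toMonoidHom := by
    rw [← map_subgroupOf_eq_of_le hES, ← hs, map_map, map_map]
    congr 1
  set V := X.map (S : Subgroup G).subtype
  obtain ⟨v, hv, rfl⟩ : u ∈ V.map (MulAut.conj (s : G)).toMonoidHom := hE ▸ hu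
  have hx' : (s : G)⁻¹ * x * s ∈ normalizer (V : Set G) := by
    refine mem_normalizer_iff_map_conj_eq.2 (Subgroup.eq_of_le_of_card_ge ?_ ?_)
    · rintro _ ⟨w, hw, rfl⟩
      have h1 : x * ((s : G) * w * (s : G)⁻¹) * x⁻¹ ∈ V.map (MulAut.conj (s : G)).toMonoidHom := by
        rw [← hE]
        exact (mem_normalizer_iff.1 hx _).1 (hE ▸ ⟨w, hw, rfl⟩)
      obtain ⟨w', hw', e⟩ := h1
      change (s : G) * w' * (s : G)⁻¹ = _ at e
      show (s : G)⁻¹ * x * s * w * ((s : G)⁻¹ * x * s)⁻¹ ∈ V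
      rw [show (s : G)⁻¹ * x * s * w * ((s : G)⁻¹ * x * s)⁻¹ =
        (s : G)⁻¹ * (x * ((s : G) * w * (s : G)⁻¹) * x⁻¹) * s by group, ← e]
      simpa [mul_assoc] using hw'
    · exact (card_map_of_injective (f := (MulAut.conj ((s : G)⁻¹ * x * s)).toMonoidHom)
        (MulAut.conj ((s : G)⁻¹ * x * s)).injective).ge
  have hvS : v ∈ (S : Subgroup G) := map_subtype_le _ hv
  have hv' : (s : G)⁻¹ * x * s * v * ((s : G)⁻¹ * x * s)⁻¹ ∈ (S : Subgroup G) :=
    map_subtype_le _ ((mem_normalizer_iff.1 hx' v).1 hv)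
  show F (x * ((s : G) * v * (s : G)⁻¹) * x⁻¹) = F ((s : G) * v * (s : G)⁻¹)
  rw [hS s s.2 v hvS, show x * ((s : G) * v * (s : G)⁻¹) * x⁻¹ =
    (s : G) * ((s : G)⁻¹ * x * s * v * ((s : G)⁻¹ * x * s)⁻¹) * (s : G)⁻¹ by group, hS s s.2 _ hv', hV _ hx' v hv]

end CfsgLib.Wreath.Data
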